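import Mathlib.LinearAlgebra.Dual.Lemmas
import Mathlib.LinearAlgebra.FiniteDimensional.Basic
import Mathlib.Algebra.Module.ZMod
import Mathlib.FieldTheory.Finiteness
import Mathlib.Algebra.Field.ZMod
import Mathlib.Tactic.Group

/-!
# Functionals on an elementary abelian subgroup `U`

* `exists_vals` : independent functionals take all values;
* `exists_rep` : a functional vanishing on the radical of the form `f` is `f(w, ·)`.
-/

set_option autoImplicit false
set_option Elab.async false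

namespace Cfsg.Agent.Omega.HTwo.Eight

open Subgroup

variable {G : Type*} [Group G]

theorem z2 (a : ZMod 2) : a = 0 ∨ a = 1 := by
  revert a; decide

theorem fn_one {U : Subgroup G} {φ : G → ZMod 2} (add : ∀ u ∈ U, ∀ v ∈ U, φ (u * v) = φ u + φ v) : φ 1 = 0 := by
  have h := add 1 (one_mem _) 1 (one_mem _)
  rw [mul_one] at h
  exact left_eq_add.1 h

theorem fn_inv {U : Subgroup G} {φ : G → ZMod 2} (add : ∀ u ∈ U, ∀ v ∈ U, φ (u * v) = φ u + φ v) {u : G}
    (hu : u ∈ U) : φ u⁻¹ = - φ u := by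
  have h := add u hu u⁻¹ (inv_mem hu)
  rw [mul_inv_cancel, fn_one add] at h
  exact (neg_eq_of_add_eq_zero_right h.symm).symm

theorem exists_vals {U : Subgroup G} {n : ℕ} (φ : Fin n → G → ZMod 2)
    (add : ∀ i, ∀ u ∈ U, ∀ v ∈ U, φ i (u * v) = φ i u + φ i v)
    (ind : ∀ c : Fin n → ZMod 2, (∀ u ∈ U, ∑ i, c i * φ i u = 0) → c = 0) (a : Fin n → ZMod 2) :
    ∃ u ∈ U, ∀ i, φ i u = a i := by
  classical
  let S0 : AddSubgroup (Fin n → ZMod 2) :=
    { carrier := {x | ∃ u ∈ U, ∀ i, φ i u = x i}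
      zero_mem' := ⟨1, one_mem _, fun i => fn_one (add i)⟩
      add_mem' := by
        rintro x y ⟨u, hu, hx⟩ ⟨v, hv, hy⟩
        exact ⟨u * v, mul_mem hu hv, fun i => by rw [add i u hu v hv, hx, hy]; rfl⟩
      neg_mem' := by
        rintro x ⟨u, hu, hx⟩
        exact ⟨u⁻¹, inv_mem hu, fun i => by rw [fn_inv (add i) hu, hx]; rfl⟩ }
  let S : Submodule (ZMod 2) (Fin n → ZMod 2) := AddSubgroup.toZModSubmodule 2 S0
  have hS : ∀ x, x ∈ S ↔ ∃ u ∈ U, ∀ i, φ i u = x i := fun x => Iff.rfl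
  by_contra hcon
  have hne : S ≠ ⊤ := fun h => hcon ((hS a).1 (h ▸ Submodule.mem_top))
  obtain ⟨g, hg0, hg⟩ := Submodule.exists_le_ker_of_lt_top S (lt_top_iff_ne_top.2 hne)
  apply hg0
  have h1 := ind (fun i => g (Pi.single i 1)) (fun u hu => by
    have h2 : (fun i => φ i u) ∈ S := (hS _).2 ⟨u, hu, fun _ => rfl⟩
    have h3 := hg h2
    rw [LinearMap.mem_ker, LinearMap.pi_apply_eq_sum_univ] at h3
    rw [← h3]
    refine Finset.sum_congr rfl fun i _ => ?_
    rw [smul_eq_mul, mul_comm]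
    congr 2
    funext j
    by_cases hj : i = j
    · subst hj; rw [Pi.single_eq_same, if_pos rfl]
    · rw [Pi.single_eq_of_ne (Ne.symm hj), if_neg hj])
  refine LinearMap.ext fun x => ?_
  rw [LinearMap.pi_apply_eq_sum_univ]
  refine Finset.sum_eq_zero fun i _ => ?_
  have h4 : (fun j => if i = j then (1 : ZMod 2) else 0) = Pi.single i 1 := by
    funext j
    by_cases hj : i = j
    · subst hj; rw [Pi.single_eq_same, if_pos rfl]
    · rw [Pi.single_eq_of_ne (Ne.symm hj), if_neg hj]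
  have h5 : g (Pi.single i 1) = 0 := congrFun h1 i
  rw [h4, h5, smul_zero]

theorem exists_rep {U : Subgroup G} [Finite U] (comm : ∀ u ∈ U, ∀ v ∈ U, u * v = v * u)
    (sq : ∀ u ∈ U, u * u = 1) {f : G → G → ZMod 2}
    (add : ∀ u ∈ U, ∀ v ∈ U, ∀ w ∈ U, f (u * v) w = f u w + f v w) (symm : ∀ u ∈ U, ∀ v ∈ U, f u v = f v u)
    {Ψ : G → ZMod 2} (hΨ : ∀ u ∈ U, ∀ v ∈ U, Ψ (u * v) = Ψ u + Ψ v)
    (rad : ∀ u ∈ U, (∀ v ∈ U, f u v = 0) → Ψ u = 0) : ∃ w ∈ U, ∀ u ∈ U, Ψ u = f w u := by
  classical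
  let i1 : AddCommGroup (Additive U) :=
    { (inferInstance : AddGroup (Additive U)) with
      add_comm := fun v w => congrArg Additive.ofMul (Subtype.ext (comm _ (Additive.toMul v).2 _ (Additive.toMul w).2)) }
  let i2 : Module (ZMod 2) (Additive U) := AddCommGroup.zmodModule (n := 2) fun v => by
    rw [two_nsmul]
    exact congrArg Additive.ofMul (Subtype.ext (sq _ (Additive.toMul v).2))
  have i4 : Finite (Additive U) := inferInstanceAs (Finite U)
  have i5 : Module.Finite (ZMod 2) (Additive U) := Module.Finite.of_finite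
  have add' : ∀ u ∈ U, ∀ v ∈ U, ∀ w ∈ U, f u (v * w) = f u v + f u w := fun u hu v hv w hw => by
    rw [symm u hu _ (mul_mem hv hw), add v hv w hw u hu, symm v hv u hu, symm w hw u hu]
  -- a functional
  let mk : (φ : G → ZMod 2) → (∀ u ∈ U, ∀ v ∈ U, φ (u * v) = φ u + φ v) → (Additive U →ₗ[ZMod 2] ZMod 2) :=
    fun φ h => AddMonoidHom.toZModLinearMap 2
      { toFun := fun v => φ (Additive.toMul v : U)
        map_zero' := fn_one h
        map_add' := fun v w => h _ (Additive.toMul v).2 _ (Additive.toMul w).2 }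
  have hmk : ∀ φ h (v : U), mk φ h (Additive.ofMul v) = φ v := fun _ _ _ => rfl
  let B : Additive U →ₗ[ZMod 2] (Additive U →ₗ[ZMod 2] ZMod 2) := AddMonoidHom.toZModLinearMap 2
    { toFun := fun w => mk (f (Additive.toMul w : U)) (fun u hu v hv => add' _ (Additive.toMul w).2 u hu v hv)
      map_zero' := LinearMap.ext fun v => by
        change f ((1 : U) : G) _ = 0
        have h1 := add 1 (one_mem _) 1 (one_mem _) _ (Additive.toMul v).2
        rw [mul_one] at h1
        exact left_eq_add.1 h1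
      map_add' := fun v w => LinearMap.ext fun u =>
        add _ (Additive.toMul v).2 _ (Additive.toMul w).2 _ (Additive.toMul u).2 }
  have hB : ∀ (w u : U), B (Additive.ofMul w) (Additive.ofMul u) = f w u := fun _ _ => rfl
  have h1 : mk Ψ hΨ ∈ (LinearMap.range B).dualCoannihilator.dualAnnihilator := by
    rw [Submodule.mem_dualAnnihilator]
    intro u hu
    rw [Submodule.mem_dualCoannihilator] at hu
    refine rad _ (Additive.toMul u).2 fun v hv => ?_
    have := hu (B (Additive.ofMul ⟨v, hv⟩)) ⟨_, rfl⟩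
    rw [symm _ (Additive.toMul u).2 v hv]
    exact this
  rw [Subspace.dualCoannihilator_dualAnnihilator_eq] at h1
  obtain ⟨w, hw⟩ := h1
  refine ⟨(Additive.toMul w : U), (Additive.toMul w).2, fun u hu => ?_⟩
  have := LinearMap.congr_fun hw (Additive.ofMul ⟨u, hu⟩)
  exact this.symm

/-- two-group version of `exists_rep`: a functional on `U` vanishing on the right radical of `f : W × U → F₂` -/
theorem exists_rep2 {U W : Subgroup G} [Finite U] (comm : ∀ u ∈ U, ∀ v ∈ U, u * v = v * u)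
    (sq : ∀ u ∈ U, u * u = 1) {f : G → G → ZMod 2}
    (addW : ∀ w ∈ W, ∀ w' ∈ W, ∀ u ∈ U, f (w * w') u = f w u + f w' u)
    (addU : ∀ w ∈ W, ∀ u ∈ U, ∀ v ∈ U, f w (u * v) = f w u + f w v)
    {Ψ : G → ZMod 2} (hΨ : ∀ u ∈ U, ∀ v ∈ U, Ψ (u * v) = Ψ u + Ψ v)
    (rad : ∀ u ∈ U, (∀ w ∈ W, f w u = 0) → Ψ u = 0) : ∃ w ∈ W, ∀ u ∈ U, Ψ u = f w u := by
  classical
  let i1 : AddCommGroup (Additive U) :=
    { (inferInstance : AddGroup (Additive U)) with
      add_comm := fun v w => congrArg Additive.ofMul (Subtype.ext (comm _ (Additive.toMul v).2 _ (Additive.toMul w).2)) }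
  let i2 : Module (ZMod 2) (Additive U) := AddCommGroup.zmodModule (n := 2) fun v => by
    rw [two_nsmul]
    exact congrArg Additive.ofMul (Subtype.ext (sq _ (Additive.toMul v).2))
  have i4 : Finite (Additive U) := inferInstanceAs (Finite U)
  have i5 : Module.Finite (ZMod 2) (Additive U) := Module.Finite.of_finite
  let mk : (φ : G → ZMod 2) → (∀ u ∈ U, ∀ v ∈ U, φ (u * v) = φ u + φ v) → (Additive U →ₗ[ZMod 2] ZMod 2) :=
    fun φ h => AddMonoidHom.toZModLinearMap 2
      { toFun := fun v => φ (Additive.toMul v : U)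
        map_zero' := fn_one h
        map_add' := fun v w => h _ (Additive.toMul v).2 _ (Additive.toMul w).2 }
  let S0 : AddSubgroup (Additive U →ₗ[ZMod 2] ZMod 2) :=
    { carrier := {g | ∃ w ∈ W, ∀ u : Additive U, g u = f w (Additive.toMul u : U)}
      zero_mem' := ⟨1, one_mem _, fun u => by
        have h1 := addW 1 (one_mem _) 1 (one_mem _) _ (Additive.toMul u).2
        rw [mul_one] at h1
        exact (left_eq_add.1 h1).symm⟩
      add_mem' := by
        rintro x y ⟨w, hw, hx⟩ ⟨w', hw', hy⟩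
        exact ⟨w * w', mul_mem hw hw', fun u => by
          rw [addW w hw w' hw' _ (Additive.toMul u).2, ← hx, ← hy]; rfl⟩
      neg_mem' := by
        rintro x ⟨w, hw, hx⟩
        refine ⟨w⁻¹, inv_mem hw, fun u => ?_⟩
        have h1 := addW w hw w⁻¹ (inv_mem hw) _ (Additive.toMul u).2
        have h2 := addW 1 (one_mem _) 1 (one_mem _) _ (Additive.toMul u).2
        rw [mul_one] at h2
        rw [mul_inv_cancel, left_eq_add.1 h2] at h1
        change - x u = _
        rw [hx u]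
        exact neg_eq_of_add_eq_zero_right h1.symm }
  let S : Submodule (ZMod 2) (Additive U →ₗ[ZMod 2] ZMod 2) := AddSubgroup.toZModSubmodule 2 S0
  have hS : ∀ g, g ∈ S ↔ ∃ w ∈ W, ∀ u : Additive U, g u = f w (Additive.toMul u : U) := fun g => Iff.rfl
  have h1 : mk Ψ hΨ ∈ S.dualCoannihilator.dualAnnihilator := by
    rw [Submodule.mem_dualAnnihilator]
    intro u hu
    rw [Submodule.mem_dualCoannihilator] at hu
    refine rad _ (Additive.toMul u).2 fun w hw => ?_
    exact hu (mk (f w) (addU w hw)) ((hS _).2 ⟨w, hw, fun _ => rfl⟩)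
  rw [Subspace.dualCoannihilator_dualAnnihilator_eq] at h1
  obtain ⟨w, hw, h2⟩ := (hS _).1 h1
  exact ⟨w, hw, fun u hu => h2 (Additive.ofMul ⟨u, hu⟩)⟩

end Cfsg.Agent.Omega.HTwo.Eight
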