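import Cfsg.Agent.Omega.HTwo.Hat
import Cfsg.Agent.Omega.BTwo.Avg
import Cfsg.Agent.Omega.BTwo.SplitTen

/-!
# II.0h1, `q = 2`: THEOREM D (#13913)

`BTS V R`, LEMMA E (`LE`) at all points, `|R j| = 2`, a Sylow 2-subgroup `S ≤ N(V) ∩ N(R j)`.

* `D1` : `n ∈ Z(Q i)`, `i ≠ j`, `[n, Q j] ≤ Z(Q j)` implies `n ∈ R i × C_X`;
* `D2` : `n ∈ Z(Q i)`, `n² = 1`, `[n, x] ∈ V Z(Q j)` for one `x ∈ Q j - C(V)` implies `n ∈ R i × C_X`;
* `D3` : `|Ω₁ Z(Q i) : R i × C_X| ≤ |J : V × C_X|`.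
-/

set_option autoImplicit false
set_option linter.unusedSectionVars false

namespace Cfsg.Agent.Omega.HTwo.ThmD

open Subgroup Cfsg.Agent.Omega.BTwo Cfsg.Agent.Omega.HTwo.ThmA Cfsg.Agent.Omega.HTwo.Comm
  Cfsg.Agent.Omega.HTwo.Hat

variable {G : Type*} [Group G] {ι : Type*} {V : Subgroup G} {R : ι → Subgroup G}

/-- `O = C_{H j}(Q j / Z(Q j))` -/
def OO (R : ι → Subgroup G) (j : ι) : Subgroup G where
  carrier := {g | g ∈ normalizer (R j : Set G) ∧ ∀ x ∈ QQ (R j), g * x * g⁻¹ * x⁻¹ ∈ ZQ R j}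
  one_mem' := ⟨one_mem _, fun x _ => by
    have : (1 : G) * x * 1⁻¹ * x⁻¹ = 1 := by group
    rw [this]; exact one_mem _⟩
  mul_mem' := by
    rintro g g' ⟨hg, h⟩ ⟨hg', h'⟩
    refine ⟨mul_mem hg hg', fun x hx => ?_⟩
    have e : g * g' * x * (g * g')⁻¹ * x⁻¹ = g * (g' * x * g'⁻¹ * x⁻¹) * g⁻¹ * (g * x * g⁻¹ * x⁻¹) := by
      group
    rw [e]
    exact mul_mem (conj_mem_of_normalizer (N_le_NZQ j hg) (h' x hx)) (h x hx)
  inv_mem' := by
    rintro g ⟨hg, h⟩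
    refine ⟨inv_mem hg, fun x hx => ?_⟩
    have e : g⁻¹ * x * g⁻¹⁻¹ * x⁻¹ = g⁻¹ * (g * x * g⁻¹ * x⁻¹)⁻¹ * g := by group
    rw [e]
    exact conj_inv_mem_of_normalizer (N_le_NZQ j hg) (inv_mem (h x hx))

theorem OO_le (j : ι) : OO R j ≤ normalizer (R j : Set G) := fun _ h => h.1

theorem OO_norm (j : ι) : ∀ m ∈ normalizer (R j : Set G), ∀ g ∈ OO R j, m * g * m⁻¹ ∈ OO R j := by
  rintro m hm g ⟨hg, h⟩
  refine ⟨mul_mem (mul_mem hm hg) (inv_mem hm), fun x hx => ?_⟩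
  have hx' : m⁻¹ * x * m ∈ QQ (R j) := conj_inv_mem_of_normalizer (le_normalizer_O2 _ hm) hx
  have e : m * g * m⁻¹ * x * (m * g * m⁻¹)⁻¹ * x⁻¹ =
      m * (g * (m⁻¹ * x * m) * g⁻¹ * (m⁻¹ * x * m)⁻¹) * m⁻¹ := by group
  rw [e]
  exact conj_mem_of_normalizer (N_le_NZQ j hm) (h _ hx')

/-- a Sylow 2-subgroup of `G` in `H` has odd index -/
theorem odd_relIndex [Finite G] (S : Sylow 2 G) {H : Subgroup G} (h : (S : Subgroup G) ≤ H) :
    Odd ((S : Subgroup G).relIndex H) := by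
  have hfact : Fact (Nat.Prime 2) := ⟨Nat.prime_two⟩
  rw [← Nat.not_even_iff_odd, even_iff_two_dvd]
  intro hd
  exact S.not_dvd_index (hd.trans (relIndex_dvd_index_of_le h))

theorem relIndex_cj (g : G) (A B : Subgroup G) : (cj g A).relIndex (cj g B) = A.relIndex B :=
  relIndex_map_map_of_injective _ _ (MulAut.conj g).injective

/-- `|Q j : E j| = 2` if `|R j| = 2` -/
theorem inv_mul_mem_cen (b : BT V R) {j : ι} {r : G} (hr : ∀ x ∈ R j, x = 1 ∨ x = r) {x y : G}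
    (hx : x ∈ QQ (R j)) (hx' : x ∉ centralizer (V : Set G)) (hy : y ∈ QQ (R j))
    (hy' : y ∉ centralizer (V : Set G)) : x⁻¹ * y ∈ centralizer (V : Set G) := by
  have key : ∀ z : G, z ∈ QQ (R j) → z ∉ centralizer (V : Set G) → ∀ v ∈ V, v ∉ R j →
      z * v * z⁻¹ * v⁻¹ = r := by
    intro z hz hz' v hv hvj
    have h1 := b.QV j z hz v hv
    refine (hr _ h1).resolve_left fun h2 => ?_
    obtain ⟨m, hm⟩ := b.R_cov v hv
    have hmj : m ≠ j := by rintro rfl; exact hvj hm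
    obtain ⟨k, hkm, -, hk⟩ := movesQ b hmj hz hz'
    have h3 : z * v * z⁻¹ = v := by rwa [mul_inv_eq_one] at h2
    have h4 : v ∈ R k := by rw [← h3, ← hk]; exact conj_mem_cj hm
    apply hvj
    rw [b.eq_one hkm h4 hm]
    exact one_mem _
  rw [mem_centralizer_iff]
  intro v hv
  have h1 : x * v * x⁻¹ = y * v * y⁻¹ := by
    by_cases hvj : v ∈ R j
    · rw [b.conj_R hx hvj, b.conj_R hy hvj]
    · have e1 := key x hx hx' v hv hvj
      have e2 := key y hy hy' v hv hvj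
      rw [← e2] at e1
      exact mul_right_cancel e1
  calc v * (x⁻¹ * y) = x⁻¹ * (x * v * x⁻¹) * y := by group
    _ = x⁻¹ * (y * v * y⁻¹) * y := by rw [h1]
    _ = x⁻¹ * y * v := by group

section

variable [Finite G] (b : BTS V R) (h : ∀ i, LE V R i)
include b h

/-- the averaged element: `c ∈ Q j - C(V)` with `[c, O] ≤ R j`, moving `R i` to `R l` -/
theorem exists_avg {j : ι} {r : G} (hr : ∀ x ∈ R j, x = 1 ∨ x = r) (S : Sylow 2 G)
    (hSV : (S : Subgroup G) ≤ normalizer (V : Set G)) (hSR : (S : Subgroup G) ≤ normalizer (R j : Set G))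
    {i l : ι} (hi : i ≠ j) (hl : l ≠ j) :
    ∃ c ∈ QQ (R j), cj c (R i) = R l ∧ ∀ g ∈ OO R j, g * c * g⁻¹ * c⁻¹ ∈ R j := by
  obtain ⟨k, hk, H⟩ := b.mt j
  obtain ⟨⟨v, hv, e⟩, -⟩ := H i l hi hl
  set v' := k * v * k⁻¹ with hv'
  have hv'W : v' ∈ WW V (R j) := cj_le_WW hk (conj_mem_cj hv)
  have hv'Q := b.W_le_Q j hv'W
  -- elements of the Sylow group `S^k` fix `v' R j`
  have hS : ∀ s ∈ cj k (S : Subgroup G), s * v' * s⁻¹ * v'⁻¹ ∈ R j := by
    intro s hs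
    rw [mem_cj] at hs
    set t := k⁻¹ * s * k with ht
    have hs' : s = k * t * k⁻¹ := by rw [ht]; group
    have htV : t * v * t⁻¹ ∈ V := conj_mem_of_normalizer (hSV hs) hv
    have htR := hSR hs
    -- `[t, v] ∈ R j` since `V / R j` has order 2
    have key : t * v * t⁻¹ * v⁻¹ ∈ R j := by
      obtain ⟨m, hm⟩ := b.R_cov v hv
      obtain ⟨m', hm'⟩ := b.R_cov _ htV
      by_cases hmj : m = j
      · subst hmj
        exact mul_mem (conj_mem_of_normalizer htR hm) (inv_mem hm)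
      by_cases hmj' : m' = j
      · subst hmj'
        have h1 : v ∈ R m' := by
          have := conj_inv_mem_of_normalizer htR hm'
          have e1 : t⁻¹ * (t * v * t⁻¹) * t = v := by group
          rwa [e1] at this
        exact mul_mem hm' (inv_mem h1)
      -- both are nontrivial or trivial
      by_cases hv1 : v = 1
      · rw [hv1, mul_one, mul_inv_cancel, inv_one, mul_one]; exact one_mem _
      by_cases hmm : m = m'
      · subst hmm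
        obtain ⟨x, hx, ex⟩ := b.trans_one j m
        have h2 : ∀ y ∈ R m, y = 1 ∨ y = x * r * x⁻¹ := by
          intro y hy
          rw [← ex, mem_cj] at hy
          rcases hr _ hy with h3 | h3
          · left
            have : y = x * (x⁻¹ * y * x) * x⁻¹ := by group
            rw [this, h3]; group
          · right
            rw [← h3]; group
        have h3 : t * v * t⁻¹ ≠ 1 := fun h => hv1 (conj_eq_one_iff.1 h)
        have h4 : t * v * t⁻¹ = v :=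
          ((h2 _ hm').resolve_left h3).trans ((h2 _ hm).resolve_left hv1).symm
        rw [h4, mul_inv_cancel]; exact one_mem _
      · -- `v ∈ R m`, `t v t⁻¹ ∈ R m'`: their product is in the third point
        obtain ⟨w, hw, ew⟩ := b.trans j hmj hmj'
        have h5 : w * v * w⁻¹ ∈ R m' := by rw [← ew]; exact conj_mem_cj hm
        obtain ⟨x, hx, ex⟩ := b.trans_one j m'
        have h2 : ∀ y ∈ R m', y = 1 ∨ y = x * r * x⁻¹ := by
          intro y hy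
          rw [← ex, mem_cj] at hy
          rcases hr _ hy with h3 | h3
          · left
            have : y = x * (x⁻¹ * y * x) * x⁻¹ := by group
            rw [this, h3]; group
          · right
            rw [← h3]; group
        have h3 : t * v * t⁻¹ ≠ 1 := fun h => hv1 (conj_eq_one_iff.1 h)
        have h3' : w * v * w⁻¹ ≠ 1 := fun h => hv1 (conj_eq_one_iff.1 h)
        have h4 : t * v * t⁻¹ = w * v * w⁻¹ :=
          ((h2 _ hm').resolve_left h3).trans ((h2 _ h5).resolve_left h3').symm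
        rw [h4]
        exact b.QV j w (b.W_le_Q j hw) v hv
    have e1 : s * v' * s⁻¹ * v'⁻¹ = k * (t * v * t⁻¹ * v⁻¹) * k⁻¹ := by rw [hs', hv']; group
    rw [e1]
    exact conj_mem_of_normalizer hk key
  -- average
  have hodd : Odd ((cj k (S : Subgroup G) ⊓ OO R j).relIndex (OO R j)) := by
    rw [inf_relIndex_right]
    refine odd_relIndex_of_norm (OO_le j) (OO_norm j) ?_
    have h1 : cj k (normalizer (R j : Set G)) = normalizer (R j : Set G) := cj_of_mem hk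
    rw [← h1, relIndex_cj]
    exact odd_relIndex S hSR
  have hQZ : ∀ g ∈ OO R j, v'⁻¹ * g * v' * g⁻¹ ∈ ZQ R j := by
    intro g hg
    have h1 := hg.2 _ (inv_mem hv'Q)
    have h2 : (g * v'⁻¹ * g⁻¹ * v'⁻¹⁻¹)⁻¹ ∈ ZQ R j := inv_mem h1
    have e2 : v'⁻¹ * g * v' * g⁻¹ = (g * v'⁻¹ * g⁻¹ * v'⁻¹⁻¹)⁻¹ := by group
    rw [e2]
    exact h2
  obtain ⟨y, hy, hc⟩ := Avg.avg (X := OO R j) (P := cj k (S : Subgroup G) ⊓ OO R j) (Y := ZQ R j) (D := R j)
    (c := v') inf_le_right hodd (R_le_ZQ b.toBT j)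
    (fun g hg x hx => conj_mem_of_normalizer (N_le_NZQ j hg.1) hx)
    (fun g hg x hx => conj_mem_of_normalizer hg.1 hx)
    (fun x hx y hy => conj_mem_of_normalizer (b.Q_le j (ZQ_le j hx)) hy)
    (fun x hx => Q_sq b (h j) (ZQ_le j hx)) hQZ
    (by
      rintro g ⟨hg, -⟩
      have h1 := hS g hg
      have h2 : v'⁻¹ * (g * v' * g⁻¹ * v'⁻¹) * v' ∈ R j := by
        exact conj_inv_mem_of_normalizer (b.Q_le j hv'Q) h1
      have e1 : v'⁻¹ * (g * v' * g⁻¹ * v'⁻¹) * v' = v'⁻¹ * g * v' * g⁻¹ := by group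
      rwa [e1] at h2)
  have hyQ := ZQ_le j hy
  have hcQ : v' * y ∈ QQ (R j) := mul_mem hv'Q hyQ
  refine ⟨v' * y, hcQ, ?_, fun g hg => ?_⟩
  · rw [cj_mul, cj_eq_self_iff.2 (b.cen_le_N i (ZQ_le_cen b.toBT j hy)), e]
  · have h1 := hc g hg
    have h2 := conj_mem_of_normalizer (b.Q_le j hcQ) h1
    have e1 : v' * y * ((v' * y)⁻¹ * g * (v' * y) * g⁻¹) * (v' * y)⁻¹ = g * (v' * y) * g⁻¹ * (v' * y)⁻¹ := by
      group
    rwa [e1] at h2

/-- **THEOREM D (iii)** -/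
theorem D1 {j : ι} {r : G} (hr : ∀ x ∈ R j, x = 1 ∨ x = r) (S : Sylow 2 G)
    (hSV : (S : Subgroup G) ≤ normalizer (V : Set G)) (hSR : (S : Subgroup G) ≤ normalizer (R j : Set G))
    {i : ι} (hij : i ≠ j) {n : G} (hn : n ∈ ZQ R i) (hc : ∀ x ∈ QQ (R j), n * x * n⁻¹ * x⁻¹ ∈ ZQ R j) :
    ∃ a ∈ R i, a * n ∈ CenX V R := by
  obtain ⟨l, hli, hlj⟩ := b.third i j
  obtain ⟨c, hcQ, e, hO⟩ := exists_avg b h hr S hSV hSR hij hlj
  have hnV := ZQ_le_cen b.toBT i hn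
  have hnO : n ∈ OO R j := ⟨b.cen_le_N j hnV, hc⟩
  have h1 := hO n hnO
  -- `c n c⁻¹ ∈ Z(Q l)`
  have h2 : c * n * c⁻¹ ∈ ZQ R l := by
    rw [← cj_ZQ b.toBT e]
    exact conj_mem_cj hn
  -- `n ∈ R j · Z(Q l) ≤ Q l`
  have h3 : n = (n * c * n⁻¹ * c⁻¹) * (c * n * c⁻¹) := by group
  have h4 : n ∈ QQ (R l) := by
    rw [h3]
    exact mul_mem ((b.R_le j).trans (b.V_Q l) h1) (ZQ_le l h2)
  exact ZQ_Q b (Ne.symm hli) hn h4

/-- `n ∈ Z(Q i)` commutes with `x n x⁻¹`, `x ∈ Q j - C(V)` -/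
theorem comm_conjQ {i j : ι} (hij : i ≠ j) {n x : G} (hn : n ∈ ZQ R i) (hx : x ∈ QQ (R j))
    (hx' : x ∉ centralizer (V : Set G)) : n * (x * n * x⁻¹) = x * n * x⁻¹ * n := by
  have _ := h
  obtain ⟨w, hw, c, hc, rfl⟩ := Q_eq b.toBT j hx
  have hwU : w ∉ UU V R j := by
    intro hwU
    exact hx' (mul_mem (b.C_le_cen hc) (UU_le_cen j hwU))
  obtain ⟨k, -, -, hk⟩ := b.moves hij hw hwU
  have h1 : w * n * w⁻¹ ∈ ZQ R k := by
    rw [← cj_ZQ b.toBT hk]; exact conj_mem_cj hn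
  have h2 : c * (w * n * w⁻¹) = (w * n * w⁻¹) * c := ZQ_comm h1 (mem_iInf.1 hc k)
  have e : c * w * n * (c * w)⁻¹ = w * n * w⁻¹ := by
    calc c * w * n * (c * w)⁻¹ = c * (w * n * w⁻¹) * c⁻¹ := by group
      _ = w * n * w⁻¹ := by rw [h2]; group
  rw [e]
  exact Comm.comm_conj b hij (ZQ_le_cenW b.toBT i hn) hw hwU

/-- `[n, y] = a c`, `a ∈ R i`, `c ∈ C_X`, `y ∈ E j`: if `[n, x]` commutes with `y` for some `x ∈ Q j - C(V)` then
`[n, y] ∈ C_X` -/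
theorem mem_cenX_of {i j : ι} (hij : i ≠ j) {n x y : G} (hn : n ∈ ZQ R i) (hx : x ∈ QQ (R j))
    (hx' : x ∉ centralizer (V : Set G)) (hy : y ∈ EE V R j)
    (hc : (n * x * n⁻¹ * x⁻¹) * y = y * (n * x * n⁻¹ * x⁻¹)) : n * y * n⁻¹ * y⁻¹ ∈ CenX V R := by
  obtain ⟨a, ha, hac⟩ := ZQ_E b hij hn hy
  obtain ⟨k, hki, hkj, hk⟩ := movesQ b.toBT hij hx hx'
  have hnV := ZQ_le_cen b.toBT i hn
  set t := n * y * n⁻¹ * y⁻¹ with ht
  set c := a * t with hcdef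
  have haV := b.R_le i ha
  have hta : t = a⁻¹ * c := by rw [hcdef]; group
  have hcV : ∀ v ∈ V, v * c = c * v := fun v hv => mem_centralizer_iff.1 (b.CenX_le_cen hac) v hv
  -- `t` commutes with `V`
  have htV : ∀ v ∈ V, v * t = t * v := by
    intro v hv
    rw [hta]
    calc v * (a⁻¹ * c) = (v * a⁻¹) * c := by group
      _ = a⁻¹ * (v * c) := by rw [b.V_comm v hv _ (inv_mem haV)]; group
      _ = a⁻¹ * c * v := by rw [hcV v hv]; group
  set n' := x * n * x⁻¹ with hn'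
  have hn'Z : n' ∈ ZQ R k := by rw [← cj_ZQ b.toBT hk]; exact conj_mem_cj hn
  have hn'V := ZQ_le_cen b.toBT k hn'Z
  have hxc : x * c = c * x := (cenX_Q b (h j) hac hx).symm
  have hn'c : n' * c = c * n' := (cenX_Q b (h k) hac (ZQ_le k hn'Z)).symm
  have hnc : n * c = c * n := (cenX_Q b (h i) hac (ZQ_le i hn)).symm
  -- `[n', y] = x t x⁻¹`
  have h1 : n' * y * n'⁻¹ * y⁻¹ = x * t * x⁻¹ := by
    have hs : x⁻¹ * y * x⁻¹⁻¹ * y⁻¹ ∈ R j := Q_comm b (h j) (inv_mem hx) hy.1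
    set s := x⁻¹ * y * x⁻¹⁻¹ * y⁻¹ with hsdef
    have e1 : x⁻¹ * y * x = s * y := by rw [hsdef]; group
    have e2 : n * s = s * n := (mem_centralizer_iff.1 hnV s (b.R_le j hs)).symm
    have e3 : s * t = t * s := htV s (b.R_le j hs)
    calc n' * y * n'⁻¹ * y⁻¹ = x * (n * (x⁻¹ * y * x) * n⁻¹ * (x⁻¹ * y * x)⁻¹) * x⁻¹ := by rw [hn']; group
      _ = x * ((n * s) * y * n⁻¹ * y⁻¹ * s⁻¹) * x⁻¹ := by rw [e1]; group
      _ = x * (s * (n * y * n⁻¹ * y⁻¹) * s⁻¹) * x⁻¹ := by rw [e2]; group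
      _ = x * (s * t * s⁻¹) * x⁻¹ := rfl
      _ = x * t * x⁻¹ := by rw [e3]; group
  -- `x t x⁻¹ = (x a⁻¹ x⁻¹) c`
  have h2 : x * t * x⁻¹ = (x * a⁻¹ * x⁻¹) * c := by
    rw [hta]
    calc x * (a⁻¹ * c) * x⁻¹ = (x * a⁻¹ * x⁻¹) * (x * c) * x⁻¹ := by group
      _ = (x * a⁻¹ * x⁻¹) * c := by rw [hxc]; group
  have hxa : x * a⁻¹ * x⁻¹ ∈ R k := by rw [← hk]; exact conj_mem_cj (inv_mem ha)
  set t' := n' * y * n'⁻¹ * y⁻¹ with ht'
  have h3 : t' = (x * a⁻¹ * x⁻¹) * c := h1.trans h2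
  -- `t'` commutes with `n'`, `t` with `n`
  have h4 : n' * t' = t' * n' := by
    rw [h3]
    calc n' * ((x * a⁻¹ * x⁻¹) * c) = (n' * (x * a⁻¹ * x⁻¹)) * c := by group
      _ = (x * a⁻¹ * x⁻¹) * (n' * c) := by
          rw [← mem_centralizer_iff.1 hn'V _ (b.R_le k hxa)]; group
      _ = (x * a⁻¹ * x⁻¹) * c * n' := by rw [hn'c]; group
  have h5 : n * t' = t' * n := by
    rw [h3]
    calc n * ((x * a⁻¹ * x⁻¹) * c) = (n * (x * a⁻¹ * x⁻¹)) * c := by group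
      _ = (x * a⁻¹ * x⁻¹) * (n * c) := by
          rw [← mem_centralizer_iff.1 hnV _ (b.R_le k hxa)]; group
      _ = (x * a⁻¹ * x⁻¹) * c * n := by rw [hnc]; group
  -- `u = n n'⁻¹` commutes with `y`, so `t = t'`
  have h6 : t = t' := by
    have e1 : n * x * n⁻¹ * x⁻¹ = n * n'⁻¹ := by rw [hn']; group
    rw [e1] at hc
    have e2 : n' * y = t' * (y * n') := by rw [ht']; group
    have e3 : n * y = t * (y * n) := by rw [ht]; group
    -- `y n' = t'⁻¹ n' y`, `n'⁻¹ y = y ...`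
    have e4 : n'⁻¹ * y = t'⁻¹ * (y * n'⁻¹) := by
      have h7 : n'⁻¹ * t' = t' * n'⁻¹ := by
        rw [inv_mul_eq_iff_eq_mul, ← mul_assoc, h4, mul_inv_cancel_right]
      have h8 : n' * (t'⁻¹ * (y * n'⁻¹)) = y := by
        have h9 : n' * t'⁻¹ = t'⁻¹ * n' := by
          rw [eq_inv_mul_iff_mul_eq, ← mul_assoc, ← h4, mul_inv_cancel_right]
        calc n' * (t'⁻¹ * (y * n'⁻¹)) = (n' * t'⁻¹) * y * n'⁻¹ := by group
          _ = t'⁻¹ * (n' * y) * n'⁻¹ := by rw [h9]; group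
          _ = y := by rw [e2]; group
      rw [inv_mul_eq_iff_eq_mul]
      exact h8.symm
    have e5 : n * n'⁻¹ * y = t'⁻¹ * t * (y * (n * n'⁻¹)) := by
      have h9 : n * t'⁻¹ = t'⁻¹ * n := by
        rw [eq_inv_mul_iff_mul_eq, ← mul_assoc, ← h5, mul_inv_cancel_right]
      calc n * n'⁻¹ * y = n * (n'⁻¹ * y) := by group
        _ = (n * t'⁻¹) * y * n'⁻¹ := by rw [e4]; group
        _ = t'⁻¹ * (n * y) * n'⁻¹ := by rw [h9]; group
        _ = t'⁻¹ * t * (y * (n * n'⁻¹)) := by rw [e3]; group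
    rw [hc] at e5
    have e6 : t'⁻¹ * t = 1 := by
      have := congrArg (fun z => z * (y * (n * n'⁻¹))⁻¹) e5
      simp only [mul_inv_cancel, mul_inv_cancel_right] at this
      exact this.symm
    rw [inv_mul_eq_one] at e6
    exact e6.symm
  rw [hta, h3] at h6
  have h7 : a⁻¹ = x * a⁻¹ * x⁻¹ := mul_right_cancel h6
  have h8 : a⁻¹ = 1 := b.eq_one (Ne.symm hki) (inv_mem ha) (by rw [h7]; exact hxa)
  have h9 : a = 1 := inv_eq_one.1 h8
  have h10 : t = c := by rw [hcdef, h9, one_mul]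
  rw [h10]
  exact hac

/-- **THEOREM D (iv)** -/
theorem D2 {j : ι} {r : G} (hr : ∀ x ∈ R j, x = 1 ∨ x = r) (S : Sylow 2 G)
    (hSV : (S : Subgroup G) ≤ normalizer (V : Set G)) (hSR : (S : Subgroup G) ≤ normalizer (R j : Set G))
    {i : ι} (hij : i ≠ j) {n x : G} (hn : n ∈ ZQ R i) (hn2 : n * n = 1) (hx : x ∈ QQ (R j))
    (hx' : x ∉ centralizer (V : Set G)) (hv : ∃ v ∈ V, v * (n * x * n⁻¹ * x⁻¹) ∈ ZQ R j) :
    ∃ a ∈ R i, a * n ∈ CenX V R := by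
  obtain ⟨v, hv, hζ⟩ := hv
  set u := n * x * n⁻¹ * x⁻¹ with hu
  set ζ := v * u with hζdef
  have huv : u = v⁻¹ * ζ := by rw [hζdef]; group
  have hζV := ZQ_le_cen b.toBT j hζ
  have hnV := ZQ_le_cen b.toBT i hn
  -- `u` commutes with `E j`
  have h1 : ∀ y ∈ EE V R j, u * y = y * u := by
    intro y hy
    have e1 : y * v⁻¹ = v⁻¹ * y := (mem_centralizer_iff.1 hy.2 _ (inv_mem hv)).symm
    have e2 : y * ζ = ζ * y := ZQ_comm hζ hy.1
    rw [huv]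
    calc v⁻¹ * ζ * y = v⁻¹ * (y * ζ) := by rw [e2]; group
      _ = (v⁻¹ * y) * ζ := by group
      _ = y * (v⁻¹ * ζ) := by rw [← e1]; group
  -- `[n, E j] ≤ C_X`
  have h2 : ∀ y ∈ EE V R j, n * y * n⁻¹ * y⁻¹ ∈ ZQ R j := fun y hy =>
    cenX_le_ZQ b h j (mem_cenX_of b h hij hn hx hx' hy (h1 y hy))
  -- `u² = 1`
  have h3 : u * u = 1 := by
    have e1 := comm_conjQ b h hij hn hx hx'
    set n' := x * n * x⁻¹ with hn'
    have e2 : u = n * n'⁻¹ := by rw [hu, hn']; group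
    have e3 : n'⁻¹ = n' := by
      rw [inv_eq_iff_mul_eq_one, hn']
      calc x * n * x⁻¹ * (x * n * x⁻¹) = x * (n * n) * x⁻¹ := by group
        _ = 1 := by rw [hn2]; group
    rw [e2, e3]
    calc n * n' * (n * n') = n * (n' * n) * n' := by group
      _ = (n * n) * (n' * n') := by rw [← e1]; group
      _ = 1 := by
        rw [hn2, one_mul]
        calc n' * n' = n' * n'⁻¹ := by rw [e3]
          _ = 1 := mul_inv_cancel _
  have hvζ : v * ζ = ζ * v := mem_centralizer_iff.1 hζV v hv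
  have hvv := b.V_sq v hv
  have hvi : v⁻¹ = v := b.inv_eq hv
  have hζζ : ζ * ζ = 1 := by
    rw [← h3]
    have e1 : u * v = v * u := by
      rw [huv, hvi]
      rw [mul_assoc, ← hvζ]
    calc ζ * ζ = v * (u * v) * u := by rw [hζdef]; group
      _ = (v * v) * (u * u) := by rw [e1]; group
      _ = u * u := by rw [hvv, one_mul]
  -- `u (x u x⁻¹) = 1`
  have hxζ : x * ζ = ζ * x := ZQ_comm hζ hx
  have h4 : u * (x * u * x⁻¹) = 1 := by
    have hxx : x * x ∈ R j := Q_sq b (h j) hx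
    have e1 : n * (x * x) = x * x * n := (mem_centralizer_iff.1 hnV _ (b.R_le j hxx)).symm
    have e2 : u * x = n * x * n⁻¹ := by rw [hu]; group
    calc u * (x * u * x⁻¹) = (u * x) * (u * x) * (x * x)⁻¹ := by group
      _ = n * (x * x) * n⁻¹ * (x * x)⁻¹ := by rw [e2]; group
      _ = 1 := by rw [e1]; group
  have h5 : x * v * x⁻¹ = v := by
    rw [huv, hvi] at h4
    have e1 : v * ζ * (x * (v * ζ) * x⁻¹) = v * (x * v * x⁻¹) := by
      have e2 : x * (v * ζ) * x⁻¹ = (x * v * x⁻¹) * ζ := by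
        calc x * (v * ζ) * x⁻¹ = (x * v * x⁻¹) * (x * ζ) * x⁻¹ := by group
          _ = (x * v * x⁻¹) * ζ := by rw [hxζ]; group
      have hxv : x * v * x⁻¹ ∈ V := conj_mem_of_normalizer ((b.Q_le_K j).trans (b.K_le_NV j) hx) hv
      have e3 : ζ * (x * v * x⁻¹) = (x * v * x⁻¹) * ζ := (mem_centralizer_iff.1 hζV _ hxv).symm
      rw [e2]
      calc v * ζ * (x * v * x⁻¹ * ζ) = v * (ζ * (x * v * x⁻¹)) * ζ := by group
        _ = v * (x * v * x⁻¹) * (ζ * ζ) := by rw [e3]; group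
        _ = v * (x * v * x⁻¹) := by rw [hζζ, mul_one]
    rw [e1] at h4
    have h6 : x * v * x⁻¹ = v⁻¹ := (inv_eq_of_mul_eq_one_right h4).symm
    rw [h6, hvi]
  have h6 : v ∈ R j := by
    obtain ⟨m, hm⟩ := b.R_cov v hv
    by_cases hmj : m = j
    · rwa [hmj] at hm
    obtain ⟨k, hkm, -, hk⟩ := movesQ b.toBT hmj hx hx'
    have h7 : v ∈ R k := by
      rw [← h5, ← hk]; exact conj_mem_cj hm
    rw [b.eq_one hkm h7 hm]
    exact one_mem _
  have h7 : u ∈ ZQ R j := by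
    rw [huv]
    exact mul_mem (inv_mem (R_le_ZQ b.toBT j h6)) hζ
  -- all of `Q j`
  refine D1 b h hr S hSV hSR hij hn fun y hy => ?_
  -- `y ∈ E j` or `y ∈ x E j`
  by_cases hyV : y ∈ centralizer (V : Set G)
  · exact h2 y ⟨hy, hyV⟩
  · have h8 : x⁻¹ * y ∈ EE V R j := mem_inf.2 ⟨(QQ (R j)).mul_mem ((QQ (R j)).inv_mem hx) hy,
      inv_mul_mem_cen b.toBT hr hx hx' hy hyV⟩
    have h9 := h2 _ h8
    have h10 : n * y * n⁻¹ * y⁻¹ = (n * x * n⁻¹ * x⁻¹) * (x * (n * (x⁻¹ * y) * n⁻¹ * (x⁻¹ * y)⁻¹) * x⁻¹) := by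
      group
    rw [h10]
    exact mul_mem h7 (conj_mem_of_normalizer (N_le_NZQ j (b.Q_le j hx)) h9)

/-- `[n, x] ∈ J · Z(Q j)` for `n ∈ Z(Q i)`, `x ∈ Q j - C(V)` -/
theorem exists_d {i j : ι} (hij : i ≠ j) {n x : G} (hn : n ∈ ZQ R i) (hx : x ∈ QQ (R j))
    (hx' : x ∉ centralizer (V : Set G)) :
    ∃ d ∈ CC R, d⁻¹ * (n * x * n⁻¹ * x⁻¹) ∈ ZQ R j := by
  obtain ⟨k, hki, hkj, hk⟩ := movesQ b.toBT hij hx hx'
  obtain ⟨y, hyW, hy⟩ := b.trans k (Ne.symm hki) (Ne.symm hkj)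
  have hyQ := b.W_le_Q k hyW
  have hnV := ZQ_le_cen b.toBT i hn
  set n' := x * n * x⁻¹ with hn'
  set m := y * n * y⁻¹ with hm
  have hn'Z : n' ∈ ZQ R k := by rw [← cj_ZQ b.toBT hk]; exact conj_mem_cj hn
  have hmZ : m ∈ ZQ R j := by rw [← cj_ZQ b.toBT hy]; exact conj_mem_cj hn
  have hnn : n * n ∈ QQ (R k) := (b.R_le i).trans (b.V_Q k) (Q_sq b (h i) (ZQ_le i hn))
  have hnk := cen_le_NQ b.toBT k hnV
  have h1 : n * x * n⁻¹ * x⁻¹ ∈ QQ (R j) := comm_mem_of hx (cen_le_NQ b.toBT j hnV)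
  have h2 : m * n⁻¹ ∈ QQ (R k) := comm_mem_of' hyQ hnk
  have h3 : n * x * n⁻¹ * x⁻¹ * m ∈ QQ (R k) := by
    have e : n * x * n⁻¹ * x⁻¹ * m = (n * n'⁻¹ * n⁻¹) * ((n * (m * n⁻¹) * n⁻¹) * (n * n)) := by
      rw [hn']; group
    rw [e]
    exact mul_mem (conj_mem_of_normalizer hnk (inv_mem (ZQ_le k hn'Z)))
      (mul_mem (conj_mem_of_normalizer hnk h2) hnn)
  refine ⟨n * x * n⁻¹ * x⁻¹ * m, ?_, ?_⟩
  · rw [b.C_eq hkj]
    exact ⟨h3, mul_mem h1 (ZQ_le j hmZ)⟩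
  · have e : (n * x * n⁻¹ * x⁻¹ * m)⁻¹ * (n * x * n⁻¹ * x⁻¹) = m⁻¹ := by group
    rw [e]
    exact inv_mem hmZ

end

/-- `Ω₁ Z(Q i)` -/
def OZ (R : ι → Subgroup G) (i : ι) : Subgroup G where
  carrier := {n | n ∈ ZQ R i ∧ n * n = 1}
  one_mem' := ⟨one_mem _, one_mul 1⟩
  mul_mem' := by
    rintro n m ⟨hn, hn2⟩ ⟨hm, hm2⟩
    refine ⟨mul_mem hn hm, ?_⟩
    have e : m * n = n * m := ZQ_comm hn (ZQ_le i hm)
    calc n * m * (n * m) = n * (m * n) * m := by group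
      _ = (n * n) * (m * m) := by rw [e]; group
      _ = 1 := by rw [hn2, hm2, one_mul]
  inv_mem' := by
    rintro n ⟨hn, hn2⟩
    refine ⟨inv_mem hn, ?_⟩
    rw [← mul_inv_rev, hn2, inv_one]

section

variable [Finite G] (b : BTS V R) (h : ∀ i, LE V R i)
include b h

/-- **THEOREM D (v)**: `|Ω₁ Z(Q i) : R i × C_X| ≤ |J : V × C_X|` -/
theorem D3 {j : ι} {r : G} (hr : ∀ x ∈ R j, x = 1 ∨ x = r) (S : Sylow 2 G)
    (hSV : (S : Subgroup G) ≤ normalizer (V : Set G)) (hSR : (S : Subgroup G) ≤ normalizer (R j : Set G))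
    {i : ι} (hij : i ≠ j) :
    (Par.RC b.toBT i).relIndex (OZ R i) ≤ (V ⊔ CenX V R).relIndex (CC R) := by
  classical
  obtain ⟨w, hw, hwU⟩ := exists_not_U b.toBT j
  have hwQ := b.W_le_Q j hw
  have hwV : w ∉ centralizer (V : Set G) := fun hc => hwU (mem_inf.2 ⟨hw, hc⟩)
  have key : ∀ n : OZ R i, ∃ d : CC R, (d : G)⁻¹ * (n * w * (n : G)⁻¹ * w⁻¹) ∈ ZQ R j := by
    intro n
    obtain ⟨d, hd, h1⟩ := exists_d b h hij n.2.1 hwQ hwV
    exact ⟨⟨d, hd⟩, h1⟩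
  choose d hd using key
  -- injectivity
  have inj : ∀ m n : OZ R i, (d m : G)⁻¹ * d n ∈ V ⊔ CenX V R → (m : G)⁻¹ * n ∈ Par.RC b.toBT i := by
    intro m n hmn
    have hle : CenX V R ≤ normalizer (V : Set G) := b.CenX_le_cen.trans (cen_le_NV V)
    rw [← SetLike.mem_coe, coe_mul_of_right_le_normalizer_left _ _ hle] at hmn
    obtain ⟨v, hv, c, hc, hvc⟩ := hmn
    have hmn2 := (OZ R i).mul_mem ((OZ R i).inv_mem m.2) n.2
    refine D2 b h hr S hSV hSR hij hmn2.1 hmn2.2 hwQ hwV ⟨v⁻¹, inv_mem hv, ?_⟩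
    set um := (m : G) * w * (m : G)⁻¹ * w⁻¹ with hum
    set un := (n : G) * w * (n : G)⁻¹ * w⁻¹ with hun
    have hζm := hd m
    have hζn := hd n
    set ζm := (d m : G)⁻¹ * um with hζmd
    set ζn := (d n : G)⁻¹ * un with hζnd
    have em : um = d m * ζm := by rw [hζmd]; group
    have en : un = d n * ζn := by rw [hζnd]; group
    have hmV := ZQ_le_cen b.toBT i m.2.1
    have hmN : (m : G) ∈ normalizer (ZQ R j : Set G) := N_le_NZQ j (b.cen_le_N j hmV)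
    have hcZ : c ∈ ZQ R j := cenX_le_ZQ b h j hc
    -- `un um⁻¹ = v (c ζn ζm⁻¹)`
    have h1 : un * um⁻¹ = v * (c * (ζn * ζm⁻¹)) := by
      have k1 : (d m : G) * (ζn * ζm⁻¹) = (ζn * ζm⁻¹) * d m :=
        ZQ_comm (mul_mem hζn (inv_mem hζm)) (mem_iInf.1 (d m).2 j)
      have k2 : (d n : G) * (d m : G)⁻¹ = (d m : G)⁻¹ * d n :=
        C_comm_one b h (d n).2 (inv_mem (d m).2)
      have hvc' : v * c = (d m : G)⁻¹ * d n := hvc
      calc un * um⁻¹ = d n * ((ζn * ζm⁻¹) * (d m : G)⁻¹) := by rw [em, en]; group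
        _ = d n * ((d m : G)⁻¹ * (ζn * ζm⁻¹)) := by
            congr 1
            rw [eq_inv_mul_iff_mul_eq, ← mul_assoc, k1, mul_inv_cancel_right]
        _ = (d n * (d m : G)⁻¹) * (ζn * ζm⁻¹) := by group
        _ = v * (c * (ζn * ζm⁻¹)) := by rw [k2, ← hvc']; group
    have e : v⁻¹ * ((m : G)⁻¹ * n * w * ((m : G)⁻¹ * n)⁻¹ * w⁻¹) =
        (m : G)⁻¹ * (c * (ζn * ζm⁻¹)) * m := by
      have k3 : (m : G)⁻¹ * v = v * (m : G)⁻¹ := by
        rw [inv_mul_eq_iff_eq_mul, ← mul_assoc, ← mem_centralizer_iff.1 hmV v hv, mul_inv_cancel_right]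
      calc v⁻¹ * ((m : G)⁻¹ * n * w * ((m : G)⁻¹ * n)⁻¹ * w⁻¹)
          = v⁻¹ * ((m : G)⁻¹ * (un * um⁻¹) * m) := by rw [hun, hum]; group
        _ = v⁻¹ * (((m : G)⁻¹ * v) * (c * (ζn * ζm⁻¹)) * m) := by rw [h1]; group
        _ = _ := by rw [k3]; group
    rw [e]
    exact conj_inv_mem_of_normalizer hmN (mul_mem hcZ (mul_mem hζn (inv_mem hζm)))
  -- count
  let F : OZ R i ⧸ (Par.RC b.toBT i).subgroupOf (OZ R i) → CC R ⧸ (V ⊔ CenX V R).subgroupOf (CC R) :=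
    fun q => QuotientGroup.mk (d q.out)
  have hF : Function.Injective F := by
    intro q q' hqq
    have h1 : (QuotientGroup.mk (d q.out) : CC R ⧸ (V ⊔ CenX V R).subgroupOf (CC R)) =
        QuotientGroup.mk (d q'.out) := hqq
    rw [QuotientGroup.eq] at h1
    have h2 := inj q.out q'.out h1
    have h3 : (QuotientGroup.mk q.out : OZ R i ⧸ (Par.RC b.toBT i).subgroupOf (OZ R i)) =
        QuotientGroup.mk q'.out := by
      rw [QuotientGroup.eq]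
      exact h2
    rwa [QuotientGroup.out_eq', QuotientGroup.out_eq'] at h3
  exact Nat.card_le_card_of_injective F hF

end

end Cfsg.Agent.Omega.HTwo.ThmD
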