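import Cfsg.Agent.Omega.HTwo.AlphaFive
import Cfsg.Agent.Omega.HTwo.ThmD

/-!
# II.0h1, `q = 2`, case (α) for the small group `M' = ⟨C_{H₁}(z), X⟩` (#15368, helper481)

`MP V R o z = (N(R o) ∩ C(z)) ⊔ X`.

* `lemX`, `lemX_false` : LEMMA X;
* `alpha_two` : (2) of #14489 for every `M ≥ N(R o) ∩ C(z)`, `X`;
* `four'` : (2), (3) of #15368;
* `not_alpha'` : `⟨V^{M'}⟩` is not contained in `Q o`.
-/

set_option autoImplicit false
set_option linter.unusedSectionVars false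

namespace Cfsg.Agent.Omega.HTwo.AlphaP

open Subgroup Cfsg Cfsg.Agent.MinSimple.VModule Cfsg.Agent.Omega.BTwo
open Cfsg.Agent.Omega.HOneTwo Cfsg.Agent.Omega.HTwo.ThmA Cfsg.Agent.Omega.HTwo.Par
open Cfsg.Agent.Omega.HTwo.Hat Cfsg.Agent.Omega.HTwo.TComp Cfsg.Agent.Omega.MinPar
open Cfsg.Agent.ZN (zc o2 le_normalizer_o2)
open Cfsg.Agent.Omega.HTwo.AlphaFive (mem_C natC_two r_ne r_mem r_sq mem_N_iff cj_V_le exists_h exists_mv cl_le_zc natC_cj)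
open Cfsg.Agent.Omega.HTwo.AlphaOne (exists_cj_S comm_mem_R ZQ_swap ZQ_not_RC)

universe u

section X

variable {G : Type*} [Group G] [Finite G] {ι : Type*} {V : Subgroup G} {R : ι → Subgroup G}

/-- **LEMMA X** (#15368) -/
theorem lemX (b : BTS V R) (h : ∀ i, LE V R i) {i j : ι} (hij : i ≠ j) {r : G} (hr : ∀ x ∈ R i, x = 1 ∨ x = r)
    {W : Subgroup G} (hWQ : W ≤ QQ (R i)) (hab : ∀ a ∈ W, ∀ c ∈ W, a * c = c * a)
    (hE : ∀ e ∈ EE V R j, ∀ x ∈ W, e * x * e⁻¹ ∈ W) {w : G} (hw : w ∈ W)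
    (hwV : w ∉ centralizer (V : Set G)) {n : G} (hn : n ∈ ZQ R i) :
    ∃ u ∈ W, u ∈ ZQ R i ∧ u⁻¹ * n ∈ CC R := by
  have hwQ := hWQ hw
  -- `E i ≤ W J`
  have key : ∀ x ∈ EE V R i, ∃ u ∈ W, u⁻¹ * x ∈ CC R := by
    intro x hx
    obtain ⟨e, he, h1⟩ := EE_surj b (Ne.symm hij) hwQ hwV hx
    refine ⟨w * e * w⁻¹ * e⁻¹, ?_, h1⟩
    have e1 : w * e * w⁻¹ * e⁻¹ = w * (e * w⁻¹ * e⁻¹) := by group
    rw [e1]
    exact mul_mem hw (hE e he _ (inv_mem hw))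
  obtain ⟨u, hu, hc⟩ := key n (ZQ_le_EE b.toBT i hn)
  refine ⟨u, hu, ?_, hc⟩
  have hcQ : ∀ c ∈ CC R, c ∈ QQ (R i) := fun c hc => mem_iInf.1 hc i
  -- `u` commutes with `J`
  have huJ : ∀ c ∈ CC R, c * u = u * c := by
    intro c hc'
    have h1 : c * n = n * c := ZQ_comm hn (hcQ c hc')
    have h2 : c * (u⁻¹ * n) = u⁻¹ * n * c := C_comm_one b h hc' hc
    have e : u = n * (u⁻¹ * n)⁻¹ := by group
    have h3 : c * (u⁻¹ * n)⁻¹ = (u⁻¹ * n)⁻¹ * c := by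
      rw [eq_inv_mul_iff_mul_eq, ← mul_assoc, ← h2, mul_inv_cancel_right]
    calc c * u = c * (n * (u⁻¹ * n)⁻¹) := by rw [← e]
      _ = n * (c * (u⁻¹ * n)⁻¹) := by rw [← mul_assoc, h1, mul_assoc]
      _ = n * (u⁻¹ * n)⁻¹ * c := by rw [h3, ← mul_assoc]
      _ = u * c := by rw [← e]
  -- `E i` commutes with `u`
  have huE : ∀ x ∈ EE V R i, x * u = u * x := by
    intro x hx
    obtain ⟨v, hv, hc'⟩ := key x hx
    have h1 := huJ _ hc'
    have h2 := hab v hv u hu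
    calc x * u = v * (v⁻¹ * x * u) := by group
      _ = (v * u) * (v⁻¹ * x) := by rw [h1, mul_assoc]
      _ = u * x := by rw [h2]; group
  refine ⟨hWQ hu, mem_centralizer_iff.2 fun x hx => ?_⟩
  by_cases hxV : x ∈ centralizer (V : Set G)
  · exact huE x ⟨hx, hxV⟩
  · have h1 := ThmD.inv_mul_mem_cen b.toBT hr hwQ hwV hx hxV
    have h2 := huE (w⁻¹ * x) ⟨(QQ (R i)).mul_mem ((QQ (R i)).inv_mem hwQ) hx, h1⟩
    have h3 := hab w hw u hu
    calc x * u = w * (w⁻¹ * x * u) := by group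
      _ = (w * u) * (w⁻¹ * x) := by rw [h2, mul_assoc]
      _ = u * x := by rw [h3]; group

theorem lemX_false (b : BTS V R) (h : ∀ i, LE V R i) {i j : ι} (hij : i ≠ j) {r : G}
    (hr : ∀ x ∈ R i, x = 1 ∨ x = r)
    {W : Subgroup G} (hWQ : W ≤ QQ (R i)) (hab : ∀ a ∈ W, ∀ c ∈ W, a * c = c * a)
    (hE : ∀ e ∈ EE V R j, ∀ x ∈ W, e * x * e⁻¹ ∈ W) {w : G} (hw : w ∈ W)
    (hwV : w ∉ centralizer (V : Set G)) (hWZ : ∀ x ∈ W, x ∈ ZQ R i → x ∈ R i)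
    {z : G} (hz : z ∈ CenX V R) (hz1 : z ≠ 1) : False := by
  refine ZQ_not_RC b h hz hz1 i fun l hl => ?_
  obtain ⟨u, hu, huZ, hc⟩ := lemX b h hij hr hWQ hab hE hw hwV hl
  refine ZQ_Q b hij hl ?_
  have e : l = u * (u⁻¹ * l) := by group
  rw [e]
  exact mul_mem (b.V_Q j (b.R_le i (hWZ u hu huZ))) (mem_iInf.1 hc j)

/-- (2), (3) of #15368 -/
theorem four' (b : BTS V R) {o j : ι} (hj : j ≠ o) {r : G} (hr : ∀ x, x ∈ R o ↔ x = 1 ∨ x = r)
    {y : G} {W : Subgroup G} (hyy : y * y = 1) (hy : y ∈ ZQ R o) (hWQ : W ≤ QQ (R o))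
    (sq : ∀ x ∈ W, x * x = 1)
    (hn : ∀ c, c * y = y * c → c * r = r * c → ∀ x ∈ W, c * x * c⁻¹ ∈ W)
    (hpt : ∀ w ∈ W, w ≠ 1 → ∃ k, k * y = y * k ∧ k * r * k⁻¹ = w ∧ ∀ x ∈ W, k⁻¹ * x * k ∈ W)
    {w : G} (hw : w ∈ W) (hwV : w ∉ centralizer (V : Set G)) :
    (∃ a ∈ R o, a * y ∈ CenX V R) ∨
      ∃ w₁ ∈ W, ∃ c, c * (y * r) = y * r * c ∧ c * r * c⁻¹ * w₁ ≠ w₁ * (c * r * c⁻¹) := by
  have hwQ : w ∈ QQ (R o) := hWQ hw
  have hww : w * w = 1 := sq w hw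
  obtain ⟨k, hkj, hko, hk⟩ := movesQ b.toBT hj hwQ hwV
  have hk' : cj w (R k) = R j := by
    rw [← hk, ← cj_mul, hww, cj_one]
  obtain ⟨v, hv, ev⟩ := b.trans j (Ne.symm hj) hkj
  have hvv : v * v ∈ R j := b.W_sq j hv
  have hvX : v ∈ XX V R := W_le_X V R j hv
  have hvQ : v ∈ QQ (R j) := b.W_le_Q j hv
  have hvU : v ∉ UU V R j := by
    intro h
    have h1 : cj v (R o) = R o := cj_eq_self_iff.2 (b.cen_le_N o (UU_le_cen j h))
    exact hko (b.R_index (ev.symm.trans h1))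
  obtain ⟨y₃, hy₃⟩ : ∃ y₃, y₃ = v * y * v⁻¹ := ⟨_, rfl⟩
  have z3 : y₃ ∈ ZQ R k := by
    rw [hy₃, ← cj_ZQ b.toBT ev]
    exact conj_mem_cj hy
  obtain ⟨y₂, hy₂⟩ : ∃ y₂, y₂ = w * y₃ * w⁻¹ := ⟨_, rfl⟩
  have z2 : y₂ ∈ ZQ R j := by
    rw [hy₂, ← cj_ZQ b.toBT hk']
    exact conj_mem_cj z3
  have yV : y ∈ centralizer (V : Set G) := ZQ_le_cen b.toBT o hy
  have y3V : y₃ ∈ centralizer (V : Set G) := ZQ_le_cen b.toBT k z3
  by_cases h3j : y₃ ∈ QQ (R j)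
  · left
    obtain ⟨a, ha, h⟩ := ZQ_Q b hkj z3 h3j
    refine ⟨v⁻¹ * a * v, ?_, ?_⟩
    · rw [← ev, mem_cj] at ha
      exact ha
    · have h1 := conj_inv_mem_of_normalizer (b.NV_le_NCenX (b.X_le_NV hvX)) h
      have e : v⁻¹ * (a * y₃) * v = v⁻¹ * a * v * y := by rw [hy₃]; group
      rwa [e] at h1
  right
  -- the commutations
  have c13 : y * y₃ = y₃ * y := by
    rw [hy₃]
    exact Comm.comm_conj b (Ne.symm hj) (ZQ_le_cenW b.toBT o hy) hv hvU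
  have c23 : y₂ * y₃ = y₃ * y₂ := by
    rw [hy₂]
    exact (Alpha.comm_conj_Q b hko z3 hwQ hwV).symm
  have hy3sq : y₃ * y₃ = 1 := by
    rw [hy₃]
    calc v * y * v⁻¹ * (v * y * v⁻¹) = v * (y * y) * v⁻¹ := by group
      _ = 1 := by rw [hyy]; group
  have hrV : r ∈ V := b.R_le o ((hr r).2 (Or.inr rfl))
  have hyw : w * y = y * w := ZQ_comm hy hwQ
  have hp : y₂ * y₃ ∈ W := by
    have h1 : y₃ * w⁻¹ * y₃⁻¹ ∈ W :=
      hn y₃ c13.symm (mem_centralizer_iff.1 y3V r hrV).symm _ (inv_mem hw)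
    have h2 : y₃⁻¹ = y₃ := inv_eq_of_mul_eq_one_left hy3sq
    have e : y₂ * y₃ = w * (y₃ * w⁻¹ * y₃⁻¹) := by rw [hy₂, h2]; group
    rw [e]
    exact mul_mem hw h1
  have hp1 : y₂ * y₃ ≠ 1 := by
    intro h
    apply h3j
    have h1 : y₂ = y₃⁻¹ := eq_inv_of_mul_eq_one_left h
    rw [inv_eq_of_mul_eq_one_left hy3sq] at h1
    rw [← h1]
    exact ZQ_le j z2
  have hv3 : v * y₃ * v⁻¹ = y := by
    have h1 : v * v * y = y * (v * v) := (mem_centralizer_iff.1 yV _ (b.R_le j hvv))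
    calc v * y₃ * v⁻¹ = (v * v * y) * (v * v)⁻¹ := by rw [hy₃]; group
      _ = y := by rw [h1, mul_inv_cancel_right]
  have hv2 : v * y₂ * v⁻¹ = y₂ := by
    have h1 := ZQ_comm z2 hvQ
    rw [h1, mul_inv_cancel_right]
  obtain ⟨p, hpdef⟩ : ∃ p, p = y₂ * y₃ := ⟨_, rfl⟩
  have hvp : v * p * v⁻¹ = y₂ * y := by
    rw [hpdef]
    calc v * (y₂ * y₃) * v⁻¹ = (v * y₂ * v⁻¹) * (v * y₃ * v⁻¹) := by group
      _ = y₂ * y := by rw [hv2, hv3]
  have hyp : y * p = p * y := by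
    have h1 : p ∈ QQ (R o) := by rw [hpdef]; exact hWQ hp
    exact (ZQ_comm hy h1).symm
  have hvq : v * (y * p) = y * p * v := by
    have h1 : v * (y * p) * v⁻¹ = y * p := by
      calc v * (y * p) * v⁻¹ = (v * y * v⁻¹) * (v * p * v⁻¹) := by group
        _ = y₃ * (y₂ * y) := by rw [← hy₃, hvp]
        _ = (y₂ * y₃) * y := by rw [c23]; group
        _ = p * y := by rw [hpdef]
        _ = y * p := hyp.symm
    exact mul_inv_eq_iff_eq_mul.1 h1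
  -- `w` moves `y₂ y`
  have hwp' : w * (y₂ * y) * w⁻¹ ≠ y₂ * y := by
    intro h
    apply hp1
    have h1 : w * y₂ * w⁻¹ = y₃ := by
      rw [hy₂]
      calc w * (w * y₃ * w⁻¹) * w⁻¹ = (w * w) * y₃ * (w * w)⁻¹ := by group
        _ = y₃ := by rw [hww]; group
    have h4 : w * y * w⁻¹ = y := by rw [hyw, mul_inv_cancel_right]
    have h5 : w * (y₂ * y) * w⁻¹ = y₃ * y := by
      calc w * (y₂ * y) * w⁻¹ = (w * y₂ * w⁻¹) * (w * y * w⁻¹) := by group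
        _ = y₃ * y := by rw [h1, h4]
    rw [h5] at h
    have h6 := mul_right_cancel h
    rw [h6, ← h6, hy3sq]
  -- transport
  rw [← hpdef] at hp hp1
  obtain ⟨g, hgy, hgp, hgW⟩ := hpt p hp hp1
  refine ⟨g⁻¹ * w * g, hgW w hw, g⁻¹ * v * g, ?_, ?_⟩
  · have h1 : g * (y * r) * g⁻¹ = y * p := by
      calc g * (y * r) * g⁻¹ = (g * y) * r * g⁻¹ := by group
        _ = y * (g * r * g⁻¹) := by rw [hgy]; group
        _ = y * p := by rw [hgp]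
    have h2 : y * r = g⁻¹ * (y * p) * g := by rw [← h1]; group
    rw [h2]
    calc g⁻¹ * v * g * (g⁻¹ * (y * p) * g) = g⁻¹ * (v * (y * p)) * g := by group
      _ = g⁻¹ * (y * p * v) * g := by rw [hvq]
      _ = _ := by group
  · intro h
    apply hwp'
    have h1 : r = g⁻¹ * p * g := by rw [← hgp]; group
    have h2 : g⁻¹ * v * g * r * (g⁻¹ * v * g)⁻¹ = g⁻¹ * (y₂ * y) * g := by
      rw [h1, ← hvp]; group
    rw [h2] at h
    have e1 : g⁻¹ * (y₂ * y) * g * (g⁻¹ * w * g) = g⁻¹ * (y₂ * y * w) * g := by group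
    have e2 : g⁻¹ * w * g * (g⁻¹ * (y₂ * y) * g) = g⁻¹ * (w * (y₂ * y)) * g := by group
    rw [e1, e2] at h
    have h3 := mul_left_cancel (mul_right_cancel h)
    rw [← h3, mul_inv_cancel_right]

end X

section two

variable {G : Type u} [Group G] [Finite G] {ι : Type*} {S : Sylow 2 G} {P V : Subgroup G} {R : ι → Subgroup G} {o : ι}

/-- the small group `M' = ⟨N(R o) ∩ C(z), X⟩` -/
def MP (V : Subgroup G) (R : ι → Subgroup G) (o : ι) (z : G) : Subgroup G :=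
  (normalizer (R o : Set G) ⊓ centralizer ({z} : Set G)) ⊔ XX V R

variable (b : HT S P V R o)
include b

/-- **(2)** of #14489 for every `M ≥ N(R o) ∩ C(z)`, `X` -/
theorem alpha_two {M : Subgroup G} (h : ∀ i, LE V R i) {z : G}
    (hz : z ∈ zc (S : Subgroup G) ⊓ centralizer (P : Set G)) (hz1 : z ≠ 1)
    (hM : normalizer (R o : Set G) ⊓ centralizer ({z} : Set G) ≤ M)
    (hα : UM V M ≤ QQ (R o)) :
    ∃ a ∈ QQ (R o), ∃ c ∈ QQ (R o), a ∉ centralizer (UM V M : Set G) ∧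
      c ∉ centralizer (UM V M : Set G) ∧ a * c ∉ centralizer (UM V M : Set G) := by
  by_contra hcon
  push Not at hcon
  set U := UM V M with hU
  obtain ⟨k, hk, H⟩ := b.mt o
  obtain ⟨j, m, hj, hm, hjm⟩ := b.one_lt
  obtain ⟨-, v, hv, ev⟩ := H j m hj hm
  have hzz : z * z = 1 := by rw [← pow_two]; exact (mem_zc.1 hz.1).2.2
  have hzX : z ∈ CenX V R := b.cz_le hz
  have hzQ : z ∈ ZQ R o := cenX_le_ZQ b.toBTS h o hzX
  -- conjugate by `k⁻¹`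
  have hk' : k⁻¹ ∈ normalizer (R o : Set G) := inv_mem hk
  set z₁ := k⁻¹ * z * k with hz₁
  have hz₁Q : z₁ ∈ ZQ R o := conj_inv_mem_of_normalizer (N_le_NZQ o hk) hzQ
  have hz₁z₁ : z₁ * z₁ = 1 := by
    have : z₁ * z₁ = k⁻¹ * (z * z) * k := by rw [hz₁]; group
    rw [this, hzz, mul_one, inv_mul_cancel]
  set U₁ := cj k⁻¹ U with hU₁
  have hQk : cj k⁻¹ (QQ (R o)) = QQ (R o) := cj_eq_self_iff.2 (le_normalizer_O2 _ hk')
  have hU₁Q : U₁ ≤ QQ (R o) := by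
    rw [← hQk]; exact cj_mono hα
  have hone : ∀ a ∈ QQ (R o), ∀ c ∈ QQ (R o), a ∉ centralizer (U₁ : Set G) → c ∉ centralizer (U₁ : Set G) →
      a * c ∈ centralizer (U₁ : Set G) := by
    intro a ha c hc h1 h2
    rw [hU₁, centralizer_cj, mem_cj, inv_inv] at h1 h2 ⊢
    have h3 := hcon (k * a * k⁻¹) (conj_mem_of_normalizer (le_normalizer_O2 _ hk) ha) (k * c * k⁻¹)
      (conj_mem_of_normalizer (le_normalizer_O2 _ hk) hc) h1 h2
    have e : k * a * k⁻¹ * (k * c * k⁻¹) = k * (a * c) * k⁻¹ := by group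
    rwa [e] at h3
  -- `N(R o) ∩ C(z₁)` normalises `U₁`
  have hMU : ∀ g ∈ normalizer (R o : Set G), g * z₁ = z₁ * g → g ∈ normalizer (U₁ : Set G) := by
    intro g hgN hg
    rw [hU₁, normalizer_cj, mem_cj, inv_inv]
    apply le_normalizer_cl V M
    refine hM ⟨mul_mem (mul_mem hk hgN) hk', mem_C.2 ?_⟩
    calc k * g * k⁻¹ * z = k * (g * z₁) * k⁻¹ := by rw [hz₁]; group
      _ = k * (z₁ * g) * k⁻¹ := by rw [hg]
      _ = z * (k * g * k⁻¹) := by rw [hz₁]; group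
  have hV₁ : cj k⁻¹ V ≤ U₁ := cj_mono (le_cl V M)
  -- `R j` does not centralise `U₁`
  obtain ⟨r₂, hr₂1, hr₂₂, hr₂⟩ := b.exists_gen j
  have hr₂j : r₂ ∈ R j := (hr₂ _).2 (Or.inr rfl)
  have hv₁ : k⁻¹ * v * k ∈ U₁ := by
    have := hV₁ (conj_mem_cj (g := k⁻¹) hv)
    rwa [inv_inv] at this
  have hr₂U : r₂ ∉ centralizer (U₁ : Set G) := by
    intro hc
    have h1 := mem_centralizer_iff.1 hc _ hv₁
    have h2 : k⁻¹ * v * k * r₂ * (k⁻¹ * v * k)⁻¹ ∈ R m := by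
      rw [← ev]; exact conj_mem_cj hr₂j
    rw [h1, mul_inv_cancel_right] at h2
    exact hr₂1 (b.eq_one hjm hr₂j h2)
  -- the group `B`
  have hBN : ZQ R j ≤ normalizer (R o : Set G) := (ZQ_le_cen b.toBT j).trans (b.cen_le_N o)
  set B := ZQ R j ⊓ centralizer ({z₁} : Set G) with hB
  have hBp : IsPGroup 2 B := (O2_isPGroup _).to_le (inf_le_left.trans (ZQ_le j))
  have key : ∀ x ∈ B, ∃ a ∈ R j, a * x ∈ CenX V R := by
    -- a Sylow group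
    set L := normalizer (R o : Set G) ⊓ centralizer ({z₁} : Set G) with hL
    have hSL : cj k⁻¹ (S : Subgroup G) ≤ L := by
      rintro _ ⟨s, hs, rfl⟩
      change k⁻¹ * s * k⁻¹⁻¹ ∈ L
      rw [inv_inv]
      refine ⟨mul_mem (mul_mem hk' (b.S_R hs)) hk, mem_centralizer_singleton_iff.2 ?_⟩
      have h1 : s * z = z * s := (mem_zc.1 hz.1).2.1 s hs
      calc k⁻¹ * s * k * z₁ = k⁻¹ * (s * z) * k := by rw [hz₁]; group
        _ = k⁻¹ * (z * s) * k := by rw [h1]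
        _ = _ := by rw [hz₁]; group
    have hSL' : ((k⁻¹ • S : Sylow 2 G) : Subgroup G) ≤ L := hSL
    obtain ⟨g, hg, hBg⟩ := exists_cj_S (k⁻¹ • S) hSL' (inf_le_inf_right _ hBN) hBp
    set k' := g * k⁻¹ with hk'd
    have hk'N : k' ∈ normalizer (R o : Set G) := mul_mem hg.1 hk'
    have hBS : ∀ x ∈ B, ∃ s ∈ (S : Subgroup G), x = k' * s * k'⁻¹ := by
      intro x hx
      obtain ⟨y, hy, rfl⟩ := hBg hx
      obtain ⟨s, hs, rfl⟩ : ∃ s ∈ (S : Subgroup G), k⁻¹ * s * k⁻¹⁻¹ = y := hy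
      refine ⟨s, hs, ?_⟩
      change g * (k⁻¹ * s * k⁻¹⁻¹) * g⁻¹ = _
      rw [hk'd]; group
    -- `V* = V^{k'} ≤ U₁`
    set a := k' * r₂ * k'⁻¹ with ha
    have haU : a ∈ U₁ := by
      have h1 := conj_mem_of_normalizer (hMU g hg.1 (mem_centralizer_singleton_iff.1 hg.2))
        (hV₁ (conj_mem_cj (g := k⁻¹) (b.R_le j hr₂j)))
      have e : a = g * (k⁻¹ * r₂ * k⁻¹⁻¹) * g⁻¹ := by rw [ha, hk'd]; group
      rw [e]; exact h1
    -- an element of `Q o` moving `a`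
    obtain ⟨w, hw, ew⟩ := b.trans o hj hm
    have hwQ := b.W_le_Q o hw
    set q := k' * w * k'⁻¹ with hq
    have hqQ : q ∈ QQ (R o) := conj_mem_of_normalizer (le_normalizer_O2 _ hk'N) hwQ
    have hqa : q * a * q⁻¹ ≠ a := by
      intro h1
      have e : q * a * q⁻¹ = k' * (w * r₂ * w⁻¹) * k'⁻¹ := by rw [hq, ha]; group
      rw [e, ha] at h1
      have h2 : w * r₂ * w⁻¹ = r₂ := mul_left_cancel (mul_right_cancel h1)
      have h3 : w * r₂ * w⁻¹ ∈ R m := by rw [← ew]; exact conj_mem_cj hr₂j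
      rw [h2] at h3
      exact hr₂1 (b.eq_one hjm hr₂j h3)
    have hqU : q ∉ centralizer (U₁ : Set G) := by
      intro hc
      apply hqa
      rw [← mem_centralizer_iff.1 hc a haU, mul_inv_cancel_right]
    have hr₂Q : r₂ ∈ QQ (R o) := b.V_Q o (b.R_le j hr₂j)
    have h1 := hone r₂ hr₂Q q hqQ hr₂U hqU
    have hra : ¬ r₂ * a = a * r₂ := by
      intro h2
      apply hqa
      have h3 := mem_centralizer_iff.1 h1 a haU
      -- `a (r₂ q) = r₂ q a`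
      have h4 : r₂ * (a * q) = r₂ * (q * a) := by
        rw [← mul_assoc, h2, mul_assoc, h3, mul_assoc]
      have h5 := mul_left_cancel h4
      rw [← h5, mul_inv_cancel_right]
    -- `a` maps `R j` to `R m`
    have haQ : a ∈ QQ (R o) := hU₁Q haU
    have haV : a ∈ normalizer (V : Set G) := b.Q_le_NV o haQ
    obtain ⟨l, hl⟩ := b.perm a haV j
    have hlj : l ≠ j := by
      rintro rfl
      apply hra
      have h2 : a * r₂ * a⁻¹ ∈ R l := by rw [← hl]; exact conj_mem_cj hr₂j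
      have h3 : a * r₂ * a⁻¹ ≠ 1 := fun h => hr₂1 (conj_eq_one_iff.1 h)
      have h4 := eq_of_card_two (b.card_R l) hr₂j hr₂1 h2 h3
      rw [mul_inv_eq_iff_eq_mul] at h4
      exact h4.symm
    have hlo : l ≠ o := by
      rintro rfl
      exact hj (b.R_index (cj_injective (hl.trans (cj_eq_self_iff.2 (b.Q_le l haQ)).symm)))
    intro x hx
    obtain ⟨s, hs, ex⟩ := hBS x hx
    -- `[x, a] ∈ R o`
    have h2 : x * a * x⁻¹ * a⁻¹ ∈ R o := by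
      have h3 := conj_mem_of_normalizer hk'N (comm_mem_R b (b.S_V hs) (b.S_R hs) (b.R_le j hr₂j))
      have e : x * a * x⁻¹ * a⁻¹ = k' * (s * r₂ * s⁻¹ * r₂⁻¹) * k'⁻¹ := by rw [ex, ha]; group
      rw [e]; exact h3
    have h3 : x ∈ QQ (R l) := by
      have h4 : a * x * a⁻¹ ∈ QQ (R l) := by
        have h5 : a * x * a⁻¹ ∈ ZQ R l := by
          rw [← cj_ZQ b.toBT hl]; exact conj_mem_cj hx.1
        exact ZQ_le l h5
      have e : x = (x * a * x⁻¹ * a⁻¹) * (a * x * a⁻¹) := by group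
      rw [e]
      exact mul_mem (b.V_Q l (b.R_le o h2)) h4
    exact ZQ_Q b.toBTS (Ne.symm hlj) hx.1 h3
  -- `z₁^σ ∈ B`
  obtain ⟨σ, hσ, eσ⟩ := b.trans m (Ne.symm hm) hjm
  have hσQ := b.W_le_Q m hσ
  have hσV : σ ∈ normalizer (V : Set G) := b.Q_le_NV m hσQ
  have h1 := ZQ_swap b.toBTS h (Ne.symm hj) hσQ eσ hz₁Q hz₁z₁
  have h2 : σ * z₁ * σ⁻¹ ∈ B := by
    refine ⟨?_, ?_⟩
    · rw [← cj_ZQ b.toBT eσ]; exact conj_mem_cj hz₁Q
    · exact mem_centralizer_singleton_iff.2 h1.symm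
  obtain ⟨a, ha, h3⟩ := key _ h2
  -- `z₁ ∈ R o C_X`
  have h4 : σ⁻¹ * a * σ ∈ R o := by
    rw [← eσ] at ha
    exact mem_cj.1 ha
  have h5 : σ⁻¹ * a * σ * z₁ ∈ CenX V R := by
    have h6 := conj_inv_mem_of_normalizer (b.NV_le_NCenX hσV) h3
    have e : σ⁻¹ * (a * (σ * z₁ * σ⁻¹)) * σ = σ⁻¹ * a * σ * z₁ := by group
    rwa [e] at h6
  -- `Z(Q j)` centralises `z₁`
  have h6 : ZQ R j ≤ B := by
    intro x hx
    refine ⟨hx, mem_centralizer_singleton_iff.2 ?_⟩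
    have h7 : σ⁻¹ * a * σ * x = x * (σ⁻¹ * a * σ) := mem_centralizer_iff.1 (ZQ_le_cen b.toBT j hx) _ (b.R_le o h4)
    have h8 : σ⁻¹ * a * σ * z₁ * x = x * (σ⁻¹ * a * σ * z₁) := cenX_Q b.toBTS (h j) h5 (ZQ_le j hx)
    have h9 : σ⁻¹ * a * σ * (z₁ * x) = σ⁻¹ * a * σ * (x * z₁) := by
      rw [← mul_assoc, h8, ← mul_assoc, ← h7, mul_assoc]
    exact (mul_left_cancel h9).symm
  exact ZQ_not_RC b.toBTS h hzX hz1 j fun l hl => key l (h6 hl)

variable {r : G} (hr : ∀ x, x ∈ R o ↔ x = 1 ∨ x = r)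
include hr

/-- `MP ≤ C(z)` -/
theorem MP_le {z : G} (hz : z ∈ zc (S : Subgroup G) ⊓ centralizer (P : Set G)) (hz1 : z ≠ 1) :
    MP V R o z ≤ centralizer ({z} : Set G) := by
  have _ := hr
  exact sup_le inf_le_right (b.dt hz hz1).X_M

/-- `[W, Q o] ≤ R o` forces `W ≤ Q o` -/
theorem le_Q_of_comm {W : Subgroup G} (hW : W ≤ normalizer (R o : Set G))
    (h : ∀ w ∈ W, ∀ q ∈ QQ (R o), w * q * w⁻¹ * q⁻¹ ∈ R o) : W ≤ QQ (R o) := by
  have _ := hr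
  rw [← b.toBTS.K_eq o]
  exact fun w hw => ⟨hW hw, fun d hd => h w hw d (b.W_le_Q o hd)⟩

/-- elements of `V` are conjugate to `r` under `X` -/
theorem exists_conj_X {v : G} (hv : v ∈ V) (hv1 : v ≠ 1) : ∃ c ∈ XX V R, c * r * c⁻¹ = v := by
  obtain ⟨j, hj⟩ := b.R_cov v hv
  obtain ⟨x, hx, e⟩ := b.trans_X_one o j
  refine ⟨x, hx, ?_⟩
  have h1 : x * r * x⁻¹ ∈ R j := by rw [← e]; exact conj_mem_cj (r_mem b hr)
  have h2 : x * r * x⁻¹ ≠ 1 := fun h => r_ne b hr (conj_eq_one_iff.1 h)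
  exact eq_of_card_two (b.card_R j) hj hv1 h1 h2

/-- (4), (5), (6) of #15368 -/
theorem part_B (hLE : ∀ i, LE V R i) {z : G}
    (hz : z ∈ zc (S : Subgroup G) ⊓ centralizer (P : Set G)) (hz1 : z ≠ 1) {W U : Subgroup G}
    (hW : NatC (MP V R o z) U W r) (hWQ : W ≤ QQ (R o)) (hVW : V ≤ W)
    {w₂ c₂ : G} (hw₂ : w₂ ∈ W) (hc₂ : c₂ * (z * r) = z * r * c₂)
    (hne : c₂ * r * c₂⁻¹ * w₂ ≠ w₂ * (c₂ * r * c₂⁻¹)) : False := by
  have bs := b.toBTS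
  have hr1 := r_ne b hr
  have hr2 := r_sq b hr
  have hrR := r_mem b hr
  have hNr := fun g => @mem_N_iff G _ ι _ S P V R o b r hr g
  set M := MP V R o z with hM
  have hMz : M ≤ centralizer ({z} : Set G) := MP_le b hr hz hz1
  have hKM : normalizer (R o : Set G) ⊓ centralizer ({z} : Set G) ≤ M := le_sup_left
  -- `z`
  have hz2 : z * z = 1 := by rw [← pow_two]; exact (mem_zc.1 hz.1).2.2
  have hSz : ∀ s ∈ (S : Subgroup G), s * z = z * s := (mem_zc.1 hz.1).2.1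
  have hSr : ∀ s ∈ (S : Subgroup G), s * r = r * s := fun s hs => (hNr s).1 (b.S_R hs)
  have hzX : z ∈ CenX V R := b.cz_le hz
  have hzQ : z ∈ ZQ R o := cenX_le_ZQ bs hLE o hzX
  have hrQ : r ∈ ZQ R o := R_le_ZQ b.toBT o hrR
  have hrz : r * z = z * r := ZQ_comm hzQ (ZQ_le o hrQ)
  have hWc : ∀ a ∈ W, ∀ c ∈ W, a * c = c * a := fun a ha c hc => Omega.TV.EA.comm_of hW.sq ha hc
  -- `y = z r`
  obtain ⟨y, hy⟩ : ∃ y, y = z * r := ⟨_, rfl⟩
  rw [← hy] at hc₂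
  have hy2 : y * y = 1 := by
    rw [hy]
    calc z * r * (z * r) = z * (r * z) * r := by group
      _ = z * z * (r * r) := by rw [hrz]; group
      _ = 1 := by rw [hr2, hz2, mul_one]
  have hy1 : y ≠ 1 := by
    intro e
    have h5 : z = r := by
      calc z = z * (r * r) := by rw [hr2, mul_one]
        _ = (z * r) * r := by group
        _ = r := by rw [← hy, e, one_mul]
    have h6 : r ∈ V ⊓ (zc (S : Subgroup G) ⊓ centralizer (P : Set G)) :=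
      ⟨b.R_le o hrR, by rw [← h5]; exact hz⟩
    rw [b.R_inf_cz, mem_bot] at h6
    exact hr1 h6
  have hSy : ∀ s ∈ (S : Subgroup G), s * y = y * s := by
    intro s hs
    rw [hy, ← mul_assoc, hSz s hs, mul_assoc, hSr s hs, ← mul_assoc]
  have hyQ : y ∈ ZQ R o := by rw [hy]; exact mul_mem hzQ hrQ
  have hQy : ∀ q ∈ QQ (R o), q ∈ centralizer ({y} : Set G) := fun q hq => mem_C.2 (ZQ_comm hyQ hq)
  have hzy : z = y * r := by rw [hy, mul_assoc, hr2, mul_one]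
  -- `C(y) ∩ C(r) = C(z) ∩ C(r)`
  have hCzy : ∀ g : G, g * r = r * g → (g ∈ centralizer ({z} : Set G) ↔ g ∈ centralizer ({y} : Set G)) := by
    intro g hg
    rw [mem_C, mem_C]
    constructor
    · intro h5
      rw [hy, ← mul_assoc, h5, mul_assoc, hg, ← mul_assoc]
    · intro h5
      rw [hzy, ← mul_assoc, h5, mul_assoc, hg, ← mul_assoc]
  set C₁ := centralizer ({y} : Set G) with hC₁
  set U₁ := cl (R o) C₁ with hU₁
  have hUz₁ : U₁ ≤ zc (o2 C₁) := cl_le_zc b hr hy1 hy2 hSy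
  have hUsq₁ : ∀ x ∈ U₁, x * x = 1 := fun x hx => by rw [← pow_two]; exact (mem_zc.1 (hUz₁ hx)).2.2
  have hUcm₁ : ∀ x ∈ U₁, ∀ y ∈ U₁, x * y = y * x := fun x hx y hy =>
    (mem_zc.1 (hUz₁ hy)).2.1 x (zc_le _ (hUz₁ hx))
  have hrU₁ : r ∈ U₁ := le_cl _ _ hrR
  have hU₁C : ∀ n ∈ U₁, n ∈ C₁ := fun n hn => o2_le _ (zc_le _ (hUz₁ hn))
  have hU₁r : ∀ n ∈ U₁, n * r = r * n := fun n hn => hUcm₁ n hn r hrU₁
  have hnU₁ : C₁ ≤ normalizer (U₁ : Set G) := le_normalizer_cl _ _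
  have hpU₁ : c₂ * r * c₂⁻¹ ∈ U₁ := conj_mem_of_normalizer (hnU₁ (mem_C.2 hc₂)) hrU₁
  -- the group `K = N(R o) ∩ C(z)` normalises `W`
  have hKW : ∀ c : G, c * r = r * c → c ∈ C₁ → ∀ x ∈ W, c * x * c⁻¹ ∈ W := by
    intro c hcr hc
    refine hW.blk c (hKM ⟨(hNr c).2 hcr, (hCzy c hcr).2 hc⟩) r hW.mem hr1 ?_
    rw [hcr, mul_inv_cancel_right]
    exact hW.mem
  have hMC : ∀ c ∈ M, c * r = r * c → c ∈ C₁ := fun c hc hcr => (hCzy c hcr).1 (hMz hc)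
  have hWC₁ : ∀ x ∈ W, x ∈ C₁ := fun x hx => hQy x (hWQ hx)
  -- `W ∩ U₁ = ⟨r⟩`
  have hWU : ∀ x ∈ W, x ∈ U₁ → x = 1 ∨ x = r := by
    rcases hW.irr r hW.mem hr1 (W ⊓ U₁) inf_le_left ⟨hW.mem, hrU₁⟩ (by
      rintro c hc hcr a ⟨ha, ha'⟩
      exact ⟨hKW c hcr (hMC c hc hcr) a ha, conj_mem_of_normalizer (hnU₁ (hMC c hc hcr)) ha'⟩) with h5 | h5
    · exact fun x hx hx' => h5 x ⟨hx, hx'⟩
    · exact absurd (hUcm₁ _ hpU₁ _ (h5 hw₂).2) hne
  have hact : ∀ t ∈ W, ∀ n ∈ U₁, t * n * t⁻¹ = n ∨ t * n * t⁻¹ = n * r := by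
    intro t ht n hn
    have h5 : t * n * t⁻¹ ∈ U₁ := conj_mem_of_normalizer (hnU₁ (hWC₁ t ht)) hn
    have h6 : n * t⁻¹ * n⁻¹ ∈ W := hKW n (hU₁r n hn) (hU₁C n hn) _ (inv_mem ht)
    have h7 : t * n * t⁻¹ * n⁻¹ ∈ W := by
      have e : t * n * t⁻¹ * n⁻¹ = t * (n * t⁻¹ * n⁻¹) := by group
      rw [e]; exact mul_mem ht h6
    rcases hWU _ h7 (mul_mem h5 (inv_mem hn)) with h8 | h8
    · left; exact mul_inv_eq_one.1 h8
    · right
      rw [mul_inv_eq_iff_eq_mul] at h8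
      rw [h8]
      exact hUcm₁ r hrU₁ n hn
  have hcen : ∀ x ∈ W, (∀ n ∈ U₁, x * n * x⁻¹ = n) → x = 1 ∨ x = r := by
    rcases hW.irr r hW.mem hr1 (W ⊓ centralizer (U₁ : Set G)) inf_le_left
        ⟨hW.mem, mem_centralizer_iff.2 fun n hn => hU₁r n hn⟩ (by
      rintro c hc hcr a ⟨ha, ha'⟩
      exact ⟨hKW c hcr (hMC c hc hcr) a ha, conj_mem_of_normalizer
        (normalizer_le_normalizer_centralizer _ (hnU₁ (hMC c hc hcr))) ha'⟩) with h5 | h5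
    · intro x hx hx'
      exact h5 x ⟨hx, mem_centralizer_iff.2 fun n hn => (mul_inv_eq_iff_eq_mul.1 (hx' n hn)).symm⟩
    · exact absurd (mem_centralizer_iff.1 (h5 hw₂).2 _ hpU₁) hne
  have hmv : ∀ x ∈ W, (x ≠ 1 ∧ x ≠ r) → ∃ n ∈ U₁, x * n * x⁻¹ ≠ n := by
    rintro x hx ⟨hx1, hx2⟩
    by_contra hcon
    push Not at hcon
    rcases hcen x hx hcon with h5 | h5
    · exact hx1 h5
    · exact hx2 h5
  -- `W₁`
  obtain ⟨a, ha, c, hc, hna, hnc, hnac⟩ := natC_two hW hr2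
  obtain ⟨W₁, hW₁⟩ := natC_of_sylow S (fun s hs => mem_C.2 (hSy s hs)) hSr hr hr1 hUsq₁
    (hWC₁ a ha) (hWC₁ c hc) (hact a ha) (hact c hc) (hmv a ha hna) (hmv c hc hnc)
    (hmv _ (mul_mem ha hc) hnac)
  have hπW₁ : c₂ * r * c₂⁻¹ ∈ W₁ := by
    refine hW₁.adj r hW₁.mem hr1 w₂ (hWC₁ w₂ hw₂) (hact w₂ hw₂) c₂ (mem_C.2 hc₂) ?_
    intro e
    exact hne (mul_inv_eq_iff_eq_mul.1 e).symm
  have hW₁U : W₁ ≤ U₁ := hW₁.W_le
  have hW₁N : W₁ ≤ normalizer (R o : Set G) := fun x hx => (hNr x).2 (hU₁r x (hW₁U hx))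
  -- `K` normalises `W₁`
  have hKW₁ : ∀ c ∈ C₁, c * r = r * c → ∀ x ∈ W₁, c * x * c⁻¹ ∈ W₁ := by
    intro c hc hcr
    refine hW₁.blk c hc r hW₁.mem hr1 ?_
    rw [hcr, mul_inv_cancel_right]
    exact hW₁.mem
  -- (5)
  have hW₁Q : W₁ ≤ QQ (R o) := by
    rcases hW₁.irr r hW₁.mem hr1 (W₁ ⊓ QQ (R o)) inf_le_left ⟨hW₁.mem, ZQ_le o hrQ⟩ (by
      rintro c hc hcr x ⟨hx, hx'⟩
      exact ⟨hKW₁ c hc hcr x hx, conj_mem_of_normalizer (le_normalizer_O2 _ ((hNr c).2 hcr)) hx'⟩) with h5 | h5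
    · refine le_Q_of_comm b hr hW₁N fun w hw q hq => ?_
      have h6 : w * q * w⁻¹ ∈ QQ (R o) := conj_mem_of_normalizer (le_normalizer_O2 _ (hW₁N hw)) hq
      have hqr : q * r = r * q := ZQ_comm hrQ hq
      have h7 : q * w⁻¹ * q⁻¹ ∈ W₁ := hKW₁ q (hQy q hq) hqr _ (inv_mem hw)
      have h8 : w * q * w⁻¹ * q⁻¹ ∈ W₁ := by
        have e : w * q * w⁻¹ * q⁻¹ = w * (q * w⁻¹ * q⁻¹) := by group
        rw [e]; exact mul_mem hw h7
      exact (hr _).2 (h5 _ ⟨h8, (QQ (R o)).mul_mem h6 ((QQ (R o)).inv_mem hq)⟩)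
    · exact h5.trans inf_le_right
  -- (6)
  have hW₁V : ∃ x ∈ W₁, x ∉ centralizer (V : Set G) := by
    by_contra hcon
    push Not at hcon
    rcases hW.irr r hW.mem hr1 (W ⊓ centralizer (W₁ : Set G)) inf_le_left
        ⟨hW.mem, mem_centralizer_iff.2 fun n hn => hU₁r n (hW₁U hn)⟩ (by
      rintro c hc hcr a ⟨ha, ha'⟩
      refine ⟨hKW c hcr (hMC c hc hcr) a ha, mem_centralizer_iff.2 fun x hx => ?_⟩
      have hci : c⁻¹ * r = r * c⁻¹ := by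
        rw [inv_mul_eq_iff_eq_mul, ← mul_assoc, hcr, mul_inv_cancel_right]
      have h1 := hKW₁ c⁻¹ (inv_mem (hMC c hc hcr)) hci x hx
      rw [inv_inv] at h1
      have h2 := mem_centralizer_iff.1 ha' _ h1
      calc x * (c * a * c⁻¹) = c * ((c⁻¹ * x * c) * a) * c⁻¹ := by group
        _ = c * (a * (c⁻¹ * x * c)) * c⁻¹ := by rw [h2]
        _ = c * a * c⁻¹ * x := by group) with h5 | h5
    · -- `V ≤ {1, r}`
      obtain ⟨j, -, hj, -, -⟩ := b.one_lt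
      obtain ⟨e, he, he1⟩ := b.exists_ne j
      have heV := b.R_le j he
      have h6 : e ∈ centralizer (W₁ : Set G) := mem_centralizer_iff.2 fun x hx =>
        (mem_centralizer_iff.1 (hcon x hx) e heV).symm
      rcases h5 e ⟨hVW heV, h6⟩ with h7 | h7
      · exact he1 h7
      · apply he1
        refine b.eq_one (Ne.symm hj) ?_ he
        rw [h7]; exact hrR
    · exact hne (mem_centralizer_iff.1 (h5 hw₂).2 _ hπW₁)
  obtain ⟨x, hx, hxV⟩ := hW₁V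
  obtain ⟨j, -, hj, -, -⟩ := b.one_lt
  have hW₁Z : ∀ x ∈ W₁, x ∈ ZQ R o → x ∈ R o := by
    rcases hW₁.irr r hW₁.mem hr1 (W₁ ⊓ ZQ R o) inf_le_left ⟨hW₁.mem, hrQ⟩ (by
      rintro c hc hcr x ⟨hx, hx'⟩
      exact ⟨hKW₁ c hc hcr x hx, conj_mem_of_normalizer (N_le_NZQ o ((hNr c).2 hcr)) hx'⟩) with h5 | h5
    · exact fun x hx hx' => (hr x).2 (h5 x ⟨hx, hx'⟩)
    · exact absurd (ZQ_le_cen b.toBT o (h5 hx).2) hxV
  refine lemX_false bs hLE (Ne.symm hj) (fun x hx => (hr x).1 hx) hW₁Q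
    (fun a ha c hc => hUcm₁ a (hW₁U ha) c (hW₁U hc)) (j := j) ?_ hx hxV hW₁Z hzX hz1
  intro e he x hx
  have her : e * r = r * e := (mem_centralizer_iff.1 (EE_le_cen j he) r (b.R_le o hrR)).symm
  have hez : e ∈ centralizer ({z} : Set G) := mem_C.2 (cenX_Q bs (hLE j) hzX (EE_le_Q j he)).symm
  exact hKW₁ e ((hCzy e her).1 hez) her x hx

/-- **#15368**, `|T| ≥ 4` -/
theorem not_alpha_aux {z : G} (hz : z ∈ zc (S : Subgroup G) ⊓ centralizer (P : Set G)) (hz1 : z ≠ 1) :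
    ¬ UM V (MP V R o z) ≤ QQ (R o) := by
  intro hα
  have hLE := Alpha.HT.le_all b
  have bs := b.toBTS
  have d := b.dt hz hz1
  have hr1 := r_ne b hr
  have hr2 := r_sq b hr
  have hrR := r_mem b hr
  have hNr := fun g => @mem_N_iff G _ ι _ S P V R o b r hr g
  obtain ⟨M, hM⟩ : ∃ M, M = MP V R o z := ⟨_, rfl⟩
  have hMz : M ≤ centralizer ({z} : Set G) := by rw [hM]; exact MP_le b hr hz hz1
  have hKM : normalizer (R o : Set G) ⊓ centralizer ({z} : Set G) ≤ M := by rw [hM]; exact le_sup_left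
  have hXM : XX V R ≤ M := by rw [hM]; exact le_sup_right
  have hz2 : z * z = 1 := by rw [← pow_two]; exact (mem_zc.1 hz.1).2.2
  have hSz : ∀ s ∈ (S : Subgroup G), s * z = z * s := (mem_zc.1 hz.1).2.1
  have hSr : ∀ s ∈ (S : Subgroup G), s * r = r * s := fun s hs => (hNr s).1 (b.S_R hs)
  have hzX : z ∈ CenX V R := b.cz_le hz
  have hzQ : z ∈ ZQ R o := cenX_le_ZQ bs hLE o hzX
  have hrQ : r ∈ ZQ R o := R_le_ZQ b.toBT o hrR
  have hQz : ∀ q ∈ QQ (R o), q ∈ centralizer ({z} : Set G) := fun q hq => mem_C.2 (ZQ_comm hzQ hq)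
  have hQM : ∀ q ∈ QQ (R o), q ∈ M := fun q hq => hKM ⟨b.Q_le o hq, hQz q hq⟩
  have hSM : (S : Subgroup G) ≤ M := fun s hs => hKM ⟨b.S_R hs, mem_C.2 (hSz s hs)⟩
  rw [← hM] at hα
  obtain ⟨a, ha, c, hc, hna, hnc, hnac⟩ := alpha_two b hLE hz hz1 hKM hα
  have hUeq : cl (R o) M = UM V M := b.cl_R_eq (b.trans_of_X hXM)
  rw [← hUeq] at hα hna hnc hnac
  have hUz := cl_le_zc b hr hz1 hz2 hSz
  have hUle : cl (R o) M ≤ cl (R o) (centralizer ({z} : Set G)) := iSup_le fun m => cj_le_cl (hMz m.2)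
  set Uf := cl (R o) (centralizer ({z} : Set G)) with hUf
  have hUfcm : ∀ x ∈ Uf, ∀ y ∈ Uf, x * y = y * x := fun x hx y hy =>
    (mem_zc.1 (hUz hy)).2.1 x (zc_le _ (hUz hx))
  set U := cl (R o) M with hU
  have hUsq : ∀ x ∈ U, x * x = 1 := fun x hx => by
    rw [← pow_two]; exact (mem_zc.1 (hUz (hUle hx))).2.2
  -- `Q o` acts on `U` as transvections
  have hQU : ∀ q ∈ QQ (R o), ∀ n ∈ U, q * n * q⁻¹ = n ∨ q * n * q⁻¹ = n * r := by
    intro q hq n hn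
    have h5 := Q_comm bs (hLE o) hq (hα hn)
    rcases (hr _).1 h5 with h6 | h6
    · left; exact mul_inv_eq_one.1 h6
    · right
      rw [mul_inv_eq_iff_eq_mul] at h6
      rw [h6]
      exact (b.QR o n (hα hn) r hrR).symm
  have hmv : ∀ q : G, q ∉ centralizer (U : Set G) → ∃ n ∈ U, q * n * q⁻¹ ≠ n := by
    intro q hq
    by_contra hcon
    push Not at hcon
    exact hq (mem_centralizer_iff.2 fun n hn => (mul_inv_eq_iff_eq_mul.1 (hcon n hn)).symm)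
  obtain ⟨W, hW⟩ := natC_of_sylow S hSM hSr hr hr1 hUsq (hQM a ha)
    (hQM c hc) (hQU a ha) (hQU c hc) (hmv a hna) (hmv c hnc) (hmv _ hnac)
  rw [← hU] at hW
  have hWU : W ≤ U := hW.W_le
  have hWQ : W ≤ QQ (R o) := hWU.trans hα
  -- `V ≤ W`
  have hVW : V ≤ W := by
    obtain ⟨t, ht, v, hv, hne⟩ := exists_mv b hr
    have hv1 : v ≠ 1 := by
      rintro rfl
      exact hne (by rw [mul_one, one_mul])
    obtain ⟨c, hc, e⟩ := exists_conj_X b hr hv hv1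
    have h1 := hW.adj r hW.mem hr1 t (hQM t ht) (hQU t ht) c (hXM hc) (by
      rw [e]
      intro h
      exact hne (mul_inv_eq_iff_eq_mul.1 h))
    rw [e] at h1
    have h2 := cj_V_le b hr (k := 1) (one_mem _) hW.mem (v := v) (by rw [cj_one]; exact hv) (by
      intro hvo
      apply hne
      have h3 := ((hr v).1 hvo).resolve_left hv1
      rw [h3]
      exact b.QR o t ht r hrR) h1
    rwa [cj_one] at h2
  have hKW : ∀ c : G, c * r = r * c → c * z = z * c → ∀ x ∈ W, c * x * c⁻¹ ∈ W := by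
    intro c hcr hc
    refine hW.blk c (hKM ⟨(hNr c).2 hcr, mem_C.2 hc⟩) r hW.mem hr1 ?_
    rw [hcr, mul_inv_cancel_right]
    exact hW.mem
  -- `V^h`
  obtain ⟨h, hh, a₀, ha₀, c₀, hc₀, hne₀⟩ := exists_h b hr
  have hhr : h * r = r * h := (hNr h).1 hh
  have hhr' : h⁻¹ * r = r * h⁻¹ := (hNr h⁻¹).1 (inv_mem hh)
  obtain ⟨y, hy⟩ : ∃ y, y = h * z * h⁻¹ := ⟨_, rfl⟩
  have hzy : z = h⁻¹ * y * h := by rw [hy]; group
  have hyQ : y ∈ ZQ R o := by rw [hy]; exact conj_mem_of_normalizer (N_le_NZQ o hh) hzQ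
  have hyy : y * y = 1 := by
    rw [hy]
    calc h * z * h⁻¹ * (h * z * h⁻¹) = h * (z * z) * h⁻¹ := by group
      _ = 1 := by rw [hz2, mul_one, mul_inv_cancel]
  have hcV : c₀ ∉ centralizer (V : Set G) := fun hc => hne₀ (mem_centralizer_iff.1 hc a₀ ha₀)
  have hW'n : ∀ c : G, c * y = y * c → c * r = r * c → ∀ x ∈ cj h W, c * x * c⁻¹ ∈ cj h W := by
    rintro c hcy hcr _ ⟨x, hx, rfl⟩
    change c * (h * x * h⁻¹) * c⁻¹ ∈ cj h W
    have h1 : (h⁻¹ * c * h) * z = z * (h⁻¹ * c * h) := by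
      rw [hzy]
      calc h⁻¹ * c * h * (h⁻¹ * y * h) = h⁻¹ * (c * y) * h := by group
        _ = h⁻¹ * (y * c) * h := by rw [hcy]
        _ = _ := by group
    have h2 : (h⁻¹ * c * h) * r = r * (h⁻¹ * c * h) := by
      calc h⁻¹ * c * h * r = h⁻¹ * c * (h * r) := by group
        _ = h⁻¹ * (c * r) * h := by rw [hhr]; group
        _ = (h⁻¹ * r) * c * h := by rw [hcr]; group
        _ = r * (h⁻¹ * c * h) := by rw [hhr']; group
    have h3 := hKW _ h2 h1 x hx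
    have e : c * (h * x * h⁻¹) * c⁻¹ = h * (h⁻¹ * c * h * x * (h⁻¹ * c * h)⁻¹) * h⁻¹ := by group
    rw [e]
    exact conj_mem_cj h3
  have hW'Q : cj h W ≤ QQ (R o) := by
    have h1 := cj_mono (g := h) hWQ
    rwa [cj_eq_self_iff.2 (le_normalizer_O2 _ hh)] at h1
  have hW'sq : ∀ x ∈ cj h W, x * x = 1 := by
    rintro _ ⟨x, hx, rfl⟩
    change h * x * h⁻¹ * (h * x * h⁻¹) = 1
    calc h * x * h⁻¹ * (h * x * h⁻¹) = h * (x * x) * h⁻¹ := by group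
      _ = 1 := by rw [hW.sq x hx, mul_one, mul_inv_cancel]
  obtain ⟨j, -, hj, -, -⟩ := b.one_lt
  rcases four' bs hj hr hyy hyQ hW'Q hW'sq hW'n (by
    rintro _ ⟨w, hw, rfl⟩ hw1
    change h * w * h⁻¹ ≠ 1 at hw1
    have hw1' : w ≠ 1 := fun e => hw1 (by rw [e, mul_one, mul_inv_cancel])
    obtain ⟨k, hk, e⟩ := hW.pt w hw hw1'
    have hkz := mem_C.1 (hMz hk)
    refine ⟨h * k * h⁻¹, ?_, ?_, ?_⟩
    · rw [hy]
      calc h * k * h⁻¹ * (h * z * h⁻¹) = h * (k * z) * h⁻¹ := by group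
        _ = h * (z * k) * h⁻¹ := by rw [hkz]
        _ = _ := by group
    · change _ = h * w * h⁻¹
      calc h * k * h⁻¹ * r * (h * k * h⁻¹)⁻¹ = h * k * (h⁻¹ * r) * h * k⁻¹ * h⁻¹ := by group
        _ = h * (k * r * k⁻¹) * h⁻¹ := by rw [hhr']; group
        _ = h * w * h⁻¹ := by rw [e]
    · rintro _ ⟨x, hx, rfl⟩
      change (h * k * h⁻¹)⁻¹ * (h * x * h⁻¹) * (h * k * h⁻¹) ∈ cj h W
      have h1 := hW.blk k⁻¹ (inv_mem hk) w hw hw1' (by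
        rw [← e]
        have e2 : k⁻¹ * (k * r * k⁻¹) * k⁻¹⁻¹ = r := by group
        rw [e2]; exact hW.mem) x hx
      have e2 : (h * k * h⁻¹)⁻¹ * (h * x * h⁻¹) * (h * k * h⁻¹) = h * (k⁻¹ * x * k⁻¹⁻¹) * h⁻¹ := by group
      rw [e2]
      exact conj_mem_cj h1) (cj_mono hVW hc₀) hcV with ⟨a, ha, hX⟩ | ⟨w₁, hw₁, c₁, hc₁, hne₁⟩
  · rcases (hr a).1 ha with rfl | rfl
    · -- `y ∈ C_X`
      rw [one_mul] at hX
      have e1 : cl (R o) (centralizer ({y} : Set G)) = cj h Uf := by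
        rw [hUf, AlphaFive.cj_cl, AlphaFive.cj_C, ← hy, cj_eq_self_iff.2 hh]
      have h1 : V ≤ cj h Uf := by
        rw [← e1]
        have := AlphaFive.cj_le_cl_of b hr (k := 1) (y := y) (one_mem _) (by rw [cj_one]; exact hX)
        rwa [cj_one] at this
      have h2 : cj h V ≤ cj h Uf := by
        apply cj_mono
        have := AlphaFive.cj_le_cl_of b hr (k := 1) (y := z) (one_mem _) (by rw [cj_one]; exact hzX)
        rwa [cj_one] at this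
      apply hne₀
      obtain ⟨x, hx, e3⟩ := h1 ha₀
      obtain ⟨x', hx', e4⟩ := h2 hc₀
      rw [← e3, ← e4]
      change h * x * h⁻¹ * (h * x' * h⁻¹) = h * x' * h⁻¹ * (h * x * h⁻¹)
      calc h * x * h⁻¹ * (h * x' * h⁻¹) = h * (x * x') * h⁻¹ := by group
        _ = h * (x' * x) * h⁻¹ := by rw [hUfcm x hx x' hx']
        _ = _ := by group
    · -- `r y ∈ C_X`
      refine lemX_false bs hLE (Ne.symm hj) (fun x hx => (hr x).1 hx) hW'Q
        (fun a ha c hc => Omega.TV.EA.comm_of hW'sq ha hc) (j := j) ?_ (cj_mono hVW hc₀) hcV ?_ hzX hz1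
      · intro e he
        have her : e * a = a * e := (mem_centralizer_iff.1 (EE_le_cen j he) a (b.R_le o hrR)).symm
        refine hW'n e ?_ her
        have h1 : a * y * e = e * (a * y) := cenX_Q bs (hLE j) hX (EE_le_Q j he)
        have h2 : a * (y * e) = a * (e * y) := by
          rw [← mul_assoc, h1, ← mul_assoc, her, mul_assoc]
        exact (mul_left_cancel h2).symm
      · have h0 : ∀ x ∈ W, x ∈ ZQ R o → x = 1 ∨ x = a := by
          rcases hW.irr a hW.mem hr1 (W ⊓ ZQ R o) inf_le_left ⟨hW.mem, hrQ⟩ (by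
            rintro c hc hcr x ⟨hx, hx'⟩
            exact ⟨hKW c hcr (mem_C.1 (hMz hc)) x hx,
              conj_mem_of_normalizer (N_le_NZQ o ((hNr c).2 hcr)) hx'⟩) with h5 | h5
          · exact fun x hx hx' => h5 x ⟨hx, hx'⟩
          · exfalso
            obtain ⟨t, ht, v, hv, hne⟩ := exists_mv b hr
            exact hne (ZQ_comm (h5 (hVW hv)).2 ht)
        rintro _ ⟨x, hx, rfl⟩ hxZ
        change h * x * h⁻¹ ∈ ZQ R o at hxZ
        change h * x * h⁻¹ ∈ R o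
        have h1 : x ∈ ZQ R o := by
          have h2 := conj_inv_mem_of_normalizer (N_le_NZQ o hh) hxZ
          have e : h⁻¹ * (h * x * h⁻¹) * h = x := by group
          rwa [e] at h2
        exact conj_mem_of_normalizer hh ((hr x).2 (h0 x hx h1))
  · -- conjugate back
    obtain ⟨w₂, hw₂, rfl⟩ := hw₁
    change c₁ * r * c₁⁻¹ * (h * w₂ * h⁻¹) ≠ h * w₂ * h⁻¹ * (c₁ * r * c₁⁻¹) at hne₁
    rw [hM] at hW
    refine part_B b hr hLE hz hz1 hW hWQ hVW (w₂ := w₂) (c₂ := h⁻¹ * c₁ * h) hw₂ ?_ ?_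
    · have e : z * r = h⁻¹ * (y * r) * h := by
        rw [hzy]
        calc h⁻¹ * y * h * r = h⁻¹ * y * (h * r) := by group
          _ = h⁻¹ * (y * r) * h := by rw [hhr]; group
      rw [e]
      calc h⁻¹ * c₁ * h * (h⁻¹ * (y * r) * h) = h⁻¹ * (c₁ * (y * r)) * h := by group
        _ = h⁻¹ * (y * r * c₁) * h := by rw [hc₁]
        _ = _ := by group
    · intro e
      apply hne₁
      have e1 : h⁻¹ * c₁ * h * r * (h⁻¹ * c₁ * h)⁻¹ = h⁻¹ * (c₁ * r * c₁⁻¹) * h := by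
        calc h⁻¹ * c₁ * h * r * (h⁻¹ * c₁ * h)⁻¹ = h⁻¹ * c₁ * (h * r) * h⁻¹ * c₁⁻¹ * h := by group
          _ = _ := by rw [hhr]; group
      rw [e1] at e
      calc c₁ * r * c₁⁻¹ * (h * w₂ * h⁻¹) = h * (h⁻¹ * (c₁ * r * c₁⁻¹) * h * w₂) * h⁻¹ := by group
        _ = h * (w₂ * (h⁻¹ * (c₁ * r * c₁⁻¹) * h)) * h⁻¹ := by rw [e]
        _ = _ := by group

end two

/-- **(α) is dead for the small group `M' = ⟨C_{H₁}(z), X⟩`** (#14489, #15368) -/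
theorem not_alpha' {G : Type u} [Group G] [Finite G] {ι : Type*} {S : Sylow 2 G} {P V : Subgroup G}
    {R : ι → Subgroup G} {o : ι} (b : HT S P V R o) {z : G}
    (hz : z ∈ zc (S : Subgroup G) ⊓ centralizer (P : Set G)) (hz1 : z ≠ 1) :
    ¬ UM V (MP V R o z) ≤ QQ (R o) := by
  obtain ⟨r, hr1, hrr, hr⟩ := b.exists_gen o
  exact not_alpha_aux b hr hz hz1

end Cfsg.Agent.Omega.HTwo.AlphaP
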