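import Cfsg.Agent.Omega.HTwo.Hat
import Cfsg.Agent.Omega.HOneTwo.Dich
import Cfsg.Agent.MinSimple.LemXPerm

/-!
# II.0h1, `q = 2`, case (α) (#14489, helper257): (1), (2), (3)

* `core_of_sylow` : `O₂(M / C_M(U)) = 1` for `U = ⟨p^M⟩`, `p` centralised by a Sylow group `T ≤ M`;
* `ZQ_swap` = (F2) : `[n, n^w] = 1` for an involution `n ∈ Z(Q i)` and `w ∈ Q m` with `(R i)^w = R j`;
* `ZQ_not_RC` = (F3);
* `alpha_two` = (2) : `Q o` induces more than one transvection on `U = ⟨V^{C(z)}⟩`.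
-/

set_option autoImplicit false
set_option linter.unusedSectionVars false

namespace Cfsg.Agent.Omega.HTwo.AlphaOne

open Subgroup Cfsg Cfsg.Agent.ZN Cfsg.Agent.Omega.BTwo
open Cfsg.Agent.Omega.MinPar Cfsg.Agent.Omega.HOneTwo Cfsg.Agent.Omega.HTwo.Hat Cfsg.Agent.Omega.HTwo.ThmA
open Cfsg.Agent.Omega.HTwo.Par

universe u

section core

variable {G : Type u} [Group G]

/-- `O₂(M / C_M(U)) = 1` -/
theorem core_of_sylow [Finite G] (T : Sylow 2 G) {M U O : Subgroup G} (hTM : (T : Subgroup G) ≤ M)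
    (hMU : M ≤ normalizer (U : Set G)) {p : G} (hpU : p ∈ U) (hpT : ∀ t ∈ (T : Subgroup G), p * t = t * p)
    (hU : U ≤ Subgroup.closure {x | ∃ m ∈ M, m * p * m⁻¹ = x}) (hOM : O ≤ M)
    (hMO : M ≤ normalizer (O : Set G)) (hO : ∀ x ∈ O, ∃ k : ℕ, x ^ 2 ^ k ∈ centralizer (U : Set G)) :
    O ≤ centralizer (U : Set G) := by
  have hf : Fact (Nat.Prime 2) := ⟨Nat.prime_two⟩
  have hTs : ¬ 2 ∣ (T : Subgroup G).relIndex M := MinSimple.Basic.not_dvd_relIndex T hTM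
  -- `O ≤ C(U) (T ∩ O)`
  have hCM : M ≤ normalizer (centralizer (U : Set G) : Set G) :=
    hMU.trans (normalizer_le_normalizer_centralizer U)
  have h1 : IsPGroup 2 ((T : Subgroup G).subgroupOf M) := T.isPGroup'.comap_of_injective _ M.subtype_injective
  have hn : (O.subgroupOf M).Normal := normal_subgroupOf_of_le_normalizer hMO
  have hn2 : ((M ⊓ centralizer (U : Set G)).subgroupOf M).Normal :=
    normal_subgroupOf_of_le_normalizer (le_trans (le_inf le_normalizer hCM) inf_normalizer_le_normalizer_inf)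
  have h2 := Lib.SylowNormalInf.le_sup_inf (h1.toSylow hTs : Sylow 2 M)
    (O.subgroupOf M) ((M ⊓ centralizer (U : Set G)).subgroupOf M) (fun x hx => by
      obtain ⟨k, hk⟩ := hO x hx
      exact ⟨k, (x ^ 2 ^ k).2, hk⟩)
  have h3 := Subgroup.map_mono (f := M.subtype) h2
  rw [subgroupOf_map_subtype, inf_eq_left.mpr hOM, Subgroup.map_sup, subgroupOf_map_subtype] at h3
  have h4 : O ≤ centralizer (U : Set G) ⊔ ((T : Subgroup G) ⊓ O) := by
    refine h3.trans (sup_le_sup (inf_le_left.trans inf_le_right) ?_)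
    rintro _ ⟨x, hx, rfl⟩
    exact hx
  -- `U ≤ C(T ∩ O)`
  have h5 : U ≤ centralizer (((T : Subgroup G) ⊓ O : Subgroup G) : Set G) := by
    refine hU.trans ((closure_le _).2 ?_)
    rintro _ ⟨m, hm, rfl⟩
    obtain ⟨l, hl, n, hn, rfl⟩ := MinSimple.LemXPerm.exists_frattini hTM T.isPGroup' hTs hMO hm
    -- `l = c t`
    have h6 := h4 hl
    have h8 : l ∈ ((centralizer (U : Set G) ⊔ ((T : Subgroup G) ⊓ O) : Subgroup G) : Set G) := h6
    rw [coe_mul_of_right_le_normalizer_left _ _ ((inf_le_left.trans hTM).trans hCM)] at h8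
    obtain ⟨c, hc, t, ht, rfl⟩ := h8
    -- `t n = n' ∈ N(T ∩ O)`
    have hnU : (t * n) * p * (t * n)⁻¹ ∈ U :=
      conj_mem_of_normalizer (hMU (mul_mem (hTM ht.1) hn.1)) hpU
    have e1 : c * t * n * p * (c * t * n)⁻¹ = (t * n) * p * (t * n)⁻¹ := by
      have := mem_centralizer_iff.1 hc _ hnU
      calc c * t * n * p * (c * t * n)⁻¹ = c * ((t * n) * p * (t * n)⁻¹) * c⁻¹ := by group
        _ = _ := by rw [← this, mul_inv_cancel_right]
    change c * t * n * p * (c * t * n)⁻¹ ∈ _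
    rw [e1, SetLike.mem_coe, mem_centralizer_iff]
    intro s hs
    have htn : t * n ∈ normalizer (((T : Subgroup G) ⊓ O : Subgroup G) : Set G) :=
      mul_mem (le_normalizer ht) hn.2
    have h9 := conj_inv_mem_of_normalizer htn hs
    have h10 := hpT _ h9.1
    calc s * (t * n * p * (t * n)⁻¹) = t * n * ((t * n)⁻¹ * s * (t * n) * p) * (t * n)⁻¹ := by group
      _ = t * n * (p * ((t * n)⁻¹ * s * (t * n))) * (t * n)⁻¹ := by rw [h10]
      _ = _ := by group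
  exact h4.trans (sup_le le_rfl (le_centralizer_iff.1 h5))

/-- a 2-subgroup of `L ≥ S` is conjugate in `L` into `S` -/
theorem exists_cj_S [Finite G] (T : Sylow 2 G) {L B : Subgroup G} (hTL : (T : Subgroup G) ≤ L) (hBL : B ≤ L) (hB : IsPGroup 2 B) :
    ∃ g ∈ L, B ≤ cj g (T : Subgroup G) := by
  have hf : Fact (Nat.Prime 2) := ⟨Nat.prime_two⟩
  have hTs : ¬ 2 ∣ (T : Subgroup G).relIndex L := MinSimple.Basic.not_dvd_relIndex T hTL
  have h1 : IsPGroup 2 ((T : Subgroup G).subgroupOf L) := T.isPGroup'.comap_of_injective _ L.subtype_injective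
  have h2 : IsPGroup 2 (B.subgroupOf L) := hB.comap_of_injective _ L.subtype_injective
  obtain ⟨Q, hQ⟩ := h2.exists_le_sylow
  obtain ⟨g, hg⟩ := MulAction.exists_smul_eq L (h1.toSylow hTs : Sylow 2 L) Q
  refine ⟨g, g.2, ?_⟩
  intro x hx
  have h3 : (⟨x, hBL hx⟩ : L) ∈ (Q : Subgroup L) := hQ (mem_subgroupOf.2 hx)
  rw [← hg] at h3
  rw [mem_cj]
  have h4 : g⁻¹ * ⟨x, hBL hx⟩ * g ∈ ((h1.toSylow hTs : Sylow 2 L) : Subgroup L) := by
    rw [Sylow.coe_subgroup_smul, ← SetLike.mem_coe, Subgroup.coe_pointwise_smul,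
      Set.mem_smul_set_iff_inv_smul_mem] at h3
    have h5 : g⁻¹ * ⟨x, hBL hx⟩ * g ∈ (h1.toSylow hTs : Sylow 2 L) := by
      simpa [MulAut.smul_def] using h3
    exact h5
  exact mem_subgroupOf.1 h4

end core

section swap

variable {G : Type*} [Group G] [Finite G] {ι : Type*} {V : Subgroup G} {R : ι → Subgroup G}

/-- (F2) -/
theorem ZQ_swap (b : BTS V R) (h : ∀ i, LE V R i) {i j m : ι} (hij : i ≠ j)
    {w : G} (hw : w ∈ QQ (R m)) (hwj : cj w (R i) = R j) {n : G} (hn : n ∈ ZQ R i) (hnn : n * n = 1) :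
    n * (w * n * w⁻¹) = w * n * w⁻¹ * n := by
  have hn2 : w * n * w⁻¹ ∈ ZQ R j := by
    rw [← cj_ZQ b.toBT hwj]; exact conj_mem_cj hn
  have hnV := ZQ_le_cen b.toBT i hn
  have hn2V := ZQ_le_cen b.toBT j hn2
  have hinv : n⁻¹ = n := inv_eq_of_mul_eq_one_left hnn
  have hinv2 : (w * n * w⁻¹)⁻¹ = w * n * w⁻¹ := by
    rw [mul_inv_rev, mul_inv_rev, inv_inv, hinv, mul_assoc]
  -- the product lies in `Q m`
  have h1 : n * (w * n * w⁻¹) ∈ QQ (R m) := by
    have h2 := conj_mem_of_normalizer (cen_le_NQ b.toBT m hnV) hw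
    have e : n * (w * n * w⁻¹) = n * w * n⁻¹ * w⁻¹ := by rw [hinv]; group
    rw [e]
    exact mul_mem h2 (inv_mem hw)
  have h2 := Q_sq b (h m) h1
  -- the commutator lies in `C_X`
  have h3 : n * (w * n * w⁻¹) * n⁻¹ * (w * n * w⁻¹)⁻¹ ∈ CenX V R := by
    rw [← ZQ_inf b h hij]
    refine ⟨?_, ?_⟩
    · exact comm_mem_of' hn (N_le_NZQ i (b.cen_le_N i hn2V))
    · exact comm_mem_of hn2 (N_le_NZQ j (b.cen_le_N j hnV))
  have e : n * (w * n * w⁻¹) * n⁻¹ * (w * n * w⁻¹)⁻¹ = n * (w * n * w⁻¹) * (n * (w * n * w⁻¹)) := by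
    rw [hinv2, hinv]; group
  rw [e] at h3
  have h4 := b.cen_VX (b.R_le m h2) h3
  have h5 : n * (w * n * w⁻¹) = (n * (w * n * w⁻¹))⁻¹ := eq_inv_of_mul_eq_one_left h4
  rw [mul_inv_rev, hinv, hinv2] at h5
  exact h5

/-- (F3) `Z(Q i)` is not contained in `R i × C_X`, if `C_X ≠ 1` -/
theorem ZQ_not_RC (b : BTS V R) (h : ∀ i, LE V R i) {z : G} (hz : z ∈ CenX V R) (hz1 : z ≠ 1) (i : ι)
    (hc : ∀ l ∈ ZQ R i, ∃ a ∈ R i, a * l ∈ CenX V R) : False := by
  have h1 := h i (ZQ R i) hc (N_le_NZQ i)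
  have h2 : z ∈ R i := h1 (cenX_le_ZQ b h i hz)
  exact hz1 (b.cen_VX (b.R_le i h2) hz)

end swap

section two

variable {G : Type u} [Group G] [Finite G] {ι : Type*} {S : Sylow 2 G} {P V : Subgroup G} {R : ι → Subgroup G} {o : ι}
  (b : HT S P V R o)
include b

/-- the product of elements of different points lies in the third -/
theorem mul_mem_third {i j k : ι} (hij : i ≠ j) (hik : i ≠ k) (hjk : j ≠ k) {x y : G} (hx : x ∈ R j) (hx1 : x ≠ 1)
    (hy : y ∈ R k) (hy1 : y ≠ 1) : x * y⁻¹ ∈ R i := by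
  obtain ⟨l, hl⟩ := b.R_cov (x * y⁻¹) (mul_mem (b.R_le j hx) (inv_mem (b.R_le k hy)))
  have hne : x * y⁻¹ ≠ 1 := by
    intro h
    rw [mul_inv_eq_one] at h
    subst h
    exact hx1 (b.eq_one hjk hx hy)
  rcases b.eq_of_ne hij hik hjk (l := l) with rfl | rfl | rfl
  · exact hl
  · exfalso
    have h1 : y⁻¹ ∈ R l := by
      have := mul_mem (inv_mem hx) hl
      rwa [inv_mul_cancel_left] at this
    exact hy1 (b.eq_one hjk (by simpa using inv_mem h1) hy)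
  · exfalso
    have h1 : x ∈ R l := by
      have := mul_mem hl hy
      rwa [inv_mul_cancel_right] at this
    exact hx1 (b.eq_one hjk hx h1)

/-- an element of `N(V) ∩ N(R o)` acts trivially on `V / R o` -/
theorem comm_mem_R {s v : G} (hsV : s ∈ normalizer (V : Set G)) (hsR : s ∈ normalizer (R o : Set G)) (hv : v ∈ V) :
    s * v * s⁻¹ * v⁻¹ ∈ R o := by
  obtain ⟨l, hl⟩ := b.R_cov v hv
  by_cases hlo : l = o
  · subst hlo
    exact mul_mem (conj_mem_of_normalizer hsR hl) (inv_mem hl)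
  by_cases hv1 : v = 1
  · subst hv1
    have : s * 1 * s⁻¹ * 1⁻¹ = (1 : G) := by group
    rw [this]; exact one_mem _
  obtain ⟨m, hm⟩ := b.perm s hsV l
  have h1 : s * v * s⁻¹ ∈ R m := by rw [← hm]; exact conj_mem_cj hl
  have hmo : m ≠ o := by
    rintro rfl
    exact hlo (b.R_index (cj_injective (hm.trans (cj_eq_self_iff.2 hsR).symm)))
  have hne : s * v * s⁻¹ ≠ 1 := fun h => hv1 (conj_eq_one_iff.1 h)
  by_cases hml : m = l
  · subst hml
    have h2 : s * v * s⁻¹ = v := eq_of_card_two (b.card_R m) hl hv1 h1 hne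
    rw [h2, mul_inv_cancel]; exact one_mem _
  · exact mul_mem_third b (Ne.symm hmo) (Ne.symm hlo) hml h1 hne hl hv1

/-- **(2)** of #14489 -/
theorem alpha_two (h : ∀ i, LE V R i) {z : G}
    (hz : z ∈ zc (S : Subgroup G) ⊓ centralizer (P : Set G)) (hz1 : z ≠ 1)
    (hα : UM V (centralizer ({z} : Set G)) ≤ QQ (R o)) :
    ∃ a ∈ QQ (R o), ∃ c ∈ QQ (R o), a ∉ centralizer (UM V (centralizer ({z} : Set G)) : Set G) ∧
      c ∉ centralizer (UM V (centralizer ({z} : Set G)) : Set G) ∧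
      a * c ∉ centralizer (UM V (centralizer ({z} : Set G)) : Set G) := by
  by_contra hcon
  push Not at hcon
  set M := centralizer ({z} : Set G) with hM
  set U := UM V M with hU
  obtain ⟨k, hk, H⟩ := b.mt o
  obtain ⟨j, m, hj, hm, hjm⟩ := b.one_lt
  obtain ⟨-, v, hv, ev⟩ := H j m hj hm
  have hzz : z * z = 1 := by rw [← pow_two]; exact (mem_zc.1 hz.1).2.2
  have hzX : z ∈ CenX V R := b.cz_le hz
  have d := b.dt hz hz1
  have hzQ : z ∈ ZQ R o := cenX_le_ZQ b.toBTS h o hzX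
  -- conjugate by `k⁻¹`
  have hk' : k⁻¹ ∈ normalizer (R o : Set G) := inv_mem hk
  set z₁ := k⁻¹ * z * k with hz₁
  have hz₁Q : z₁ ∈ ZQ R o := conj_inv_mem_of_normalizer (N_le_NZQ o hk) hzQ
  have hz₁1 : z₁ ≠ 1 := by
    intro h
    apply hz1
    have : z = k * z₁ * k⁻¹ := by rw [hz₁]; group
    rw [this, h, mul_one, mul_inv_cancel]
  have hz₁z₁ : z₁ * z₁ = 1 := by
    have : z₁ * z₁ = k⁻¹ * (z * z) * k := by rw [hz₁]; group
    rw [this, hzz, mul_one, inv_mul_cancel]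
  set U₁ := cj k⁻¹ U with hU₁
  have hQk : cj k⁻¹ (QQ (R o)) = QQ (R o) := cj_eq_self_iff.2 (le_normalizer_O2 _ hk')
  have hU₁Q : U₁ ≤ QQ (R o) := by
    rw [← hQk]; exact cj_mono hα
  have hone : ∀ a ∈ QQ (R o), ∀ c ∈ QQ (R o), a ∉ centralizer (U₁ : Set G) → c ∉ centralizer (U₁ : Set G) →
      a * c ∈ centralizer (U₁ : Set G) := by
    intro a ha c hc h1 h2
    rw [hU₁, centralizer_cj, mem_cj, inv_inv] at h1 h2 ⊢
    have h3 := hcon (k * a * k⁻¹) (conj_mem_of_normalizer (le_normalizer_O2 _ hk) ha) (k * c * k⁻¹)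
      (conj_mem_of_normalizer (le_normalizer_O2 _ hk) hc) h1 h2
    have e : k * a * k⁻¹ * (k * c * k⁻¹) = k * (a * c) * k⁻¹ := by group
    rwa [e] at h3
  -- `C(z₁)` normalises `U₁`
  have hMU : ∀ g, g * z₁ = z₁ * g → g ∈ normalizer (U₁ : Set G) := by
    intro g hg
    rw [hU₁, normalizer_cj, mem_cj, inv_inv]
    apply le_normalizer_cl V M
    rw [hM, mem_centralizer_singleton_iff]
    calc k * g * k⁻¹ * z = k * (g * z₁) * k⁻¹ := by rw [hz₁]; group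
      _ = k * (z₁ * g) * k⁻¹ := by rw [hg]
      _ = z * (k * g * k⁻¹) := by rw [hz₁]; group
  have hV₁ : cj k⁻¹ V ≤ U₁ := cj_mono (le_cl V M)
  -- `R j` does not centralise `U₁`
  obtain ⟨r₂, hr₂1, hr₂₂, hr₂⟩ := b.exists_gen j
  have hr₂j : r₂ ∈ R j := (hr₂ _).2 (Or.inr rfl)
  have hv₁ : k⁻¹ * v * k ∈ U₁ := by
    have := hV₁ (conj_mem_cj (g := k⁻¹) hv)
    rwa [inv_inv] at this
  have hr₂U : r₂ ∉ centralizer (U₁ : Set G) := by
    intro hc
    have h1 := mem_centralizer_iff.1 hc _ hv₁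
    have h2 : k⁻¹ * v * k * r₂ * (k⁻¹ * v * k)⁻¹ ∈ R m := by
      rw [← ev]; exact conj_mem_cj hr₂j
    rw [h1, mul_inv_cancel_right] at h2
    exact hr₂1 (b.eq_one hjm hr₂j h2)
  -- the group `B`
  have hBN : ZQ R j ≤ normalizer (R o : Set G) := (ZQ_le_cen b.toBT j).trans (b.cen_le_N o)
  set B := ZQ R j ⊓ centralizer ({z₁} : Set G) with hB
  have hBp : IsPGroup 2 B := (O2_isPGroup _).to_le (inf_le_left.trans (ZQ_le j))
  have key : ∀ x ∈ B, ∃ a ∈ R j, a * x ∈ CenX V R := by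
    -- a Sylow group
    set L := normalizer (R o : Set G) ⊓ centralizer ({z₁} : Set G) with hL
    have hSL : cj k⁻¹ (S : Subgroup G) ≤ L := by
      rintro _ ⟨s, hs, rfl⟩
      change k⁻¹ * s * k⁻¹⁻¹ ∈ L
      rw [inv_inv]
      refine ⟨mul_mem (mul_mem hk' (b.S_R hs)) hk, mem_centralizer_singleton_iff.2 ?_⟩
      have h1 : s * z = z * s := (mem_zc.1 hz.1).2.1 s hs
      calc k⁻¹ * s * k * z₁ = k⁻¹ * (s * z) * k := by rw [hz₁]; group
        _ = k⁻¹ * (z * s) * k := by rw [h1]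
        _ = _ := by rw [hz₁]; group
    have hSL' : ((k⁻¹ • S : Sylow 2 G) : Subgroup G) ≤ L := hSL
    obtain ⟨g, hg, hBg⟩ := exists_cj_S (k⁻¹ • S) hSL' (inf_le_inf_right _ hBN) hBp
    set k' := g * k⁻¹ with hk'd
    have hk'N : k' ∈ normalizer (R o : Set G) := mul_mem hg.1 hk'
    have hBS : ∀ x ∈ B, ∃ s ∈ (S : Subgroup G), x = k' * s * k'⁻¹ := by
      intro x hx
      obtain ⟨y, hy, rfl⟩ := hBg hx
      obtain ⟨s, hs, rfl⟩ : ∃ s ∈ (S : Subgroup G), k⁻¹ * s * k⁻¹⁻¹ = y := hy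
      refine ⟨s, hs, ?_⟩
      change g * (k⁻¹ * s * k⁻¹⁻¹) * g⁻¹ = _
      rw [hk'd]; group
    -- `V* = V^{k'} ≤ U₁`
    set a := k' * r₂ * k'⁻¹ with ha
    have haU : a ∈ U₁ := by
      have h1 := conj_mem_of_normalizer (hMU g (mem_centralizer_singleton_iff.1 hg.2))
        (hV₁ (conj_mem_cj (g := k⁻¹) (b.R_le j hr₂j)))
      have e : a = g * (k⁻¹ * r₂ * k⁻¹⁻¹) * g⁻¹ := by rw [ha, hk'd]; group
      rw [e]; exact h1
    -- an element of `Q o` moving `a`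
    obtain ⟨w, hw, ew⟩ := b.trans o hj hm
    have hwQ := b.W_le_Q o hw
    set q := k' * w * k'⁻¹ with hq
    have hqQ : q ∈ QQ (R o) := conj_mem_of_normalizer (le_normalizer_O2 _ hk'N) hwQ
    have hqa : q * a * q⁻¹ ≠ a := by
      intro h1
      have e : q * a * q⁻¹ = k' * (w * r₂ * w⁻¹) * k'⁻¹ := by rw [hq, ha]; group
      rw [e, ha] at h1
      have h2 : w * r₂ * w⁻¹ = r₂ := mul_left_cancel (mul_right_cancel h1)
      have h3 : w * r₂ * w⁻¹ ∈ R m := by rw [← ew]; exact conj_mem_cj hr₂j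
      rw [h2] at h3
      exact hr₂1 (b.eq_one hjm hr₂j h3)
    have hqU : q ∉ centralizer (U₁ : Set G) := by
      intro hc
      apply hqa
      rw [← mem_centralizer_iff.1 hc a haU, mul_inv_cancel_right]
    have hr₂Q : r₂ ∈ QQ (R o) := b.V_Q o (b.R_le j hr₂j)
    have h1 := hone r₂ hr₂Q q hqQ hr₂U hqU
    have hra : ¬ r₂ * a = a * r₂ := by
      intro h2
      apply hqa
      have h3 := mem_centralizer_iff.1 h1 a haU
      -- `a (r₂ q) = r₂ q a`
      have h4 : r₂ * (a * q) = r₂ * (q * a) := by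
        rw [← mul_assoc, h2, mul_assoc, h3, mul_assoc]
      have h5 := mul_left_cancel h4
      rw [← h5, mul_inv_cancel_right]
    -- `a` maps `R j` to `R m`
    have haQ : a ∈ QQ (R o) := hU₁Q haU
    have haV : a ∈ normalizer (V : Set G) := b.Q_le_NV o haQ
    obtain ⟨l, hl⟩ := b.perm a haV j
    have hlj : l ≠ j := by
      rintro rfl
      apply hra
      have h2 : a * r₂ * a⁻¹ ∈ R l := by rw [← hl]; exact conj_mem_cj hr₂j
      have h3 : a * r₂ * a⁻¹ ≠ 1 := fun h => hr₂1 (conj_eq_one_iff.1 h)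
      have h4 := eq_of_card_two (b.card_R l) hr₂j hr₂1 h2 h3
      rw [mul_inv_eq_iff_eq_mul] at h4
      exact h4.symm
    have hlo : l ≠ o := by
      rintro rfl
      exact hj (b.R_index (cj_injective (hl.trans (cj_eq_self_iff.2 (b.Q_le l haQ)).symm)))
    intro x hx
    obtain ⟨s, hs, ex⟩ := hBS x hx
    -- `[x, a] ∈ R o`
    have h2 : x * a * x⁻¹ * a⁻¹ ∈ R o := by
      have h3 := conj_mem_of_normalizer hk'N (comm_mem_R b (b.S_V hs) (b.S_R hs) (b.R_le j hr₂j))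
      have e : x * a * x⁻¹ * a⁻¹ = k' * (s * r₂ * s⁻¹ * r₂⁻¹) * k'⁻¹ := by rw [ex, ha]; group
      rw [e]; exact h3
    have h3 : x ∈ QQ (R l) := by
      have h4 : a * x * a⁻¹ ∈ QQ (R l) := by
        have h5 : a * x * a⁻¹ ∈ ZQ R l := by
          rw [← cj_ZQ b.toBT hl]; exact conj_mem_cj hx.1
        exact ZQ_le l h5
      have e : x = (x * a * x⁻¹ * a⁻¹) * (a * x * a⁻¹) := by group
      rw [e]
      exact mul_mem (b.V_Q l (b.R_le o h2)) h4
    exact ZQ_Q b.toBTS (Ne.symm hlj) hx.1 h3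
  -- `z₁^σ ∈ B`
  obtain ⟨σ, hσ, eσ⟩ := b.trans m (Ne.symm hm) hjm
  have hσQ := b.W_le_Q m hσ
  have hσV : σ ∈ normalizer (V : Set G) := b.Q_le_NV m hσQ
  have h1 := ZQ_swap b.toBTS h (Ne.symm hj) hσQ eσ hz₁Q hz₁z₁
  have h2 : σ * z₁ * σ⁻¹ ∈ B := by
    refine ⟨?_, ?_⟩
    · rw [← cj_ZQ b.toBT eσ]; exact conj_mem_cj hz₁Q
    · exact mem_centralizer_singleton_iff.2 h1.symm
  obtain ⟨a, ha, h3⟩ := key _ h2
  -- `z₁ ∈ R o C_X`
  have h4 : σ⁻¹ * a * σ ∈ R o := by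
    rw [← eσ] at ha
    exact mem_cj.1 ha
  have h5 : σ⁻¹ * a * σ * z₁ ∈ CenX V R := by
    have h6 := conj_inv_mem_of_normalizer (b.NV_le_NCenX hσV) h3
    have e : σ⁻¹ * (a * (σ * z₁ * σ⁻¹)) * σ = σ⁻¹ * a * σ * z₁ := by group
    rwa [e] at h6
  -- `Z(Q j)` centralises `z₁`
  have h6 : ZQ R j ≤ B := by
    intro x hx
    refine ⟨hx, mem_centralizer_singleton_iff.2 ?_⟩
    have h7 : σ⁻¹ * a * σ * x = x * (σ⁻¹ * a * σ) := mem_centralizer_iff.1 (ZQ_le_cen b.toBT j hx) _ (b.R_le o h4)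
    have h8 : σ⁻¹ * a * σ * z₁ * x = x * (σ⁻¹ * a * σ * z₁) := cenX_Q b.toBTS (h j) h5 (ZQ_le j hx)
    have h9 : σ⁻¹ * a * σ * (z₁ * x) = σ⁻¹ * a * σ * (x * z₁) := by
      rw [← mul_assoc, h8, ← mul_assoc, ← h7, mul_assoc]
    exact (mul_left_cancel h9).symm
  exact ZQ_not_RC b.toBTS h hzX hz1 j fun l hl => key l (h6 hl)

end two

end Cfsg.Agent.Omega.HTwo.AlphaOne
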