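import Cfsg.Agent.Omega.HTwo.AlphaFour
import Cfsg.Agent.Omega.HTwo.AlphaOne

/-!
# II.0h1, `q = 2`, case (α): (5) of #14489

`W₁` the component of `r` in `⟨r^{C(z)}⟩`, `W₂` the component of `r` in `⟨r^{C(r z)}⟩`: every conjugate of `V`
under `K = ⟨S, h ∈ C(r) : [V, V^h] ≠ 1⟩` lies in `W₁` or in `W₂`, both are abelian, and the number of these
conjugates is odd.
-/

set_option autoImplicit false
set_option linter.unusedSectionVars false

namespace Cfsg.Agent.Omega.HTwo.AlphaFive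

open Subgroup Cfsg Cfsg.Agent.MinSimple.VModule Cfsg.Agent.Omega.BTwo
open Cfsg.Agent.Omega.HOneTwo Cfsg.Agent.Omega.HTwo.ThmA Cfsg.Agent.Omega.HTwo.Par
open Cfsg.Agent.Omega.HTwo.TComp Cfsg.Agent.Omega.HTwo.Hat Cfsg.Agent.Omega.MinPar
open Cfsg.Agent.Omega.HTwo.Alpha (Good exists_sylow_conj)
open Cfsg.Agent.ZN (zc o2)

universe u

variable {G : Type u} [Group G] {ι : Type*}

/-! ### conjugation -/

theorem natC_cj {C N W : Subgroup G} {r : G} (H : NatC C N W r) (h : G) :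
    NatC (cj h C) (cj h N) (cj h W) (h * r * h⁻¹) where
  W_le := cj_mono H.W_le
  sq := by
    rintro _ ⟨x, hx, rfl⟩
    change h * x * h⁻¹ * (h * x * h⁻¹) = 1
    have e : h * x * h⁻¹ * (h * x * h⁻¹) = h * (x * x) * h⁻¹ := by group
    rw [e, H.sq x hx, mul_one, mul_inv_cancel]
  mem := conj_mem_cj H.mem
  ne := fun e => H.ne (conj_eq_one_iff.1 e)
  pt := by
    rintro _ ⟨w, hw, rfl⟩ hw1
    change h * w * h⁻¹ ≠ 1 at hw1
    obtain ⟨c, hc, rfl⟩ := H.pt w hw fun e => hw1 (by rw [e, mul_one, mul_inv_cancel])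
    refine ⟨h * c * h⁻¹, conj_mem_cj hc, ?_⟩
    change _ = h * (c * r * c⁻¹) * h⁻¹
    group
  blk := by
    rintro _ ⟨c, hc, rfl⟩ _ ⟨w, hw, rfl⟩ hw1 hcw _ ⟨x, hx, rfl⟩
    change h * w * h⁻¹ ≠ 1 at hw1
    change h * c * h⁻¹ * (h * w * h⁻¹) * (h * c * h⁻¹)⁻¹ ∈ cj h W at hcw
    change h * c * h⁻¹ * (h * x * h⁻¹) * (h * c * h⁻¹)⁻¹ ∈ cj h W
    have e1 : ∀ v : G, h * c * h⁻¹ * (h * v * h⁻¹) * (h * c * h⁻¹)⁻¹ = h * (c * v * c⁻¹) * h⁻¹ := by
      intro v; group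
    rw [e1] at hcw ⊢
    rw [mem_cj] at hcw
    have e2 : h⁻¹ * (h * (c * w * c⁻¹) * h⁻¹) * h = c * w * c⁻¹ := by group
    rw [e2] at hcw
    exact conj_mem_cj (H.blk c hc w hw (fun e => hw1 (by rw [e, mul_one, mul_inv_cancel])) hcw x hx)
  irr := by
    rintro _ ⟨w, hw, rfl⟩ hw1 A hA hwA hinv
    change h * w * h⁻¹ ≠ 1 at hw1
    change h * w * h⁻¹ ∈ A at hwA
    change ∀ c ∈ cj h C, c * (h * w * h⁻¹) = h * w * h⁻¹ * c → _ at hinv
    have h1 := H.irr w hw (fun e => hw1 (by rw [e, mul_one, mul_inv_cancel])) (cj h⁻¹ A)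
      (by have := cj_mono (g := h⁻¹) hA; rwa [cj_inv_cj] at this)
      (by rw [mem_cj, inv_inv]; exact hwA) (by
        intro c hc hcw a ha
        rw [mem_cj, inv_inv] at ha ⊢
        have h2 := hinv (h * c * h⁻¹) (conj_mem_cj hc) (by
          have e1 : h * c * h⁻¹ * (h * w * h⁻¹) = h * (c * w) * h⁻¹ := by group
          have e2 : h * w * h⁻¹ * (h * c * h⁻¹) = h * (w * c) * h⁻¹ := by group
          rw [e1, e2, hcw]) _ ha
        have e : h * c * h⁻¹ * (h * a * h⁻¹) * (h * c * h⁻¹)⁻¹ = h * (c * a * c⁻¹) * h⁻¹ := by group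
        rwa [e] at h2)
    rcases h1 with h1 | h1
    · left
      intro a ha
      have h2 := h1 (h⁻¹ * a * h⁻¹⁻¹) (conj_mem_cj ha)
      rcases h2 with h2 | h2
      · left
        exact conj_eq_one_iff.1 h2
      · right
        change a = h * w * h⁻¹
        rw [← h2]; group
    · right
      have h2 := cj_mono (g := h) h1
      rwa [cj_cj_inv] at h2
  adj := by
    rintro _ ⟨w, hw, rfl⟩ hw1 _ ⟨t, ht, rfl⟩ htn _ ⟨c, hc, rfl⟩ hne
    change h * w * h⁻¹ ≠ 1 at hw1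
    change ∀ n ∈ cj h N, h * t * h⁻¹ * n * (h * t * h⁻¹)⁻¹ = n ∨
      h * t * h⁻¹ * n * (h * t * h⁻¹)⁻¹ = n * (h * w * h⁻¹) at htn
    change h * t * h⁻¹ * (h * c * h⁻¹ * (h * r * h⁻¹) * (h * c * h⁻¹)⁻¹) * (h * t * h⁻¹)⁻¹ ≠
      h * c * h⁻¹ * (h * r * h⁻¹) * (h * c * h⁻¹)⁻¹ at hne
    change h * c * h⁻¹ * (h * r * h⁻¹) * (h * c * h⁻¹)⁻¹ ∈ cj h W
    have e1 : h * c * h⁻¹ * (h * r * h⁻¹) * (h * c * h⁻¹)⁻¹ = h * (c * r * c⁻¹) * h⁻¹ := by group
    rw [e1] at hne ⊢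
    refine conj_mem_cj (H.adj w hw (fun e => hw1 (by rw [e, mul_one, mul_inv_cancel])) t ht ?_ c hc ?_)
    · intro n hn
      have e2 : h * t * h⁻¹ * (h * n * h⁻¹) * (h * t * h⁻¹)⁻¹ = h * (t * n * t⁻¹) * h⁻¹ := by group
      rcases htn _ (conj_mem_cj hn) with h2 | h2
      · left
        rw [e2] at h2
        exact mul_left_cancel (mul_right_cancel h2)
      · right
        rw [e2] at h2
        have e3 : h * n * h⁻¹ * (h * w * h⁻¹) = h * (n * w) * h⁻¹ := by group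
        rw [e3] at h2
        exact mul_left_cancel (mul_right_cancel h2)
    · intro e
      apply hne
      have e2 : h * t * h⁻¹ * (h * (c * r * c⁻¹) * h⁻¹) * (h * t * h⁻¹)⁻¹ =
        h * (t * (c * r * c⁻¹) * t⁻¹) * h⁻¹ := by group
      rw [e2, e]
  big := by
    rintro _ ⟨a, ha, rfl⟩ _ ⟨b, hb, rfl⟩
    obtain ⟨c, hc, h1, h2, h3, h4⟩ := H.big a ha b hb
    refine ⟨h * c * h⁻¹, conj_mem_cj hc, fun e => h1 (conj_eq_one_iff.1 e), fun e => h2 ?_,
      fun e => h3 ?_, fun e => h4 ?_⟩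
    · change _ = h * a * h⁻¹ at e
      exact mul_left_cancel (mul_right_cancel e)
    · change _ = h * b * h⁻¹ at e
      exact mul_left_cancel (mul_right_cancel e)
    · change _ = h * a * h⁻¹ * (h * b * h⁻¹) at e
      have e2 : h * a * h⁻¹ * (h * b * h⁻¹) = h * (a * b) * h⁻¹ := by group
      rw [e2] at e
      exact mul_left_cancel (mul_right_cancel e)

theorem cj_cl (h : G) (A M : Subgroup G) : cj h (cl A M) = cl (cj h A) (cj h M) := by
  have key : ∀ (h : G) (A M : Subgroup G), cj h (cl A M) ≤ cl (cj h A) (cj h M) := by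
    intro h A M
    rw [cl, cj_iSup]
    refine iSup_le fun m => ?_
    have h1 : h * (m : G) * h⁻¹ ∈ cj h M := conj_mem_cj m.2
    have e : cj h (cj (m : G) A) = cj (h * m * h⁻¹) (cj h A) := by
      rw [← cj_mul, ← cj_mul]
      congr 1
      group
    rw [e]
    exact cj_le_cl h1
  apply le_antisymm (key h A M)
  have h1 := cj_mono (g := h) (key h⁻¹ (cj h A) (cj h M))
  rwa [cj_inv_cj, cj_inv_cj, cj_cj_inv] at h1

theorem cj_C (h y : G) : cj h (centralizer ({y} : Set G)) = centralizer ({h * y * h⁻¹} : Set G) := by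
  ext g
  rw [mem_cj, mem_centralizer_singleton_iff, mem_centralizer_singleton_iff]
  constructor
  · intro e
    calc g * (h * y * h⁻¹) = h * ((h⁻¹ * g * h) * y) * h⁻¹ := by group
      _ = h * (y * (h⁻¹ * g * h)) * h⁻¹ := by rw [e]
      _ = h * y * h⁻¹ * g := by group
  · intro e
    calc h⁻¹ * g * h * y = h⁻¹ * (g * (h * y * h⁻¹)) * h := by group
      _ = h⁻¹ * (h * y * h⁻¹ * g) * h := by rw [e]
      _ = y * (h⁻¹ * g * h) := by group

/-- `Good` is invariant under `N(R o)` -/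
theorem good_cj [Finite G] {R : ι → Subgroup G} {o : ι} {r y : G} {W : Subgroup G}
    (g : Good R o r y W) {h : G} (hh : h ∈ normalizer (R o : Set G)) (hr : h * r = r * h) :
    Good R o r (h * y * h⁻¹) (cj h W) := by
  have e1 : h * r * h⁻¹ = r := by rw [hr, mul_inv_cancel_right]
  refine ⟨?_, fun e => g.ne (conj_eq_one_iff.1 e), ?_, ?_, ?_, ?_⟩
  · have e : h * y * h⁻¹ * (h * y * h⁻¹) = h * (y * y) * h⁻¹ := by group
    rw [e, g.sq, mul_one, mul_inv_cancel]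
  · exact conj_mem_of_normalizer (N_le_NZQ o hh) g.z
  · obtain ⟨T, hT⟩ := g.syl
    obtain ⟨T', hT'⟩ := exists_sylow_conj T h
    refine ⟨T', fun t ht => ?_⟩
    obtain ⟨h1, h2⟩ := hT _ (hT' t ht)
    constructor
    · calc t * (h * y * h⁻¹) = h * ((h⁻¹ * t * h) * y) * h⁻¹ := by group
        _ = h * (y * (h⁻¹ * t * h)) * h⁻¹ := by rw [h1]
        _ = h * y * h⁻¹ * t := by group
    · calc t * r = t * (h * r * h⁻¹) := by rw [e1]
        _ = h * ((h⁻¹ * t * h) * r) * h⁻¹ := by group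
        _ = h * (r * (h⁻¹ * t * h)) * h⁻¹ := by rw [h2]
        _ = (h * r * h⁻¹) * t := by group
        _ = r * t := by rw [e1]
  · have h1 := natC_cj g.nat h
    rw [e1, cj_cl, cj_C, cj_eq_self_iff.2 hh] at h1
    exact h1
  · have h1 := cj_mono (g := h) g.W_Q
    rwa [cj_eq_self_iff.2 (le_normalizer_O2 _ hh)] at h1

section

variable [Finite G] {S : Sylow 2 G} {P V : Subgroup G} {R : ι → Subgroup G} {o : ι}

/-- membership in the centraliser of an element -/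
theorem mem_C {y g : G} : g ∈ centralizer ({y} : Set G) ↔ g * y = y * g := mem_centralizer_singleton_iff

/-- the four group -/
theorem natC_two {C N W : Subgroup G} {r : G} (h : NatC C N W r) (hr2 : r * r = 1) :
    ∃ a ∈ W, ∃ c ∈ W, (a ≠ 1 ∧ a ≠ r) ∧ (c ≠ 1 ∧ c ≠ r) ∧ (a * c ≠ 1 ∧ a * c ≠ r) := by
  obtain ⟨a, ha, h1, h2, -, -⟩ := h.big r h.mem r h.mem
  obtain ⟨c, hc, h3, h4, h5, h6⟩ := h.big r h.mem a ha
  refine ⟨a, ha, c, hc, ⟨h1, h2⟩, ⟨h3, h4⟩, ?_, ?_⟩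
  · intro e
    apply h5
    have h7 := h.sq a ha
    exact mul_left_cancel (e.trans h7.symm)
  · intro e
    apply h6
    have h7 := h.sq a ha
    -- `c = a r = r a`
    have h8 : c = a * r := by
      rw [← e, ← mul_assoc, h7, one_mul]
    have h9 := h.sq _ (W.mul_mem ha h.mem)
    have h10 : a * r = r * a := by
      have : a * r * (a * r) = 1 := h9
      calc a * r = a * r * ((a * r) * (a * r)) := by rw [this, mul_one]
        _ = (a * r * (a * r)) * (a * r) := by group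
        _ = a * r := by rw [this, one_mul]
        _ = r * a := by
          have h11 : (a * r) = (a * r)⁻¹ := eq_inv_of_mul_eq_one_left this
          rw [h11, mul_inv_rev, ← eq_inv_of_mul_eq_one_left h7, ← eq_inv_of_mul_eq_one_left hr2]
    rw [h8, h10]

variable (b : HT S P V R o) {r : G} (hr : ∀ x, x ∈ R o ↔ x = 1 ∨ x = r)
include b hr

theorem r_ne : r ≠ 1 := by
  rintro rfl
  refine b.R_ne o ((eq_bot_iff_forall _).2 fun x hx => ?_)
  rcases (hr x).1 hx with h | h <;> exact h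

theorem r_mem : r ∈ R o := (hr r).2 (Or.inr rfl)

theorem r_sq : r * r = 1 := b.V_sq r (b.R_le o (r_mem b hr))

/-- `N(R o) = C(r)` -/
theorem mem_N_iff {g : G} : g ∈ normalizer (R o : Set G) ↔ g * r = r * g := by
  constructor
  · intro hg
    exact (mem_centralizer_iff.1 (normalizer_le_cen_of_card (b.card_R o) hg) r (r_mem b hr)).symm
  · intro hg
    refine mem_normalizer_of_conj fun x hx => ?_
    rcases (hr x).1 hx with rfl | rfl
    · rw [mul_one, mul_inv_cancel]; exact one_mem _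
    · rw [hg, mul_inv_cancel_right]; exact hx

/-- a conjugate of `V` under `N(R o)` is determined by one element outside `R o` -/
theorem cj_V_le {k : G} (hk : k ∈ normalizer (R o : Set G)) {W : Subgroup G} (hrW : r ∈ W) {v : G}
    (hv : v ∈ cj k V) (hv1 : v ∉ R o) (hvW : v ∈ W) : cj k V ≤ W := by
  obtain ⟨v, hv, rfl⟩ := hv
  change k * v * k⁻¹ ∉ R o at hv1
  change k * v * k⁻¹ ∈ W at hvW
  obtain ⟨j, hj⟩ := b.R_cov v hv
  have hjo : o ≠ j := by
    rintro rfl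
    exact hv1 (conj_mem_of_normalizer hk hj)
  have hv' : v ≠ 1 := by
    rintro rfl
    apply hv1
    rw [mul_one, mul_inv_cancel]
    exact one_mem _
  rw [← b.R_sup o j hjo, cj_sup]
  refine sup_le ?_ ?_
  · rw [cj_eq_self_iff.2 hk]
    intro x hx
    rcases (hr x).1 hx with rfl | rfl
    · exact one_mem _
    · exact hrW
  · rintro _ ⟨x, hx, rfl⟩
    change k * x * k⁻¹ ∈ W
    by_cases hx1 : x = 1
    · rw [hx1, mul_one, mul_inv_cancel]; exact one_mem _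
    · rw [eq_of_card_two (b.card_R j) hj hv' hx hx1]
      exact hvW

/-- elements of `V^k` are conjugate to `r` under `C(y)` if `y` centralises `X^k` -/
theorem exists_conj {k y : G} (hk : k ∈ normalizer (R o : Set G))
    (hy : y ∈ centralizer (cj k (XX V R) : Set G)) {v : G} (hv : v ∈ cj k V) (hv1 : v ≠ 1) :
    ∃ c ∈ centralizer ({y} : Set G), c * r * c⁻¹ = v := by
  obtain ⟨v, hv, rfl⟩ := hv
  change k * v * k⁻¹ ≠ 1 at hv1
  obtain ⟨j, hj⟩ := b.R_cov v hv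
  obtain ⟨x, hx, e⟩ := b.trans_X_one o j
  rw [← e, mem_cj] at hj
  have h2 := mem_centralizer_iff.1 hy _ (conj_mem_cj hx)
  refine ⟨k * x * k⁻¹, mem_C.2 h2, ?_⟩
  have hkr := (mem_N_iff b hr).1 hk
  rcases (hr _).1 hj with h0 | h0
  · exfalso
    apply hv1
    have h1 : v = 1 := by
      calc v = x * (x⁻¹ * v * x) * x⁻¹ := by group
        _ = 1 := by rw [h0, mul_one, mul_inv_cancel]
    rw [h1, mul_one, mul_inv_cancel]
  · change _ = k * v * k⁻¹
    have h3 : k⁻¹ * r * k = r := by rw [mul_assoc, ← hkr]; group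
    calc k * x * k⁻¹ * r * (k * x * k⁻¹)⁻¹ = k * x * (k⁻¹ * r * k) * x⁻¹ * k⁻¹ := by group
      _ = k * (x * (x⁻¹ * v * x) * x⁻¹) * k⁻¹ := by rw [h3, h0]; group
      _ = k * v * k⁻¹ := by group

/-- `V^k ≤ ⟨r^{C(y)}⟩` if `y` centralises `X^k` -/
theorem cj_le_cl_of {k y : G} (hk : k ∈ normalizer (R o : Set G))
    (hy : y ∈ centralizer (cj k (XX V R) : Set G)) : cj k V ≤ cl (R o) (centralizer ({y} : Set G)) := by
  intro v hv
  by_cases hv1 : v = 1
  · rw [hv1]; exact one_mem _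
  obtain ⟨c, hc, rfl⟩ := exists_conj b hr hk hy hv hv1
  exact cj_le_cl hc (conj_mem_cj (r_mem b hr))

/-- `V^k` is in the component of `r` if it is moved by a transvection with centre `r` -/
theorem V_le_comp {k y : G} {W : Subgroup G}
    (hW : NatC (centralizer ({y} : Set G)) (cl (R o) (centralizer ({y} : Set G))) W r)
    (hk : k ∈ normalizer (R o : Set G)) (hy : y ∈ centralizer (cj k (XX V R) : Set G)) {t : G}
    (ht : t ∈ centralizer ({y} : Set G))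
    (htn : ∀ n ∈ cl (R o) (centralizer ({y} : Set G)), t * n * t⁻¹ = n ∨ t * n * t⁻¹ = n * r)
    (hm : ∃ v ∈ cj k V, t * v ≠ v * t) : cj k V ≤ W := by
  obtain ⟨v, hv, hne⟩ := hm
  have hv1 : v ≠ 1 := by
    rintro rfl
    exact hne (by rw [mul_one, one_mul])
  obtain ⟨c, hc, e⟩ := exists_conj b hr hk hy hv hv1
  have hne' : t * (c * r * c⁻¹) * t⁻¹ ≠ c * r * c⁻¹ := by
    rw [e]
    intro h
    exact hne (mul_inv_eq_iff_eq_mul.1 h)
  have h1 := hW.adj r hW.mem hW.ne t ht htn c hc hne'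
  rw [e] at h1
  refine cj_V_le b hr hk hW.mem hv ?_ h1
  intro hvo
  have hvr : v = r := ((hr v).1 hvo).resolve_left hv1
  have h2 := htn r (le_cl _ _ (r_mem b hr))
  rw [r_sq b hr] at h2
  rcases h2 with h2 | h2
  · apply hne
    rw [hvr]
    exact mul_inv_eq_iff_eq_mul.1 h2
  · exact r_ne b hr (conj_eq_one_iff.1 h2)

/-- there is `h ∈ N(R o)` with `[V, V^h] ≠ 1` -/
theorem exists_h : ∃ h ∈ normalizer (R o : Set G), ∃ a ∈ V, ∃ c ∈ cj h V, a * c ≠ c * a := by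
  have _ := hr
  obtain ⟨h, hh, H⟩ := b.mt o
  refine ⟨h, hh, ?_⟩
  by_contra hcon
  push Not at hcon
  refine b.false_of_comm (h := h) (fun j k hj hk => (H j k hj hk).1) fun v hv => ?_
  rw [mem_centralizer_iff]
  exact fun w hw => hcon w hw _ (conj_mem_cj hv)

/-- there is an element of `Q o` moving an element of `V` -/
theorem exists_mv : ∃ t ∈ QQ (R o), ∃ v ∈ V, t * v ≠ v * t := by
  obtain ⟨h, hh, a, ha, c, hc, hne⟩ := exists_h b hr
  exact ⟨c, b.W_le_Q o (cj_le_WW hh hc), a, ha, fun e => hne e.symm⟩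

/-- for `C(y)` containing `S`: `⟨r^{C(y)}⟩ ≤ Ω₁(Z(O₂(C(y))))` -/
theorem cl_le_zc {y : G} (hy1 : y ≠ 1) (hy2 : y * y = 1)
    (hS : ∀ s ∈ (S : Subgroup G), s * y = y * s) :
    cl (R o) (centralizer ({y} : Set G)) ≤ zc (o2 (centralizer ({y} : Set G))) := by
  have hM : IsLoc (S : Subgroup G) (centralizer ({y} : Set G)) :=
    isLoc_centralizer S (by rw [pow_two]; exact hy2) hy1 fun s hs => mem_C.2 (hS s hs)
  refine cl_le ?_ ((le_normalizer_o2 _).trans (normalizer_le_normalizer_zc _))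
  intro x hx
  have h1 : x ∈ centralizer (o2 (centralizer ({y} : Set G)) : Set G) := by
    have h2 := (hM.o2_le S).trans b.S_R
    rw [mem_centralizer_iff]
    intro s hs
    exact (mem_centralizer_iff.1 (normalizer_le_cen_of_card (b.card_R o) (h2 hs)) x hx).symm
  have h3 : x ∈ o2 (centralizer ({y} : Set G)) :=
    hM.char2 S b.char2 ⟨hM.le (b.V_le_S (b.R_le o hx)), h1⟩
  refine mem_zc.2 ⟨h3, fun c hc => mem_centralizer_iff.1 h1 c hc, ?_⟩
  rw [pow_two]; exact b.V_sq x (b.R_le o hx)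

/-- (4) for `V^k` -/
theorem four_conj
    (h4 : ∀ {y : G} {W : Subgroup G}, Good R o r y W → ¬ W ≤ centralizer (V : Set G) →
      ∃ a ∈ R o, a * y ∈ CenX V R)
    {k y : G} {W : Subgroup G} (hk : k ∈ normalizer (R o : Set G)) (g : Good R o r y W)
    (hne : ∃ w ∈ W, ∃ v ∈ cj k V, w * v ≠ v * w) :
    y ∈ centralizer (cj k (XX V R) : Set G) ∨ r * y ∈ centralizer (cj k (XX V R) : Set G) := by
  have hk' := inv_mem hk
  have h1 := good_cj g hk' ((mem_N_iff b hr).1 hk')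
  obtain ⟨w, hw, v, hv, hwv⟩ := hne
  have h2 : ¬ cj k⁻¹ W ≤ centralizer (V : Set G) := by
    intro hle
    have h3 : k⁻¹ * v * k ∈ V := mem_cj.1 hv
    have h5 := mem_centralizer_iff.1 (hle (conj_mem_cj (g := k⁻¹) hw)) _ h3
    apply hwv
    have e1 : k⁻¹ * v * k * (k⁻¹ * w * k⁻¹⁻¹) = k⁻¹ * (v * w) * k := by group
    have e2 : k⁻¹ * w * k⁻¹⁻¹ * (k⁻¹ * v * k) = k⁻¹ * (w * v) * k := by group
    rw [e1, e2] at h5
    exact (mul_left_cancel (mul_right_cancel h5)).symm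
  obtain ⟨a, ha, h3⟩ := h4 h1 h2
  have key : a * y ∈ centralizer (cj k (XX V R) : Set G) := by
    rw [centralizer_cj, mem_cj]
    have h5 : k⁻¹ * a = a * k⁻¹ := by
      have h6 : k * r = r * k := (mem_N_iff b hr).1 hk
      rcases (hr a).1 ha with rfl | rfl
      · rw [mul_one, one_mul]
      · rw [inv_mul_eq_iff_eq_mul, ← mul_assoc, h6, mul_inv_cancel_right]
    have e : k⁻¹ * (a * y) * k = a * (k⁻¹ * y * k⁻¹⁻¹) := by
      calc k⁻¹ * (a * y) * k = (k⁻¹ * a) * y * k := by group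
        _ = _ := by rw [h5]; group
    rw [e]
    exact h3
  rcases (hr a).1 ha with rfl | rfl
  · rw [one_mul] at key; exact Or.inl key
  · exact Or.inr key

/-- the component of `r` is normalised by `C(y) ∩ C(r)` -/
theorem nat_norm {C N W : Subgroup G} (hW : NatC C N W r) {c : G} (hc : c ∈ C) (hcr : c * r = r * c) :
    ∀ x ∈ W, c * x * c⁻¹ ∈ W := by
  refine hW.blk c hc r hW.mem hW.ne ?_
  rw [hcr, mul_inv_cancel_right]
  exact hW.mem

/-- **(5)** of #14489 -/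
theorem five (hLE : ∀ i, ThmA.LE V R i)
    (h4 : ∀ {y : G} {W : Subgroup G}, Good R o r y W → ¬ W ≤ centralizer (V : Set G) →
      ∃ a ∈ R o, a * y ∈ CenX V R)
    {z : G} (hz : z ∈ zc (S : Subgroup G) ⊓ centralizer (P : Set G)) (hz1 : z ≠ 1)
    (hα : UM V (centralizer ({z} : Set G)) ≤ QQ (R o))
    (h3 : ∃ a ∈ QQ (R o), ∃ c ∈ QQ (R o),
      (∃ n ∈ UM V (centralizer ({z} : Set G)), a * n * a⁻¹ ≠ n) ∧
      (∃ n ∈ UM V (centralizer ({z} : Set G)), c * n * c⁻¹ ≠ n) ∧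
      (∃ n ∈ UM V (centralizer ({z} : Set G)), a * c * n * (a * c)⁻¹ ≠ n)) : False := by
  have d := b.dt hz hz1
  have hr1 := r_ne b hr
  have hr2 := r_sq b hr
  have hrR := r_mem b hr
  have hNr := fun g => @mem_N_iff G _ ι _ S P V R o b r hr g
  -- `z`
  have hz2 : z * z = 1 := by rw [← pow_two]; exact (mem_zc.1 hz.1).2.2
  have hSz : ∀ s ∈ (S : Subgroup G), s * z = z * s := (mem_zc.1 hz.1).2.1
  have hSr : ∀ s ∈ (S : Subgroup G), s * r = r * s := fun s hs => (hNr s).1 (b.S_R hs)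
  have hzQ : z ∈ ZQ R o := ⟨zc_le _ (d.z_Q o), mem_centralizer_iff.2 (mem_zc.1 (d.z_Q o)).2.1⟩
  have hrQ : r ∈ ZQ R o := R_le_ZQ b.toBT o hrR
  have hrz : r * z = z * r := (ZQ_comm hzQ (ZQ_le o hrQ))
  have hUeq : cl (R o) (centralizer ({z} : Set G)) = UM V (centralizer ({z} : Set G)) :=
    b.cl_R_eq (b.trans_of_X d.X_M)
  rw [← hUeq] at hα h3
  set U := cl (R o) (centralizer ({z} : Set G)) with hU
  have hUz := cl_le_zc b hr hz1 hz2 hSz
  rw [← hU] at hUz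
  have hUsq : ∀ x ∈ U, x * x = 1 := fun x hx => by rw [← pow_two]; exact (mem_zc.1 (hUz hx)).2.2
  have hUcm : ∀ x ∈ U, ∀ y ∈ U, x * y = y * x := fun x hx y hy =>
    (mem_zc.1 (hUz hy)).2.1 x (zc_le _ (hUz hx))
  have hQz : ∀ q ∈ QQ (R o), q ∈ centralizer ({z} : Set G) := fun q hq => mem_C.2 (ZQ_comm hzQ hq)
  -- `Q o` acts on `U` as transvections
  have hQU : ∀ q ∈ QQ (R o), ∀ n ∈ U, q * n * q⁻¹ = n ∨ q * n * q⁻¹ = n * r := by
    intro q hq n hn
    have h5 := Q_comm b.toBTS (hLE o) hq (hα hn)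
    rcases (hr _).1 h5 with h6 | h6
    · left; exact mul_inv_eq_one.1 h6
    · right
      rw [mul_inv_eq_iff_eq_mul] at h6
      rw [h6]
      exact (b.QR o n (hα hn) r hrR).symm
  obtain ⟨a, ha, c, hc, hna, hnc, hnac⟩ := h3
  obtain ⟨W₁, hW₁⟩ := natC_of_sylow S (fun s hs => mem_C.2 (hSz s hs)) hSr hr hr1 hUsq (hQz a ha)
    (hQz c hc) (hQU a ha) (hQU c hc) hna hnc hnac
  rw [← hU] at hW₁
  have hW₁Q : W₁ ≤ QQ (R o) := hW₁.W_le.trans hα
  have g₁ : Good R o r z W₁ := ⟨hz2, hz1, hzQ, ⟨S, fun t ht => ⟨hSz t ht, hSr t ht⟩⟩, hW₁, hW₁Q⟩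
  -- `V ≤ W₁`
  have hVW : V ≤ W₁ := by
    obtain ⟨t, ht, v, hv, hne⟩ := exists_mv b hr
    have h5 := V_le_comp b hr (k := 1) hW₁ (one_mem _) (by rw [cj_one]; exact b.cz_le hz) (hQz t ht)
      (hQU t ht) ⟨v, by rw [cj_one]; exact hv, hne⟩
    rwa [cj_one] at h5
  -- the neighbour
  obtain ⟨h, hh, a₀, ha₀, c₀, hc₀, hne₀⟩ := exists_h b hr
  -- neighbours of lines in `W₁`
  have side₁ : ∀ k ∈ normalizer (R o : Set G), (∃ w ∈ W₁, ∃ v ∈ cj k V, w * v ≠ v * w) →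
      r * z ∈ centralizer (cj k (XX V R) : Set G) := by
    rintro k hk ⟨w, hw, v, hv, hwv⟩
    rcases four_conj b hr h4 hk g₁ ⟨w, hw, v, hv, hwv⟩ with h5 | h5
    · exact absurd (hUcm w (hW₁.W_le hw) v (cj_le_cl_of b hr hk h5 hv)) hwv
    · exact h5
  set y := r * z with hy
  have hyh : y ∈ centralizer (cj h (XX V R) : Set G) := side₁ h hh ⟨a₀, hVW ha₀, c₀, hc₀, hne₀⟩
  have hy2 : y * y = 1 := by
    rw [hy]
    calc r * z * (r * z) = z * r * (r * z) := by rw [← hy, hrz]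
      _ = z * (r * r) * z := by group
      _ = 1 := by rw [hr2, mul_one, hz2]
  have hy1 : y ≠ 1 := by
    intro e
    have h5 : z = r := by
      calc z = r * r * z := by rw [hr2, one_mul]
        _ = r * (r * z) := by group
        _ = r := by rw [← hy, e, mul_one]
    have h6 : r ∈ V ⊓ (zc (S : Subgroup G) ⊓ centralizer (P : Set G)) :=
      ⟨b.R_le o hrR, by rw [← h5]; exact hz⟩
    rw [b.R_inf_cz, mem_bot] at h6
    exact hr1 h6
  have hyr : y * r = r * y := by rw [hy, mul_assoc, ← hrz]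
  have hzy : r * y = z := by rw [hy, ← mul_assoc, hr2, one_mul]
  have hSy : ∀ s ∈ (S : Subgroup G), s * y = y * s := by
    intro s hs
    rw [hy, ← mul_assoc, hSr s hs, mul_assoc, hSz s hs, ← mul_assoc]
  have hyQ : y ∈ ZQ R o := mul_mem hrQ hzQ
  have hQy : ∀ q ∈ QQ (R o), q ∈ centralizer ({y} : Set G) := fun q hq => mem_C.2 (ZQ_comm hyQ hq)
  set U' := cl (R o) (centralizer ({y} : Set G)) with hU'
  have hUz' := cl_le_zc b hr hy1 hy2 hSy
  rw [← hU'] at hUz'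
  have hUsq' : ∀ x ∈ U', x * x = 1 := fun x hx => by rw [← pow_two]; exact (mem_zc.1 (hUz' hx)).2.2
  have hUcm' : ∀ x ∈ U', ∀ y ∈ U', x * y = y * x := fun x hx y hy =>
    (mem_zc.1 (hUz' hy)).2.1 x (zc_le _ (hUz' hx))
  -- `C(y) ∩ C(r) = C(z) ∩ C(r)`
  have hCzy : ∀ g : G, g * r = r * g → (g ∈ centralizer ({z} : Set G) ↔ g ∈ centralizer ({y} : Set G)) := by
    intro g hg
    rw [mem_C, mem_C]
    constructor
    · intro h5
      rw [hy, ← mul_assoc, hg, mul_assoc, h5, ← mul_assoc]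
    · intro h5
      rw [← hzy, ← mul_assoc, hg, mul_assoc, h5, ← mul_assoc]
  -- `V^h ≤ U'`
  have hVh : cj h V ≤ U' := cj_le_cl_of b hr hh hyh
  have hOS : o2 (centralizer ({y} : Set G)) ≤ (S : Subgroup G) := by
    have hM : IsLoc (S : Subgroup G) (centralizer ({y} : Set G)) :=
      isLoc_centralizer S (by rw [pow_two]; exact hy2) hy1 fun s hs => mem_C.2 (hSy s hs)
    exact hM.o2_le S
  have hnO := le_normalizer_o2 (centralizer ({y} : Set G))
  have hnU' := le_normalizer_cl (R o) (centralizer ({y} : Set G))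
  -- `W₁ ∩ O₂(C(y)) = R o`
  have hWO : ∀ x ∈ W₁, x ∈ o2 (centralizer ({y} : Set G)) → x = 1 ∨ x = r := by
    have h0 : ∀ c ∈ centralizer ({z} : Set G), c * r = r * c →
        ∀ x ∈ W₁ ⊓ o2 (centralizer ({y} : Set G)), c * x * c⁻¹ ∈ W₁ ⊓ o2 (centralizer ({y} : Set G)) := by
      rintro c hc hcr x ⟨hx, hx'⟩
      exact ⟨nat_norm b hr hW₁ hc hcr x hx,
        conj_mem_of_normalizer (hnO ((hCzy c hcr).1 hc)) hx'⟩
    rcases hW₁.irr r hW₁.mem hr1 (W₁ ⊓ o2 (centralizer ({y} : Set G))) inf_le_left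
      ⟨hW₁.mem, zc_le _ (hUz' (le_cl _ _ hrR))⟩ h0 with h5 | h5
    · exact fun x hx hx' => h5 x ⟨hx, hx'⟩
    · exfalso
      apply hne₀
      exact (mem_zc.1 (hUz' (hVh hc₀))).2.1 a₀ (h5 (hVW ha₀)).2
  have hWU' : ∀ t ∈ W₁, ∀ n ∈ U', t * n * t⁻¹ = n ∨ t * n * t⁻¹ = n * r := by
    intro t ht n hn
    have hnO' := zc_le _ (hUz' hn)
    have hnS := hOS hnO'
    have h5 : t * n * t⁻¹ ∈ U' := conj_mem_of_normalizer (hnU' (hQy t (hW₁Q ht))) hn
    have h6 : n * t⁻¹ * n⁻¹ ∈ W₁ :=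
      nat_norm b hr hW₁ (mem_C.2 (hSz n hnS)) (hSr n hnS) _ (inv_mem ht)
    have h7 : t * n * t⁻¹ * n⁻¹ ∈ W₁ := by
      have e : t * n * t⁻¹ * n⁻¹ = t * (n * t⁻¹ * n⁻¹) := by group
      rw [e]; exact mul_mem ht h6
    rcases hWO _ h7 (mul_mem (zc_le _ (hUz' h5)) (inv_mem hnO')) with h8 | h8
    · left; exact mul_inv_eq_one.1 h8
    · right
      rw [mul_inv_eq_iff_eq_mul] at h8
      rw [h8]
      exact hUcm' r (le_cl _ _ hrR) n hn
  -- `C_{W₁}(U') = R o`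
  have hWC : ∀ x ∈ W₁, (∀ n ∈ U', x * n * x⁻¹ = n) → x = 1 ∨ x = r := by
    have h0 : ∀ c ∈ centralizer ({z} : Set G), c * r = r * c →
        ∀ x ∈ W₁ ⊓ centralizer (U' : Set G), c * x * c⁻¹ ∈ W₁ ⊓ centralizer (U' : Set G) := by
      rintro c hc hcr x ⟨hx, hx'⟩
      refine ⟨nat_norm b hr hW₁ hc hcr x hx, ?_⟩
      exact conj_mem_of_normalizer
        (normalizer_le_normalizer_centralizer _ (hnU' ((hCzy c hcr).1 hc))) hx'
    have hrC : r ∈ centralizer (U' : Set G) :=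
      mem_centralizer_iff.2 fun n hn => hUcm' n hn r (le_cl _ _ hrR)
    rcases hW₁.irr r hW₁.mem hr1 (W₁ ⊓ centralizer (U' : Set G)) inf_le_left
      ⟨hW₁.mem, hrC⟩ h0 with h5 | h5
    · intro x hx hx'
      exact h5 x ⟨hx, mem_centralizer_iff.2 fun n hn => (mul_inv_eq_iff_eq_mul.1 (hx' n hn)).symm⟩
    · exfalso
      apply hne₀
      exact (mem_centralizer_iff.1 (h5 (hVW ha₀)).2 c₀ (hVh hc₀)).symm
  -- `W₂`
  obtain ⟨a, ha, c, hc, hna, hnc, hnac⟩ := natC_two hW₁ hr2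
  have hmv : ∀ x ∈ W₁, (x ≠ 1 ∧ x ≠ r) → ∃ n ∈ U', x * n * x⁻¹ ≠ n := by
    rintro x hx ⟨hx1, hx2⟩
    by_contra hcon
    push Not at hcon
    rcases hWC x hx hcon with h5 | h5
    · exact hx1 h5
    · exact hx2 h5
  obtain ⟨W₂, hW₂⟩ := natC_of_sylow S (fun s hs => mem_C.2 (hSy s hs)) hSr hr hr1 hUsq'
    (hQy a (hW₁Q ha)) (hQy c (hW₁Q hc)) (hWU' a ha) (hWU' c hc) (hmv a ha hna) (hmv c hc hnc)
    (hmv _ (mul_mem ha hc) hnac)
  rw [← hU'] at hW₂
  have hVW₂ : cj h V ≤ W₂ := V_le_comp b hr hW₂ hh hyh (hQy a₀ (hW₁Q (hVW ha₀)))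
    (hWU' a₀ (hVW ha₀)) ⟨c₀, hc₀, hne₀⟩
  have hW₂Q : W₂ ≤ QQ (R o) := by
    have h0 : ∀ c ∈ centralizer ({y} : Set G), c * r = r * c →
        ∀ x ∈ W₂ ⊓ QQ (R o), c * x * c⁻¹ ∈ W₂ ⊓ QQ (R o) := by
      rintro c hc hcr x ⟨hx, hx'⟩
      exact ⟨nat_norm b hr hW₂ hc hcr x hx,
        conj_mem_of_normalizer (le_normalizer_O2 _ ((hNr c).2 hcr)) hx'⟩
    rcases hW₂.irr r hW₂.mem hr1 (W₂ ⊓ QQ (R o)) inf_le_left ⟨hW₂.mem, ZQ_le o hrQ⟩ h0 with h5 | h5
    · exfalso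
      have hVhQ : cj h V ≤ QQ (R o) := (cj_le_WW hh).trans (b.W_le_Q o)
      have h6 := h5 c₀ ⟨hVW₂ hc₀, hVhQ hc₀⟩
      apply hne₀
      rcases h6 with h6 | h6
      · rw [h6, one_mul, mul_one]
      · rw [h6]
        exact b.QR o a₀ (b.V_Q o ha₀) r hrR
    · exact h5.trans inf_le_right
  have g₂ : Good R o r y W₂ := ⟨hy2, hy1, hyQ, ⟨S, fun t ht => ⟨hSy t ht, hSr t ht⟩⟩, hW₂, hW₂Q⟩
  have side₂ : ∀ k ∈ normalizer (R o : Set G), (∃ w ∈ W₂, ∃ v ∈ cj k V, w * v ≠ v * w) →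
      z ∈ centralizer (cj k (XX V R) : Set G) := by
    rintro k hk ⟨w, hw, v, hv, hwv⟩
    rcases four_conj b hr h4 hk g₂ ⟨w, hw, v, hv, hwv⟩ with h5 | h5
    · exact absurd (hUcm' w (hW₂.W_le hw) v (cj_le_cl_of b hr hk h5 hv)) hwv
    · rwa [hzy] at h5
  -- one step
  have step₁ : ∀ k ∈ normalizer (R o : Set G), ∀ l ∈ normalizer (R o : Set G), cj k V ≤ W₁ →
      (∃ a ∈ cj k V, ∃ c ∈ cj l V, a * c ≠ c * a) → cj l V ≤ W₂ := by
    rintro k hk l hl hkW ⟨a, ha, c, hc, hac⟩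
    exact V_le_comp b hr hW₂ hl (side₁ l hl ⟨a, hkW ha, c, hc, hac⟩) (hQy a (hW₁Q (hkW ha)))
      (hWU' a (hkW ha)) ⟨c, hc, hac⟩
  have step₂ : ∀ k ∈ normalizer (R o : Set G), ∀ l ∈ normalizer (R o : Set G), cj k V ≤ W₂ →
      (∃ a ∈ cj k V, ∃ c ∈ cj l V, a * c ≠ c * a) → cj l V ≤ W₁ := by
    rintro k hk l hl hkW ⟨a, ha, c, hc, hac⟩
    exact V_le_comp b hr hW₁ hl (side₂ l hl ⟨a, hkW ha, c, hc, hac⟩) (hQz a (hW₂Q (hkW ha)))
      (hQU a (hW₂Q (hkW ha))) ⟨c, hc, hac⟩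
  -- the graph
  set A : Set G := {x | x ∈ normalizer (R o : Set G) ∧ ∃ a ∈ V, ∃ c ∈ cj x V, a * c ≠ c * a} with hA
  set K := closure ((S : Set G) ∪ A) with hK
  have hKk : ∀ k ∈ K, k ∈ normalizer (R o : Set G) ∧ (cj k V ≤ W₁ ∨ cj k V ≤ W₂) := by
    have hstep : ∀ k x : G, (k ∈ normalizer (R o : Set G) ∧ (cj k V ≤ W₁ ∨ cj k V ≤ W₂)) →
        x ∈ normalizer (R o : Set G) → (cj x V = V ∨ ∃ a ∈ V, ∃ c ∈ cj x V, a * c ≠ c * a) →
        (k * x ∈ normalizer (R o : Set G) ∧ (cj (k * x) V ≤ W₁ ∨ cj (k * x) V ≤ W₂)) := by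
      rintro k x ⟨hk, hk'⟩ hx hx'
      refine ⟨mul_mem hk hx, ?_⟩
      rcases hx' with hx' | ⟨a, ha, c, hc, hac⟩
      · rwa [cj_mul, hx']
      · have h5 : ∃ a ∈ cj k V, ∃ c ∈ cj (k * x) V, a * c ≠ c * a := by
          refine ⟨k * a * k⁻¹, conj_mem_cj ha, k * c * k⁻¹, ?_, ?_⟩
          · rw [cj_mul]; exact conj_mem_cj hc
          · intro e
            apply hac
            have e1 : k * a * k⁻¹ * (k * c * k⁻¹) = k * (a * c) * k⁻¹ := by group
            have e2 : k * c * k⁻¹ * (k * a * k⁻¹) = k * (c * a) * k⁻¹ := by group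
            rw [e1, e2] at e
            exact mul_left_cancel (mul_right_cancel e)
        rcases hk' with hk' | hk'
        · exact Or.inr (step₁ k hk _ (mul_mem hk hx) hk' h5)
        · exact Or.inl (step₂ k hk _ (mul_mem hk hx) hk' h5)
    intro k hk
    induction hk using closure_induction_right with
    | one => exact ⟨one_mem _, Or.inl (by rw [cj_one]; exact hVW)⟩
    | mul_right k hk x hx ih =>
      rcases hx with hx | hx
      · exact hstep k x ih (b.S_R hx) (Or.inl (cj_eq_self_iff.2 (b.S_V hx)))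
      · exact hstep k x ih hx.1 (Or.inr hx.2)
    | mul_inv_cancel k hk x hx ih =>
      rcases hx with hx | hx
      · exact hstep k x⁻¹ ih (inv_mem (b.S_R hx)) (Or.inl (cj_eq_self_iff.2 (inv_mem (b.S_V hx))))
      · refine hstep k x⁻¹ ih (inv_mem hx.1) (Or.inr ?_)
        obtain ⟨a, ha, c, hc, hac⟩ := hx.2
        refine ⟨x⁻¹ * c * x, mem_cj.1 hc, x⁻¹ * a * x⁻¹⁻¹, conj_mem_cj ha, ?_⟩
        intro e
        apply hac
        have e1 : x⁻¹ * c * x * (x⁻¹ * a * x⁻¹⁻¹) = x⁻¹ * (c * a) * x := by group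
        have e2 : x⁻¹ * a * x⁻¹⁻¹ * (x⁻¹ * c * x) = x⁻¹ * (a * c) * x := by group
        rw [e1, e2] at e
        exact (mul_left_cancel (mul_right_cancel e)).symm
  have hfin := commute_of_bipartite (V := V) (K := K) S (fun s hs => subset_closure (Or.inl hs)) b.S_V
    (fun L => L ≤ W₁) ?_ ?_ h (subset_closure (Or.inr ⟨hh, a₀, ha₀, c₀, hc₀, hne₀⟩)) a₀ ha₀ c₀ hc₀
  · exact hne₀ hfin
  · intro k _ l _ h5 h6 a ha c hc
    exact hUcm a (hW₁.W_le (h5 ha)) c (hW₁.W_le (h6 hc))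
  · intro k hk l hl h5 h6 a ha c hc
    have h7 := (hKk k hk).2.resolve_left h5
    have h8 := (hKk l hl).2.resolve_left h6
    exact hUcm' a (hW₂.W_le (h7 ha)) c (hW₂.W_le (h8 hc))

end

/-- **#14489**: case (α) does not occur -/
theorem not_alpha [Finite G] {S : Sylow 2 G} {P V : Subgroup G} {R : ι → Subgroup G} {o : ι}
    (b : HT S P V R o) {z : G} (hz : z ∈ zc (S : Subgroup G) ⊓ centralizer (P : Set G)) (hz1 : z ≠ 1) :
    ¬ UM V (centralizer ({z} : Set G)) ≤ QQ (R o) := by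
  intro hα
  obtain ⟨r, hr1, hrr, hr⟩ := b.exists_gen o
  have hLE := Alpha.HT.le_all b
  have key : ∀ a : G, a ∉ centralizer (UM V (centralizer ({z} : Set G)) : Set G) →
      ∃ n ∈ UM V (centralizer ({z} : Set G)), a * n * a⁻¹ ≠ n := by
    intro a ha
    by_contra hcon
    push Not at hcon
    apply ha
    rw [mem_centralizer_iff]
    exact fun n hn => (mul_inv_eq_iff_eq_mul.1 (hcon n hn)).symm
  obtain ⟨a, ha, c, hc, h1, h2, h3⟩ := AlphaOne.alpha_two b hLE hz hz1 hα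
  exact five b hr hLE (fun g hW => Alpha.alpha_four b hr hz hz1 hα g hW) hz hz1 hα
    ⟨a, ha, c, hc, key a h1, key c h2, key _ h3⟩

end Cfsg.Agent.Omega.HTwo.AlphaFive
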