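import Cfsg.Agent.Omega.HOne.Main
import Cfsg.Agent.Omega.HOneQ.Entry
import Cfsg.Agent.Omega.HTwo.AlphaFive

/-!
# II.0h1, `q = 2`: the entry

From the normal form `HOne.Main.Same S P g M` (`N = [V_P, O²(P)]`, `V_P = N × C_{V_P}(O²(P))`, `C_{V_P}(O²(P)) ≠ 1`)
with `|F| = 2` to the situation `HOneTwo.HT S P N (pt M) o`:

* `exists_ht` : there is a point `o` of `N` with `HT S P N (pt M) o`;
* `cz_eq`, `cz_ne` : `C_Z(P) = C_{V_P}(O²(P)) ≠ 1`, `Z = Ω₁(Z(S))`;
* `structure Pos S P V R o r z` : `HT S P V R o`, `r` the involution of `R o`, `1 ≠ z ∈ C_Z(P)`; `exists_pos`;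
* consequences of `Pos`: `Pos.le_all` (THEOREM A), `Pos.exists_conj_ne`, `Pos.not_alpha`;
* `PosStmt K` : the statement on `Pos` which is left; `same2_of : PosStmt K → Same2 K`.
-/

set_option autoImplicit false
set_option linter.unusedSectionVars false

namespace Cfsg.Agent.Omega.HTwo.Entry

open Subgroup Cfsg Cfsg.Agent.ZN Cfsg.Agent.Omega.MinPar
open Cfsg.Agent.MinSimple.VModule (oddGen zc_le_zl zc_sq)
open Cfsg.Agent.Omega.NatPair (NatMod exists_ap)
open Cfsg.Agent.Omega.BTwo Cfsg.Agent.Omega.HOneTwo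
open Cfsg.Agent.Omega.FrameFF (cv AllSingle)
open Cfsg.Agent.Omega.HOne.Main (Same Same2 AllSplit)
open Cfsg.Agent.Omega.Frame
open Cfsg.Agent.Omega.FrameLE (AllIn)

universe u

variable {G : Type u} [Group G] [Finite G] {S : Sylow 2 G} {P : Subgroup G} {g : G}
  {F : Type} [Field F] {N : Subgroup G} {M : NatMod F N}

section same

variable (h : Same (S : Subgroup G) P g M)
include h

theorem S_le : (S : Subgroup G) ≤ P := h.mp.star₁.le

theorem S_norm : (S : Subgroup G) ≤ normalizer (N : Set G) := (S_le h).trans h.le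

theorem cv_le_zc (hG : IsCharacteristicTwoType G) : cv (S : Subgroup G) P ≤ zc (S : Subgroup G) := by
  have hloc := h.mp.star₁.isLoc
  have h1 : zl (S : Subgroup G) P ≤ (S : Subgroup G) :=
    ((hloc.zl_le S hG).trans (zc_le _)).trans (hloc.o2_le S)
  intro d hd
  have hd' : d ∈ zl (S : Subgroup G) P := hd.1
  rw [mem_zc]
  refine ⟨h1 hd', fun s hs => ?_, zc_sq _ _ (hloc.zl_le S hG hd')⟩
  exact (mem_centralizer_iff.1 (h.cen (S_le h hs)) d hd).symm

/-- `V_P = N C_{V_P}(O²(P))` -/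
theorem exists_mul_cv [Finite F] [CharP F 2] {v : G} (hv : v ∈ zl (S : Subgroup G) P) :
    ∃ n ∈ N, ∃ d ∈ cv (S : Subgroup G) P, v = n * d := by
  rw [← h.sup] at hv
  have h3 : cv (S : Subgroup G) P ≤ normalizer (N : Set G) := by
    intro d hd
    have h4 : N ≤ P := by
      intro n hn
      exact S_le h (HOneQ.V_le_S M S (S_norm h) hn)
    refine centralizer_le_normalizer _ ?_
    rw [mem_centralizer_iff]
    exact fun n hn => (mem_centralizer_iff.1 (h.cen (h4 hn)) d hd).symm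
  rw [← SetLike.mem_coe, coe_mul_of_right_le_normalizer_left _ _ h3] at hv
  obtain ⟨n, hn, d, hd, rfl⟩ := hv
  exact ⟨n, hn, d, hd, rfl⟩

/-- `[P, Z] ≤ N` -/
theorem comm_zc [Finite F] [CharP F 2] {x z : G} (hx : x ∈ P) (hz : z ∈ zc (S : Subgroup G)) : x * z * x⁻¹ * z⁻¹ ∈ N := by
  obtain ⟨n, hn, d, hd, rfl⟩ := exists_mul_cv h (zc_le_zl _ _ hz)
  have h1 : x * d = d * x := (mem_centralizer_iff.1 (h.cen hx) d hd).symm
  have h2 : x * (n * d) * x⁻¹ * (n * d)⁻¹ = x * n * x⁻¹ * n⁻¹ := by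
    calc x * (n * d) * x⁻¹ * (n * d)⁻¹ = x * n * (d * x⁻¹) * d⁻¹ * n⁻¹ := by group
      _ = x * n * (x⁻¹ * (x * d) * x⁻¹) * d⁻¹ * n⁻¹ := by group
      _ = x * n * (x⁻¹ * (d * x) * x⁻¹) * d⁻¹ * n⁻¹ := by rw [h1]
      _ = x * n * x⁻¹ * n⁻¹ := by group
  rw [h2]
  exact mul_mem (conj_mem_of_normalizer (h.le hx) hn) (inv_mem hn)

/-- **the entry to `HT`** -/
theorem exists_ht [Finite F] [CharP F 2] (hG : IsCharacteristicTwoType G) (hF : Nat.card F = 2) :
    ∃ o : Pt M, HT S P N (pt M) o := by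
  obtain ⟨o, ho⟩ := HOneQ.exists_pt M S (S_norm h)
  refine ⟨o, { HOneQ.bts M S (S_norm h) hG h.pair h.VQ with
    card_R := ?_, char2 := hG, S_V := S_norm h, S_R := ho, S_P := S_le h, P_V := h.le,
    P_trans := ?_, P_Z := fun x hx z hz => comm_zc h hx hz }⟩
  · rintro ⟨_, w, hw, rfl⟩
    change Nat.card (M.line w) = 2
    rw [M.card_line hw, hF]
  · obtain ⟨_, w, hw, rfl⟩ := o
    rintro ⟨_, u, hu, rfl⟩
    obtain ⟨A, hA⟩ := exists_ap hw hu
    obtain ⟨l, hl, hlA⟩ := h.lift A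
    refine ⟨l, hl, ?_⟩
    have := M.cj_line_of_ind hlA w
    rw [hA] at this
    exact this

/-- `C_{V_P}(O²(P)) ≤ C_Z(P)` -/
theorem cv_le_cz (hG : IsCharacteristicTwoType G) :
    cv (S : Subgroup G) P ≤ zc (S : Subgroup G) ⊓ centralizer (P : Set G) :=
  le_inf (cv_le_zc h hG) (le_centralizer_iff.1 h.cen)

/-- `C_Z(P) = C_{V_P}(O²(P))` -/
theorem cz_eq (hG : IsCharacteristicTwoType G) :
    zc (S : Subgroup G) ⊓ centralizer (P : Set G) = cv (S : Subgroup G) P := by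
  refine le_antisymm ?_ (cv_le_cz h hG)
  refine le_inf (inf_le_left.trans (zc_le_zl _ _)) (inf_le_right.trans (centralizer_le ?_))
  exact Cfsg.Agent.MinSimple.VModule.oddGen_le P

theorem cz_ne (hG : IsCharacteristicTwoType G) :
    zc (S : Subgroup G) ⊓ centralizer (P : Set G) ≠ ⊥ := by
  rw [cz_eq h hG]
  exact h.ne

end same

/-! ### The position -/

/-- The situation of II.0h1, `q = 2`, with the involution `r` of `R o` and `1 ≠ z ∈ C_Z(P)`, `Z = Ω₁(Z(S))`. -/
structure Pos {ι : Type*} (S : Sylow 2 G) (P V : Subgroup G) (R : ι → Subgroup G) (o : ι) (r z : G) : Prop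
    extends HT S P V R o where
  r_ne : r ≠ 1
  r_sq : r * r = 1
  r_iff : ∀ x, x ∈ R o ↔ x = 1 ∨ x = r
  z_mem : z ∈ zc (S : Subgroup G) ⊓ centralizer (P : Set G)
  z_ne : z ≠ 1

/-- **the entry** -/
theorem exists_pos [Finite F] [CharP F 2] (hG : IsCharacteristicTwoType G)
    (h : Same (S : Subgroup G) P g M) (hF : Nat.card F = 2) :
    ∃ (o : Pt M) (r z : G), Pos S P N (pt M) o r z := by
  obtain ⟨o, b⟩ := exists_ht h hG hF
  obtain ⟨r, h1, h2, h3⟩ := b.exists_gen o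
  obtain ⟨⟨z, hz⟩, hz1⟩ := (Subgroup.ne_bot_iff_exists_ne_one).1 (cz_ne h hG)
  exact ⟨o, r, z, { b with r_ne := h1, r_sq := h2, r_iff := h3, z_mem := hz, z_ne := fun e => hz1 (Subtype.ext e) }⟩

namespace Pos

variable {ι : Type*} {V : Subgroup G} {R : ι → Subgroup G} {o : ι} {r z : G}
  (p : Pos S P V R o r z)
include p

theorem r_mem : r ∈ R o := (p.r_iff r).2 (Or.inr rfl)

theorem z_sq : z * z = 1 := by
  rw [← pow_two]
  exact (mem_zc.1 p.z_mem.1).2.2

theorem z_cenX : z ∈ CenX V R := p.toHT.cz_le p.z_mem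

/-- THEOREM A -/
theorem le_all : ∀ i, ThmA.LE V R i := Alpha.HT.le_all p.toHT

/-- `z` is moved by `H₁ = N(R o)` -/
theorem exists_conj_ne : ∃ h ∈ normalizer (R o : Set G), h * z * h⁻¹ ≠ z :=
  p.toHT.exists_conj_ne p.z_mem p.z_ne

/-- (α) is dead -/
theorem not_alpha : ¬ UM V (centralizer ({z} : Set G)) ≤ QQ (R o) :=
  AlphaFive.not_alpha p.toHT p.z_mem p.z_ne

theorem P_le : P ≤ centralizer ({z} : Set G) := p.toHT.P_le_cen p.z_mem

theorem X_le : XX V R ≤ centralizer ({z} : Set G) := p.toHT.X_le_cen p.z_mem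

/-- `N(R o) = C(r)` -/
theorem normalizer_eq : normalizer (R o : Set G) = centralizer ({r} : Set G) := by
  apply le_antisymm
  · intro x hx
    rw [mem_centralizer_singleton_iff]
    exact (mem_centralizer_iff.1 (normalizer_le_cen_of_card (p.card_R o) hx) r p.r_mem).symm
  · intro x hx
    rw [mem_centralizer_singleton_iff] at hx
    refine centralizer_le_normalizer _ ?_
    rw [mem_centralizer_iff]
    intro y hy
    rcases (p.r_iff y).1 hy with rfl | rfl
    · rw [one_mul, mul_one]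
    · exact hx.symm

end Pos

/-! ### The socket -/

/-- The statement on the position `Pos` which is left: `star` and `zl_eq` are `P ∈ P*(S)` and
`V_P = V C_Z(P)`. -/
def PosStmt (K : Cls.{u}) : Prop :=
  ∀ (G : Type u) [Group G] [Finite G], Ctx G → K G → ∀ (S : Sylow 2 G), Full (S : Subgroup G) →
    AllIn (S : Subgroup G) → AllSingle (S : Subgroup G) → AllSplit (S : Subgroup G) →
    ∀ (P V : Subgroup G) (ι : Type u) (R : ι → Subgroup G) (o : ι) (r z : G), Pos S P V R o r z →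
      IsParS (S : Subgroup G) P →
      zl (S : Subgroup G) P = V ⊔ (zc (S : Subgroup G) ⊓ centralizer (P : Set G)) → IsKnownSimple' G

/-- **the normal form, `|F| = 2`, from the position** -/
theorem same2_of {K : Cls.{u}} (H : PosStmt K) : Same2 K := by
  intro G _ _ hG hK S hF hI hS hs P g F _ _ _ N M h h2
  obtain ⟨o, r, z, p⟩ := exists_pos hG.char2 h h2
  refine H G hG hK S hF hI hS hs P N (Pt M) (pt M) o r z p h.mp.star₁ ?_
  rw [cz_eq h hG.char2, h.sup]

end Cfsg.Agent.Omega.HTwo.Entry
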