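import Cfsg.Agent.Omega.HTwo.TComp

/-!
# `O₂(X / C_X(U)) = 1` for `U = ⟨A^X⟩`, `A ≤ Z(S)`-like (`A` centralised by the Sylow group `S` of `X`)

* `le_cen_cl`, `le_cen_cl_of_pow` (as `MinSimple.Basic.le_centralizer_zl`, with `cl A X` for `zl S X`);
* `gsys_of_sylow` : the structure `TV.GSys`; `natC_of_sylow`.
-/

set_option autoImplicit false

namespace Cfsg.Agent.Omega.HTwo.TComp

open Subgroup Cfsg.Agent.Omega.TV Cfsg.Agent.Omega.HOneTwo Cfsg.Agent.MinSimple.VModule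
open Cfsg.Agent Cfsg.Agent.MinSimple.Basic Cfsg.Agent.Omega.BTwo

universe u

variable {G : Type u} [Group G]

theorem le_cen_cl [Finite G] {X S D A : Subgroup G} (hSX : S ≤ X) (hS : IsPGroup 2 S)
    (hSs : ¬ 2 ∣ S.relIndex X) (hA : S ≤ centralizer (A : Set G)) (hD : X ≤ normalizer (D : Set G))
    (h : D ≤ centralizer (cl A X : Set G) ⊔ (S ⊓ D)) : D ≤ centralizer (cl A X : Set G) := by
  set V := cl A X with hV
  have hXV : X ≤ normalizer (V : Set G) := le_normalizer_cl A X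
  have hC : A ≤ V ⊓ centralizer ((S ⊓ D : Subgroup G) : Set G) :=
    le_inf (le_cl A X) (le_centralizer_iff.1 (inf_le_left.trans hA))
  have hn : X ≤ normalizer ((V ⊓ centralizer ((S ⊓ D : Subgroup G) : Set G) : Subgroup G) :
      Set G) := by
    refine (frattini hSX hS hSs hD).trans (sup_le (h.trans (sup_le ?_ ?_)) ?_)
    · intro c hc
      refine mem_normalizer_of_map_le ?_
      rintro _ ⟨v, ⟨hv1, hv2⟩, rfl⟩
      have e : c * v * c⁻¹ = v := by
        rw [← mem_centralizer_iff.mp hc v hv1]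
        group
      change c * v * c⁻¹ ∈ _
      rw [e]
      exact ⟨hv1, hv2⟩
    · intro c hc
      refine mem_normalizer_of_map_le ?_
      rintro _ ⟨v, ⟨hv1, hv2⟩, rfl⟩
      have e : c * v * c⁻¹ = v := by
        rw [mem_centralizer_iff.mp hv2 c hc]
        group
      change c * v * c⁻¹ ∈ _
      rw [e]
      exact ⟨hv1, hv2⟩
    · rintro c ⟨hcX, hcN⟩
      refine mem_normalizer_of_map_le ?_
      rintro _ ⟨v, ⟨hv1, hv2⟩, rfl⟩
      refine ⟨(mem_normalizer_iff.mp (hXV hcX) v).mp hv1, ?_⟩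
      change c * v * c⁻¹ ∈ centralizer ((S ⊓ D : Subgroup G) : Set G)
      rw [mem_centralizer_iff]
      intro t ht
      have h4 : c⁻¹ * t * c ∈ S ⊓ D := by
        have := (mem_normalizer_iff.mp (inv_mem hcN) t).mp ht
        rwa [inv_inv] at this
      have h5 := mem_centralizer_iff.mp hv2 _ h4
      calc t * (c * v * c⁻¹) = c * ((c⁻¹ * t * c) * v) * c⁻¹ := by group
        _ = c * (v * (c⁻¹ * t * c)) * c⁻¹ := by rw [h5]
        _ = c * v * c⁻¹ * t := by group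
  have hle : V ≤ V ⊓ centralizer ((S ⊓ D : Subgroup G) : Set G) := cl_le hC hn
  refine h.trans (sup_le le_rfl ?_)
  exact le_centralizer_iff.mp (hle.trans inf_le_right)

theorem le_cen_cl_of_pow [Finite G] {X S D A : Subgroup G} (hSX : S ≤ X) (hS : IsPGroup 2 S)
    (hSs : ¬ 2 ∣ S.relIndex X) (hA : S ≤ centralizer (A : Set G)) (hDX : D ≤ X)
    (hD : X ≤ normalizer (D : Set G))
    (h : ∀ x ∈ D, ∃ k : ℕ, x ^ 2 ^ k ∈ centralizer (cl A X : Set G)) :
    D ≤ centralizer (cl A X : Set G) := by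
  have hf : Fact (Nat.Prime 2) := ⟨Nat.prime_two⟩
  refine le_cen_cl hSX hS hSs hA hD ?_
  have h1 : IsPGroup 2 (S.subgroupOf X) := hS.comap_of_injective _ X.subtype_injective
  have hn : (D.subgroupOf X).Normal := normal_subgroupOf_of_le_normalizer hD
  have hn2 : ((X ⊓ centralizer (cl A X : Set G)).subgroupOf X).Normal := by
    refine normal_subgroupOf_of_le_normalizer ?_
    intro x hx
    have h3 := normalizer_le_normalizer_centralizer _ (le_normalizer_cl A X hx)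
    rw [← cj_eq_self_iff, cj_inf, cj_eq_self_iff.2 h3, cj_eq_self_iff.2 (le_normalizer hx)]
  have h2 := Lib.SylowNormalInf.le_sup_inf (h1.toSylow hSs : Sylow 2 X)
    (D.subgroupOf X) ((X ⊓ centralizer (cl A X : Set G)).subgroupOf X) (fun x hx => by
      obtain ⟨k, hk⟩ := h x hx
      exact ⟨k, (x ^ 2 ^ k).2, hk⟩)
  have h3 := Subgroup.map_mono (f := X.subtype) h2
  rw [subgroupOf_map_subtype, inf_eq_left.mpr hDX, Subgroup.map_sup, subgroupOf_map_subtype] at h3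
  refine h3.trans (sup_le_sup (inf_le_left.trans inf_le_right) ?_)
  rintro _ ⟨x, hx, rfl⟩
  exact hx

/-- the group acting trivially on `U` and `N / U` acts trivially on `N = ⟨A^C⟩` -/
theorem chain_of_sylow [Finite G] (T : Sylow 2 G) {C A : Subgroup G} (hTC : (T : Subgroup G) ≤ C)
    (hA : (T : Subgroup G) ≤ centralizer (A : Set G)) (sq : ∀ x ∈ cl A C, x * x = 1) {U : Subgroup G}
    (hU : U ≤ cl A C) (hCU : ∀ c ∈ C, ∀ u ∈ U, c * u * c⁻¹ ∈ U) {c : G} (hc : c ∈ C)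
    (h1 : ∀ u ∈ U, c * u * c⁻¹ = u) (h2 : ∀ n ∈ cl A C, c * n * c⁻¹ * n⁻¹ ∈ U) :
    ∀ n ∈ cl A C, c * n * c⁻¹ = n := by
  set N := cl A C with hN
  have hNC : ∀ c ∈ C, ∀ n ∈ N, c * n * c⁻¹ ∈ N := fun c hc n hn =>
    conj_mem_of_normalizer (le_normalizer_cl A C hc) hn
  let K : Subgroup G :=
    { carrier := {c | c ∈ C ∧ (∀ u ∈ U, c * u * c⁻¹ = u) ∧ ∀ n ∈ N, c * n * c⁻¹ * n⁻¹ ∈ U}
      one_mem' := ⟨C.one_mem, fun u _ => by group, fun n _ => by
        have : (1 : G) * n * 1⁻¹ * n⁻¹ = 1 := by group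
        rw [this]; exact U.one_mem⟩
      mul_mem' := by
        rintro x y ⟨hx, hx1, hx2⟩ ⟨hy, hy1, hy2⟩
        refine ⟨C.mul_mem hx hy, fun u hu => ?_, fun n hn => ?_⟩
        · have e : x * y * u * (x * y)⁻¹ = x * (y * u * y⁻¹) * x⁻¹ := by group
          rw [e, hy1 u hu, hx1 u hu]
        · have e : x * y * n * (x * y)⁻¹ * n⁻¹ =
              (x * (y * n * y⁻¹) * x⁻¹ * (y * n * y⁻¹)⁻¹) * (y * n * y⁻¹ * n⁻¹) := by group
          rw [e]
          exact U.mul_mem (hx2 _ (hNC y hy n hn)) (hy2 n hn)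
      inv_mem' := by
        rintro x ⟨hx, hx1, hx2⟩
        refine ⟨C.inv_mem hx, fun u hu => ?_, fun n hn => ?_⟩
        · nth_rewrite 1 [← hx1 u hu]
          group
        · have h3 := hx2 _ (hNC _ (C.inv_mem hx) n hn)
          have e : x⁻¹ * n * x⁻¹⁻¹ * n⁻¹ =
              (x * (x⁻¹ * n * x⁻¹⁻¹) * x⁻¹ * (x⁻¹ * n * x⁻¹⁻¹)⁻¹)⁻¹ := by group
          rw [e]
          exact U.inv_mem h3 }
  have hKC : K ≤ C := fun x hx => hx.1
  have hKn : C ≤ normalizer (K : Set G) := by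
    have key : ∀ g ∈ C, ∀ x ∈ K, g * x * g⁻¹ ∈ K := by
      rintro g hg x ⟨hx, hx1, hx2⟩
      refine ⟨C.mul_mem (C.mul_mem hg hx) (C.inv_mem hg), fun u hu => ?_, fun n hn => ?_⟩
      · have h3 := hx1 _ (hCU _ (C.inv_mem hg) u hu)
        have e : g * x * g⁻¹ * u * (g * x * g⁻¹)⁻¹ = g * (x * (g⁻¹ * u * g⁻¹⁻¹) * x⁻¹) * g⁻¹ := by group
        rw [e, h3]; group
      · have h3 := hCU g hg _ (hx2 _ (hNC _ (C.inv_mem hg) n hn))
        have e : g * x * g⁻¹ * n * (g * x * g⁻¹)⁻¹ * n⁻¹ =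
            g * (x * (g⁻¹ * n * g⁻¹⁻¹) * x⁻¹ * (g⁻¹ * n * g⁻¹⁻¹)⁻¹) * g⁻¹ := by group
        rw [e]; exact h3
    intro g hg
    rw [mem_normalizer_iff]
    intro x
    refine ⟨fun hx => key g hg x hx, fun hx => ?_⟩
    have h3 := key _ (C.inv_mem hg) _ hx
    have e : g⁻¹ * (g * x * g⁻¹) * g⁻¹⁻¹ = x := by group
    rwa [e] at h3
  have hsyl := not_dvd_relIndex T hTC
  have h5 : K ≤ centralizer (N : Set G) := by
    refine le_cen_cl_of_pow hTC T.isPGroup' hsyl hA hKC hKn ?_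
    rintro x ⟨hx, hx1, hx2⟩
    refine ⟨1, ?_⟩
    rw [pow_one, mem_centralizer_iff]
    intro n hn
    have h3 := hx2 n hn
    set d := x * n * x⁻¹ * n⁻¹ with hd
    have h4 : x * n = d * n * x := by rw [hd]; group
    have h6 : x * d = d * x := mul_inv_eq_iff_eq_mul.1 (hx1 d h3)
    calc n * x ^ 2 = (d * d) * n * x ^ 2 := by rw [sq d (hU h3)]; group
      _ = d * (d * n * x) * x := by rw [pow_two]; group
      _ = (d * x) * n * x := by rw [← h4]; group
      _ = x * (d * n * x) := by rw [← h6]; group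
      _ = x ^ 2 * n := by rw [← h4, pow_two]; group
  intro n hn
  have h6 : c ∈ K := ⟨hc, h1, h2⟩
  have h7 := mem_centralizer_iff.1 (h5 h6) n hn
  rw [← h7]; group

theorem zpowers_two {r : G} (h : r * r = 1) {x : G} (hx : x ∈ zpowers r) : x = 1 ∨ x = r := by
  obtain ⟨k, rfl⟩ := hx
  rcases Int.even_or_odd' k with ⟨m, rfl | rfl⟩
  · left
    change r ^ (2 * m) = 1
    rw [zpow_mul]
    have : r ^ (2 : ℤ) = 1 := by rw [zpow_two]; exact h
    rw [this, one_zpow]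
  · right
    change r ^ (2 * m + 1) = r
    rw [zpow_add, zpow_mul]
    have : r ^ (2 : ℤ) = 1 := by rw [zpow_two]; exact h
    rw [this, one_zpow, one_mul, zpow_one]

/-- `C ≥ T` Sylow, `r ∈ Z(T)`, `N = ⟨r^C⟩` elementary -/
theorem gsys_of_sylow [Finite G] (T : Sylow 2 G) {C A : Subgroup G} {r : G}
    (hTC : (T : Subgroup G) ≤ C) (hT : ∀ t ∈ (T : Subgroup G), t * r = r * t)
    (hA : ∀ x, x ∈ A ↔ x = 1 ∨ x = r) (hr : r ≠ 1)
    (sq : ∀ x ∈ cl A C, x * x = 1) : GSys C (cl A C) r where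
  sq := sq
  nor := fun _ hc _ hn => conj_mem_of_normalizer (le_normalizer_cl A C hc) hn
  mem := le_cl A C ((hA r).2 (Or.inr rfl))
  ne := hr
  gen := by
    refine iSup_le fun m => ?_
    rintro _ ⟨x, hx, rfl⟩
    change (m : G) * x * (m : G)⁻¹ ∈ _
    rcases (hA x).1 hx with rfl | rfl
    · rw [mul_one, mul_inv_cancel]; exact one_mem _
    · exact subset_closure ⟨m, m.2, rfl⟩
  chain := by
    intro U hU hCU c hc h1 h2
    refine chain_of_sylow T hTC ?_ sq hU hCU hc h1 h2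
    intro t ht
    rw [mem_centralizer_iff]
    intro x hx
    rcases (hA x).1 hx with rfl | rfl
    · rw [one_mul, mul_one]
    · exact (hT t ht).symm

/-- **LEMMA T**, component form, inside a group -/
theorem natC_of_sylow [Finite G] (T : Sylow 2 G) {C A : Subgroup G} {r : G}
    (hTC : (T : Subgroup G) ≤ C) (hT : ∀ t ∈ (T : Subgroup G), t * r = r * t)
    (hA : ∀ x, x ∈ A ↔ x = 1 ∨ x = r) (hr : r ≠ 1)
    (sq : ∀ x ∈ cl A C, x * x = 1) {a b : G} (ha : a ∈ C) (hb : b ∈ C)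
    (hta : ∀ n ∈ cl A C, a * n * a⁻¹ = n ∨ a * n * a⁻¹ = n * r)
    (htb : ∀ n ∈ cl A C, b * n * b⁻¹ = n ∨ b * n * b⁻¹ = n * r)
    (hna : ∃ n ∈ cl A C, a * n * a⁻¹ ≠ n) (hnb : ∃ n ∈ cl A C, b * n * b⁻¹ ≠ n)
    (hnab : ∃ n ∈ cl A C, a * b * n * (a * b)⁻¹ ≠ n) : ∃ W, NatC C (cl A C) W r :=
  natC_of (gsys_of_sylow T hTC hT hA hr sq) ha hb hta htb hna hnb hnab

end Cfsg.Agent.Omega.HTwo.TComp
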