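import Cfsg.Agent.Omega.BTwo.Split

/-!
# II.0h1 (split): the map `c ↦ [w, c]`, `c ∈ C(W i)`, `w ∈ W j - U j` (#12123 (3)), all `q`, field-free
-/

set_option autoImplicit false

namespace Cfsg.Agent.Omega.HTwo.Comm

open Subgroup Cfsg.Agent.Omega.BTwo

variable {G : Type*} [Group G] {ι : Type*}

/-- `D₀ = C_D(X)` -/
abbrev D0 (V : Subgroup G) (R : ι → Subgroup G) : Subgroup G := DD V R ⊓ CenX V R

/-- elements of `D` commute with `C(W i)` -/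
theorem comm_D {V : Subgroup G} {R : ι → Subgroup G} {i : ι} {c d : G}
    (hc : c ∈ centralizer (WW V (R i) : Set G)) (hd : d ∈ DD V R) :
    c * d = d * c := (mem_centralizer_iff.1 hc d (D_le_W V R i hd)).symm

section BT

variable {V : Subgroup G} {R : ι → Subgroup G} (b : BT V R)
include b

/-- `[w, c] ∈ U j` for `w ∈ W j`, `c ∈ C(W i)` -/
theorem WC {i j : ι} {c w : G} (hc : c ∈ centralizer (WW V (R i) : Set G))
    (hw : w ∈ WW V (R j)) : w * c * w⁻¹ * c⁻¹ ∈ UU V R j := by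
  have e : w * c * w⁻¹ * c⁻¹ = (c * w * c⁻¹ * w⁻¹)⁻¹ := by group
  rw [e]
  exact inv_mem (b.cen_W_W hc hw)

/-- `c^w ∈ C(W k)` -/
theorem conj_cen {i k : ι} {c w : G} (hc : c ∈ centralizer (WW V (R i) : Set G))
    (hk : cj w (R i) = R k) : w * c * w⁻¹ ∈ centralizer (WW V (R k) : Set G) := by
  rw [← b.cj_WW hk, centralizer_cj]
  exact conj_mem_cj hc

/-- `[C(W i), C(W j)] ≤ C_X` -/
theorem cen_cen {i j : ι} (hij : i ≠ j) {c c' : G}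
    (hc : c ∈ centralizer (WW V (R i) : Set G)) (hc' : c' ∈ centralizer (WW V (R j) : Set G)) :
    c * c' * c⁻¹ * c'⁻¹ ∈ CenX V R := by
  have n1 := normalizer_le_normalizer_centralizer _ (b.cen_le_NW j (cen_W_le V (R i) hc))
  have n2 := normalizer_le_normalizer_centralizer _ (b.cen_le_NW i (cen_W_le V (R j) hc'))
  have h1 : c * c' * c⁻¹ * c'⁻¹ ∈ centralizer (WW V (R j) : Set G) :=
    mul_mem (conj_mem_of_normalizer n1 hc') (inv_mem hc')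
  have h2 : c * c' * c⁻¹ * c'⁻¹ ∈ centralizer (WW V (R i) : Set G) := by
    have e : c * c' * c⁻¹ * c'⁻¹ = c * (c' * c⁻¹ * c'⁻¹) := by group
    rw [e]
    exact mul_mem hc (conj_mem_of_normalizer n2 (inv_mem hc))
  exact b.mem_cen_X hij h2 h1

/-- `[c^w, y] = [c, y]^w` for `y ∈ U j` -/
theorem conj_comm {i j : ι} {c w y : G} (hc : c ∈ centralizer (WW V (R i) : Set G))
    (hw : w ∈ WW V (R j)) (hy : y ∈ UU V R j) :
    (w * c * w⁻¹) * y * (w * c * w⁻¹)⁻¹ * y⁻¹ = w * (c * y * c⁻¹ * y⁻¹) * w⁻¹ := by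
  have hs : w⁻¹ * y * w⁻¹⁻¹ * y⁻¹ ∈ R j := b.WU (inv_mem hw) hy
  set s := w⁻¹ * y * w⁻¹⁻¹ * y⁻¹ with hsdef
  have h1 : c * s = s * c :=
    (mem_centralizer_iff.1 (cen_W_le V (R i) hc) s (b.R_le j hs)).symm
  have h2 : w⁻¹ * y * w = s * y := by rw [hsdef]; group
  have h3 : w * s * w⁻¹ = s := b.conj_R (b.W_le_Q j hw) hs
  calc (w * c * w⁻¹) * y * (w * c * w⁻¹)⁻¹ * y⁻¹ = w * (c * (w⁻¹ * y * w) * c⁻¹) * w⁻¹ * y⁻¹ := by group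
    _ = w * (c * s * y * c⁻¹) * w⁻¹ * y⁻¹ := by rw [h2]; group
    _ = w * (s * (c * y * c⁻¹ * y⁻¹) * y) * w⁻¹ * y⁻¹ := by rw [h1]; group
    _ = (w * s * w⁻¹) * (w * (c * y * c⁻¹ * y⁻¹) * w⁻¹) * (w * y * w⁻¹) * y⁻¹ := by group
    _ = s * (w * (c * y * c⁻¹ * y⁻¹) * w⁻¹) * (w * (s⁻¹ * (w⁻¹ * y * w)) * w⁻¹) * y⁻¹ := by
        rw [h3, h2]; group
    _ = s * (w * (c * y * c⁻¹ * y⁻¹) * w⁻¹) * (w * s * w⁻¹)⁻¹ := by group
    _ = s * (w * (c * y * c⁻¹ * y⁻¹) * w⁻¹) * s⁻¹ := by rw [h3]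
    _ = w * (c * y * c⁻¹ * y⁻¹) * w⁻¹ := by
        have h4 : s * (w * (c * y * c⁻¹ * y⁻¹) * w⁻¹) = (w * (c * y * c⁻¹ * y⁻¹) * w⁻¹) * s := by
          have h5 : c * y * c⁻¹ * y⁻¹ ∈ centralizer (V : Set G) := by
            have hcV := cen_W_le V (R i) hc
            have hyV := UU_le_cen j hy
            exact mul_mem (mul_mem (mul_mem hcV hyV) (inv_mem hcV)) (inv_mem hyV)
          have h6 : w * (c * y * c⁻¹ * y⁻¹) * w⁻¹ ∈ centralizer (V : Set G) :=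
            conj_mem_of_normalizer (normalizer_le_normalizer_centralizer V (b.W_le_NV j hw)) h5
          exact mem_centralizer_iff.1 h6 s (b.R_le j hs)
        rw [h4, mul_inv_cancel_right]

theorem comm_V_of {i j : ι} {a c w : G} (ha : a ∈ R i)
    (hc : a * c ∈ CenX V R) (hw : w ∈ WW V (R j)) :
    w * c * w⁻¹ * c⁻¹ = w * a⁻¹ * w⁻¹ * a ∧ w * c * w⁻¹ * c⁻¹ ∈ V := by
  have h1 := mem_centralizer_iff.1 hc w (W_le_X V R j hw)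
  have e2 : w * c * w⁻¹ * c⁻¹ = w * a⁻¹ * w⁻¹ * a := by
    calc w * c * w⁻¹ * c⁻¹ = w * a⁻¹ * w⁻¹ * (w * (a * c)) * w⁻¹ * c⁻¹ := by group
      _ = w * a⁻¹ * w⁻¹ * a := by rw [h1]; group
  refine ⟨e2, ?_⟩
  rw [e2]
  exact mul_mem (conj_mem_of_normalizer (b.W_le_NV j hw) (b.R_le i (inv_mem ha))) (b.R_le i ha)

/-- an element of `W j` outside `U j` -/
theorem exists_not_U (j : ι) : ∃ w ∈ WW V (R j), w ∉ UU V R j := by
  obtain ⟨i, hij, -⟩ := b.third j j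
  obtain ⟨k, hki, hkj⟩ := b.third i j
  obtain ⟨w, hw, e⟩ := b.trans j hij hkj
  refine ⟨w, hw, fun h => hki ?_⟩
  have h1 : cj w (R i) = R i := cj_eq_self_iff.2 (b.cen_le_N i (UU_le_cen j h))
  exact b.R_index (e.symm.trans h1)

end BT

section BTS

variable {V : Subgroup G} {R : ι → Subgroup G} (b : BTS V R)
include b

/-- **(3)** multiplicativity modulo `D` -/
theorem mul_mod {i j : ι} (hij : i ≠ j) {c c' w : G} (hc : c ∈ centralizer (WW V (R i) : Set G))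
    (hc' : c' ∈ centralizer (WW V (R i) : Set G)) (hw : w ∈ WW V (R j)) :
    (w * (c * c') * w⁻¹ * (c * c')⁻¹) * (w * c * w⁻¹ * c⁻¹ * (w * c' * w⁻¹ * c'⁻¹))⁻¹ ∈ DD V R := by
  have h := (b.cen_W_U hij hc (WC b.toBT hc' hw)).1
  have h2 := conj_mem_of_normalizer (b.Y_le_ND (UU_le_YY j (WC b.toBT hc hw))) h
  have e : (w * (c * c') * w⁻¹ * (c * c')⁻¹) * (w * c * w⁻¹ * c⁻¹ * (w * c' * w⁻¹ * c'⁻¹))⁻¹ =
      (w * c * w⁻¹ * c⁻¹) * (c * (w * c' * w⁻¹ * c'⁻¹) * c⁻¹ * (w * c' * w⁻¹ * c'⁻¹)⁻¹) *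
        (w * c * w⁻¹ * c⁻¹)⁻¹ := by group
  rw [e]
  exact h2

/-- **(3)** `[[w, c], y] = t⁻¹ t^w` where `t = [c, y]`, `y ∈ U j` -/
theorem comm_comm {i j : ι} (hij : i ≠ j) {c w y : G} (hc : c ∈ centralizer (WW V (R i) : Set G))
    (hw : w ∈ WW V (R j)) (hy : y ∈ UU V R j) :
    (w * c * w⁻¹ * c⁻¹) * y * (w * c * w⁻¹ * c⁻¹)⁻¹ * y⁻¹ =
      (c * y * c⁻¹ * y⁻¹)⁻¹ * (w * (c * y * c⁻¹ * y⁻¹) * w⁻¹) := by
  have ht := b.cen_W_U hij hc hy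
  have hcc := conj_comm b.toBT hc hw hy
  set t := c * y * c⁻¹ * y⁻¹ with htdef
  have h1 : c * t = t * c := comm_D hc ht.1
  obtain ⟨k, hk⟩ := b.perm w (b.W_le_NV j hw) i
  have hc' := conj_cen b.toBT hc hk
  have h2 : (w * c * w⁻¹) * t = t * (w * c * w⁻¹) := comm_D hc' ht.1
  have h3 : c⁻¹ * y * c = t⁻¹ * y := by
    have h4 : c * y * c⁻¹ = t * y := by rw [htdef]; group
    have h5 : c⁻¹ * t * c = t := by rw [mul_assoc, ← h1]; group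
    calc c⁻¹ * y * c = c⁻¹ * (t⁻¹ * (t * y)) * c := by group
      _ = c⁻¹ * t⁻¹ * (c * y * c⁻¹) * c := by rw [h4]; group
      _ = (c⁻¹ * t * c)⁻¹ * y := by group
      _ = t⁻¹ * y := by rw [h5]
  have h6 : (w * c * w⁻¹) * t⁻¹ = t⁻¹ * (w * c * w⁻¹) := by
    rw [eq_comm, inv_mul_eq_iff_eq_mul, ← mul_assoc, ← h2, mul_inv_cancel_right]
  calc (w * c * w⁻¹ * c⁻¹) * y * (w * c * w⁻¹ * c⁻¹)⁻¹ * y⁻¹
      = (w * c * w⁻¹) * (c⁻¹ * y * c) * (w * c * w⁻¹)⁻¹ * y⁻¹ := by group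
    _ = ((w * c * w⁻¹) * t⁻¹) * y * (w * c * w⁻¹)⁻¹ * y⁻¹ := by rw [h3]; group
    _ = t⁻¹ * ((w * c * w⁻¹) * y * (w * c * w⁻¹)⁻¹ * y⁻¹) := by rw [h6]; group
    _ = t⁻¹ * (w * t * w⁻¹) := by rw [hcc]

/-- **(3)** in the form: `[c, y] = a δ`, `a ∈ R i`, `δ ∈ D₀`, and `[[w, c], y] = a⁻¹ a^w ∈ R j`
for every `w ∈ W j` -/
theorem formula {i j : ι} (hij : i ≠ j) {c y : G} (hc : c ∈ centralizer (WW V (R i) : Set G))
    (hy : y ∈ UU V R j) :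
    ∃ a ∈ R i, ∃ δ ∈ D0 V R, c * y * c⁻¹ * y⁻¹ = a * δ ∧ ∀ w ∈ WW V (R j),
      (w * c * w⁻¹ * c⁻¹) * y * (w * c * w⁻¹ * c⁻¹)⁻¹ * y⁻¹ = a⁻¹ * (w * a * w⁻¹) := by
  have ht := b.cen_W_U hij hc hy
  obtain ⟨a, ha, hδ⟩ := b.cen_DW ht.1 ht.2
  have e : c * y * c⁻¹ * y⁻¹ = a⁻¹ * (a * (c * y * c⁻¹ * y⁻¹)) := by group
  refine ⟨a⁻¹, inv_mem ha, _, hδ, e, fun w hw => ?_⟩
  rw [comm_comm b hij hc hw hy]
  set δ := a * (c * y * c⁻¹ * y⁻¹) with hδdef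
  rw [e]
  have h1 : w * δ = δ * w := mem_centralizer_iff.1 hδ.2 w (W_le_X V R j hw)
  have h2 : ∀ v ∈ V, v * δ = δ * v := fun v hv => mem_centralizer_iff.1 (b.CenX_le_cen hδ.2) v hv
  have h3 : w * a⁻¹ * w⁻¹ ∈ V :=
    conj_mem_of_normalizer (b.W_le_NV j hw) (b.R_le i (inv_mem ha))
  calc (a⁻¹ * δ)⁻¹ * (w * (a⁻¹ * δ) * w⁻¹) = δ⁻¹ * a * (w * a⁻¹ * w⁻¹) * (w * δ * w⁻¹) := by group
    _ = δ⁻¹ * (a * (w * a⁻¹ * w⁻¹) * δ) := by rw [h1]; group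
    _ = δ⁻¹ * (δ * (a * (w * a⁻¹ * w⁻¹))) := by rw [h2 _ (mul_mem (b.R_le i ha) h3)]
    _ = a⁻¹⁻¹ * (w * a⁻¹ * w⁻¹) := by group

/-- **(3)** the kernel: `[w, c] ∈ D` ⟹ `c ∈ R i × C_X` -/
theorem ker [Finite G] {i j : ι} (hij : i ≠ j) {c w : G} (hc : c ∈ centralizer (WW V (R i) : Set G))
    (hw : w ∈ WW V (R j)) (hw' : w ∉ UU V R j) (h : w * c * w⁻¹ * c⁻¹ ∈ DD V R) :
    ∃ a ∈ R i, a * c ∈ CenX V R := by
  obtain ⟨k, hki, -, hk⟩ := b.moves hij hw hw'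
  have hc' := conj_cen b.toBT hc hk
  refine b.cen_W_Q (Ne.symm hki) hc ?_
  have e : c = (w * c * w⁻¹ * c⁻¹)⁻¹ * (w * c * w⁻¹) := by group
  rw [e]
  exact mul_mem (inv_mem (b.W_le_Q k (D_le_W V R k h))) (b.cen_W_le_Q k hc')

/-- **(3)** `c² ∈ R i × C_X` for `c ∈ C(W i)` -/
theorem sq_mem [Finite G] {i : ι} {c : G} (hc : c ∈ centralizer (WW V (R i) : Set G)) :
    ∃ a ∈ R i, a * (c * c) ∈ CenX V R := by
  obtain ⟨j, hj, -⟩ := b.third i i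
  obtain ⟨w, hw, hw'⟩ := exists_not_U b.toBT j
  refine ker b (Ne.symm hj) (mul_mem hc hc) hw hw' ?_
  have h1 := mul_mod b (Ne.symm hj) hc hc hw
  have h2 : w * c * w⁻¹ * c⁻¹ * (w * c * w⁻¹ * c⁻¹) ∈ DD V R :=
    V_le_D V R (b.R_le j (b.W_sq j (UU_le_WW j (WC b.toBT hc hw))))
  have e : w * (c * c) * w⁻¹ * (c * c)⁻¹ = (w * (c * c) * w⁻¹ * (c * c)⁻¹) *
      (w * c * w⁻¹ * c⁻¹ * (w * c * w⁻¹ * c⁻¹))⁻¹ * (w * c * w⁻¹ * c⁻¹ * (w * c * w⁻¹ * c⁻¹)) := by group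
  rw [e]
  exact mul_mem h1 h2

/-- `[C(W i), C(W i)] ≤ R i × C_X` -/
theorem comm_mem [Finite G] {i : ι} {c c' : G} (hc : c ∈ centralizer (WW V (R i) : Set G))
    (hc' : c' ∈ centralizer (WW V (R i) : Set G)) :
    ∃ a ∈ R i, a * (c * c' * c⁻¹ * c'⁻¹) ∈ CenX V R := by
  obtain ⟨j, hj, -⟩ := b.third i i
  obtain ⟨w, hw, hw'⟩ := exists_not_U b.toBT j
  have hcm : c * c' * c⁻¹ * c'⁻¹ ∈ centralizer (WW V (R i) : Set G) :=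
    mul_mem (mul_mem (mul_mem hc hc') (inv_mem hc)) (inv_mem hc')
  refine ker b (Ne.symm hj) hcm hw hw' ?_
  -- `c ↦ [w, c]` is a homomorphism into the abelian group `U j / D`
  have key := fun {x y : G} (hx : x ∈ centralizer (WW V (R i) : Set G))
    (hy : y ∈ centralizer (WW V (R i) : Set G)) => mul_mod b (Ne.symm hj) hx hy hw
  set f : G → G := fun x => w * x * w⁻¹ * x⁻¹ with hf
  have hU : ∀ x ∈ centralizer (WW V (R i) : Set G), f x ∈ YY V R := fun x hx => UU_le_YY j (WC b.toBT hx hw)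
  have h1 := key hcm (mul_mem hc' hc)
  have h2 := key hc hc'
  have h3 := key hc' hc
  have h4 := b.Y_comm (hU c hc) (hU c' hc')
  have e1 : c * c' * c⁻¹ * c'⁻¹ * (c' * c) = c * c' := by group
  change f (c * c' * c⁻¹ * c'⁻¹ * (c' * c)) * (f (c * c' * c⁻¹ * c'⁻¹) * f (c' * c))⁻¹ ∈ DD V R at h1
  change f (c * c') * (f c * f c')⁻¹ ∈ DD V R at h2
  change f (c' * c) * (f c' * f c)⁻¹ ∈ DD V R at h3
  change f c * f c' * (f c)⁻¹ * (f c')⁻¹ ∈ DD V R at h4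
  rw [e1] at h1
  change f (c * c' * c⁻¹ * c'⁻¹) ∈ DD V R
  have e2 : f (c * c' * c⁻¹ * c'⁻¹) = (f (c * c') * (f (c * c' * c⁻¹ * c'⁻¹) * f (c' * c))⁻¹)⁻¹ *
      (f (c * c') * (f c * f c')⁻¹) * (f c * f c' * (f c)⁻¹ * (f c')⁻¹) *
        (f (c' * c) * (f c' * f c)⁻¹)⁻¹ := by group
  have h5 := mul_mem (mul_mem (mul_mem (inv_mem h1) h2) h4) (inv_mem h3)
  -- conjugate by `f (c' c)`
  have e3 : (f (c * c') * (f (c * c' * c⁻¹ * c'⁻¹) * f (c' * c))⁻¹)⁻¹ *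
      (f (c * c') * (f c * f c')⁻¹) * (f c * f c' * (f c)⁻¹ * (f c')⁻¹) *
        (f (c' * c) * (f c' * f c)⁻¹)⁻¹ = f (c * c' * c⁻¹ * c'⁻¹) := by group
  rwa [e3] at h5

/-- **(3)** `c ∈ C(W i)` commutes with `c^w`, `w ∈ W j` -/
theorem comm_conj [Finite G] {i j : ι} (hij : i ≠ j) {c w : G} (hc : c ∈ centralizer (WW V (R i) : Set G))
    (hw : w ∈ WW V (R j)) (hw' : w ∉ UU V R j) : c * (w * c * w⁻¹) = (w * c * w⁻¹) * c := by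
  obtain ⟨k, hki, -, hk⟩ := b.moves hij hw hw'
  have hc' := conj_cen b.toBT hc hk
  have hu := WC b.toBT hc hw
  set c' := w * c * w⁻¹ with hc'def
  set u := c' * c⁻¹ with hudef
  set d := c * c' * c⁻¹ * c'⁻¹ with hddef
  have hdC : d ∈ CenX V R := cen_cen b.toBT (Ne.symm hki) hc hc'
  have hdD : d ∈ DD V R := by
    have h1 := (b.cen_W_U hij hc hu).1
    have e : d = c * u * c⁻¹ * u⁻¹ := by rw [hddef, hudef]; group
    rw [e]; exact h1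
  have k1 : c * d = d * c := comm_D hc hdD
  have k2 : c' * d = d * c' := comm_D hc' hdD
  obtain ⟨a, ha, hx⟩ := sq_mem b hc
  set x := a * (c * c) with hxdef
  have hwx : w * x = x * w := mem_centralizer_iff.1 hx w (W_le_X V R j hw)
  -- `u² = d⁻¹ (w a⁻¹ w⁻¹) a`
  have h1 : c⁻¹ * c' * c = d⁻¹ * c' := by
    have h2 : c * c' * c⁻¹ = d * c' := by rw [hddef]; group
    have h3 : c⁻¹ * d * c = d := by rw [mul_assoc, ← k1]; group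
    calc c⁻¹ * c' * c = c⁻¹ * (d⁻¹ * (d * c')) * c := by group
      _ = c⁻¹ * d⁻¹ * (c * c' * c⁻¹) * c := by rw [h2]; group
      _ = (c⁻¹ * d * c)⁻¹ * c' := by group
      _ = d⁻¹ * c' := by rw [h3]
  have h4 : u * u = d⁻¹ * (c' * c') * (c * c)⁻¹ := by
    have k3 : c' * d⁻¹ = d⁻¹ * c' := by
      rw [eq_comm, inv_mul_eq_iff_eq_mul, ← mul_assoc, ← k2, mul_inv_cancel_right]
    calc u * u = c' * (c⁻¹ * c' * c) * (c * c)⁻¹ := by rw [hudef]; group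
      _ = (c' * d⁻¹) * c' * (c * c)⁻¹ := by rw [h1]; group
      _ = d⁻¹ * (c' * c') * (c * c)⁻¹ := by rw [k3]; group
  have h5 : (c' * c') * (c * c)⁻¹ = (w * a⁻¹ * w⁻¹) * a := by
    have e1 : c * c = a⁻¹ * x := by rw [hxdef]; group
    calc (c' * c') * (c * c)⁻¹ = w * (c * c) * w⁻¹ * (c * c)⁻¹ := by rw [hc'def]; group
      _ = w * a⁻¹ * (x * w⁻¹) * (a⁻¹ * x)⁻¹ := by rw [e1]; group
      _ = (w * a⁻¹ * w⁻¹) * (w * x) * w⁻¹ * (a⁻¹ * x)⁻¹ := by group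
      _ = (w * a⁻¹ * w⁻¹) * a := by rw [hwx]; group
  have h6 : (w * a⁻¹ * w⁻¹) * a ∈ R j := by
    have := b.QV j w (b.W_le_Q j hw) a⁻¹ (b.R_le i (inv_mem ha))
    rwa [inv_inv] at this
  have h7 : u * u ∈ R j := b.W_sq j (UU_le_WW j hu)
  have h8 : d ∈ R j := by
    have e : d = (w * a⁻¹ * w⁻¹ * a) * (u * u)⁻¹ := by
      rw [h4, mul_assoc d⁻¹, h5, mul_inv_rev, inv_inv, ← mul_assoc, mul_inv_cancel, one_mul]
    rw [e]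
    exact mul_mem h6 (inv_mem h7)
  have h9 : d = 1 := b.cen_VX (b.R_le j h8) hdC
  rw [hddef, mul_inv_eq_one, mul_inv_eq_iff_eq_mul] at h9
  exact h9

/-- `u = [w, c]`: `u² = [w, a⁻¹]`, where `c² ∈ a⁻¹ C_X` -/
theorem sq_comm [Finite G] {i j : ι} (hij : i ≠ j) {c w : G} (hc : c ∈ centralizer (WW V (R i) : Set G))
    (hw : w ∈ WW V (R j)) (hw' : w ∉ UU V R j) {a : G} (hx : a * (c * c) ∈ CenX V R) :
    (w * c * w⁻¹ * c⁻¹) * (w * c * w⁻¹ * c⁻¹) = (w * a⁻¹ * w⁻¹) * a := by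
  have h1 := comm_conj b hij hc hw hw'
  have hwx : w * (a * (c * c)) = (a * (c * c)) * w := mem_centralizer_iff.1 hx w (W_le_X V R j hw)
  have h2 : c⁻¹ * (w * c * w⁻¹) = (w * c * w⁻¹) * c⁻¹ := by
    rw [inv_mul_eq_iff_eq_mul, ← mul_assoc, h1, mul_inv_cancel_right]
  calc (w * c * w⁻¹ * c⁻¹) * (w * c * w⁻¹ * c⁻¹) = (w * c * w⁻¹) * (c⁻¹ * (w * c * w⁻¹)) * c⁻¹ := by group
    _ = w * (c * c) * w⁻¹ * (c * c)⁻¹ := by rw [h2]; group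
    _ = (w * a⁻¹ * w⁻¹) * (w * (a * (c * c))) * w⁻¹ * (c * c)⁻¹ := by group
    _ = (w * a⁻¹ * w⁻¹) * a := by rw [hwx]; group

end BTS

end Cfsg.Agent.Omega.HTwo.Comm
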