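import Cfsg.Agent.Omega.HTwo.Par
import Cfsg.Agent.Omega.HTwo.Comm

/-!
# II.0h1, `q = 2`: THEOREM A: `Φ(Q i) ≤ R i`, `C_X ≤ Z(Q i)` elementary, `N(Q i) = N(R i)`
-/

set_option autoImplicit false

namespace Cfsg.Agent.Omega.HTwo.ThmA

open Subgroup Cfsg.Agent.Omega.BTwo Cfsg.Agent.Omega.HTwo.Par

variable {G : Type*} [Group G] {ι : Type*} {V : Subgroup G} {R : ι → Subgroup G}

/-- the conclusion of LEMMA E: a subgroup of `R i × C_X` normalised by `N(R i)` is contained in `R i` -/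
def LE (V : Subgroup G) (R : ι → Subgroup G) (i : ι) : Prop :=
  ∀ Λ : Subgroup G, (∀ l ∈ Λ, ∃ a ∈ R i, a * l ∈ CenX V R) →
    normalizer (R i : Set G) ≤ normalizer (Λ : Set G) → Λ ≤ R i

/-- `LE` for one point implies `LE` for all points -/
theorem le_all (b : BT V R) {i : ι} (h : LE V R i) (j : ι) : LE V R j := by
  intro Λ h1 h2
  obtain ⟨x, hx, e⟩ := b.trans_one i j
  have e' : cj x⁻¹ (R j) = R i := by rw [← e, cj_inv_cj]
  have h3 : cj x⁻¹ Λ ≤ R i := by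
    refine h _ ?_ ?_
    · rintro _ ⟨l, hl, rfl⟩
      change ∃ a ∈ R i, a * (x⁻¹ * l * x⁻¹⁻¹) ∈ CenX V R
      obtain ⟨a, ha, h⟩ := h1 l hl
      refine ⟨x⁻¹ * a * x⁻¹⁻¹, ?_, ?_⟩
      · rw [← e']; exact conj_mem_cj ha
      · have h4 := conj_mem_of_normalizer (b.NV_le_NCenX (inv_mem hx)) h
        have e5 : x⁻¹ * a * x⁻¹⁻¹ * (x⁻¹ * l * x⁻¹⁻¹) = x⁻¹ * (a * l) * x⁻¹⁻¹ := by group
        rw [e5]; exact h4
    · intro g hg
      rw [normalizer_cj, mem_cj, inv_inv]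
      apply h2
      rw [← e, normalizer_cj, mem_cj]
      have : x⁻¹ * (x * g * x⁻¹) * x = g := by group
      rw [this]; exact hg
  have h4 := cj_mono (g := x) h3
  rwa [cj_cj_inv, e] at h4

/-- **LEMMA E** for all points -/
theorem le_of [Finite G] (b : BTS V R) {i : ι} {r : G} (hr : ∀ x ∈ R i, x = 1 ∨ x = r) (hri : r ∈ R i)
    (S : Sylow 2 G) (hSV : (S : Subgroup G) ≤ normalizer (V : Set G))
    (hSR : (S : Subgroup G) ≤ normalizer (R i : Set G)) (hc : Char2 (S : Subgroup G))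
    (hnc : ∃ w ∈ WW V (R i), ∃ w' ∈ WW V (R i), w * w' ≠ w' * w) (j : ι) : LE V R j :=
  le_all b.toBT (fun _ h1 h2 => lemE b hr hri S hSV hSR hc (noncomm_of_W b.toBT hnc) h1 h2) j

section

variable (b : BTS V R)
include b

/-- squares of elements of `Q i` lie in `R i × C_X` -/
theorem sq_RC [Finite G] {i : ι} {q : G} (hq : q ∈ QQ (R i)) : q * q ∈ RC b.toBT i := by
  obtain ⟨w, hw, he⟩ := b.exists_eps_W hq
  have hwQ := b.W_le_Q i hw
  have h1 := b.C_sq he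
  -- `[w, q] ∈ R i`
  have h2 : q * w * q⁻¹ * w⁻¹ ∈ R i := b.WQ i hq hw
  have h3 : w * w ∈ R i := b.W_sq i hw
  -- `(q w)² = q² w² [w⁻¹.., q]`
  have h4 : q⁻¹ * w * q⁻¹⁻¹ * w⁻¹ ∈ R i := b.WQ i (inv_mem hq) hw
  set s := q⁻¹ * w * q⁻¹⁻¹ * w⁻¹ with hs
  have e1 : w * q = q * (s * w) := by rw [hs]; group
  have e2 : q * w * (q * w) = (q * q) * (s * (w * w)) := by
    calc q * w * (q * w) = q * (w * q) * w := by group
      _ = _ := by rw [e1]; group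
  have h5 : s * (w * w) ∈ R i := mul_mem h4 h3
  have h6 : (q * q) * (s * (w * w)) = (s * (w * w)) * (q * q) := by
    have h7 := b.QR i q hq _ h5
    rw [mul_assoc q q, h7, ← mul_assoc q, h7, mul_assoc]
  rw [e2, h6] at h1
  exact ⟨_, h5, h1⟩

theorem Q_sq [Finite G] {i : ι} (h : LE V R i) {q : G} (hq : q ∈ QQ (R i)) : q * q ∈ R i := by
  have h1 : closure {x | ∃ q ∈ QQ (R i), q * q = x} ≤ R i := by
    apply h
    · have h2 : closure {x | ∃ q ∈ QQ (R i), q * q = x} ≤ RC b.toBT i := by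
        rw [closure_le]
        rintro _ ⟨q, hq, rfl⟩
        exact sq_RC b hq
      exact fun l hl => h2 hl
    · intro g hg
      have hgQ := le_normalizer_O2 _ hg
      have key : ∀ g ∈ normalizer (R i : Set G), cj g (closure {x | ∃ q ∈ QQ (R i), q * q = x}) ≤
          closure {x | ∃ q ∈ QQ (R i), q * q = x} := by
        intro g hg
        rw [cj, map_le_iff_le_comap, closure_le]
        rintro _ ⟨q, hq, rfl⟩
        refine subset_closure ⟨g * q * g⁻¹, conj_mem_of_normalizer (le_normalizer_O2 _ hg) hq, ?_⟩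
        change g * q * g⁻¹ * (g * q * g⁻¹) = g * (q * q) * g⁻¹
        group
      rw [← cj_eq_self_iff]
      apply le_antisymm (key g hg)
      have h3 := cj_mono (g := g) (key g⁻¹ (inv_mem hg))
      rwa [cj_cj_inv] at h3
  exact h1 (subset_closure ⟨q, hq, rfl⟩)

/-- **THEOREM A** `[Q i, Q i] ≤ R i` -/
theorem Q_comm [Finite G] {i : ι} (h : LE V R i) {q q' : G} (hq : q ∈ QQ (R i)) (hq' : q' ∈ QQ (R i)) :
    q * q' * q⁻¹ * q'⁻¹ ∈ R i := by
  have h1 := Q_sq b h (mul_mem hq hq')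
  have h2 := Q_sq b h (inv_mem hq)
  have h3 := Q_sq b h (inv_mem hq')
  have h4 : q'⁻¹ * (q⁻¹ * q⁻¹) * q'⁻¹⁻¹ = q⁻¹ * q⁻¹ := b.conj_R (inv_mem hq') h2
  have e : q * q' * q⁻¹ * q'⁻¹ = (q * q' * (q * q')) * (q'⁻¹ * (q⁻¹ * q⁻¹) * q'⁻¹⁻¹) * (q'⁻¹ * q'⁻¹) := by
    group
  rw [e, h4]
  exact mul_mem (mul_mem h1 h2) h3

/-- **THEOREM A** `C_X ≤ Z(Q i)` -/
theorem cenX_Q [Finite G] {i : ι} (h : LE V R i) {x q : G} (hx : x ∈ CenX V R) (hq : q ∈ QQ (R i)) :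
    x * q = q * x := by
  have h1 := Q_comm b h hq (mem_iInf.1 (b.CenX_le_C hx) i)
  have hN : q ∈ normalizer (V : Set G) := b.K_le_NV i (b.Q_le_K i hq)
  have h2 : q * x * q⁻¹ * x⁻¹ ∈ CenX V R :=
    mul_mem (conj_mem_of_normalizer (b.NV_le_NCenX hN) hx) (inv_mem hx)
  have h3 := b.cen_VX (b.R_le i h1) h2
  rw [mul_inv_eq_one, mul_inv_eq_iff_eq_mul] at h3
  exact h3.symm

/-- **THEOREM A** `C_X` is elementary -/
theorem cenX_sq [Finite G] {i : ι} (h : LE V R i) {x : G} (hx : x ∈ CenX V R) : x * x = 1 :=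
  b.cen_VX (b.R_le i (Q_sq b h (mem_iInf.1 (b.CenX_le_C hx) i))) (mul_mem hx hx)

theorem cenX_comm [Finite G] {i : ι} (h : LE V R i) {x y : G} (hx : x ∈ CenX V R) (hy : y ∈ CenX V R) :
    x * y = y * x := cenX_Q b h hx (mem_iInf.1 (b.CenX_le_C hy) i)

/-- `J = ⋂ Q i` is elementary -/
theorem C_sq_one [Finite G] (h : ∀ i, LE V R i) {x : G} (hx : x ∈ CC R) : x * x = 1 :=
  b.eq_one_of_forall fun i => Q_sq b (h i) (mem_iInf.1 hx i)

theorem C_comm_one [Finite G] (h : ∀ i, LE V R i) {x y : G} (hx : x ∈ CC R) (hy : y ∈ CC R) :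
    x * y = y * x := by
  have h1 : x * y * x⁻¹ * y⁻¹ = 1 :=
    b.eq_one_of_forall fun i => Q_comm b (h i) (mem_iInf.1 hx i) (mem_iInf.1 hy i)
  rwa [mul_inv_eq_one, mul_inv_eq_iff_eq_mul] at h1

/-- `N(Q i) ≤ N(R i)`, if `R i` has order 2 and `W i` is not abelian -/
theorem NQ_le [Finite G] {i : ι} (h : LE V R i) {r : G} (hr : ∀ x ∈ R i, x = 1 ∨ x = r)
    (hnc : ∃ w ∈ WW V (R i), ∃ w' ∈ WW V (R i), w * w' ≠ w' * w) :
    normalizer (QQ (R i) : Set G) ≤ normalizer (R i : Set G) := by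
  obtain ⟨w, hw, w', hw', hne⟩ := hnc
  have h1 : w * w' * w⁻¹ * w'⁻¹ ≠ 1 := by
    intro h
    rw [mul_inv_eq_one, mul_inv_eq_iff_eq_mul] at h
    exact hne h
  have h2 := Q_comm b h (b.W_le_Q i hw) (b.W_le_Q i hw')
  have h3 : w * w' * w⁻¹ * w'⁻¹ = r := (hr _ h2).resolve_left h1
  intro g hg
  have key : ∀ x ∈ R i, g * x * g⁻¹ ∈ R i := by
    intro x hx
    rcases hr x hx with rfl | rfl
    · rw [mul_one, mul_inv_cancel]; exact one_mem _
    · rw [← h3]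
      have h4 := Q_comm b h (conj_mem_of_normalizer hg (b.W_le_Q i hw))
        (conj_mem_of_normalizer hg (b.W_le_Q i hw'))
      have e : g * w * g⁻¹ * (g * w' * g⁻¹) * (g * w * g⁻¹)⁻¹ * (g * w' * g⁻¹)⁻¹ =
          g * (w * w' * w⁻¹ * w'⁻¹) * g⁻¹ := by group
      rwa [e] at h4
  exact mem_normalizer_of_conj key

theorem N_eq [Finite G] {i : ι} (h : LE V R i) {r : G} (hr : ∀ x ∈ R i, x = 1 ∨ x = r)
    (hnc : ∃ w ∈ WW V (R i), ∃ w' ∈ WW V (R i), w * w' ≠ w' * w) :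
    normalizer (QQ (R i) : Set G) = normalizer (R i : Set G) :=
  le_antisymm (NQ_le b h hr hnc) (le_normalizer_O2 _)

end

end Cfsg.Agent.Omega.HTwo.ThmA
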