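import Cfsg.Agent.Omega.BTwo.SplitFour
import Cfsg.Agent.Lib.NormalAbelian

/-!
# II.0h1, `q = 2`: LEMMA E / PI / H (#13064, #13303 (0), #13317)

`R i = {1, r}`, `S` a Sylow 2-subgroup of `G` with `S ≤ N(V)`, `S ≤ K ≤ N(R i)`.  If `Λ ≤ R i × C_X` is
normalised by `K` and not contained in `R i`, then `V` commutes with all its conjugates under `K`.
-/

set_option autoImplicit false

namespace Cfsg.Agent.Omega.HTwo.Par

open Subgroup Cfsg.Agent.Omega.BTwo

/-! ### parity -/

/-- A vertex-transitive bipartite graph with an edge has an even number of vertices. -/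
theorem even_card {Ω : Type*} [Finite Ω] {adj : Ω → Ω → Prop} (symm : ∀ x y, adj x y → adj y x)
    (tr : ∀ x y, ∃ σ : Equiv.Perm Ω, (∀ u v, adj u v ↔ adj (σ u) (σ v)) ∧ σ x = y)
    {A : Set Ω} (hA : ∀ x ∈ A, ∀ y ∈ A, ¬ adj x y) (hB : ∀ x ∉ A, ∀ y ∉ A, ¬ adj x y)
    {x y : Ω} (h : adj x y) : Even (Nat.card Ω) := by
  classical
  have := Fintype.ofFinite Ω
  set d := (Finset.univ.filter fun v => adj x v).card with hd
  have hd0 : 0 < d := Finset.card_pos.2 ⟨y, by simp [h]⟩
  have hreg : ∀ u, (Finset.univ.filter fun v => adj u v).card = d := by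
    intro u
    obtain ⟨σ, hσ, e⟩ := tr x u
    rw [hd]
    symm
    refine Finset.card_bij (fun v _ => σ v) ?_ (fun a _ b _ hab => σ.injective hab) ?_
    · intro v hv
      simp only [Finset.mem_filter, Finset.mem_univ, true_and] at hv ⊢
      rw [← e]
      exact (hσ x v).1 hv
    · intro v hv
      simp only [Finset.mem_filter, Finset.mem_univ, true_and] at hv
      refine ⟨σ.symm v, ?_, σ.apply_symm_apply v⟩
      simp only [Finset.mem_filter, Finset.mem_univ, true_and]
      rw [hσ, e, σ.apply_symm_apply]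
      exact hv
  set s := Finset.univ.filter fun v => v ∈ A with hs
  set t := Finset.univ.filter fun v => v ∉ A with ht
  have key := Finset.sum_card_bipartiteAbove_eq_sum_card_bipartiteBelow (s := s) (t := t) adj
  have h1 : ∀ a ∈ s, (t.bipartiteAbove adj a).card = d := by
    intro a ha
    rw [← hreg a]
    congr 1
    ext v
    simp only [Finset.mem_bipartiteAbove, ht, Finset.mem_filter, Finset.mem_univ, true_and]
    refine ⟨fun h => h.2, fun h => ⟨fun hv => ?_, h⟩⟩
    rw [hs, Finset.mem_filter] at ha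
    exact hA a ha.2 v hv h
  have h2 : ∀ b ∈ t, (s.bipartiteBelow adj b).card = d := by
    intro b hb
    rw [← hreg b]
    congr 1
    ext v
    simp only [Finset.mem_bipartiteBelow, hs, Finset.mem_filter, Finset.mem_univ, true_and]
    refine ⟨fun h => symm _ _ h.2, fun h => ⟨?_, symm _ _ h⟩⟩
    by_contra hv
    rw [ht, Finset.mem_filter] at hb
    exact hB b hb.2 v hv h
  rw [Finset.sum_congr rfl h1, Finset.sum_congr rfl h2, Finset.sum_const, Finset.sum_const,
    smul_eq_mul, smul_eq_mul] at key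
  have h3 : s.card = t.card := Nat.eq_of_mul_eq_mul_right hd0 key
  have h4 : s.card + t.card = Fintype.card Ω := by
    rw [hs, ht, Finset.card_filter_add_card_filter_not]
    rfl
  rw [Nat.card_eq_fintype_card, ← h4, h3]
  exact ⟨_, rfl⟩

variable {G : Type*} [Group G]

/-- the orbit version: `S ≤ K`, `S ≤ N(V)`, `S` Sylow; a bipartition of the conjugates of `V` under `K` -/
theorem commute_of_bipartite [Finite G] {V K : Subgroup G} (S : Sylow 2 G) (hSK : (S : Subgroup G) ≤ K)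
    (hSV : (S : Subgroup G) ≤ normalizer (V : Set G)) (P : Subgroup G → Prop)
    (h1 : ∀ k ∈ K, ∀ l ∈ K, P (cj k V) → P (cj l V) → ∀ a ∈ cj k V, ∀ c ∈ cj l V, a * c = c * a)
    (h2 : ∀ k ∈ K, ∀ l ∈ K, ¬ P (cj k V) → ¬ P (cj l V) → ∀ a ∈ cj k V, ∀ c ∈ cj l V, a * c = c * a) :
    ∀ k ∈ K, ∀ a ∈ V, ∀ c ∈ cj k V, a * c = c * a := by
  by_contra hcon
  push Not at hcon
  obtain ⟨k0, hk0, a0, ha0, c0, hc0, hne⟩ := hcon
  set N := (normalizer (V : Set G)).subgroupOf K with hN
  -- the conjugate attached to a coset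
  let ψ : K ⧸ N → Subgroup G := Quotient.lift (fun k : K => cj (k : G) V) (by
    intro k l hkl
    have h3 : k⁻¹ * l ∈ N := QuotientGroup.leftRel_apply.1 hkl
    have h4 : (k : G)⁻¹ * (l : G) ∈ normalizer (V : Set G) := by
      simpa using mem_subgroupOf.1 h3
    have h5 := congrArg (cj (k : G)) (cj_eq_self_iff.2 h4)
    rw [cj_mul, cj_cj_inv] at h5
    exact h5.symm)
  have hψ : ∀ k : K, ψ (QuotientGroup.mk k) = cj (k : G) V := fun _ => rfl
  have hsm : ∀ (k : K) (x : K ⧸ N), ψ (k • x) = cj (k : G) (ψ x) := by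
    intro k x
    induction x using QuotientGroup.induction_on with
    | H l =>
      change ψ (QuotientGroup.mk (k * l)) = cj (k : G) (ψ (QuotientGroup.mk l))
      rw [hψ, hψ, coe_mul, cj_mul]
  let adj : K ⧸ N → K ⧸ N → Prop := fun x y => ∃ a ∈ ψ x, ∃ c ∈ ψ y, a * c ≠ c * a
  have hinv : ∀ (k : K) (x y : K ⧸ N), adj x y → adj (k • x) (k • y) := by
    rintro k x y ⟨a, ha, c, hc, hac⟩
    refine ⟨k * a * (k : G)⁻¹, ?_, k * c * (k : G)⁻¹, ?_, fun h => hac ?_⟩
    · rw [hsm]; exact conj_mem_cj ha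
    · rw [hsm]; exact conj_mem_cj hc
    · have e1 : (k : G) * a * (k : G)⁻¹ * (k * c * (k : G)⁻¹) = k * (a * c) * (k : G)⁻¹ := by group
      have e2 : (k : G) * c * (k : G)⁻¹ * (k * a * (k : G)⁻¹) = k * (c * a) * (k : G)⁻¹ := by group
      rw [e1, e2] at h
      exact mul_left_cancel (mul_right_cancel h)
  have heven : Even (Nat.card (K ⧸ N)) := by
    refine even_card (adj := adj) ?_ ?_ (A := {x | P (ψ x)}) ?_ ?_
      (x := QuotientGroup.mk 1) (y := QuotientGroup.mk ⟨k0, hk0⟩) ?_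
    · rintro x y ⟨a, ha, c, hc, hac⟩
      exact ⟨c, hc, a, ha, hac.symm⟩
    · intro x y
      obtain ⟨k, hk⟩ := MulAction.exists_smul_eq K x y
      refine ⟨MulAction.toPerm k, fun u v => ⟨hinv k u v, fun h => ?_⟩, hk⟩
      have := hinv k⁻¹ _ _ h
      simpa using this
    · intro x hx y hy
      induction x using QuotientGroup.induction_on with
      | H k =>
        induction y using QuotientGroup.induction_on with
        | H l =>
          rintro ⟨a, ha, c, hc, hac⟩
          exact hac (h1 k k.2 l l.2 hx hy a ha c hc)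
    · intro x hx y hy
      induction x using QuotientGroup.induction_on with
      | H k =>
        induction y using QuotientGroup.induction_on with
        | H l =>
          rintro ⟨a, ha, c, hc, hac⟩
          exact hac (h2 k k.2 l l.2 hx hy a ha c hc)
    · refine ⟨a0, ?_, c0, ?_, hne⟩
      · rw [hψ, coe_one, cj_one]; exact ha0
      · rw [hψ]; exact hc0
  have hodd : ¬ 2 ∣ Nat.card (K ⧸ N) := by
    intro h
    have h3 : (normalizer (V : Set G)).relIndex K ∣ (S : Subgroup G).relIndex K :=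
      relIndex_dvd_of_le_left K hSV
    have h4 : (S : Subgroup G).relIndex K ∣ (S : Subgroup G).index := relIndex_dvd_index_of_le hSK
    exact S.not_dvd_index (h.trans (h3.trans h4))
  exact hodd heven.two_dvd

/-! ### the Sylow group and involutions -/

/-- `O₂(M) ≤ S` for `S ≤ M` -/
theorem O2_le_sylow (S : Sylow 2 G) {M : Subgroup G} (h : (S : Subgroup G) ≤ M) : O2 M ≤ (S : Subgroup G) := by
  have h1 : IsPGroup 2 (↥(O2 M ⊔ (S : Subgroup G))) :=
    IsPGroup.to_sup_of_normal_left' (O2_isPGroup M) S.isPGroup' (h.trans (le_normalizer_O2 M))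
  have h2 := S.is_maximal' h1 le_sup_right
  rw [← h2]
  exact le_sup_left

/-- an involution of a nontrivial 2-group `E` normalised by `S`, central in `S` -/
theorem exists_inv [Finite G] (S : Sylow 2 G) {E : Subgroup G} (hE : IsPGroup 2 E) (hE1 : E ≠ ⊥)
    (hSE : (S : Subgroup G) ≤ normalizer (E : Set G)) :
    ∃ e ∈ E, e ≠ 1 ∧ e * e = 1 ∧ ∀ s ∈ (S : Subgroup G), e * s = s * e := by
  have h1 : IsPGroup 2 (↥(E ⊔ (S : Subgroup G))) :=
    IsPGroup.to_sup_of_normal_left' hE S.isPGroup' hSE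
  have hES : E ≤ (S : Subgroup G) := by
    have h2 := S.is_maximal' h1 le_sup_right
    rw [← h2]
    exact le_sup_left
  -- `E` is normal in `S`
  have hn : (E.subgroupOf (S : Subgroup G)).Normal := by
    refine ⟨?_⟩
    rintro ⟨x, hxS⟩ hx ⟨g, hg⟩
    exact mem_subgroupOf.2 (conj_mem_of_normalizer (hSE hg) (mem_subgroupOf.1 hx))
  have hne : E.subgroupOf (S : Subgroup G) ≠ ⊥ := by
    intro h
    rw [subgroupOf_eq_bot, disjoint_iff, inf_eq_left.2 hES] at h
    exact hE1 h
  have : Fact (Nat.Prime 2) := ⟨Nat.prime_two⟩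
  have : Group.IsNilpotent (S : Subgroup G) := S.isPGroup'.isNilpotent
  have h1 := Lib.NormalAbelian.normal_inf_center_ne_bot (E.subgroupOf (S : Subgroup G)) hne
  obtain ⟨x, hx1⟩ := (Subgroup.ne_bot_iff_exists_ne_one).mp h1
  have hx := x.2
  obtain ⟨k, hk⟩ := S.isPGroup' (x : (S : Subgroup G))
  have hx1' : (x : (S : Subgroup G)) ≠ 1 := fun e => hx1 (Subtype.ext e)
  have hex : ∃ n : ℕ, (x : (S : Subgroup G)) ^ 2 ^ n = 1 := ⟨k, hk⟩
  classical
  set n := Nat.find hex with hn'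
  have hn1 : (x : (S : Subgroup G)) ^ 2 ^ n = 1 := Nat.find_spec hex
  have hn0 : n ≠ 0 := by
    intro e
    rw [e] at hn1
    apply hx1'
    simpa using hn1
  obtain ⟨m, hm⟩ := Nat.exists_eq_succ_of_ne_zero hn0
  set y := (x : (S : Subgroup G)) ^ 2 ^ m with hy
  have hy1 : y ≠ 1 := Nat.find_min hex (by omega)
  have hy2 : y * y = 1 := by
    rw [hy, ← pow_two, ← pow_mul, ← pow_succ]
    rw [hm] at hn1
    exact hn1
  have hyU : y ∈ E.subgroupOf (S : Subgroup G) := pow_mem hx.1 _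
  have hyc : y ∈ center (S : Subgroup G) := pow_mem hx.2 _
  refine ⟨y, mem_subgroupOf.1 hyU, fun h => hy1 (Subtype.ext h), congrArg Subtype.val hy2, ?_⟩
  intro s hs
  have := mem_center_iff.mp hyc ⟨s, hs⟩
  exact (congrArg Subtype.val this).symm

/-- `C_M(O₂(M)) ≤ O₂(M)` for `M = C(e)`, `e` a central involution of `S` -/
def Char2 (S : Subgroup G) : Prop :=
  ∀ e : G, e ≠ 1 → e * e = 1 → (∀ s ∈ S, e * s = s * e) →
    centralizer ({e} : Set G) ⊓ centralizer (O2 (centralizer ({e} : Set G)) : Set G) ≤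
      O2 (centralizer ({e} : Set G))

/-! ### the lemma -/

variable {ι : Type*} {V : Subgroup G} {R : ι → Subgroup G}

/-- `R i × C_X` -/
def RC (b : BT V R) (i : ι) : Subgroup G where
  carrier := {l | ∃ a ∈ R i, a * l ∈ CenX V R}
  one_mem' := ⟨1, one_mem _, by rw [mul_one]; exact one_mem _⟩
  mul_mem' := by
    rintro l l' ⟨a, ha, h⟩ ⟨a', ha', h'⟩
    refine ⟨a * a', mul_mem ha ha', ?_⟩
    have h1 := mem_centralizer_iff.1 (b.CenX_le_cen h) a' (b.R_le i ha')
    have h2 := b.V_comm a (b.R_le i ha) a' (b.R_le i ha')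
    have e : a * a' * (l * l') = (a * l) * (a' * l') := by
      calc a * a' * (l * l') = (a * a') * a⁻¹ * (a * l) * l' := by group
        _ = a' * (a * l) * l' := by rw [h2]; group
        _ = _ := by rw [h1]; group
    rw [e]
    exact mul_mem h h'
  inv_mem' := by
    rintro l ⟨a, ha, h⟩
    refine ⟨a⁻¹, inv_mem ha, ?_⟩
    have h1 := mem_centralizer_iff.1 (b.CenX_le_cen h) a (b.R_le i ha)
    have e : a⁻¹ * l⁻¹ = (a * l)⁻¹ := by
      rw [eq_inv_iff_mul_eq_one]
      calc a⁻¹ * l⁻¹ * (a * l) = a⁻¹ * (a * l)⁻¹ * (a * (a * l)) := by group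
        _ = a⁻¹ * (a * l)⁻¹ * ((a * l) * a) := by rw [h1]
        _ = 1 := by group
    rw [e]
    exact inv_mem h

/-- if a central involution `e` of `S` centralises `X^k`, then `V^k ≤ Z(O₂(C(e)))` -/
theorem cj_le [Finite G] (b : BT V R) {i : ι} {r : G} (hr : ∀ x ∈ R i, x = 1 ∨ x = r)
    (S : Sylow 2 G) (hrS : ∀ s ∈ (S : Subgroup G), r * s = s * r) (hc : Char2 (S : Subgroup G))
    {e : G} (he1 : e ≠ 1) (hee : e * e = 1) (heS : ∀ s ∈ (S : Subgroup G), e * s = s * e)
    (her : e * r = r * e) {k : G} (hk : k * r = r * k)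
    (h : e ∈ centralizer (cj k (XX V R) : Set G)) :
    cj k V ≤ O2 (centralizer ({e} : Set G)) ⊓ centralizer (O2 (centralizer ({e} : Set G)) : Set G) := by
  set M := centralizer ({e} : Set G) with hM
  have hSM : (S : Subgroup G) ≤ M := fun s hs => by
    rw [hM, mem_centralizer_singleton_iff]
    exact (heS s hs).symm
  have hrM : r ∈ M := by
    rw [hM, mem_centralizer_singleton_iff]
    exact her.symm
  have hOS := O2_le_sylow S hSM
  have hrO : r ∈ centralizer (O2 M : Set G) := by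
    rw [mem_centralizer_iff]
    exact fun s hs => (hrS s (hOS hs)).symm
  have hrO2 : r ∈ O2 M := hc e he1 hee heS ⟨hrM, hrO⟩
  have hN : M ≤ normalizer ((O2 M ⊓ centralizer (O2 M : Set G) : Subgroup G) : Set G) := by
    intro g hg
    have h1 := le_normalizer_O2 M hg
    have h2 := normalizer_le_normalizer_centralizer _ h1
    rw [← cj_eq_self_iff, cj_inf, cj_eq_self_iff.2 h1, cj_eq_self_iff.2 h2]
  rintro _ ⟨v, hv, rfl⟩
  change k * v * k⁻¹ ∈ _
  obtain ⟨j, hj⟩ := b.R_cov v hv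
  obtain ⟨x, hx, e1⟩ := b.trans_X_one i j
  rw [← e1, mem_cj] at hj
  rcases hr _ hj with h0 | h0
  · have h1 : v = 1 := by
      have := congrArg (fun y => x * y * x⁻¹) h0
      simp only [mul_one, mul_inv_cancel] at this
      rw [← this]; group
    rw [h1, mul_one, mul_inv_cancel]
    exact one_mem _
  · have h1 : v = x * r * x⁻¹ := by rw [← h0]; group
    have h2 : k * x * k⁻¹ ∈ M := by
      rw [hM, mem_centralizer_singleton_iff]
      exact mem_centralizer_iff.1 h _ (conj_mem_cj hx)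
    have h3 : k * v * k⁻¹ = (k * x * k⁻¹) * r * (k * x * k⁻¹)⁻¹ := by
      have h4 : k⁻¹ * r * k = r := by rw [mul_assoc, ← hk]; group
      calc k * v * k⁻¹ = (k * x * k⁻¹) * (k * r * k⁻¹) * (k * x * k⁻¹)⁻¹ := by rw [h1]; group
        _ = (k * x * k⁻¹) * r * (k * x * k⁻¹)⁻¹ := by rw [hk]; group
    rw [h3]
    exact conj_mem_of_normalizer (hN h2) ⟨hrO2, hrO⟩

/-- **LEMMA (PAR)** -/
theorem par [Finite G] (b : BTS V R) {i : ι} {r : G} (hr : ∀ x ∈ R i, x = 1 ∨ x = r) (hri : r ∈ R i)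
    (S : Sylow 2 G) (hSV : (S : Subgroup G) ≤ normalizer (V : Set G)) (hc : Char2 (S : Subgroup G))
    {K : Subgroup G} (hK : K ≤ normalizer (R i : Set G)) (hSK : (S : Subgroup G) ≤ K)
    {Λ : Subgroup G} (hΛ : ∀ l ∈ Λ, ∃ a ∈ R i, a * l ∈ CenX V R) (hKΛ : K ≤ normalizer (Λ : Set G))
    (hΛR : ¬ Λ ≤ R i) : ∀ k ∈ K, ∀ v ∈ V, ∀ w ∈ cj k V, v * w = w * v := by
  have hr1 : r ≠ 1 := by
    rintro rfl
    refine b.R_ne i ((eq_bot_iff_forall _).2 fun x hx => ?_)
    rcases hr x hx with h | h <;> exact h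
  have hrr : r * r = 1 := b.V_sq r (b.R_le i hri)
  -- elements of `K` commute with `r`
  have hKr : ∀ k ∈ K, k * r = r * k := by
    intro k hk
    have h1 := conj_mem_of_normalizer (hK hk) hri
    rcases hr _ h1 with h | h
    · exfalso
      apply hr1
      have := congrArg (fun y => k⁻¹ * y * k) h
      simp only [mul_one, inv_mul_cancel] at this
      rw [← this]; group
    · rw [mul_inv_eq_iff_eq_mul] at h
      exact h
  -- `E = R i Λ`
  set E := R i ⊔ Λ with hE
  have hKE : K ≤ normalizer (E : Set G) := by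
    intro k hk
    rw [← cj_eq_self_iff, hE, cj_sup, cj_eq_self_iff.2 (hK hk), cj_eq_self_iff.2 (hKΛ hk)]
  have hEm : ∀ l ∈ E, ∃ a ∈ R i, a * l ∈ CenX V R := by
    intro l hl
    have h1 : E ≤ RC b.toBT i := by
      refine sup_le (fun a ha => ⟨a⁻¹, inv_mem ha, ?_⟩) hΛ
      rw [inv_mul_cancel]
      exact one_mem _
    exact h1 hl
  have hE0 : E ⊓ CenX V R ≠ ⊥ := by
    intro h
    apply hΛR
    intro x hx
    obtain ⟨a, ha, hm⟩ := hΛ x hx
    have h1 : a * x ∈ E ⊓ CenX V R :=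
      ⟨mul_mem ((le_sup_left : R i ≤ E) ha) ((le_sup_right : Λ ≤ E) hx), hm⟩
    rw [h, mem_bot, mul_eq_one_iff_eq_inv] at h1
    have h2 : x = a⁻¹ := by rw [h1, inv_inv]
    rw [h2]; exact inv_mem ha
  have hSE : (S : Subgroup G) ≤ normalizer ((E ⊓ CenX V R : Subgroup G) : Set G) := by
    intro s hs
    have h1 := b.NV_le_NCenX (hSV hs)
    rw [← cj_eq_self_iff, cj_inf, cj_eq_self_iff.2 (hKE (hSK hs)), cj_eq_self_iff.2 h1]
  obtain ⟨e, he, he1, hee, heS⟩ := exists_inv S (b.CenX_isPGroup.to_le inf_le_right) hE0 hSE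
  have her : e * r = r * e := by
    have := mem_centralizer_iff.1 (b.CenX_le_cen he.2) r (b.R_le i hri)
    exact this.symm
  have hrS : ∀ s ∈ (S : Subgroup G), r * s = s * r := fun s hs => (hKr s (hSK hs)).symm
  have hre1 : r * e ≠ 1 := by
    intro h
    rw [mul_eq_one_iff_inv_eq] at h
    have h2 : e ∈ V := by rw [← h]; exact inv_mem (b.R_le i hri)
    exact he1 (b.cen_VX h2 he.2)
  have hree : r * e * (r * e) = 1 := by
    calc r * e * (r * e) = r * (e * r) * e := by group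
      _ = (r * r) * (e * e) := by rw [her]; group
      _ = 1 := by rw [hrr, hee, one_mul]
  have hreS : ∀ s ∈ (S : Subgroup G), r * e * s = s * (r * e) := by
    intro s hs
    rw [mul_assoc, heS s hs, ← mul_assoc, hrS s hs, mul_assoc]
  have hrer : r * e * r = r * (r * e) := by rw [mul_assoc, her]
  have ab : ∀ f : G, ∀ a ∈ O2 (centralizer ({f} : Set G)) ⊓
      centralizer (O2 (centralizer ({f} : Set G)) : Set G),
      ∀ c ∈ O2 (centralizer ({f} : Set G)) ⊓ centralizer (O2 (centralizer ({f} : Set G)) : Set G),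
      a * c = c * a := fun f a ha c hc => mem_centralizer_iff.1 hc.2 a ha.1
  refine commute_of_bipartite S hSK hSV
    (fun L => ∀ k ∈ K, cj k V = L → e ∈ centralizer (cj k (XX V R) : Set G)) ?_ ?_
  · intro k hk l hl h1 h2 a ha c hc'
    exact ab e a (cj_le b.toBT hr S hrS hc he1 hee heS her (hKr k hk) (h1 k hk rfl) ha) c
      (cj_le b.toBT hr S hrS hc he1 hee heS her (hKr l hl) (h2 l hl rfl) hc')
  · have key : ∀ k ∈ K, ¬ (∀ k' ∈ K, cj k' V = cj k V → e ∈ centralizer (cj k' (XX V R) : Set G)) →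
        ∃ k' ∈ K, cj k' V = cj k V ∧ r * e ∈ centralizer (cj k' (XX V R) : Set G) := by
      intro k hk h
      push Not at h
      obtain ⟨k', hk', e1, hne⟩ := h
      refine ⟨k', hk', e1, ?_⟩
      have h1 : k'⁻¹ * e * k' ∈ E := conj_inv_mem_of_normalizer (hKE hk') he.1
      obtain ⟨a, ha, h2⟩ := hEm _ h1
      rw [centralizer_cj, mem_cj] at hne ⊢
      rcases hr a ha with rfl | rfl
      · rw [one_mul] at h2
        exact absurd h2 hne
      · have h3 : k'⁻¹ * (a * e) * k' = a * (k'⁻¹ * e * k') := by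
          have h4 : k'⁻¹ * a = a * k'⁻¹ := by
            rw [inv_mul_eq_iff_eq_mul, ← mul_assoc, hKr k' hk', mul_inv_cancel_right]
          calc k'⁻¹ * (a * e) * k' = (k'⁻¹ * a) * e * k' := by group
            _ = _ := by rw [h4]; group
        rw [h3]; exact h2
    intro k hk l hl h1 h2 a ha c hc'
    obtain ⟨k', hk', e1, h3⟩ := key k hk h1
    obtain ⟨l', hl', e2, h4⟩ := key l hl h2
    rw [← e1] at ha
    rw [← e2] at hc'
    exact ab (r * e) a (cj_le b.toBT hr S hrS hc hre1 hree hreS hrer (hKr k' hk') h3 ha) c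
      (cj_le b.toBT hr S hrS hc hre1 hree hreS hrer (hKr l' hl') h4 hc')

/-- **LEMMA E**: if the conjugates of `V` under `N(R i)` do not all commute, the largest normal subgroup
of `N(R i)` contained in `R i × C_X` is `R i`. -/
theorem lemE [Finite G] (b : BTS V R) {i : ι} {r : G} (hr : ∀ x ∈ R i, x = 1 ∨ x = r) (hri : r ∈ R i)
    (S : Sylow 2 G) (hSV : (S : Subgroup G) ≤ normalizer (V : Set G))
    (hSR : (S : Subgroup G) ≤ normalizer (R i : Set G)) (hc : Char2 (S : Subgroup G))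
    (hnc : ∃ k ∈ normalizer (R i : Set G), ∃ v ∈ V, ∃ w ∈ cj k V, v * w ≠ w * v)
    {Λ : Subgroup G} (hΛ : ∀ l ∈ Λ, ∃ a ∈ R i, a * l ∈ CenX V R)
    (hN : normalizer (R i : Set G) ≤ normalizer (Λ : Set G)) : Λ ≤ R i := by
  by_contra h
  obtain ⟨k, hk, v, hv, w, hw, hne⟩ := hnc
  exact hne (par b hr hri S hSV hc le_rfl hSR hΛ hN h k hk v hv w hw)

/-- `W i` is abelian iff the conjugates of `V` commute -/
theorem noncomm_of_W (b : BT V R) {i : ι} (h : ∃ w ∈ WW V (R i), ∃ w' ∈ WW V (R i), w * w' ≠ w' * w) :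
    ∃ k ∈ normalizer (R i : Set G), ∃ v ∈ V, ∃ w ∈ cj k V, v * w ≠ w * v := by
  by_contra hcon
  push Not at hcon
  obtain ⟨w, hw, w', hw', hne⟩ := h
  apply hne
  have _ := b
  have key : ∀ k ∈ normalizer (R i : Set G), ∀ l ∈ normalizer (R i : Set G),
      ∀ a ∈ cj k V, ∀ c ∈ cj l V, a * c = c * a := by
    intro k hk l hl a ha c hc
    rw [mem_cj] at ha
    have h1 : k⁻¹ * c * k ∈ cj (k⁻¹ * l) V := by
      rw [mem_cj] at hc ⊢
      have e : (k⁻¹ * l)⁻¹ * (k⁻¹ * c * k) * (k⁻¹ * l) = l⁻¹ * c * l := by group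
      rw [e]; exact hc
    have h2 := hcon _ (mul_mem (inv_mem hk) hl) _ ha _ h1
    calc a * c = k * ((k⁻¹ * a * k) * (k⁻¹ * c * k)) * k⁻¹ := by group
      _ = k * ((k⁻¹ * c * k) * (k⁻¹ * a * k)) * k⁻¹ := by rw [h2]
      _ = c * a := by group
  have h1 : WW V (R i) ≤ centralizer (WW V (R i) : Set G) := by
    refine iSup_le fun k => ?_
    rw [le_centralizer_iff]
    refine iSup_le fun l => ?_
    intro c hc
    rw [mem_centralizer_iff]
    exact fun a ha => key k k.2 l l.2 a ha c hc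
  exact mem_centralizer_iff.1 (h1 hw') w hw

end Cfsg.Agent.Omega.HTwo.Par
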