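import Cfsg.Agent.Omega.HTwo.TSPos
import Cfsg.Agent.Omega.HTwo.EightMain
import Cfsg.Agent.Omega.HOneTwo.TwoPartC

/-!
# II.0h1, `q = 2`, `|N_r| = 8`: from the position `Pos` and `TSz` to the output of (6) of #15507

* `TSPos.tb p h : (ts p h).TB S` (helper205);
* `TSPos.three p h hc : Three ..`, `TSPos.inp p : Inp ..`, `TSPos.out p h hc : Out ..`.
-/

set_option autoImplicit false
set_option linter.unusedSectionVars false

namespace Cfsg.Agent.Omega.HTwo.TSPos

open Subgroup Cfsg Cfsg.Agent.ZN Cfsg.Agent.Omega.MinPar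
open Cfsg.Agent.Omega.BTwo Cfsg.Agent.Omega.HOneTwo Cfsg.Agent.Omega.HTwo.Hat
open Cfsg.Agent.Omega.HTwo.Entry (Pos)
open Cfsg.Agent.Omega.HTwo.AlphaP (MP)
open Cfsg.Agent.Omega.HOne.Cut (TSz)
open Cfsg.Agent.Omega.HOneTwo.Trans
open Cfsg.Agent.Omega.HTwo.Eight (Qp Cp Zp Np Res Three Inp Out)

universe u v

variable {G : Type u} [Group G] [Finite G] {S : Sylow 2 G} {P V : Subgroup G} {ι : Type v}
  {R : ι → Subgroup G} {o : ι} {r z : G}

section

variable (p : Pos S P V R o r z)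
include p

theorem char2_S : HTwo.Par.Char2 (S : Subgroup G) := by
  intro e he he2 hs
  have hM : IsLoc (S : Subgroup G) (centralizer ({e} : Set G)) :=
    isLoc_centralizer S (by rw [pow_two]; exact he2) he fun s h => mem_centralizer_singleton_iff.2 (hs s h).symm
  exact hM.char2 S p.char2

theorem S_r : ∀ s ∈ (S : Subgroup G), s * r = r * s := fun s hs => by
  have h1 := p.S_R hs
  rw [p.normalizer_eq] at h1
  exact mem_centralizer_singleton_iff.1 h1

theorem S_z : ∀ s ∈ (S : Subgroup G), s * z = z * s := fun s hs => (mem_zc.1 (z_zc p)).2.1 s hs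

/-- helper205's data -/
theorem tb (h : TSz V R o r z) : (ts p h).TB (S : Subgroup G) :=
  TS.TB.of S rfl (fun s hs => by rw [ts_r]; exact S_r p s hs) (fun s hs => S_z p s hs) (char2_S p)

/-- `z r` is not conjugate to `z` in `C(r)` -/
theorem not_conj_zr (h : TSz V R o r z) {g : G} (hg : g * r = r * g) : g * z * g⁻¹ ≠ z * r := by
  intro e
  have h1 := (tb p h).ZZ_not_both ((ts p h).zHs)
  apply h1
  change z * (ts p h).r 0 ∈ Delta ((ts p h).r 0) z
  rw [ts_r]
  exact ⟨g, hg, e.symm⟩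

/-- `|N_r| = 8`, for `r` -/
theorem three_r (h : TSz V R o r z) (hc : Nat.card (gen r z) = 8) {t : G} (ht : t ∈ gen r z)
    (htU : ¬ ∀ u ∈ gn (MP V R o z) r, t * u = u * t) {g : G} (hg : g * r = r * g)
    (htz : ∃ k, k * r = r * k ∧ t = k * z * k⁻¹) :
    g * z * g⁻¹ = z ∨ g * z * g⁻¹ = t ∨ g * z * g⁻¹ = r * z * t := by
  have A := res p h
  have hrΔ : r ∈ Dl (MP V R o z) r := self_mem_Dl _ _
  have hrU : r ∈ gn (MP V R o z) r := self_mem_gn _ _
  have hN : ∀ x, x ∈ Np z r ↔ x ∈ gen r z := fun x => by rw [TS.Np_eq]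
  have hrN : r ∈ gen r z := by rw [← hN]; exact A.p_N hrΔ
  have hzN : z ∈ gen r z := self_mem_gen _ _
  have hf : Finite (gen r z) := Nat.finite_of_card_ne_zero (by rw [hc]; decide)
  have hNsq : ∀ n ∈ gen r z, n * n = 1 := fun n hn => A.N_sq r hrΔ n ((hN n).2 hn)
  have hNc : ∀ n ∈ gen r z, ∀ m ∈ gen r z, n * m = m * n := fun n hn m hm =>
    A.N_comm hrΔ ((hN n).2 hn) ((hN m).2 hm)
  -- the eight elements
  let F : ZMod 2 × ZMod 2 × ZMod 2 → gen r z := fun c =>
    ⟨Eight.pw r c.1 * Eight.pw z c.2.1 * Eight.pw t c.2.2,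
      mul_mem (mul_mem (Eight.pw_mem hrN _) (Eight.pw_mem hzN _)) (Eight.pw_mem ht _)⟩
  have hU : ∀ a b : ZMod 2, Eight.pw r a * Eight.pw z b ∈ gn (MP V R o z) r := fun a b =>
    mul_mem (Eight.pw_mem hrU _) (Eight.pw_mem A.z_U _)
  have htU' : t ∉ gn (MP V R o z) r := fun h' => htU fun u hu => A.U_comm _ h' u hu
  have hinj : Function.Injective F := by
    rintro ⟨a, b, c⟩ ⟨a', b', c'⟩ he
    have h1 : Eight.pw r a * Eight.pw z b * Eight.pw t c = Eight.pw r a' * Eight.pw z b' * Eight.pw t c' :=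
      congrArg Subtype.val he
    have hcc : c = c' := by
      by_contra hne
      apply htU'
      rcases Eight.z2 c with hc | hc <;> rcases Eight.z2 c' with hc' | hc'
      · exact absurd (hc.trans hc'.symm) hne
      · rw [hc, hc', Eight.pw_zero, Eight.pw_one, mul_one] at h1
        have e : t = (Eight.pw r a' * Eight.pw z b')⁻¹ * (Eight.pw r a * Eight.pw z b) := by rw [h1]; group
        rw [e]; exact mul_mem (inv_mem (hU _ _)) (hU _ _)
      · rw [hc, hc', Eight.pw_zero, Eight.pw_one, mul_one] at h1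
        have e : t = (Eight.pw r a * Eight.pw z b)⁻¹ * (Eight.pw r a' * Eight.pw z b') := by rw [← h1]; group
        rw [e]; exact mul_mem (inv_mem (hU _ _)) (hU _ _)
      · exact absurd (hc.trans hc'.symm) hne
    subst hcc
    have h2 := mul_right_cancel h1
    have ha : a = a' := by
      by_contra hne
      have key : ∀ b b' : ZMod 2, r * Eight.pw z b = Eight.pw z b' → False := by
        intro b b' h
        have e : r = Eight.pw z (b' + b) := by
          rw [Eight.pw_add A.zz, ← h, mul_assoc, Eight.pw_sq A.zz, mul_one]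
        rcases Eight.z2 (b' + b) with h0 | h0
        · rw [h0, Eight.pw_zero] at e; exact A.p_ne_one hrΔ e
        · rw [h0, Eight.pw_one] at e; exact A.p_ne_z hrΔ e
      rcases Eight.z2 a with ha | ha <;> rcases Eight.z2 a' with ha' | ha'
      · exact absurd (ha.trans ha'.symm) hne
      · rw [ha, ha', Eight.pw_zero, Eight.pw_one, one_mul] at h2
        exact key _ _ h2.symm
      · rw [ha, ha', Eight.pw_zero, Eight.pw_one, one_mul] at h2
        exact key _ _ h2
      · exact absurd (ha.trans ha'.symm) hne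
    subst ha
    rw [Eight.pw_inj A.z1 (mul_left_cancel h2)]
  have hbij : Function.Bijective F := by
    refine (Nat.bijective_iff_injective_and_card F).2 ⟨hinj, ?_⟩
    rw [hc, Nat.card_prod, Nat.card_prod, Nat.card_zmod]
  -- `z^g ∈ N_r`
  have hy : g * z * g⁻¹ ∈ gen r z := subset_closure ⟨g, hg, rfl⟩
  -- exclusions
  have hzr : z * r = r * z := hNc z hzN r hrN
  have ex1 : ∀ k, k * r = r * k → k * z * k⁻¹ ≠ 1 := fun k _ he => A.z1 (conj_eq_one_iff.1 he)
  have ex2 : ∀ k, k * r = r * k → k * z * k⁻¹ ≠ r := by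
    intro k hk he
    apply A.p_ne_z hrΔ
    have e1 : z = k⁻¹ * r * k := by rw [← he]; group
    rw [e1, mul_assoc, ← hk]; group
  have ex3 : ∀ k, k * r = r * k → k * z * k⁻¹ ≠ r * z := fun k hk he =>
    not_conj_zr p h hk (by rw [he, hzr])
  obtain ⟨k, hk, ek⟩ := htz
  have ex4 : ∀ g, g * r = r * g → g * z * g⁻¹ ≠ r * t := by
    intro g hg he
    apply ex3 (k⁻¹ * g)
    · calc k⁻¹ * g * r = k⁻¹ * (g * r) := by group
        _ = k⁻¹ * r * g := by rw [hg]; group
        _ = k⁻¹ * (r * k) * k⁻¹ * g := by group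
        _ = r * (k⁻¹ * g) := by rw [← hk]; group
    · have hkr : k⁻¹ * r * k = r := by rw [mul_assoc, ← hk]; group
      calc k⁻¹ * g * z * (k⁻¹ * g)⁻¹ = k⁻¹ * (g * z * g⁻¹) * k := by group
        _ = k⁻¹ * (r * (k * z * k⁻¹)) * k := by rw [he, ek]
        _ = (k⁻¹ * r * k) * z := by group
        _ = r * z := by rw [hkr]
  have ex5 : ∀ g, g * r = r * g → g * z * g⁻¹ ≠ z * t := by
    intro g hg he
    obtain ⟨w, hw, hw1⟩ := A.exists_f1 hrΔ
    -- `w t w⁻¹ = t r z`
    have h5 : w * t * w⁻¹ = t * (r * z) := by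
      have h6 := (A.act_or hrΔ ((hN t).2 ht)).resolve_left htU w hw
      rw [hw1, Eight.pw_one] at h6
      have hti : t⁻¹ = t := inv_eq_of_mul_eq_one_left (hNsq t ht)
      have h7 : t⁻¹ * w * t = w * (r * z) := by rw [hti] at h6 ⊢; exact h6
      calc w * t * w⁻¹ = t * (t⁻¹ * w * t) * w⁻¹ := by group
        _ = t * (w * (r * z)) * w⁻¹ := by rw [h7]
        _ = t * ((r * z) * w) * w⁻¹ := by rw [A.U_comm w hw _ (A.pz_U hrΔ)]
        _ = t * (r * z) := by group
    have hwr : w * r = r * w := A.U_comm w hw r hrU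
    have hwz : w * z * w⁻¹ = z := by rw [A.U_comm w hw z A.z_U, mul_inv_cancel_right]
    apply ex4 (w * g)
    · rw [mul_assoc, hg, ← mul_assoc, hwr, mul_assoc]
    · calc w * g * z * (w * g)⁻¹ = w * (g * z * g⁻¹) * w⁻¹ := by group
        _ = (w * z * w⁻¹) * (w * t * w⁻¹) := by rw [he]; group
        _ = z * (t * (r * z)) := by rw [hwz, h5]
        _ = z * (z * r * t) := by rw [hNc t ht _ (mul_mem hrN hzN), hzr]
        _ = r * t := by rw [← mul_assoc, ← mul_assoc, A.zz, one_mul]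
  obtain ⟨⟨a, b, c⟩, hF⟩ := hbij.2 ⟨_, hy⟩
  have hF' : Eight.pw r a * Eight.pw z b * Eight.pw t c = g * z * g⁻¹ := congrArg Subtype.val hF
  rcases Eight.z2 a with ha | ha <;> rcases Eight.z2 b with hb | hb <;> rcases Eight.z2 c with hc | hc <;>
    rw [ha, hb, hc] at hF' <;> simp only [Eight.pw_zero, Eight.pw_one, one_mul, mul_one] at hF'
  · exact absurd hF'.symm (ex1 g hg)
  · exact Or.inr (Or.inl hF'.symm)
  · exact Or.inl hF'.symm
  · exact absurd hF'.symm (ex5 g hg)
  · exact absurd hF'.symm (ex2 g hg)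
  · exact absurd hF'.symm (ex4 g hg)
  · exact absurd hF'.symm (ex3 g hg)
  · exact Or.inr (Or.inr hF'.symm)

/-- **`|N_r| = 8` gives `Three`** -/
theorem three (h : TSz V R o r z) (hc : Nat.card (gen r z) = 8) :
    Three z (Dl (MP V R o z) r) (ts p h).tz := by
  have A := res p h
  rintro q ⟨m, hm, rfl⟩ g hg
  set q := m * r * m⁻¹ with hq
  have hqΔ : q ∈ Dl (MP V R o z) r := ⟨m, hm, rfl⟩
  have hrΔ : r ∈ Dl (MP V R o z) r := self_mem_Dl _ _
  have hgq := Eight.mem_Cp.1 hg
  obtain ⟨k, hk, ek⟩ := A.t_ZZ q hqΔ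
  have hkq := Eight.mem_Cp.1 hk
  have hmz : m * z = z * m := A.mz hm
  have hmz' : m⁻¹ * z * m = z := by rw [mul_assoc, ← hmz]; group
  -- conjugation to `r`
  have tr : ∀ g, g * q = q * g → (m⁻¹ * g * m) * r = r * (m⁻¹ * g * m) := by
    intro g hg
    calc (m⁻¹ * g * m) * r = m⁻¹ * (g * (m * r * m⁻¹)) * m := by group
      _ = m⁻¹ * (m * r * m⁻¹ * g) * m := by rw [← hq, hg]
      _ = r * (m⁻¹ * g * m) := by group
  have tz : ∀ g, (m⁻¹ * g * m) * z * (m⁻¹ * g * m)⁻¹ = m⁻¹ * (g * z * g⁻¹) * m := by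
    intro g
    calc (m⁻¹ * g * m) * z * (m⁻¹ * g * m)⁻¹ = m⁻¹ * g * (m * z) * m⁻¹ * g⁻¹ * m := by group
      _ = m⁻¹ * (g * z * g⁻¹) * m := by rw [hmz]; group
  set t := m⁻¹ * (ts p h).tz q * m with ht
  have htk : t = (m⁻¹ * k * m) * z * (m⁻¹ * k * m)⁻¹ := by rw [tz, ← ek, ht]
  have htN : t ∈ gen r z := by
    rw [htk]
    exact subset_closure ⟨_, tr k hkq, rfl⟩
  have htU : ¬ ∀ u ∈ gn (MP V R o z) r, t * u = u * t := by
    have h1 := A.conj_mv (inv_mem hm) (A.t_mv hqΔ)
    rwa [inv_inv] at h1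
  have h1 := three_r p h hc htN htU (tr g hgq) ⟨_, tr k hkq, htk⟩
  rw [tz] at h1
  have back : ∀ x : G, m⁻¹ * (g * z * g⁻¹) * m = x → g * z * g⁻¹ = m * x * m⁻¹ := by
    intro x hx
    rw [← hx]; group
  rcases h1 with h1 | h1 | h1
  · left
    rw [back _ h1, hmz, mul_inv_cancel_right]
  · right; left
    rw [back _ h1, ht]; group
  · right; right
    rw [back _ h1, ht, hq]
    calc m * (r * z * (m⁻¹ * (ts p h).tz (m * r * m⁻¹) * m)) * m⁻¹
        = m * r * (z * m⁻¹) * (ts p h).tz (m * r * m⁻¹) := by group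
      _ = m * r * (m⁻¹ * z) * (ts p h).tz (m * r * m⁻¹) := by
          have : z * m⁻¹ = m⁻¹ * z := by
            calc z * m⁻¹ = (m⁻¹ * z * m) * m⁻¹ := by rw [hmz']
              _ = m⁻¹ * z := by group
          rw [this]
      _ = m * r * m⁻¹ * z * (ts p h).tz (m * r * m⁻¹) := by group

/-- the input of (6) at `r` -/
theorem inp : Inp z (MP V R o z) (gn (MP V R o z) r) (Dl (MP V R o z) r) r where
  r_Δ := self_mem_Dl _ _
  cc := by
    intro K hK hn k hk
    have h1 : K ≤ R o := by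
      refine p.le_all o K ?_ ?_
      · intro l hl
        have h2 : (⨅ q ∈ Dl (MP V R o z) r, Zp q) ⊔ zpowers r ≤ HTwo.Par.RC p.toBT o := by
          refine sup_le ?_ ?_
          · intro x hx
            refine ⟨1, one_mem _, ?_⟩
            rw [one_mul]
            simp only [mem_iInf] at hx
            obtain ⟨j, k, hj, hk, hjk⟩ := p.toHT.one_lt
            have h3 := hx _ (gg_Dl p o)
            have h4 := hx _ (gg_Dl p j)
            rw [← ZQ_inf p.toHT.toBTS p.le_all (Ne.symm hj)]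
            refine ⟨?_, ?_⟩
            · show x ∈ ZQ R o
              unfold ZQ
              rw [QQ_eq p]; exact h3
            · show x ∈ ZQ R j
              unfold ZQ
              rw [QQ_eq p]; exact h4
          · rw [zpowers_le]
            refine ⟨r⁻¹, inv_mem p.r_mem, ?_⟩
            rw [inv_mul_cancel]; exact one_mem _
        exact h2 (hK l hl)
      · intro g hg
        rw [p.normalizer_eq] at hg
        exact mem_normalizer_of_conj fun x hx => hn g hg x hx
    exact (p.r_iff k).1 (h1 hk)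
  nab := by
    obtain ⟨h, hh, a, ha, c, hc, hne⟩ := AlphaFive.exists_h p.toHT p.r_iff
    obtain ⟨v, hv, rfl⟩ := hc
    refine ⟨h, ?_, a, ⟨V_U p ha, ?_⟩, v, ⟨V_U p hv, ?_⟩, hne⟩
    · rw [p.normalizer_eq] at hh; exact hh
    · show a ∈ Qp r
      rw [← QQ_o p]; exact p.V_Q o ha
    · show v ∈ Qp r
      rw [← QQ_o p]; exact p.V_Q o hv
  char2 := by
    intro g hg hc
    exact char2_M p ⟨hg, (cen_iff p).2 hc⟩

/-- **the output of (6) of #15507 from `Pos`, `TSz` and `|N_r| = 8`** -/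
theorem out (h : TSz V R o r z) (hc : Nat.card (gen r z) = 8) :
    Out z (MP V R o z) (gn (MP V R o z) r) (Dl (MP V R o z) r) (ts p h).f (ts p h).tz r :=
  (res p h).out (three p h hc) (inp p)

end

end Cfsg.Agent.Omega.HTwo.TSPos
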