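import Cfsg.Agent.Omega.HTwo.SevenE
import Cfsg.Agent.ParSys.Polar.Incid

/-!
# II.0h1, `q = 2`, (7) of #15507: the residue `(0, 1)`

`R* = ⟨r, s, e⟩ = 2³`, `V = ⟨r, s⟩`, `H = ⟨L, Q_s, S⟩ ≤ N(R*)`.

* `ED.Rs`, `ED.Vs` : the subgroups `R*`, `V`; `ED.card_Rs`;
* `structure ES` : the situation with the Sylow group `S`;
* `ES.stab` : the stabiliser of `r`, `V` in `H` is `S`; `ES.stab_r`, `ES.stab_V`;
* `ES.rk` : the residue `(L S, Q_s S)` is the projective plane of `R*`.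
-/

set_option autoImplicit false
set_option linter.unusedSectionVars false

namespace Cfsg.Agent.Omega.HTwo.Seven

open Subgroup Cfsg.Agent.Omega.BTwo Cfsg.Agent.Omega.HTwo.Eight

variable {G : Type*} [Group G] {z : G} {M U : Subgroup G} {Δ : Set G} {f : G → G → ZMod 2} {t : G → G}

theorem norm_of {A B : Subgroup G} (h : ∀ a ∈ A, ∀ b ∈ B, a * b * a⁻¹ ∈ B) : A ≤ normalizer (B : Set G) := by
  intro a ha
  rw [mem_normalizer_iff]
  refine fun b => ⟨h a ha b, fun hb => ?_⟩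
  have h1 := h a⁻¹ (A.inv_mem ha) _ hb
  have e : a⁻¹ * (a * b * a⁻¹) * a⁻¹⁻¹ = b := by group
  rwa [e] at h1

theorem conj_norm {B : Subgroup G} {g x : G} (hg : g ∈ normalizer (B : Set G)) (hx : x ∈ B) : g * x * g⁻¹ ∈ B :=
  (mem_normalizer_iff.1 hg x).1 hx

namespace ED

variable {r s l : G} (E : ED z M U Δ f t r s l)

/-- the elements of `R*` -/
def el (r s l : G) (a b c : ZMod 2) : G := pw r a * pw s b * pw (l * s * l⁻¹) c

include E

theorem el_mul (a b c a' b' c' : ZMod 2) : el r s l a b c * el r s l a' b' c' = el r s l (a + a') (b + b') (c + c') := by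
  unfold el
  have hrs : ∀ a b, pw r a * pw s b = pw s b * pw r a := fun a b => E.A.U_comm _ (pw_mem E.rU a) _ (pw_mem E.sU b)
  have hc : ∀ x, (∀ c, pw (l * s * l⁻¹) c * x = x * pw (l * s * l⁻¹) c) ↔ l * s * l⁻¹ * x = x * (l * s * l⁻¹) := by
    intro x
    constructor
    · intro h
      have := h 1
      rwa [pw_one] at this
    · intro h c
      rcases z2 c with h1 | h1
      · rw [h1, pw_zero, one_mul, mul_one]
      · rw [h1, pw_one, h]
  have her : ∀ c a, pw (l * s * l⁻¹) c * pw r a = pw r a * pw (l * s * l⁻¹) c := by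
    intro c a
    refine (hc _).2 ?_ c
    rcases z2 a with h1 | h1
    · rw [h1, pw_zero, one_mul, mul_one]
    · rw [h1, pw_one, E.r_e]
  have hes : ∀ c a, pw (l * s * l⁻¹) c * pw s a = pw s a * pw (l * s * l⁻¹) c := by
    intro c a
    refine (hc _).2 ?_ c
    rcases z2 a with h1 | h1
    · rw [h1, pw_zero, one_mul, mul_one]
    · rw [h1, pw_one, E.s_e]
  rw [pw_add E.rr, pw_add E.ss, pw_add E.ee]
  calc pw r a * pw s b * pw (l * s * l⁻¹) c * (pw r a' * pw s b' * pw (l * s * l⁻¹) c')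
      = pw r a * pw s b * (pw (l * s * l⁻¹) c * pw r a') * pw s b' * pw (l * s * l⁻¹) c' := by group
    _ = pw r a * pw s b * (pw r a' * pw (l * s * l⁻¹) c) * pw s b' * pw (l * s * l⁻¹) c' := by rw [her]
    _ = pw r a * (pw s b * pw r a') * (pw (l * s * l⁻¹) c * pw s b') * pw (l * s * l⁻¹) c' := by group
    _ = pw r a * (pw r a' * pw s b) * (pw s b' * pw (l * s * l⁻¹) c) * pw (l * s * l⁻¹) c' := by rw [← hrs, hes]
    _ = _ := by group

theorem el_zero : el r s l 0 0 0 = 1 := by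
  have _ := E
  unfold el
  rw [pw_zero, pw_zero, pw_zero, one_mul, one_mul]

theorem el_sq (a b c : ZMod 2) : el r s l a b c * el r s l a b c = 1 := by
  have h : ∀ x : ZMod 2, x + x = 0 := by decide
  rw [E.el_mul, h, h, h, E.el_zero]

theorem e_notU : l * s * l⁻¹ ∉ U := fun h => by
  apply E.e_not h E.eQ
  rw [E.ee]
  exact one_mem _

theorem el_eq_one {a b c : ZMod 2} (h : el r s l a b c = 1) : a = 0 ∧ b = 0 ∧ c = 0 := by
  unfold el at h
  have hc : c = 0 := by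
    rcases z2 c with h1 | h1
    · exact h1
    · exfalso
      rw [h1, pw_one] at h
      apply E.e_notU
      have e : l * s * l⁻¹ = (pw r a * pw s b)⁻¹ := eq_inv_of_mul_eq_one_right h
      rw [e]
      exact inv_mem (mul_mem (pw_mem E.rU a) (pw_mem E.sU b))
  rw [hc, pw_zero, mul_one] at h
  rcases z2 a with h1 | h1 <;> rcases z2 b with h2 | h2 <;> rw [h1, h2] at h ⊢
  · exact ⟨rfl, rfl, hc⟩
  · rw [pw_zero, pw_one, one_mul] at h
    exact absurd h E.s_ne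
  · rw [pw_zero, pw_one, mul_one] at h
    exact absurd h E.r_ne
  · rw [pw_one, pw_one] at h
    exfalso
    apply E.ne
    rw [← E.A.inv_eq E.sU]
    exact (mul_eq_one_iff_eq_inv.1 h).symm

theorem el_inj {a b c a' b' c' : ZMod 2} (h : el r s l a b c = el r s l a' b' c') : a = a' ∧ b = b' ∧ c = c' := by
  have h1 : el r s l (a + a') (b + b') (c + c') = 1 := by
    rw [← E.el_mul, h, E.el_sq]
  obtain ⟨h2, h3, h4⟩ := E.el_eq_one h1
  have key : ∀ x y : ZMod 2, x + y = 0 → x = y := by decide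
  exact ⟨key _ _ h2, key _ _ h3, key _ _ h4⟩

/-- `R* = ⟨r, s, e⟩` -/
def Rs : Subgroup G where
  carrier := {x | ∃ a b c, x = el r s l a b c}
  one_mem' := ⟨0, 0, 0, E.el_zero.symm⟩
  mul_mem' := by
    rintro _ _ ⟨a, b, c, rfl⟩ ⟨a', b', c', rfl⟩
    exact ⟨_, _, _, E.el_mul a b c a' b' c'⟩
  inv_mem' := by
    rintro _ ⟨a, b, c, rfl⟩
    exact ⟨a, b, c, inv_eq_of_mul_eq_one_left (E.el_sq a b c)⟩

theorem mem_Rs {x : G} : x ∈ E.Rs ↔ ∃ a b c, x = el r s l a b c := Iff.rfl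

theorem r_Rs : r ∈ E.Rs := ⟨1, 0, 0, by unfold el; rw [pw_one, pw_zero, pw_zero, mul_one, mul_one]⟩

theorem s_Rs : s ∈ E.Rs := ⟨0, 1, 0, by unfold el; rw [pw_one, pw_zero, pw_zero, mul_one, one_mul]⟩

theorem e_Rs : l * s * l⁻¹ ∈ E.Rs := ⟨0, 0, 1, by unfold el; rw [pw_one, pw_zero, pw_zero, one_mul, one_mul]⟩

theorem Rs_comm {x y : G} (hx : x ∈ E.Rs) (hy : y ∈ E.Rs) : x * y = y * x := by
  obtain ⟨a, b, c, rfl⟩ := hx
  obtain ⟨a', b', c', rfl⟩ := hy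
  rw [E.el_mul, E.el_mul, add_comm a, add_comm b, add_comm c]

theorem Rs_sq {x : G} (hx : x ∈ E.Rs) : x * x = 1 := by
  obtain ⟨a, b, c, rfl⟩ := hx
  exact E.el_sq a b c

theorem card_Rs : Nat.card E.Rs = 8 := by
  have e : (ZMod 2 × ZMod 2 × ZMod 2) ≃ E.Rs :=
    Equiv.ofBijective (fun x => ⟨el r s l x.1 x.2.1 x.2.2, x.1, x.2.1, x.2.2, rfl⟩) (by
      constructor
      · rintro ⟨a, b, c⟩ ⟨a', b', c'⟩ h
        obtain ⟨h1, h2, h3⟩ := E.el_inj (congrArg Subtype.val h)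
        simp only at h1 h2 h3
        rw [h1, h2, h3]
      · rintro ⟨_, a, b, c, rfl⟩
        exact ⟨(a, b, c), rfl⟩)
  rw [← Nat.card_congr e, Nat.card_prod, Nat.card_prod, Nat.card_zmod]

theorem conj_Rs {g : G} (h1 : g * r * g⁻¹ ∈ E.Rs) (h2 : g * s * g⁻¹ ∈ E.Rs) (h3 : g * (l * s * l⁻¹) * g⁻¹ ∈ E.Rs)
    {x : G} (hx : x ∈ E.Rs) : g * x * g⁻¹ ∈ E.Rs := by
  obtain ⟨a, b, c, rfl⟩ := hx
  have e : g * el r s l a b c * g⁻¹ = pw (g * r * g⁻¹) a * pw (g * s * g⁻¹) b * pw (g * (l * s * l⁻¹) * g⁻¹) c := by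
    unfold el
    rw [← conj_pw g r a, ← conj_pw g s b, ← conj_pw g (l * s * l⁻¹) c]
    group
  rw [e]
  exact mul_mem (mul_mem (pw_mem h1 a) (pw_mem h2 b)) (pw_mem h3 c)

theorem Rs_le_Q : E.Rs ≤ Qp r := by
  rintro _ ⟨a, b, c, rfl⟩
  exact mul_mem (mul_mem (pw_mem E.rQ a) (pw_mem E.sQ b)) (pw_mem E.eQ c)

theorem Rs_le_Qs : E.Rs ≤ Qp s := by
  rintro _ ⟨a, b, c, rfl⟩
  exact mul_mem (mul_mem (pw_mem ((E.A.Q_f s E.s_Δ r E.rU).2 E.sr) a)
    (pw_mem ((E.A.Q_f s E.s_Δ s E.sU).2 (E.A.f_self s E.sU)) b)) (pw_mem E.e_Qs c)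

/-! ### the normaliser of `R*` -/

/-- an element of `L` moves `s` into `s ⟨r⟩`, `e ⟨r⟩`, `e s ⟨r⟩` -/
theorem L_s {g : G} (hg : g ∈ Lp U r) : g * s * g⁻¹ ∈ E.Rs := by
  have hgC := E.A.L_le E.r_Δ hg
  rcases E.h3 r E.r_Δ g hgC with h | h | h
  · obtain ⟨c, hc⟩ := E.rho_eq hg (one_mem _) (by rw [h]; group) E.sU E.sQ
    rw [hc]
    have e3 : (1 : G) * s * 1⁻¹ = s := by group
    rw [e3]
    exact mul_mem E.s_Rs (pw_mem E.r_Rs c)
  · obtain ⟨c, hc⟩ := E.rho_eq hg E.l_L (by rw [h, E.lz]) E.sU E.sQ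
    rw [hc]
    exact mul_mem E.e_Rs (pw_mem E.r_Rs c)
  · obtain ⟨w, hw, hw1⟩ := E.A.exists_f1 E.r_Δ
    have hwL := E.A.U_le_L (r := r) hw
    have e1 : g * z * g⁻¹ = w * l * z * (w * l)⁻¹ := by
      rw [h, ← E.w_t hw hw1, ← E.lz]; group
    obtain ⟨c, hc⟩ := E.rho_eq hg (mul_mem hwL E.l_L) e1 E.sU E.sQ
    obtain ⟨c', hc'⟩ := E.conj_w hw hw1
    have e2 : w * l * s * (w * l)⁻¹ = w * (l * s * l⁻¹) * w⁻¹ := by group
    rw [hc, e2, hc']
    exact mul_mem (mul_mem (mul_mem E.e_Rs E.s_Rs) (pw_mem E.r_Rs c')) (pw_mem E.r_Rs c)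

theorem L_norm_Rs : Lp U r ≤ normalizer (E.Rs : Set G) := by
  refine norm_of fun g hg x hx => E.conj_Rs ?_ (E.L_s hg) ?_ hx
  · rw [mem_Cp.1 (E.A.L_le E.r_Δ hg), mul_inv_cancel_right]
    exact E.r_Rs
  · have e : g * (l * s * l⁻¹) * g⁻¹ = g * l * s * (g * l)⁻¹ := by group
    rw [e]
    exact E.L_s (mul_mem hg E.l_L)

theorem Qs_norm_Rs : Qp s ≤ normalizer (E.Rs : Set G) := by
  refine norm_of fun q hq x hx => ?_
  rcases E.A.Q_comm s E.s_Δ q hq x (E.Rs_le_Qs hx) with h | h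
  · rw [h, mul_inv_cancel_right]
    exact hx
  · rw [h]
    have e : s * (x * q) * q⁻¹ = s * x := by group
    rw [e]
    exact mul_mem E.s_Rs hx

/-- `C(R*) ≤ K_r` -/
theorem cen_K {x : G} (hx : x ∈ centralizer (E.Rs : Set G)) : x ∈ Kp z r := by
  have h : ∀ y ∈ E.Rs, x * y = y * x := fun y hy => (mem_centralizer_iff.1 hx y hy).symm
  have hr := h r E.r_Rs
  have hxC : x ∈ Cp r := mem_Cp.2 hr
  refine (E.A.mem_K E.h3 E.r_Δ).2 ⟨hr, E.cen_z hxC (h s E.s_Rs), ?_⟩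
  have h1 : l⁻¹ * x * l ∈ Cp r := by
    have := mul_mem (mul_mem (inv_mem E.lC) hxC) E.lC
    exact this
  have h2 : l⁻¹ * x * l * s = s * (l⁻¹ * x * l) := by
    have h3 := h _ E.e_Rs
    calc l⁻¹ * x * l * s = l⁻¹ * (x * (l * s * l⁻¹)) * l := by group
      _ = l⁻¹ * (l * s * l⁻¹ * x) * l := by rw [h3]
      _ = s * (l⁻¹ * x * l) := by group
  have h3 := E.cen_z h1 h2
  rw [← E.lz]
  calc x * (l * z * l⁻¹) = l * (l⁻¹ * x * l * z) * l⁻¹ := by group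
    _ = l * (z * (l⁻¹ * x * l)) * l⁻¹ := by rw [h3]
    _ = l * z * l⁻¹ * x := by group

/-- `V = ⟨r, s⟩` -/
def Vs : Subgroup G := four r s E.rr E.ss E.rs_comm

theorem mem_Vs {x : G} : x ∈ E.Vs ↔ x = 1 ∨ x = r ∨ x = s ∨ x = r * s := Iff.rfl

theorem Vs_le : E.Vs ≤ E.Rs := by
  intro x hx
  rcases E.mem_Vs.1 hx with rfl | rfl | rfl | rfl
  · exact one_mem _
  · exact E.r_Rs
  · exact E.s_Rs
  · exact mul_mem E.r_Rs E.s_Rs

theorem Vs_le_U : E.Vs ≤ U := by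
  intro x hx
  rcases E.mem_Vs.1 hx with rfl | rfl | rfl | rfl
  · exact one_mem _
  · exact E.rU
  · exact E.sU
  · exact mul_mem E.rU E.sU

/-- **the adjustment** -/
theorem adjust {x : G} (hx : x ∈ normalizer (E.Rs : Set G)) (hr : x * r = r * x)
    (hs : x * s * x⁻¹ = s ∨ x * s * x⁻¹ = s * r) : ∃ y ∈ Qp r ⊔ U, y * x ∈ centralizer (E.Rs : Set G) := by
  have A := E.A
  -- reduce to `e^x ∈ e V`, then `e^x ∈ e ⟨r⟩`
  have hQ : Qp r ≤ Qp r ⊔ U := le_sup_left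
  have hU : U ≤ Qp r ⊔ U := le_sup_right
  have hsU := E.sU
  have hxr : x * r * x⁻¹ = r := by rw [hr, mul_inv_cancel_right]
  have hsr : ∀ k : ZMod 2, s * pw r k = pw r k * s := fun k => A.U_comm s hsU _ (pw_mem E.rU k)
  have hpr : ∀ g : G, g * r * g⁻¹ = r → ∀ k, g * pw r k * g⁻¹ = pw r k := fun g hg k => by rw [conj_pw, hg]
  obtain ⟨d, hd⟩ : ∃ d : ZMod 2, x * s * x⁻¹ = s * pw r d := by
    rcases hs with h | h
    · exact ⟨0, by rw [pw_zero, mul_one, h]⟩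
    · exact ⟨1, by rw [pw_one, h]⟩
  obtain ⟨a, b, c, he⟩ := E.mem_Rs.1 (conj_norm hx E.e_Rs)
  have hc : c = 1 := by
    rcases z2 c with h | h
    · exfalso
      have h1 : x * (l * s * l⁻¹) * x⁻¹ ∈ E.Vs := by
        rw [he, h]
        unfold el
        rw [pw_zero, mul_one]
        exact mul_mem (pw_mem (E.mem_Vs.2 (Or.inr (Or.inl rfl))) a)
          (pw_mem (E.mem_Vs.2 (Or.inr (Or.inr (Or.inl rfl)))) b)
      -- `x` normalises `V`
      have h2 : ∀ y ∈ E.Vs, x * y * x⁻¹ ∈ E.Vs := by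
        intro y hy
        have rV : r ∈ E.Vs := E.mem_Vs.2 (Or.inr (Or.inl rfl))
        have sV : s ∈ E.Vs := E.mem_Vs.2 (Or.inr (Or.inr (Or.inl rfl)))
        have h3 : x * s * x⁻¹ ∈ E.Vs := by rw [hd]; exact mul_mem sV (pw_mem rV d)
        rcases E.mem_Vs.1 hy with rfl | rfl | rfl | rfl
        · rw [mul_one, mul_inv_cancel]; exact one_mem _
        · rw [hxr]; exact rV
        · exact h3
        · have : x * (r * s) * x⁻¹ = (x * r * x⁻¹) * (x * s * x⁻¹) := by group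
          rw [this, hxr]
          exact mul_mem rV h3
      have h3 : x⁻¹ * (x * (l * s * l⁻¹) * x⁻¹) * x ∈ E.Vs := by
        have h4 : cj x E.Vs = E.Vs := by
          have hfin : Finite E.Vs := by
            refine Set.Finite.subset (s := {1, r, s, r * s}) (Set.toFinite _) ?_
            intro y hy
            exact E.mem_Vs.1 hy
          apply SetLike.coe_injective
          apply Set.eq_of_subset_of_ncard_le
          · exact cj_le_iff.2 h2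
          · exact le_of_eq (card_cj x E.Vs).symm
          · exact hfin
        rw [← h4] at h1
        exact mem_cj.1 h1
      have e4 : x⁻¹ * (x * (l * s * l⁻¹) * x⁻¹) * x = l * s * l⁻¹ := by group
      rw [e4] at h3
      exact E.e_notU (E.Vs_le_U h3)
    · exact h
  -- step 1
  obtain ⟨y₁, hy₁, d₁, a₁, hr₁, hs₁, he₁⟩ : ∃ y ∈ Qp r ⊔ U, ∃ d' a' : ZMod 2, y * x * r * (y * x)⁻¹ = r ∧
      y * x * s * (y * x)⁻¹ = s * pw r d' ∧ y * x * (l * s * l⁻¹) * (y * x)⁻¹ = l * s * l⁻¹ * pw r a' := by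
    rcases z2 b with h | h
    · refine ⟨1, one_mem _, d, a, by rw [one_mul]; exact hxr, by rw [one_mul]; exact hd, ?_⟩
      rw [one_mul, he, hc, h]
      unfold el
      rw [pw_zero, mul_one, pw_one]
      exact A.pw_r_comm E.r_Δ E.eQ a
    · obtain ⟨w, hw, hw1⟩ := A.exists_f1 E.r_Δ
      obtain ⟨k, hk⟩ := E.conj_w hw hw1
      have hwr : w * r * w⁻¹ = r := by rw [A.U_comm w hw r E.rU, mul_inv_cancel_right]
      have hws : w * s * w⁻¹ = s := by rw [A.U_comm w hw s hsU, mul_inv_cancel_right]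
      refine ⟨w, hU hw, d, a + k, ?_, ?_, ?_⟩
      · calc w * x * r * (w * x)⁻¹ = w * (x * r * x⁻¹) * w⁻¹ := by group
          _ = r := by rw [hxr, hwr]
      · calc w * x * s * (w * x)⁻¹ = w * (x * s * x⁻¹) * w⁻¹ := by group
          _ = (w * s * w⁻¹) * (w * pw r d * w⁻¹) := by rw [hd]; group
          _ = s * pw r d := by rw [hws, hpr w hwr]
      · have e1 : w * x * (l * s * l⁻¹) * (w * x)⁻¹ = w * (x * (l * s * l⁻¹) * x⁻¹) * w⁻¹ := by group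
        rw [e1, he, hc, h]
        unfold el
        rw [pw_one, pw_one]
        have e2 : w * (pw r a * s * (l * s * l⁻¹)) * w⁻¹ = (w * pw r a * w⁻¹) * (w * s * w⁻¹) *
            (w * (l * s * l⁻¹) * w⁻¹) := by group
        rw [e2, hpr w hwr, hws, hk]
        have h1 := E.s_e
        have h2 := A.pw_r_comm E.r_Δ E.eQ a
        have h3 := E.ss
        rw [pw_add E.rr]
        obtain ⟨e, hed⟩ : ∃ e, e = l * s * l⁻¹ := ⟨_, rfl⟩
        rw [← hed] at h1 h2 ⊢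
        calc pw r a * s * (e * s * pw r k) = pw r a * (s * e) * s * pw r k := by group
          _ = pw r a * (e * s) * s * pw r k := by rw [h1]
          _ = (pw r a * e) * (s * s) * pw r k := by group
          _ = e * (pw r a * pw r k) := by rw [h2, h3]; group
  -- step 2
  obtain ⟨v, hv, hvQ, hv1⟩ := E.exists_v
  have k1 : v * (l * s * l⁻¹) * v⁻¹ = l * s * l⁻¹ * r := by
    rw [E.conjQ hvQ E.eQ, E.cm_e hv hvQ, hv1, pw_one]
  have k2 : v * s * v⁻¹ = s := by rw [A.U_comm v hv s hsU, mul_inv_cancel_right]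
  have k3 : v * r * v⁻¹ = r := by rw [A.U_comm v hv r E.rU, mul_inv_cancel_right]
  have hv'Q : l * v * l⁻¹ ∈ Qp r := Q_normal E.lC hvQ
  obtain ⟨v', hv'⟩ : ∃ v', v' = l * v * l⁻¹ := ⟨_, rfl⟩
  have k4 : v' * s * v'⁻¹ = s * r := by
    rw [hv', E.conjQ hv'Q E.sQ, E.cm_ls hv hvQ, hv1, pw_one]
  have k5 : v' * (l * s * l⁻¹) * v'⁻¹ = l * s * l⁻¹ := by
    rw [hv', A.cj_comm l (conj_mem_cj hv) (conj_mem_cj hsU), mul_inv_cancel_right]
  have k6 : v' * r * v'⁻¹ = r := by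
    rw [hv', ← A.r_comm E.r_Δ hv'Q, mul_inv_cancel_right]
  rw [← hv'] at hv'Q
  have hrr := E.rr
  -- the powers
  have m1 : pw v a₁ ∈ Qp r ⊔ U := pw_mem (hU hv) _
  have m2 : pw v' d₁ ∈ Qp r ⊔ U := pw_mem (hQ hv'Q) _
  refine ⟨pw v a₁ * pw v' d₁ * y₁, mul_mem (mul_mem m1 m2) hy₁, ?_⟩
  obtain ⟨x₁, hx₁⟩ : ∃ x₁, x₁ = y₁ * x := ⟨_, rfl⟩
  rw [← hx₁] at hr₁ hs₁ he₁
  have e0 : pw v a₁ * pw v' d₁ * y₁ * x = pw v a₁ * pw v' d₁ * x₁ := by rw [hx₁]; group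
  rw [e0]
  -- `g = v^a v'^d x₁` fixes `r, s, e`
  have pv : ∀ y : G, v * y * v⁻¹ = y → ∀ k, pw v k * y * (pw v k)⁻¹ = y := by
    intro y hy k
    rcases z2 k with h | h
    · rw [h, pw_zero]; group
    · rw [h, pw_one, hy]
  have pv' : ∀ y : G, v' * y * v'⁻¹ = y → ∀ k, pw v' k * y * (pw v' k)⁻¹ = y := by
    intro y hy k
    rcases z2 k with h | h
    · rw [h, pw_zero]; group
    · rw [h, pw_one, hy]
  have q1 : pw v a₁ * pw v' d₁ * x₁ * r * (pw v a₁ * pw v' d₁ * x₁)⁻¹ = r := by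
    calc pw v a₁ * pw v' d₁ * x₁ * r * (pw v a₁ * pw v' d₁ * x₁)⁻¹
        = pw v a₁ * (pw v' d₁ * (x₁ * r * x₁⁻¹) * (pw v' d₁)⁻¹) * (pw v a₁)⁻¹ := by group
      _ = r := by rw [hr₁, pv' r k6, pv r k3]
  have q2 : pw v a₁ * pw v' d₁ * x₁ * s * (pw v a₁ * pw v' d₁ * x₁)⁻¹ = s := by
    have h1 : pw v' d₁ * (s * pw r d₁) * (pw v' d₁)⁻¹ = s := by
      rcases z2 d₁ with h | h
      · rw [h, pw_zero, pw_zero]; group
      · rw [h, pw_one, pw_one]
        calc v' * (s * r) * v'⁻¹ = (v' * s * v'⁻¹) * (v' * r * v'⁻¹) := by group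
          _ = s * (r * r) := by rw [k4, k6]; group
          _ = s := by rw [hrr, mul_one]
    calc pw v a₁ * pw v' d₁ * x₁ * s * (pw v a₁ * pw v' d₁ * x₁)⁻¹
        = pw v a₁ * (pw v' d₁ * (x₁ * s * x₁⁻¹) * (pw v' d₁)⁻¹) * (pw v a₁)⁻¹ := by group
      _ = s := by rw [hs₁, h1, pv s k2]
  have q3 : pw v a₁ * pw v' d₁ * x₁ * (l * s * l⁻¹) * (pw v a₁ * pw v' d₁ * x₁)⁻¹ = l * s * l⁻¹ := by
    have h0 : pw v' d₁ * (l * s * l⁻¹ * pw r a₁) * (pw v' d₁)⁻¹ = l * s * l⁻¹ * pw r a₁ := by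
      refine pv' _ ?_ d₁
      calc v' * (l * s * l⁻¹ * pw r a₁) * v'⁻¹ = (v' * (l * s * l⁻¹) * v'⁻¹) * (v' * pw r a₁ * v'⁻¹) := by group
        _ = _ := by rw [k5, hpr v' k6]
    have h1 : pw v a₁ * (l * s * l⁻¹ * pw r a₁) * (pw v a₁)⁻¹ = l * s * l⁻¹ := by
      rcases z2 a₁ with h | h
      · rw [h, pw_zero, pw_zero]; group
      · rw [h, pw_one, pw_one]
        calc v * (l * s * l⁻¹ * r) * v⁻¹ = (v * (l * s * l⁻¹) * v⁻¹) * (v * r * v⁻¹) := by group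
          _ = l * s * l⁻¹ * (r * r) := by rw [k1, k3]; group
          _ = l * s * l⁻¹ := by rw [hrr, mul_one]
    calc pw v a₁ * pw v' d₁ * x₁ * (l * s * l⁻¹) * (pw v a₁ * pw v' d₁ * x₁)⁻¹
        = pw v a₁ * (pw v' d₁ * (x₁ * (l * s * l⁻¹) * x₁⁻¹) * (pw v' d₁)⁻¹) * (pw v a₁)⁻¹ := by group
      _ = l * s * l⁻¹ := by rw [he₁, h0, h1]
  rw [mem_centralizer_iff]
  rintro _ ⟨a', b', c', rfl⟩
  have key : pw v a₁ * pw v' d₁ * x₁ * el r s l a' b' c' * (pw v a₁ * pw v' d₁ * x₁)⁻¹ = el r s l a' b' c' := by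
    obtain ⟨g, hg⟩ : ∃ g, g = pw v a₁ * pw v' d₁ * x₁ := ⟨_, rfl⟩
    rw [← hg] at q1 q2 q3 ⊢
    have e : g * el r s l a' b' c' * g⁻¹ =
        pw (g * r * g⁻¹) a' * pw (g * s * g⁻¹) b' * pw (g * (l * s * l⁻¹) * g⁻¹) c' := by
      unfold el
      rw [← conj_pw g r a', ← conj_pw g s b', ← conj_pw g (l * s * l⁻¹) c']
      group
    rw [e, q1, q2, q3]
    rfl
  exact (mul_inv_eq_iff_eq_mul.1 key).symm

end ED

/-! ### The Sylow group -/

/-- the residue `(0, 1)` with the Sylow group `S` -/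
structure ES (z : G) (M U : Subgroup G) (Δ : Set G) (f : G → G → ZMod 2) (t : G → G) (r s l : G) (S : Subgroup G) :
    Prop extends ED z M U Δ f t r s l where
  S_r : ∀ x ∈ S, x * r = r * x
  S_s : ∀ x ∈ S, x * s * x⁻¹ = s ∨ x * s * x⁻¹ = s * r
  Q_S : Qp r ≤ S
  U_S : U ≤ S
  Qs_S : ∀ q ∈ Qp s, q * r = r * q → q ∈ S
  self : ∀ x ∈ M, (∀ b ∈ S, x⁻¹ * b * x ∈ S) → x ∈ S

namespace ES

variable {r s l : G} {S : Subgroup G} (E : ES z M U Δ f t r s l S)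

include E

theorem cancel (x : G) (c : ZMod 2) : x * pw r c * pw r c = x := by
  rw [mul_assoc x, pw_sq E.rr, mul_one]

theorem QU_S : Qp r ⊔ U ≤ S := sup_le E.Q_S E.U_S

theorem QU_L : Qp r ⊔ U ≤ Lp U r := sup_le (E.A.Q_le_L r) E.A.U_le_L

theorem S_norm_Rs : S ≤ normalizer (E.Rs : Set G) := by
  refine norm_of fun x hx y hy => E.conj_Rs ?_ ?_ ?_ hy
  · rw [E.S_r x hx, mul_inv_cancel_right]
    exact E.r_Rs
  · rcases E.S_s x hx with h | h <;> rw [h]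
    · exact E.s_Rs
    · exact mul_mem E.s_Rs E.r_Rs
  · have hxC : x ∈ Cp r := mem_Cp.2 (E.S_r x hx)
    have hg : x * l * x⁻¹ ∈ Lp U r := conj_norm (E.O.L_norm hxC) E.l_L
    have h1 := E.L_s hg
    have e : x * (l * s * l⁻¹) * x⁻¹ = (x * l * x⁻¹) * (x * s * x⁻¹) * (x * l * x⁻¹)⁻¹ := by group
    rw [e]
    rcases E.S_s x hx with h | h <;> rw [h]
    · exact h1
    · have hgC := E.A.L_le E.r_Δ hg
      have e2 : (x * l * x⁻¹) * (s * r) * (x * l * x⁻¹)⁻¹ =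
          ((x * l * x⁻¹) * s * (x * l * x⁻¹)⁻¹) * ((x * l * x⁻¹) * r * (x * l * x⁻¹)⁻¹) := by group
      rw [e2, mem_Cp.1 hgC, mul_inv_cancel_right]
      exact mul_mem h1 E.r_Rs

/-- `H = ⟨L, Q_s, S⟩` -/
def _root_.Cfsg.Agent.Omega.HTwo.Seven.Hh (U : Subgroup G) (r s : G) (S : Subgroup G) : Subgroup G :=
  Lp U r ⊔ Qp s ⊔ S

theorem L_H : Lp U r ≤ Hh U r s S := le_sup_left.trans le_sup_left

theorem Qs_H : Qp s ≤ Hh U r s S := le_sup_right.trans le_sup_left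

theorem S_H : S ≤ Hh U r s S := le_sup_right

theorem H_norm_Rs : Hh U r s S ≤ normalizer (E.Rs : Set G) :=
  sup_le (sup_le E.L_norm_Rs E.Qs_norm_Rs) E.S_norm_Rs

theorem H_norm_C : Hh U r s S ≤ normalizer (centralizer (E.Rs : Set G) : Set G) :=
  E.H_norm_Rs.trans (normalizer_le_normalizer_centralizer _)

/-- `T = S ∩ C(R*)` is normal in `H` -/
theorem H_norm_T : Hh U r s S ≤ normalizer ((S ⊓ centralizer (E.Rs : Set G) : Subgroup G) : Set G) := by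
  have A := E.A
  refine sup_le (sup_le ?_ ?_) ?_
  · refine norm_of fun g hg x hx => ?_
    have hxK := E.cen_K hx.2
    have h1 : g * x * g⁻¹ * x⁻¹ ∈ Qp r := by
      have := A.KL E.r_Δ hxK hg
      have e : g * x * g⁻¹ * x⁻¹ = (x * g * x⁻¹ * g⁻¹)⁻¹ := by group
      rw [e]
      exact inv_mem this
    refine mem_inf.2 ⟨?_, conj_norm (E.H_norm_C (E.L_H hg)) hx.2⟩
    have e : g * x * g⁻¹ = g * x * g⁻¹ * x⁻¹ * x := by group
    rw [e]
    exact mul_mem (E.Q_S h1) hx.1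
  · refine norm_of fun q hq x hx => ?_
    have hC : ∀ y ∈ E.Rs, x * y = y * x := fun y hy => (mem_centralizer_iff.1 hx.2 y hy).symm
    have h1 : q * x * q⁻¹ * x⁻¹ ∈ Qp s := by
      have hxs : x ∈ Cp s := mem_Cp.2 (hC s E.s_Rs)
      have e : q * x * q⁻¹ * x⁻¹ = q * (x * q⁻¹ * x⁻¹) := by group
      rw [e]
      exact mul_mem hq (Q_normal hxs (inv_mem hq))
    have h2 : q * x * q⁻¹ ∈ centralizer (E.Rs : Set G) := conj_norm (E.H_norm_C (E.Qs_H hq)) hx.2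
    have h3 : q * x * q⁻¹ * x⁻¹ ∈ centralizer (E.Rs : Set G) :=
      (centralizer (E.Rs : Set G)).mul_mem h2 ((centralizer (E.Rs : Set G)).inv_mem hx.2)
    refine mem_inf.2 ⟨?_, h2⟩
    have e : q * x * q⁻¹ = q * x * q⁻¹ * x⁻¹ * x := by group
    rw [e]
    exact mul_mem (E.Qs_S _ h1 ((mem_centralizer_iff.1 h3) r E.r_Rs).symm) hx.1
  · refine norm_of fun x hx y hy => ?_
    exact mem_inf.2 ⟨mul_mem (mul_mem hx hy.1) (inv_mem hx), conj_norm (E.H_norm_C (E.S_H hx)) hy.2⟩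

/-- **`C_H(R*) ≤ S`** -/
theorem cen_S {c : G} (hc : c ∈ Hh U r s S) (hc' : c ∈ centralizer (E.Rs : Set G)) : c ∈ S := by
  have A := E.A
  have hcK := E.cen_K hc'
  refine E.self c (A.CN_le_M E.r_Δ hcK) fun b hb => ?_
  obtain ⟨y, hy, h1⟩ := E.adjust (E.S_norm_Rs hb) (E.S_r b hb) (E.S_s b hb)
  have h2 : y * b ∈ S ⊓ centralizer (E.Rs : Set G) := mem_inf.2 ⟨mul_mem (E.QU_S hy) hb, h1⟩
  have h3 := conj_norm (E.H_norm_T (inv_mem hc)) h2
  rw [inv_inv] at h3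
  have hcK' : c⁻¹ ∈ Kp z r := Subgroup.inv_mem _ hcK
  have h4 := A.KL E.r_Δ hcK' (E.QU_L (inv_mem hy))
  have e : c⁻¹ * b * c = (c⁻¹ * y⁻¹ * c⁻¹⁻¹ * y⁻¹⁻¹) * y⁻¹ * (c⁻¹ * (y * b) * c) := by group
  rw [e]
  exact mul_mem (mul_mem (E.Q_S h4) (inv_mem (E.QU_S hy))) h3.1

/-- **the stabiliser of `r` and `V` in `H` is `S`** -/
theorem stab {x : G} (hx : x ∈ Hh U r s S) (hr : x * r = r * x) (hs : x * s * x⁻¹ = s ∨ x * s * x⁻¹ = s * r) :
    x ∈ S := by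
  obtain ⟨y, hy, h1⟩ := E.adjust (E.H_norm_Rs hx) hr hs
  have h2 := E.cen_S (mul_mem (E.S_H (E.QU_S hy)) hx) h1
  have e : x = y⁻¹ * (y * x) := by group
  rw [e]
  exact mul_mem (inv_mem (E.QU_S hy)) h2

/-- `L` is transitive on the `R* / ⟨r⟩`-points -/
theorem L_trans {x : G} (hx : x ∈ E.Rs) (hx1 : x ≠ 1) (hxr : x ≠ r) :
    ∃ g ∈ Lp U r, ∃ c : ZMod 2, g * s * g⁻¹ = x * pw r c := by
  obtain ⟨a, b, c, rfl⟩ := hx
  have hrr := E.rr
  have A := E.A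
  rcases z2 b with hb | hb <;> rcases z2 c with hc | hc
  · exfalso
    rw [hb, hc] at hx1 hxr
    unfold ED.el at hx1 hxr
    rw [pw_zero, pw_zero, mul_one, mul_one] at hx1 hxr
    rcases z2 a with h | h
    · rw [h, pw_zero] at hx1; exact hx1 rfl
    · rw [h, pw_one] at hxr; exact hxr rfl
  · -- `e`
    refine ⟨l, E.l_L, a, ?_⟩
    rw [hb, hc]
    unfold ED.el
    rw [pw_zero, mul_one, pw_one, A.pw_r_comm E.r_Δ E.eQ, E.cancel]
  · refine ⟨1, one_mem _, a, ?_⟩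
    rw [hb, hc]
    unfold ED.el
    rw [pw_zero, mul_one, pw_one, A.pw_r_comm E.r_Δ E.sQ, E.cancel]
    group
  · obtain ⟨w, hw, hw1⟩ := A.exists_f1 E.r_Δ
    obtain ⟨k, hk⟩ := E.conj_w hw hw1
    refine ⟨w * l, mul_mem (A.U_le_L hw) E.l_L, a + k, ?_⟩
    have e2 : w * l * s * (w * l)⁻¹ = w * (l * s * l⁻¹) * w⁻¹ := by group
    rw [e2, hk, hb, hc]
    unfold ED.el
    rw [pw_one, pw_one, ← E.s_e, mul_assoc (pw r a), A.pw_r_comm E.r_Δ (mul_mem E.sQ E.eQ), pw_add hrr,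
      mul_assoc (s * (l * s * l⁻¹)), ← mul_assoc (pw r a), pw_sq hrr, one_mul]

/-- **the stabiliser of `r` in `H` is `L S`** -/
theorem stab_r {x : G} (hx : x ∈ Hh U r s S) (hr : x * r = r * x) : ∃ g ∈ Lp U r, ∃ b ∈ S, x = g * b := by
  have h1 : x * s * x⁻¹ ∈ E.Rs := conj_norm (E.H_norm_Rs hx) E.s_Rs
  obtain ⟨g, hg, c, hc⟩ := E.L_trans h1 (fun h => E.s_ne (conj_eq_one_iff.1 h)) (fun h => by
    apply E.ne
    have e : s = x⁻¹ * (x * s * x⁻¹) * x := by group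
    rw [e, h, mul_assoc, ← hr]
    group)
  have hgC := E.A.L_le E.r_Δ hg
  have hgr := mem_Cp.1 hgC
  refine ⟨g, hg, g⁻¹ * x, ?_, by group⟩
  refine E.stab (mul_mem (inv_mem (E.L_H hg)) hx) ?_ ?_
  · calc g⁻¹ * x * r = g⁻¹ * (r * x) := by rw [mul_assoc, hr]
      _ = g⁻¹ * (g * r * g⁻¹) * x := by rw [hgr]; group
      _ = r * (g⁻¹ * x) := by group
  · have h2 : x * s * x⁻¹ = g * s * g⁻¹ * pw r c := by
      rw [hc, E.cancel]
    have h3 := E.conj_pw_r (Subgroup.inv_mem _ hgC) c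
    rw [inv_inv] at h3
    have h4 : g⁻¹ * x * s * (g⁻¹ * x)⁻¹ = s * pw r c := by
      calc g⁻¹ * x * s * (g⁻¹ * x)⁻¹ = g⁻¹ * (x * s * x⁻¹) * g := by group
        _ = g⁻¹ * (g * s * g⁻¹ * pw r c) * g := by rw [h2]
        _ = s * (g⁻¹ * pw r c * g) := by group
        _ = s * pw r c := by rw [h3]
    rw [h4]
    rcases z2 c with h | h
    · left; rw [h, pw_zero, mul_one]
    · right; rw [h, pw_one]

/-- `Q_r`, `Q_s` are transitive on the points of `V` -/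
theorem Q_trans {x : G} (hx : x = r ∨ x = s ∨ x = r * s) :
    ∃ g ∈ Qp s ⊔ S, g * r * g⁻¹ = x ∧ cj g E.Vs = E.Vs := by
  have A := E.A
  obtain ⟨q, hq, hq1⟩ := A.Q_mv s E.s_Δ r E.r_Δ E.ne E.sr
  obtain ⟨p, hp, hp1⟩ := A.Q_mv r E.r_Δ s E.s_Δ (Ne.symm E.ne) E.rs
  have hqs : q * s * q⁻¹ = s := by rw [mem_Cp.1 (Q_le s hq), mul_inv_cancel_right]
  have hpr : p * r * p⁻¹ = r := by rw [mem_Cp.1 (Q_le r hp), mul_inv_cancel_right]
  have hfin : Finite E.Vs := by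
    refine Set.Finite.subset (s := {1, r, s, r * s}) (Set.toFinite _) ?_
    intro y hy
    exact E.mem_Vs.1 hy
  have key : ∀ g : G, g * r * g⁻¹ ∈ E.Vs → g * s * g⁻¹ ∈ E.Vs → cj g E.Vs = E.Vs := by
    intro g h1 h2
    apply SetLike.coe_injective
    apply Set.eq_of_subset_of_ncard_le
    · apply cj_le_iff.2
      intro y hy
      rcases E.mem_Vs.1 hy with rfl | rfl | rfl | rfl
      · rw [mul_one, mul_inv_cancel]; exact one_mem _
      · exact h1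
      · exact h2
      · have : g * (r * s) * g⁻¹ = (g * r * g⁻¹) * (g * s * g⁻¹) := by group
        rw [this]
        exact mul_mem h1 h2
    · exact le_of_eq (card_cj g E.Vs).symm
    · exact hfin
  have rV : r ∈ E.Vs := E.mem_Vs.2 (Or.inr (Or.inl rfl))
  have sV : s ∈ E.Vs := E.mem_Vs.2 (Or.inr (Or.inr (Or.inl rfl)))
  have kq : cj q E.Vs = E.Vs := key q (by rw [hq1]; exact mul_mem rV sV) (by rw [hqs]; exact sV)
  have kp : cj p E.Vs = E.Vs := key p (by rw [hpr]; exact rV) (by rw [hp1]; exact mul_mem sV rV)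
  rcases hx with rfl | rfl | rfl
  · exact ⟨1, one_mem _, by group, cj_one _⟩
  · refine ⟨p * q, mul_mem (mem_sup_right (E.Q_S hp)) (mem_sup_left hq), ?_, by rw [cj_mul, kq, kp]⟩
    calc p * q * r * (p * q)⁻¹ = p * (q * r * q⁻¹) * p⁻¹ := by group
      _ = (p * r * p⁻¹) * (p * x * p⁻¹) := by rw [hq1]; group
      _ = r * (x * r) := by rw [hpr, hp1]
      _ = r * (r * x) := by rw [E.rs_comm]
      _ = x := by rw [← mul_assoc, E.rr, one_mul]
  · exact ⟨q, mem_sup_left hq, hq1, kq⟩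

/-- **the stabiliser of `V` in `H` is `⟨Q_s, S⟩`** -/
theorem stab_V {x : G} (hx : x ∈ Hh U r s S) (hV : cj x E.Vs = E.Vs) : x ∈ Qp s ⊔ S := by
  have rV : r ∈ E.Vs := E.mem_Vs.2 (Or.inr (Or.inl rfl))
  have sV : s ∈ E.Vs := E.mem_Vs.2 (Or.inr (Or.inr (Or.inl rfl)))
  have h1 : x * r * x⁻¹ ∈ E.Vs := by
    rw [← hV]; exact conj_mem_cj rV
  have h2 : x * r * x⁻¹ ≠ 1 := fun h => E.r_ne (conj_eq_one_iff.1 h)
  obtain ⟨g, hg, hgr, hgV⟩ := E.Q_trans ((E.mem_Vs.1 h1).resolve_left h2)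
  have hgH : g ∈ Hh U r s S := sup_le E.Qs_H E.S_H hg
  have h3 : g⁻¹ * x ∈ S := by
    have hr' : g⁻¹ * x * r = r * (g⁻¹ * x) := by
      calc g⁻¹ * x * r = g⁻¹ * (x * r * x⁻¹) * x := by group
        _ = g⁻¹ * (g * r * g⁻¹) * x := by rw [hgr]
        _ = r * (g⁻¹ * x) := by group
    refine E.stab (mul_mem (inv_mem hgH) hx) hr' ?_
    have h4 : cj (g⁻¹ * x) E.Vs = E.Vs := by
      rw [cj_mul, hV, ← hgV, cj_inv_cj, hgV]
    have h5 : g⁻¹ * x * s * (g⁻¹ * x)⁻¹ ∈ E.Vs := by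
      rw [← h4]; exact conj_mem_cj sV
    obtain ⟨y, hy⟩ : ∃ y, y = g⁻¹ * x := ⟨_, rfl⟩
    rw [← hy] at h5 hr' ⊢
    rcases E.mem_Vs.1 h5 with h | h | h | h
    · exact absurd (conj_eq_one_iff.1 h) E.s_ne
    · exfalso
      apply E.ne
      have e : s = y⁻¹ * (y * s * y⁻¹) * y := by group
      rw [e, h, mul_assoc, ← hr']
      group
    · exact Or.inl h
    · right; rw [h, E.rs_comm]
  have e : x = g * (g⁻¹ * x) := by group
  rw [e]
  exact mul_mem hg (mem_sup_right h3)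

end ES

/-! ### The plane -/

section plane

open Cfsg.Agent.ParSys.Polar.Incid

/-- conjugation on the elements -/
def aH (H : Subgroup G) : ↥H →* Equiv.Perm G where
  toFun h := (MulAut.conj (h : G)).toEquiv
  map_one' := by ext x; simp
  map_mul' a b := by ext x; simp [mul_assoc]

theorem aH_apply {H : Subgroup G} (h : ↥H) (x : G) : aH H h x = (h : G) * x * (h : G)⁻¹ := rfl

/-- conjugation on the subgroups -/
def bH (H : Subgroup G) : ↥H →* Equiv.Perm (Subgroup G) where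
  toFun h := ⟨cj (h : G), cj (h : G)⁻¹, cj_inv_cj _, cj_cj_inv _⟩
  map_one' := by
    ext1 X
    exact cj_one X
  map_mul' a b := by
    ext1 X
    exact cj_mul (a : G) b X

theorem bH_apply {H : Subgroup G} (h : ↥H) (X : Subgroup G) : bH H h X = cj (h : G) X := rfl

theorem card_four {p q : G} (hp : p * p = 1) (hq : q * q = 1) (hc : p * q = q * p) (h1 : p ≠ 1) (h2 : q ≠ 1)
    (h3 : p ≠ q) : Nat.card (four p q hp hq hc) = 4 := by
  have hpq : p * q ≠ 1 := fun h => h3 (by rw [mul_eq_one_iff_eq_inv.1 h, inv_eq_of_mul_eq_one_left hq])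
  have key : (four p q hp hq hc : Set G) = {1, p, q, p * q} := by
    ext x; rfl
  have h4 : Nat.card (four p q hp hq hc) = Set.ncard ({1, p, q, p * q} : Set G) := by
    rw [← key]; rfl
  rw [h4, Set.ncard_insert_of_notMem, Set.ncard_insert_of_notMem, Set.ncard_pair]
  · intro h
    exact h1 (right_eq_mul.1 h)
  · simp only [Set.mem_insert_iff, Set.mem_singleton_iff, not_or]
    exact ⟨h3, fun h => h2 (left_eq_mul.1 h)⟩
  · simp only [Set.mem_insert_iff, Set.mem_singleton_iff, not_or]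
    exact ⟨Ne.symm h1, Ne.symm h2, Ne.symm hpq⟩

theorem eq_of_le_card {X Y : Subgroup G} [Finite Y] (h : X ≤ Y) (hc : Nat.card Y ≤ Nat.card X) : X = Y :=
  SetLike.coe_injective (Set.eq_of_subset_of_ncard_le h hc (Set.toFinite _))

namespace ES

variable {r s l : G} {S : Subgroup G} (E : ES z M U Δ f t r s l S)

include E

theorem card_Vs : Nat.card E.Vs = 4 := card_four E.rr E.ss E.rs_comm E.r_ne E.s_ne (Ne.symm E.ne)

variable [Finite G]

theorem cj_Vs {g : G} {X : Subgroup G} (hX : Nat.card X = 4) (h1 : g * r * g⁻¹ ∈ X) (h2 : g * s * g⁻¹ ∈ X) :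
    cj g E.Vs = X := by
  refine eq_of_le_card (cj_le_iff.2 ?_) (by rw [card_cj, E.card_Vs, hX])
  intro y hy
  rcases E.mem_Vs.1 hy with rfl | rfl | rfl | rfl
  · rw [mul_one, mul_inv_cancel]; exact one_mem _
  · exact h1
  · exact h2
  · have : g * (r * s) * g⁻¹ = (g * r * g⁻¹) * (g * s * g⁻¹) := by group
    rw [this]
    exact mul_mem h1 h2

variable {I : Type*} {P : I → Subgroup G} {i j : I}

/-- the geometry -/
theorem inc (hB : ∀ k, S ≤ P k) (hi : P i = Qp s ⊔ S) (hj : P j = Lp U r ⊔ S) :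
    Inc S P i j (Hh U r s S) (aH _) (bH _) {x | x ∈ E.Rs ∧ x ≠ 1} {X | X ≤ E.Rs ∧ Nat.card X = 4}
      (fun p X => p ∈ X) r E.Vs where
  le := hB
  iH := by rw [hi]; exact sup_le E.Qs_H E.S_H
  jH := by rw [hj]; exact sup_le E.L_H E.S_H
  p0 := ⟨E.r_Rs, E.r_ne⟩
  L0 := ⟨E.Vs_le, E.card_Vs⟩
  inc0 := E.mem_Vs.2 (Or.inr (Or.inl rfl))
  aPt h p hp := by
    rw [aH_apply]
    exact ⟨conj_norm (E.H_norm_Rs h.2) hp.1, fun h1 => hp.2 (conj_eq_one_iff.1 h1)⟩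
  bLn h X hX := by
    rw [bH_apply]
    exact ⟨cj_le_iff.2 fun x hx => conj_norm (E.H_norm_Rs h.2) (hX.1 hx), by rw [card_cj, hX.2]⟩
  inv h p _ X _ hpX := by
    rw [aH_apply, bH_apply]
    exact conj_mem_cj hpX
  memB h := by
    rw [aH_apply, bH_apply]
    have rV : r ∈ E.Vs := E.mem_Vs.2 (Or.inr (Or.inl rfl))
    have sV : s ∈ E.Vs := E.mem_Vs.2 (Or.inr (Or.inr (Or.inl rfl)))
    constructor
    · intro hS
      have h1 : (h : G) * r * (h : G)⁻¹ = r := by rw [E.S_r _ hS, mul_inv_cancel_right]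
      refine ⟨h1, E.cj_Vs E.card_Vs (by rw [h1]; exact rV) ?_⟩
      rcases E.S_s _ hS with h2 | h2 <;> rw [h2]
      · exact sV
      · exact mul_mem sV rV
    · rintro ⟨h1, h2⟩
      refine E.stab h.2 (mul_inv_eq_iff_eq_mul.1 h1) ?_
      have h3 : (h : G) * s * (h : G)⁻¹ ∈ E.Vs := by
        rw [← h2]
        exact conj_mem_cj sV
      rcases E.mem_Vs.1 h3 with h4 | h4 | h4 | h4
      · exact absurd (conj_eq_one_iff.1 h4) E.s_ne
      · exfalso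
        apply E.ne
        have h5 : (h : G) * s * (h : G)⁻¹ = (h : G) * r * (h : G)⁻¹ := by rw [h4, h1]
        exact mul_left_cancel (mul_right_cancel h5)
      · exact Or.inl h4
      · right; rw [h4, E.rs_comm]
  memi h := by
    rw [bH_apply, hi]
    constructor
    · intro hP
      have h1 : Qp s ⊔ S ≤ normalizer (E.Vs : Set G) := by
        have rV : r ∈ E.Vs := E.mem_Vs.2 (Or.inr (Or.inl rfl))
        have sV : s ∈ E.Vs := E.mem_Vs.2 (Or.inr (Or.inr (Or.inl rfl)))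
        refine sup_le ?_ ?_
        · intro q hq
          rw [← cj_eq_self_iff]
          have hqs : q * s * q⁻¹ = s := by rw [mem_Cp.1 (Q_le s hq), mul_inv_cancel_right]
          refine E.cj_Vs E.card_Vs ?_ (by rw [hqs]; exact sV)
          rcases E.A.Q_comm s E.s_Δ q hq r ((E.A.Q_f s E.s_Δ r E.rU).2 E.sr) with h2 | h2
          · rw [h2, mul_inv_cancel_right]; exact rV
          · rw [h2]
            have e : s * (r * q) * q⁻¹ = s * r := by group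
            rw [e]; exact mul_mem sV rV
        · intro x hx
          rw [← cj_eq_self_iff]
          have h2 : x * r * x⁻¹ = r := by rw [E.S_r _ hx, mul_inv_cancel_right]
          refine E.cj_Vs E.card_Vs (by rw [h2]; exact rV) ?_
          rcases E.S_s _ hx with h3 | h3 <;> rw [h3]
          · exact sV
          · exact mul_mem sV rV
      exact cj_eq_self_iff.2 (h1 hP)
    · intro h1
      exact E.stab_V h.2 h1
  memj h := by
    rw [aH_apply, hj]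
    constructor
    · intro hP
      have h1 : Lp U r ⊔ S ≤ Cp r := sup_le (E.A.L_le E.r_Δ) fun x hx => mem_Cp.2 (E.S_r x hx)
      rw [mem_Cp.1 (h1 hP), mul_inv_cancel_right]
    · intro h1
      obtain ⟨g, hg, b, hb, e⟩ := E.stab_r h.2 (mul_inv_eq_iff_eq_mul.1 h1)
      rw [e]
      exact mul_mem (mem_sup_left hg) (mem_sup_right hb)
  tri p hp hpV := by
    obtain ⟨g, hg, h1, h2⟩ := E.Q_trans ((E.mem_Vs.1 hpV).resolve_left hp.2)
    exact ⟨⟨g, sup_le E.Qs_H E.S_H hg⟩, h2, h1⟩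
  trj X hX hr := by
    have h0 : ∃ x ∈ X, x ≠ 1 ∧ x ≠ r := by
      by_contra hcon
      push Not at hcon
      have h1 : (X : Set G) ⊆ {1, r} := by
        intro x hx
        by_cases h2 : x = 1
        · exact Or.inl h2
        · exact Or.inr (hcon x hx h2)
      have h2 : Set.ncard (X : Set G) ≤ 2 := (Set.ncard_le_ncard h1 (Set.toFinite _)).trans ((Set.ncard_insert_le 1 {r}).trans (by rw [Set.ncard_singleton]))
      have h3 : Set.ncard (X : Set G) = 4 := hX.2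
      omega
    obtain ⟨x, hx, hx1, hxr⟩ := h0
    obtain ⟨g, hg, c, hc⟩ := E.L_trans (hX.1 hx) hx1 hxr
    have hgr : g * r * g⁻¹ = r := by rw [mem_Cp.1 (E.A.L_le E.r_Δ hg), mul_inv_cancel_right]
    refine ⟨⟨g, E.L_H hg⟩, hgr, ?_⟩
    rw [bH_apply]
    exact E.cj_Vs hX.2 (by rw [hgr]; exact hr) (by rw [hc]; exact mul_mem hx (pw_mem hr c))

/-- **the residue `(0, 1)`** -/
theorem rk (hB : ∀ k, S ≤ P k) (hi : P i = Qp s ⊔ S) (hj : P j = Lp U r ⊔ S) : Rk S P i j 3 ∧ Rk S P j i 3 := by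
  have h := E.inc hB hi hj
  have key : ∀ p ∈ {x | x ∈ E.Rs ∧ x ≠ 1}, ∀ p' ∈ {x | x ∈ E.Rs ∧ x ≠ 1}, p ≠ p' →
      ∃ Y : Subgroup G, Y ≤ E.Rs ∧ Nat.card Y = 4 ∧ p ∈ Y ∧ p' ∈ Y ∧
        ∀ X : Subgroup G, Nat.card X = 4 → p ∈ X → p' ∈ X → Y = X := by
    rintro p ⟨hp, hp1⟩ p' ⟨hp', hp1'⟩ hne
    have c4 := card_four (E.Rs_sq hp) (E.Rs_sq hp') (E.Rs_comm hp hp') hp1 hp1' hne
    have hle : ∀ X : Subgroup G, p ∈ X → p' ∈ X → four p p' (E.Rs_sq hp) (E.Rs_sq hp') (E.Rs_comm hp hp') ≤ X := by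
      rintro X h1 h2 x (rfl | rfl | rfl | rfl)
      · exact one_mem _
      · exact h1
      · exact h2
      · exact mul_mem h1 h2
    exact ⟨four p p' (E.Rs_sq hp) (E.Rs_sq hp') (E.Rs_comm hp hp'), hle _ hp hp', c4, Or.inr (Or.inl rfl),
      Or.inr (Or.inr (Or.inl rfl)), fun X hX h1 h2 => eq_of_le_card (hle X h1 h2) (by rw [c4, hX])⟩
  have P2 : ∀ p ∈ {x | x ∈ E.Rs ∧ x ≠ 1}, ∀ p' ∈ {x | x ∈ E.Rs ∧ x ≠ 1}, p ≠ p' →
      ∀ X ∈ {X : Subgroup G | X ≤ E.Rs ∧ Nat.card X = 4}, ∀ X' ∈ {X : Subgroup G | X ≤ E.Rs ∧ Nat.card X = 4},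
      p ∈ X → p' ∈ X → p ∈ X' → p' ∈ X' → X = X' := by
    intro p hp p' hp' hne X hX X' hX' h1 h2 h3 h4
    obtain ⟨Y, -, -, -, -, hY⟩ := key p hp p' hp' hne
    rw [← hY X hX.2 h1 h2, ← hY X' hX'.2 h3 h4]
  constructor
  · refine h.rk_three (fun p hp p' hp' hne => ?_) P2
    obtain ⟨Y, h1, h2, h3, h4, -⟩ := key p hp p' hp' hne
    exact ⟨Y, ⟨h1, h2⟩, h3, h4⟩
  · refine h.symm.rk_three (fun X hX X' hX' hne => ?_) (fun X hX X' hX' hne p hp p' hp' h1 h2 h3 h4 => ?_)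
    · -- two lines meet
      by_contra hcon
      push Not at hcon
      have hinj : Function.Injective (fun x : ↥X × ↥X' => (⟨(x.1 : G) * x.2, mul_mem (hX.1 x.1.2) (hX'.1 x.2.2)⟩ :
          ↥E.Rs)) := by
        rintro ⟨x, x'⟩ ⟨y, y'⟩ hxy
        have h1 : (x : G) * x' = y * y' := congrArg Subtype.val hxy
        have h2 : (y : G)⁻¹ * x = y' * (x' : G)⁻¹ := by
          calc (y : G)⁻¹ * x = (y : G)⁻¹ * (x * x') * (x' : G)⁻¹ := by group
            _ = (y : G)⁻¹ * (y * y') * (x' : G)⁻¹ := by rw [h1]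
            _ = y' * (x' : G)⁻¹ := by group
        have h3 : (y : G)⁻¹ * x = 1 := by
          by_contra hne1
          have hm : (y : G)⁻¹ * x ∈ X := mul_mem (inv_mem y.2) x.2
          have hm' : (y : G)⁻¹ * x ∈ X' := by rw [h2]; exact mul_mem y'.2 (inv_mem x'.2)
          exact hcon _ ⟨hX.1 hm, hne1⟩ hm hm'
        have h4 : (x : G) = y := by
          have := inv_mul_eq_one.1 h3
          exact this.symm
        have h5 : (x' : G) = y' := by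
          rw [h3] at h2
          exact (mul_inv_eq_one.1 h2.symm).symm
        exact Prod.ext (Subtype.ext h4) (Subtype.ext h5)
      have h1 := Nat.card_le_card_of_injective _ hinj
      rw [Nat.card_prod, hX.2, hX'.2, E.card_Rs] at h1
      omega
    · by_contra h5
      exact hne (P2 p hp p' hp' h5 X hX X' hX' h1 h3 h2 h4)

end ES

end plane

end Cfsg.Agent.Omega.HTwo.Seven
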