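import Cfsg.Agent.Omega.HTwo.SevenFlag
import Cfsg.Agent.Omega.HTwo.SevenR
import Cfsg.Agent.Omega.MinPar
import Cfsg.Agent.ParSys.RankTwo

/-!
# II.0h1, `q = 2`, (7) of #15507: the parabolic system of type `C_{m+1}`

`P_0 = L S`, `P_j` (`j = 1, …, m`) the stabiliser in `M` of the members `≠ j` of the `S`-invariant flag.

* `Fg.exists_es` : the situation `ES` of `SevenR` with `P_1 = ⟨Q_s, S⟩`;
* `ES.relIndex_zero` : `|P_0 : S| = 3`; `ES.digon` : the residues `(0, j)`, `j ≥ 2`;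
* `exists_sys` : the system.
-/

set_option autoImplicit false
set_option linter.unusedSectionVars false

namespace Cfsg.Agent.Omega.HTwo.Seven

open Subgroup Module Cfsg.Agent.Omega.BTwo Cfsg.Agent.Omega.HTwo.Eight Cfsg.Agent.Omega.MinPar
open Cfsg.Agent.ParSys.Polar.Sympl Cfsg.Agent.ParSys.Polar.Flags Cfsg.Agent.ParSys.Polar.Incid
open Cfsg.Agent.ParSys Cfsg.Agent.ParSys.RankTwo

variable {G : Type*} [Group G] {z : G} {M U : Subgroup G} {Δ : Set G} {f : G → G → ZMod 2} {t : G → G}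

namespace Fg

variable [Finite G] {A : Res z M U Δ f t} {S : Subgroup G} {r : G}
  {sigma : ↥M →* Equiv.Perm (Submodule (ZMod 2) ↥(Wm A))} {m : ℕ}
  {fl : ℕ → Submodule (ZMod 2) ↥(Wm A)} (F : Fg A S r sigma m fl)

include F

theorem polSp : PolSp (TI (gf A) (F := ZMod 2)) m := F.pol.polSp

/-- a subspace is fixed -/
theorem fix_of {c : ↥M} {X : Submodule (ZMod 2) ↥(Wm A)}
    (h : ∀ u ∈ U, cl A u ∈ X → cl A ((c : G) * u * (c : G)⁻¹) ∈ X) : sigma c X = X := by
  apply eq_of_rk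
  · intro w hw
    obtain ⟨v, hv, rfl⟩ := (F.pol.A.sig _ _ _).1 hw
    obtain ⟨u, hu, rfl⟩ := exists_cl A v
    rw [rho_cl A le_rfl c hu]
    exact h u hu hv
  · exact F.pol.A.card_eq _ _

theorem of_fix {c : ↥M} {X : Submodule (ZMod 2) ↥(Wm A)} (h : sigma c X = X) {u : G} (hu : u ∈ U)
    (hX : cl A u ∈ X) : cl A ((c : G) * u * (c : G)⁻¹) ∈ X := by
  have h1 := F.pol.A.mem (c := c) hX
  rwa [h, rho_cl A le_rfl c hu] at h1

/-- `M ∩ C(r)` is the stabiliser of `fl 1` -/
theorem fix_one (hr : r ∈ Δ) {c : ↥M} : sigma c (fl 1) = fl 1 ↔ (c : G) * r = r * (c : G) := by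
  have hrU := A.Δ_U r hr
  constructor
  · intro h
    have h1 : cl A r ∈ fl 1 := by rw [F.one]; exact Submodule.mem_span_singleton_self _
    have h2 := F.of_fix h hrU h1
    rw [F.one] at h2
    obtain ⟨a, ha⟩ := Submodule.mem_span_singleton.1 h2
    have h3 := A.Δ_M c c.2 r hr
    rcases zm2 a with rfl | rfl
    · rw [zero_smul] at ha
      exact absurd ha.symm (cl_pt_ne A h3)
    · rw [one_smul] at ha
      exact mul_inv_eq_iff_eq_mul.1 (pt_inj A hr h3 ha).symm
  · intro h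
    refine F.pol.A.eq_of_fix fun v hv => ?_
    rw [F.one] at hv
    obtain ⟨a, rfl⟩ := Submodule.mem_span_singleton.1 hv
    rw [F.pol.A.lin, rho_cl A le_rfl c hrU, h, mul_inv_cancel_right]

/-- `P_j ≤ C(r)` for `j ≠ 1` -/
theorem fst_cen (hr : r ∈ Δ) {J : Set ℕ} (hJ : 1 ∉ J) {x : G} (hx : x ∈ fst M sigma m fl J) : x * r = r * x := by
  have h2 := F.two
  exact (F.fix_one hr (c := ⟨x, hx.1⟩)).1 (hx.2 1 (by omega) hJ)

/-- the second point of the line `fl 2` -/
theorem exists_s (hr : r ∈ Δ) : ∃ s ∈ Δ, s ≠ r ∧ f r s = 0 ∧ (∀ d, 2 ≤ d → d ≤ m → cl A s ∈ fl d) ∧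
    ∀ q ∈ Δ, cl A q ∈ fl 2 → q = r ∨ q = s ∨ q = r * s := by
  have h2 := F.two
  have hS := F.polSp
  have hrU := A.Δ_U r hr
  obtain ⟨y, -, hy1, hy2⟩ := SAct.exists_gen (symp A) (F.pol.hf.si hS (d := 2) h2) (F.pol.hf.mono 1 (by omega))
    (by rw [F.pol.hf.rk _ h2, F.pol.hf.rk _ (by omega)])
  have hr1 : cl A r ∈ fl 1 := by rw [F.one]; exact Submodule.mem_span_singleton_self _
  have hy0 : y ≠ 0 := by
    rintro rfl
    exact hy1 (Submodule.zero_mem _)
  obtain ⟨s, hs, rfl⟩ := exists_pt A hy0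
  have hsU := A.Δ_U s hs
  have hs2 : cl A s ∈ fl 2 := by rw [hy2]; exact Submodule.mem_sup_right (Submodule.mem_span_singleton_self _)
  have hr2 : cl A r ∈ fl 2 := F.pol.hf.mono 1 (by omega) hr1
  have hsr : s ≠ r := by
    rintro rfl
    exact hy1 hr1
  have hrs : f r s = 0 := by
    rw [← gf_cl A hrU hsU]
    exact F.pol.hf.si hS h2 _ hr2 _ hs2
  refine ⟨s, hs, hsr, hrs, fun d hd hdm => F.pol.hf.le hd hdm hs2, fun q hq hq2 => ?_⟩
  rw [hy2, F.one] at hq2
  obtain ⟨a, ha, b, hb, hab⟩ := Submodule.mem_sup.1 hq2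
  obtain ⟨a', rfl⟩ := Submodule.mem_span_singleton.1 ha
  obtain ⟨b', rfl⟩ := Submodule.mem_span_singleton.1 hb
  rcases zm2 a' with rfl | rfl <;> rcases zm2 b' with rfl | rfl
  · rw [zero_smul, zero_smul, add_zero] at hab
    exact absurd hab.symm (cl_pt_ne A hq)
  · rw [zero_smul, one_smul, zero_add] at hab
    exact Or.inr (Or.inl (pt_inj A hs hq hab).symm)
  · rw [zero_smul, one_smul, add_zero] at hab
    exact Or.inl (pt_inj A hr hq hab).symm
  · rw [one_smul, one_smul, ← cl_mul A hrU hsU] at hab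
    exact Or.inr (Or.inr (pt_inj A (A.mul0 r hr s hs (Ne.symm hsr) hrs) hq hab).symm)

/-- `Q_s` fixes the members `fl d`, `d ≥ 2` -/
theorem Qs_fix {s : G} (hs : s ∈ Δ) (hsd : ∀ d, 2 ≤ d → d ≤ m → cl A s ∈ fl d) {q : G} (hq : q ∈ Qp s) {d : ℕ}
    (hd : 2 ≤ d) (hdm : d ≤ m) : sigma ⟨q, A.Q_M hs hq⟩ (fl d) = fl d := by
  refine F.fix_of fun u hu hud => ?_
  have hsU := A.Δ_U s hs
  have h1 : f s u = 0 := by
    rw [← gf_cl A hsU hu]
    exact F.pol.hf.si F.polSp hdm _ (hsd d hd hdm) _ hud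
  have h2 : u ∈ Qp s := (A.Q_f s hs u hu).2 h1
  rcases A.Q_comm s hs q hq u h2 with h | h
  · show cl A (q * u * q⁻¹) ∈ fl d
    rw [h, mul_inv_cancel_right]
    exact hud
  · show cl A (q * u * q⁻¹) ∈ fl d
    have e : q * u * q⁻¹ = s * u := by rw [h]; group
    rw [e, cl_mul A hsU hu]
    exact Submodule.add_mem _ (hsd d hd hdm) hud

theorem fix_zero (c : ↥M) : sigma c (fl 0) = fl 0 := by
  rw [F.pol.hf.zero]
  apply Submodule.finrank_eq_zero.1
  rw [F.pol.A.card_eq]
  exact finrank_bot _ _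

/-- **the situation of `SevenR`** -/
theorem exists_es (h3 : Three z Δ t) (O : Out z M U Δ f t r) (hr : r ∈ Δ) (T : Sylow 2 G)
    (hT : (T : Subgroup G) = S) :
    ∃ s l, ES z M U Δ f t r s l S ∧ fst M sigma m fl {1} = Qp s ⊔ S := by
  have h2m := F.two
  obtain ⟨s, hs, hsr, hrs, hsd, hpt⟩ := F.exists_s hr
  have hrU := A.Δ_U r hr
  have hsU := A.Δ_U s hs
  have hfsr : f s r = 0 := by rw [A.f_symm s hsU r hrU, hrs]
  obtain ⟨u, h0, a, c⟩ := A.exists_UA h3 hr
  have hl := A.wrd_L hr c 5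
  have hlz := A.wrd_z c 5
  have E0 : ED z M U Δ f t r s (wrd u a 5) := ⟨A, h3, O, hr, hs, hsr, hrs, hl, hlz⟩
  have hSM := F.S_le
  have hSr : ∀ x ∈ S, x * r = r * x := fun x hx => F.fst_cen hr (J := ∅) (by simp) (by rw [F.bor]; exact hx)
  have hS2 : ∀ x (hx : x ∈ S), ∀ d ≤ m, sigma ⟨x, hSM hx⟩ (fl d) = fl d := by
    intro x hx d hd
    have h1 : x ∈ fst M sigma m fl ∅ := by rw [F.bor]; exact hx
    exact h1.2 d hd (by simp)
  have E : ES z M U Δ f t r s (wrd u a 5) S := by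
    refine { E0 with S_r := hSr, S_s := ?_, Q_S := ?_, U_S := ?_, Qs_S := ?_, self := ?_ }
    · intro x hx
      have h1 := F.of_fix (hS2 x hx 2 h2m) hsU (hsd 2 le_rfl h2m)
      have h2 := A.Δ_M x (hSM hx) s hs
      rcases hpt _ h2 h1 with h | h | h
      · exfalso
        apply hsr
        have h4 : x * s * x⁻¹ = x * r * x⁻¹ := by
          rw [hSr x hx, mul_inv_cancel_right]; exact h
        exact mul_left_cancel (mul_right_cancel h4)
      · exact Or.inl h
      · right; rw [← A.U_comm r hrU s hsU]; exact h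
    · rw [← hT]
      refine le_of_le_normalizer (S := T) (O2_isPGroup _) ?_
      refine le_trans ?_ (le_normalizer_O2 _)
      rw [hT]
      exact fun x hx => mem_Cp.2 (hSr x hx)
    · rw [← hT, ← O.O_M]
      refine le_of_le_normalizer (S := T) (O2_isPGroup _) ?_
      rw [hT]
      exact hSM.trans (le_normalizer_O2 _)
    · intro q hq hqr
      rw [← F.bor]
      refine ⟨A.Q_M hs hq, fun d hd _ => ?_⟩
      rcases Nat.lt_or_ge d 2 with h | h
      · interval_cases d
        · exact F.fix_zero _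
        · exact (F.fix_one hr).2 hqr
      · exact F.Qs_fix hs hsd hq h hd
    · intro x hx h
      have := F.pol.self_norm hx
      rw [F.bor] at this
      exact this h
  refine ⟨s, _, E, ?_⟩
  apply le_antisymm
  · intro x hx
    have hxM := hx.1
    have h1 := F.of_fix (hx.2 2 h2m (by simp)) hrU (u := r) (by
      have : cl A r ∈ fl 1 := by rw [F.one]; exact Submodule.mem_span_singleton_self _
      exact F.pol.hf.mono 1 (by omega) this)
    obtain ⟨g, hg, hgr, -⟩ := E.Q_trans (hpt _ (A.Δ_M x hxM r hr) h1)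
    have hgP : Qp s ⊔ S ≤ fst M sigma m fl {1} := by
      refine sup_le (fun q hq => ⟨A.Q_M hs hq, fun d hd h1 => ?_⟩) (fun y hy => ⟨hSM hy, fun d hd _ => hS2 y hy d hd⟩)
      rcases Nat.lt_or_ge d 2 with h | h
      · interval_cases d
        · exact F.fix_zero _
        · exact absurd rfl h1
      · exact F.Qs_fix hs hsd hq h hd
    have h2 : g⁻¹ * x ∈ S := by
      rw [← F.bor]
      have h4 : g⁻¹ * x ∈ fst M sigma m fl {1} := mul_mem (inv_mem (hgP hg)) hx
      refine ⟨h4.1, fun d hd _ => ?_⟩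
      by_cases hd1 : d = 1
      · subst hd1
        refine (F.fix_one hr).2 ?_
        show g⁻¹ * x * r = r * (g⁻¹ * x)
        calc g⁻¹ * x * r = g⁻¹ * (x * r * x⁻¹) * x := by group
          _ = g⁻¹ * (g * r * g⁻¹) * x := by rw [hgr]
          _ = r * (g⁻¹ * x) := by group
      · exact h4.2 d hd (by simpa using hd1)
    have e : x = g * (g⁻¹ * x) := by group
    rw [e]
    exact mul_mem hg (mem_sup_right h2)
  · refine sup_le (fun q hq => ⟨A.Q_M hs hq, fun d hd h1 => ?_⟩) (fun y hy => ⟨hSM hy, fun d hd _ => hS2 y hy d hd⟩)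
    rcases Nat.lt_or_ge d 2 with h | h
    · interval_cases d
      · exact F.fix_zero _
      · exact absurd rfl h1
    · exact F.Qs_fix hs hsd hq h hd

end Fg

/-! ### The node `0` -/

namespace ES

variable {r s l : G} {S : Subgroup G} (E : ES z M U Δ f t r s l S)

include E

/-- `P_0 = L S` -/
theorem mem_P0 {x : G} : x ∈ Lp U r ⊔ S ↔ ∃ g ∈ Lp U r, ∃ b ∈ S, x = g * b := by
  have h : S ≤ normalizer (Lp U r : Set G) := fun x hx => E.O.L_norm (mem_Cp.2 (E.S_r x hx))
  rw [← SetLike.mem_coe, coe_mul_of_right_le_normalizer_left _ _ h]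
  constructor
  · rintro ⟨g, hg, b, hb, rfl⟩
    exact ⟨g, hg, b, hb, rfl⟩
  · rintro ⟨g, hg, b, hb, rfl⟩
    exact ⟨g, hg, b, hb, rfl⟩

/-- `L ∩ C(z) ≤ S` -/
theorem L_Cz {g : G} (hg : g ∈ Lp U r) (hgz : g * z = z * g) : g ∈ S := by
  obtain ⟨q, hq, u, hu, rfl⟩ := E.mem_QU hg hgz
  exact mul_mem (E.Q_S hq) (E.U_S hu)

/-- `P_0 ∩ C(z) = S` -/
theorem P0_Cz (hSz : ∀ x ∈ S, x * z = z * x) {x : G} (hx : x ∈ Lp U r ⊔ S) (hxz : x * z = z * x) : x ∈ S := by
  obtain ⟨g, hg, b, hb, rfl⟩ := E.mem_P0.1 hx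
  refine mul_mem (E.L_Cz hg ?_) hb
  have h1 : b⁻¹ * z = z * b⁻¹ := by
    have := hSz b⁻¹ (inv_mem hb)
    exact this
  calc g * z = g * b * (b⁻¹ * z) := by group
    _ = g * b * (z * b⁻¹) := by rw [h1]
    _ = (g * b * z) * b⁻¹ := by group
    _ = (z * (g * b)) * b⁻¹ := by rw [hxz]
    _ = z * g := by group

/-- **`|P_0 : S| = 3`** -/
theorem relIndex_zero [Finite G] (hSz : ∀ x ∈ S, x * z = z * x) : S.relIndex (Lp U r ⊔ S) = 3 := by
  have A := E.A
  obtain ⟨a, haL, ha1, -, -⟩ := E.exists_zy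
  let w : Fin 3 → G := ![1, l, a]
  have hwz : ∀ i, w i * z * (w i)⁻¹ = ![z, t r, r * z * t r] i := by
    intro i
    fin_cases i
    · show (1 : G) * z * 1⁻¹ = z
      group
    · exact E.lz
    · exact ha1
  have hwL : ∀ i, w i ∈ Lp U r := by
    intro i
    fin_cases i
    · exact one_mem _
    · exact E.l_L
    · exact haL
  have hinj : ∀ i j : Fin 3, (![z, t r, r * z * t r] : Fin 3 → G) i = (![z, t r, r * z * t r] : Fin 3 → G) j →
      i = j := by
    have n1 := A.z_ne_t E.r_Δ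
    have n2 := A.z_ne_y E.r_Δ
    have n3 := A.t_ne_y E.r_Δ
    intro i j
    fin_cases i <;> fin_cases j <;> intro h <;> first
      | rfl
      | exact absurd h n1
      | exact absurd h n2
      | exact absurd h n3
      | exact absurd h n1.symm
      | exact absurd h n2.symm
      | exact absurd h n3.symm
  have hcard := card_of_cosets (A := S) (B := Lp U r ⊔ S) w
    (fun i b hb => mul_mem (mem_sup_left (hwL i)) (mem_sup_right hb)) ?_ ?_
  · have h1 := relIndex_mul_card S (Lp U r ⊔ S) le_sup_right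
    rw [hcard] at h1
    exact Nat.eq_of_mul_eq_mul_right Nat.card_pos h1
  · intro i j b hb e
    apply hinj
    rw [← hwz i, ← hwz j, ← e]
    have h1 := hSz b hb
    calc w i * z * (w i)⁻¹ = w i * (z * b) * b⁻¹ * (w i)⁻¹ := by group
      _ = w i * (b * z) * b⁻¹ * (w i)⁻¹ := by rw [h1]
      _ = w i * b * z * (w i * b)⁻¹ := by group
  · intro x hx
    obtain ⟨g, hg, b, hb, e⟩ := E.mem_P0.1 hx
    have hgC := A.L_le E.r_Δ hg
    have h1 : ∃ i, g * z * g⁻¹ = w i * z * (w i)⁻¹ := by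
      rcases E.h3 r E.r_Δ g hgC with h | h | h
      · exact ⟨0, by rw [h, hwz]; rfl⟩
      · exact ⟨1, by rw [h, hwz]; rfl⟩
      · exact ⟨2, by rw [h, hwz]; rfl⟩
    obtain ⟨i, hi⟩ := h1
    refine ⟨i, ?_⟩
    have h2 : (w i)⁻¹ * g * z = z * ((w i)⁻¹ * g) := by
      calc (w i)⁻¹ * g * z = (w i)⁻¹ * (g * z * g⁻¹) * g := by group
        _ = (w i)⁻¹ * (w i * z * (w i)⁻¹) * g := by rw [hi]
        _ = z * ((w i)⁻¹ * g) := by group
    have h4 := E.L_Cz (mul_mem (inv_mem (hwL i)) hg) h2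
    rw [e, ← mul_assoc]
    exact mul_mem h4 hb
where
  relIndex_mul_card {G : Type _} [Group G] (A B : Subgroup G) (h : A ≤ B) :
      A.relIndex B * Nat.card A = Nat.card B := by
    have h1 := (A.subgroupOf B).index_mul_card
    rw [Nat.card_congr (subgroupOfEquivOfLe h).toEquiv] at h1
    exact h1

/-- **the digons `(0, j)`** -/
theorem digon (hSz : ∀ x ∈ S, x * z = z * x) {I : Type*} {P : I → Subgroup G} {i j : I} (hB : ∀ k, S ≤ P k)
    (hi : P i = Lp U r ⊔ S) (hjr : ∀ x ∈ P j, x * r = r * x) (hjz : ∀ x ∈ P j, x * z = z * x) :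
    GPp S P i j 2 ∧ GPp S P j i 2 := by
  have hLn : ∀ q ∈ P j, ∀ g ∈ Lp U r, q * g * q⁻¹ ∈ Lp U r := fun q hq g hg =>
    conj_norm (E.O.L_norm (mem_Cp.2 (hjr q hq))) hg
  constructor
  · refine gpp_two hB ?_ ?_
    · intro x hx hxj
      rw [hi] at hx
      exact E.P0_Cz hSz hx (hjz x hxj)
    · intro p hp q hq
      rw [hi] at hp
      obtain ⟨g, hg, b, hb, rfl⟩ := E.mem_P0.1 hp
      have hbq : b * q ∈ P j := mul_mem (hB j hb) hq
      refine ⟨b * q, hbq, (b * q)⁻¹ * g * (b * q)⁻¹⁻¹, ?_, by group⟩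
      rw [hi]
      exact mem_sup_left (hLn _ (inv_mem hbq) g hg)
  · refine gpp_two hB ?_ ?_
    · intro x hxj hx
      rw [hi] at hx
      exact E.P0_Cz hSz hx (hjz x hxj)
    · intro q hq p hp
      rw [hi] at hp
      obtain ⟨g, hg, b, hb, rfl⟩ := E.mem_P0.1 hp
      refine ⟨q * g * q⁻¹, ?_, q * b, mul_mem hq (hB j hb), by group⟩
      rw [hi]
      exact mem_sup_left (hLn q hq g hg)

end ES

/-! ### The system -/

/-- the entries of the Coxeter matrix of type `C_{m+1}` -/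
def ent (m i j : ℕ) : ℕ :=
  if (i + 1 = j ∧ j = m) ∨ (j + 1 = i ∧ i = m) then 4 else if i + 1 = j ∨ j + 1 = i then 3 else 2

/-- **(7) of #15507: the parabolic system** -/
theorem exists_sys [Finite G] (A : Res z M U Δ f t) (h3 : Three z Δ t) {r : G} (O : Out z M U Δ f t r) (hr : r ∈ Δ)
    {p : G} (hp : p ∈ Δ) (hpr : p ≠ r) (hf : f r p = 0) (S : Sylow 2 G) (hSM : (S : Subgroup G) ≤ M)
    (hSr : ∀ s ∈ (S : Subgroup G), s * r = r * s) :
    ∃ m, 2 ≤ m ∧ ∃ PP : Fin (m + 1) → Subgroup G, (∀ i, (S : Subgroup G) ≤ PP i) ∧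
      (∀ i, (S : Subgroup G).relIndex (PP i) = 3) ∧
      (∀ i j, i ≠ j → GPp (S : Subgroup G) PP i j (ent m i j)) ∧
      (∀ i : Fin (m + 1), (i : ℕ) ≠ 1 → PP i ≤ centralizer ({r} : Set G)) ∧
      M ≤ ⨆ i, PP i ∧ centralizer ({r} : Set G) ≤ ⨆ i, PP i ∧
      2 ^ ((m + 1) ^ 2) ≤ Nat.card (S : Subgroup G) ∧
      ∃ Y ≤ (S : Subgroup G), Y ≤ U ⊔ closure (t '' Δ) ∧ 2 ^ ((m + 1) ^ 2) ≤ Nat.card Y := by
  obtain ⟨sigma, m, fl, F⟩ := exists_fg A O hr hp hpr hf S hSM hSr
  obtain ⟨s, l, E, hP1⟩ := F.exists_es h3 O hr S rfl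
  have h2 := F.two
  have hSz : ∀ x ∈ (S : Subgroup G), x * z = z * x := fun x hx => A.mz (hSM hx)
  let PP : Fin (m + 1) → Subgroup G := fun i =>
    if (i : ℕ) = 0 then Lp U r ⊔ (S : Subgroup G) else fst M sigma m fl {(i : ℕ)}
  have hPP0 : ∀ i : Fin (m + 1), (i : ℕ) = 0 → PP i = Lp U r ⊔ (S : Subgroup G) := fun i hi => if_pos hi
  have hPPj : ∀ i : Fin (m + 1), (i : ℕ) ≠ 0 → PP i = fst M sigma m fl {(i : ℕ)} := fun i hi => if_neg hi
  have hle : ∀ i, (S : Subgroup G) ≤ PP i := by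
    intro i
    by_cases h : (i : ℕ) = 0
    · rw [hPP0 i h]; exact le_sup_right
    · rw [hPPj i h, ← F.bor]; exact fst_mono (Set.empty_subset _)
  have hle' : ∀ i, fst M sigma m fl ∅ ≤ PP i := by rw [F.bor]; exact hle
  have hjr : ∀ j : Fin (m + 1), 2 ≤ (j : ℕ) → ∀ x ∈ PP j, x * r = r * x := by
    intro j hj x hx
    rw [hPPj j (by omega)] at hx
    exact F.fst_cen hr (by simp only [Set.mem_singleton_iff]; omega) hx
  have hjz : ∀ j : Fin (m + 1), (j : ℕ) ≠ 0 → ∀ x ∈ PP j, x * z = z * x := by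
    intro j hj x hx
    rw [hPPj j hj] at hx
    exact A.mz (fst_le hx)
  -- the sup
  have hsup : M ≤ ⨆ i, PP i := by
    refine F.pol.gen (by omega) fun j hj hjm => ?_
    have h := le_iSup PP ⟨j, by omega⟩
    rwa [hPPj ⟨j, by omega⟩ (show (j : ℕ) ≠ 0 by omega)] at h
  refine ⟨m, h2, PP, hle, ?_, ?_, ?_, hsup, ?_, F.card_S, F.exists_Y⟩
  · intro i
    by_cases h : (i : ℕ) = 0
    · rw [hPP0 i h]; exact E.relIndex_zero hSz
    · rw [hPPj i h]
      have := F.pol.relIndex (j := (i : ℕ)) (by omega) (by omega)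
      rwa [F.bor, Nat.card_zmod] at this
  · -- the residues
    have key : ∀ i j : Fin (m + 1), (i : ℕ) < (j : ℕ) → GPp (S : Subgroup G) PP i j (ent m i j) ∧
        GPp (S : Subgroup G) PP j i (ent m i j) := by
      intro i j hij
      by_cases h0 : (i : ℕ) = 0
      · by_cases h1 : (j : ℕ) = 1
        · have e : ent m i j = 3 := by
            unfold ent
            rw [if_neg (by omega), if_pos (by omega)]
          rw [e]
          have hj : PP j = Qp s ⊔ (S : Subgroup G) := by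
            rw [hPPj j (by omega), h1, hP1]
          have := E.rk hle hj (hPP0 i h0)
          exact ⟨this.2, this.1⟩
        · have e : ent m i j = 2 := by
            unfold ent
            rw [if_neg (by omega), if_neg (by omega)]
          rw [e]
          exact E.digon hSz hle (hPP0 i h0) (hjr j (by omega)) (hjz j (by omega))
      · have hi := hPPj i h0
        have hj := hPPj j (by omega)
        by_cases h1 : (i : ℕ) + 1 = j
        · by_cases h4 : (j : ℕ) = m
          · have e : ent m i j = 4 := by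
              unfold ent
              rw [if_pos (by omega)]
            rw [e]
            have := F.pol.rk_four hle' hi hj (by omega) h1 h4
            rw [F.bor] at this
            exact this
          · have e : ent m i j = 3 := by
              unfold ent
              rw [if_neg (by omega), if_pos (by omega)]
            rw [e]
            have := F.pol.rk_three hle' hi hj (by omega) h1 (by omega)
            rw [F.bor] at this
            exact this
        · have e : ent m i j = 2 := by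
            unfold ent
            rw [if_neg (by omega), if_neg (by omega)]
          rw [e]
          have := F.pol.rk_two hle' hi hj (by omega) (by omega)
          rw [F.bor] at this
          exact this
    have hsymm : ∀ i j : ℕ, ent m i j = ent m j i := by
      intro i j
      unfold ent
      split_ifs <;> omega
    intro i j hij
    have hij' : (i : ℕ) ≠ j := fun h => hij (Fin.ext h)
    rcases Nat.lt_or_gt_of_ne hij' with h | h
    · exact (key i j h).1
    · rw [hsymm]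
      exact (key j i h).2
  · intro i hi
    by_cases h : (i : ℕ) = 0
    · rw [hPP0 i h]
      exact sup_le (A.L_le hr) fun x hx => mem_Cp.2 (E.S_r x hx)
    · exact fun x hx => mem_Cp.2 (hjr i (by omega) x hx)
  · -- `C(r) = L K_r`
    have h1 : Lp U r ≤ ⨆ i, PP i := by
      have h := le_iSup PP ⟨0, by omega⟩
      rw [hPP0 ⟨0, by omega⟩ rfl] at h
      exact le_sup_left.trans h
    have h4 : Kp z r ≤ ⨆ i, PP i := (A.CN_le_M hr).trans hsup
    have h5 := O.L_sup
    show Cp r ≤ _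
    rw [← h5]
    exact sup_le h1 h4

end Cfsg.Agent.Omega.HTwo.Seven
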