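import Cfsg.Agent.Omega.HTwo.EightPos
import Cfsg.Agent.Omega.HTwo.SevenSys
import Cfsg.Agent.Omega.HOneEnd.OfSys

/-!
# II.0h1, `q = 2`, `|N_r| = 8`: the statement `Three0` of `HOne/Cut`

`cox m` : the Coxeter matrix of type `C_{m+1}`; `three0 : Cut.Three0`.
-/

set_option autoImplicit false

namespace Cfsg.Agent.Omega.HTwo.Seven

open Subgroup Cfsg Cfsg.Agent.ParSys Cfsg.Agent.ParSys.RankTwo Cfsg.Agent.ParSys.FreeCount Cfsg.Agent.ParSys.RootEpsBD
open Cfsg.Agent.Omega.BTwo Cfsg.Agent.Omega.HOneTwo Cfsg.Agent.Omega.HOneTwo.Trans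
open Cfsg.Agent.Omega.HTwo.Entry (Pos)
open Cfsg.Agent.Omega.HTwo.AlphaP (MP)
open Cfsg.Agent.Omega.HOne.Cut (TSz Ends Three0)
open Cfsg.Agent.Omega.HTwo.Eight (Qp Cp)
open Cfsg.Agent.Omega.HTwo.TSPos

theorem ent_symm (m i j : ℕ) : ent m i j = ent m j i := by
  unfold ent
  split_ifs <;> omega

theorem ent_ne (m i j : ℕ) : ent m i j ≠ 1 := by
  unfold ent
  split_ifs <;> omega

/-- the Coxeter matrix of type `C_{m+1}` -/
def cox (m : ℕ) : CoxeterMatrix (Fin (m + 1)) where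
  M := Matrix.of fun i j => if i = j then 1 else ent m i j
  isSymm := by
    ext i j
    simp only [Matrix.transpose_apply, Matrix.of_apply]
    by_cases h : i = j
    · rw [if_pos h, if_pos h.symm]
    · rw [if_neg h, if_neg (Ne.symm h), ent_symm]
  diagonal i := by simp only [Matrix.of_apply, if_true]
  off_diagonal i j h := by
    simp only [Matrix.of_apply]
    rw [if_neg h]
    exact ent_ne _ _ _

theorem cox_apply {m : ℕ} {i j : Fin (m + 1)} (h : i ≠ j) : cox m i j = ent m i j := by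
  show (if i = j then 1 else ent m i j) = _
  rw [if_neg h]

theorem typeB_cox (m : ℕ) : TypeB ((cox m).reindex (Equiv.refl _)) := by
  intro i j h
  show cox m i j = _
  rw [cox_apply h]
  rfl

theorem hasQ_cox (m : ℕ) : HasQ (cox m) (fun _ => 2) (2 ^ ((m + 1) ^ 2)) := by
  have h := hasQ_B (M := cox m) (m := m) (Equiv.refl _) (typeB_cox m) (q := fun _ => 2) (x := 2) (y := 2)
    fun i => (ite_self _).symm
  have e : 2 ^ ((m + 1) * m) * 2 ^ (m + 1) = 2 ^ ((m + 1) ^ 2) := by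
    rw [← pow_add]
    congr 1
    ring
  rwa [e] at h

universe u v

/-- **`Three0`** : after the transvection statement, `|N_r| = 8` -/
theorem three0 : Three0.{u, v} := by
  intro G _ _ S P V ι R o r z p h hc
  have A := res p h
  have h3 := three p h hc
  have O := out p h hc
  have hr : r ∈ Dl (MP V R o z) r := self_mem_Dl _ _
  obtain ⟨j, -, hj, -, -⟩ := p.toHT.one_lt
  have hq := gg_Dl p j
  have hqr : gg p j ≠ r := by
    intro e
    apply gg_ne p j
    exact p.eq_one hj (gg_mem p j) (by rw [e]; exact p.r_mem)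
  have hf : (ts p h).f r (gg p j) = 0 := by
    rw [← A.Q_f r hr _ (A.Δ_U _ hq), ← QQ_o p]
    exact p.V_Q o (gg_V p j)
  obtain ⟨m, hm, PP, hle, hidx, hgp, hpar, hMP, hCr, hcard, Y, hYS, hY, hYc⟩ :=
    exists_sys A h3 O hr hq hqr hf S (S_M p) (S_r p)
  refine HOneEnd.OfSys.ends_of_sys' p h (M := cox m) (hasQ_cox m) hle hidx ?_ hcard ?_
    (conn_B (Equiv.refl _) (typeB_cox m)) (o' := ⟨1, by omega⟩) ?_ hCr hMP (T := Y) (hY.trans ?_) hYS hYc
  · intro i j hij
    rw [cox_apply hij]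
    exact hgp i j hij
  · rw [Nat.card_eq_fintype_card, Fintype.card_fin]
    omega
  · intro i hi
    exact hpar i fun e => hi (Fin.ext e)
  · refine sup_le_sup le_rfl ((closure_le _).2 ?_)
    rintro _ ⟨q, hq, rfl⟩
    obtain ⟨g, hg, e⟩ := A.t_ZZ q hq
    obtain ⟨m, hm, rfl⟩ := hq
    have hmz : m * z = z * m := A.mz hm
    have hgq := Eight.mem_Cp.1 hg
    refine subset_closure ⟨m, hm, m⁻¹ * g * m * z * (m⁻¹ * g * m)⁻¹, subset_closure ⟨m⁻¹ * g * m, ?_, rfl⟩, ?_⟩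
    · calc (m⁻¹ * g * m) * r = m⁻¹ * (g * (m * r * m⁻¹)) * m := by group
        _ = m⁻¹ * (m * r * m⁻¹ * g) * m := by rw [hgq]
        _ = r * (m⁻¹ * g * m) := by group
    · rw [e]
      calc g * z * g⁻¹ = g * (z * m * m⁻¹) * g⁻¹ := by group
        _ = g * (m * z * m⁻¹) * g⁻¹ := by rw [hmz]
        _ = m * (m⁻¹ * g * m * z * (m⁻¹ * g * m)⁻¹) * m⁻¹ := by group

end Cfsg.Agent.Omega.HTwo.Seven
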