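import Cfsg.Agent.Omega.HTwo.EntryTv
import Cfsg.Agent.Omega.HOne.JunAB

/-!
# II.0h1, `q = 2`: the further input at the junction

* `ME_MZ` : `ME V R o (C_Z(P)) = MZ S V R` (helper202); `ME_z` : `ME V R o ⟨z⟩ = MP V R o z`;
* `beta_of` : `¬ U ≤ Q o` gives `beta`; `beta_z` : `beta` for `E = ⟨z⟩` (helper972's `not_alpha'`);
* `NF_gen` : `NF r ⟨z⟩ r = Trans.gen r z`; `M_z`, `M_r`, `z_ZC`, `o2` : the fields of `Trans.TS.ofTv`;
* `not_dvd` : `S` is a Sylow subgroup of `ME V R o E`.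
* `tsOf` : `TS G` from `HT`, `z`, `noPar` and `JEnd` with the constant `z`.
-/

set_option autoImplicit false
set_option linter.unusedSectionVars false

namespace Cfsg.Agent.Omega.HTwo.EntryTv

open Subgroup Cfsg Cfsg.Agent.ZN Cfsg.Agent.Omega.BTwo Cfsg.Agent.Omega.HOneTwo
open Cfsg.Agent.Omega.HTwo.Hat Cfsg.Agent.Omega.HTwo.ThmA Cfsg.Agent.Omega.MinPar
open Cfsg.Agent.Omega.HOne.TvDef
open Cfsg.Agent.Omega.HTwo.AlphaP (MP not_alpha')

universe u

section basic

variable {G : Type u} [Group G]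

theorem NF_gen (r z : G) : NF r (zpowers z) r = Trans.gen r z := by
  unfold NF Trans.gen
  apply le_antisymm
  · rw [closure_le]
    rintro _ ⟨g, hg, e, he, rfl⟩
    obtain ⟨k, rfl⟩ := mem_zpowers_iff.1 he
    have h1 : g * z ^ k * g⁻¹ = (g * z * g⁻¹) ^ k := by rw [conj_zpow]
    rw [h1]
    have h2 : g * z * g⁻¹ ∈ Subgroup.closure (Trans.Delta r z) :=
      Subgroup.subset_closure ⟨g, mul_inv_eq_iff_eq_mul.1 hg, rfl⟩
    exact Subgroup.zpow_mem _ h2 k
  · rw [closure_le]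
    rintro _ ⟨m, hm, rfl⟩
    exact subset_closure ⟨m, mul_inv_eq_iff_eq_mul.2 hm, z, mem_zpowers z, rfl⟩

theorem cen_zpowers (z : G) : centralizer ((zpowers z : Subgroup G) : Set G) = centralizer ({z} : Set G) := by
  rw [zpowers_eq_closure, centralizer_closure]

/-- `ME V R o ⟨z⟩ = MP V R o z` -/
theorem ME_z {ι : Type*} (V : Subgroup G) (R : ι → Subgroup G) (o : ι) (z : G) :
    ME V R o (zpowers z) = MP V R o z := by
  unfold ME MP
  rw [cen_zpowers]

end basic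

section main

variable {G : Type u} [Group G] [Finite G] {ι : Type*} {S : Sylow 2 G} {P V : Subgroup G}
  {R : ι → Subgroup G} {o : ι} (b : HT S P V R o)

include b

/-- `ME V R o (C_Z(P)) = MZ S V R` -/
theorem ME_MZ : ME V R o (zc (S : Subgroup G) ⊓ centralizer (P : Set G)) = HOne.JunAB.MZ S V R := by
  have h1 : normalizer (R o : Set G) = centralizer (R o : Set G) :=
    le_antisymm (normalizer_le_cen_of_card (b.card_R o)) (centralizer_le_normalizer _)
  unfold ME HOne.JunAB.MZ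
  rw [h1]
  congr 1
  conv_rhs => rw [b.zc_eq]
  apply le_antisymm
  · rintro x ⟨hx, hx'⟩
    have h2 : R o ⊔ (zc (S : Subgroup G) ⊓ centralizer (P : Set G)) ≤ centralizer ({x} : Set G) := by
      refine sup_le ?_ ?_
      · intro y hy
        rw [mem_centralizer_singleton_iff]
        exact mem_centralizer_iff.1 hx y hy
      · intro y hy
        rw [mem_centralizer_singleton_iff]
        exact mem_centralizer_iff.1 hx' y hy
    rw [mem_centralizer_iff]
    intro y hy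
    have h3 := h2 hy
    rwa [mem_centralizer_singleton_iff] at h3
  · exact le_inf (centralizer_le (SetLike.coe_subset_coe.2 le_sup_left))
      (centralizer_le (SetLike.coe_subset_coe.2 le_sup_right))

variable {r : G} (hr : ∀ x, x ∈ R o ↔ x = 1 ∨ x = r) (hr1 : r ≠ 1) {E : Subgroup G}
  (hE : E ≤ zc (S : Subgroup G) ⊓ centralizer (P : Set G)) (hE1 : E ≠ ⊥)

include hr hr1 in
/-- `beta` -/
theorem beta_of {E : Subgroup G} (hE : E ≤ zc (S : Subgroup G) ⊓ centralizer (P : Set G))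
    (h : ¬ UM V (ME V R o E) ≤ QQ (R o)) : ∃ u ∈ UU (ME V R o E) r, u ∉ QF r := by
  by_contra hcon
  push Not at hcon
  apply h
  rw [← UU_eq b hr hr1 hE (X_le_ME b), ← QF_eq b hr]
  exact hcon

include hE in
theorem not_dvd : ¬ 2 ∣ (S : Subgroup G).relIndex (ME V R o E) :=
  MinSimple.Basic.not_dvd_relIndex S (S_le_ME b hE)

include hr hr1 hE hE1 in
/-- `U` is 2-reduced in `M` -/
theorem o2 (B : Subgroup G) (hB : B ≤ ME V R o E) (hn : ∀ m ∈ ME V R o E, ∀ b ∈ B, m * b * m⁻¹ ∈ B)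
    (h2 : ∀ b ∈ B, ∀ u ∈ UU (ME V R o E) r, b * b * u = u * (b * b)) :
    ∀ b ∈ B, ∀ u ∈ UU (ME V R o E) r, b * u = u * b := by
  have h1 : B ≤ centralizer (UU (ME V R o E) r : Set G) := by
    refine HOne.TvHSide.red_of (S := (S : Subgroup G)) (H := ME V R o E) (Z₀ := {r}) (S_le_ME b hE) S.isPGroup'
      (not_dvd b hE) ?_ ?_ ?_ ?_ B hB (HOne.TvHSide.le_normalizer_of hn) ?_
    · rintro x hx _ rfl
      have := b.S_R hx
      rwa [normalizer_eq b hr, mem_centralizer_singleton_iff] at this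
    · exact HOne.TvHSide.le_normalizer_of fun m hm u hu => M_norm_UU b hr hr1 hE hm hu
    · rintro _ rfl
      exact subset_closure ⟨1, one_mem _, by group⟩
    · show closure (Om (ME V R o E) r) ≤ _
      rw [closure_le]
      rintro _ ⟨m, hm, rfl⟩
      exact subset_closure ⟨m, hm, r, rfl, rfl⟩
    · intro x hx
      refine ⟨1, ?_⟩
      rw [mem_centralizer_iff, pow_one, pow_two]
      exact fun u hu => (h2 x hx u hu).symm
  exact fun b hb u hu => (mem_centralizer_iff.1 (h1 hb) u hu).symm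

end main

section z

variable {G : Type u} [Group G] [Finite G] {ι : Type*} {S : Sylow 2 G} {P V : Subgroup G}
  {R : ι → Subgroup G} {o : ι} (b : HT S P V R o)
  {r z : G} (hr : ∀ x, x ∈ R o ↔ x = 1 ∨ x = r) (hr1 : r ≠ 1)
  (hz : z ∈ zc (S : Subgroup G) ⊓ centralizer (P : Set G)) (hz1 : z ≠ 1)

theorem zpowers_le_cz (hz : z ∈ zc (S : Subgroup G) ⊓ centralizer (P : Set G)) :
    zpowers z ≤ zc (S : Subgroup G) ⊓ centralizer (P : Set G) := by
  rwa [zpowers_le]

include b hr hr1 hz hz1 in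
/-- `beta` for `E = ⟨z⟩` -/
theorem beta_z : ∃ u ∈ UU (ME V R o (zpowers z)) r, u ∉ QF r := by
  refine beta_of b hr hr1 (zpowers_le_cz hz) ?_
  rw [ME_z]
  exact not_alpha' b hz hz1

include b hz in
/-- `M ≤ C(z)` -/
theorem M_z {m : G} (hm : m ∈ ME V R o (zpowers z)) : m * z = z * m := by
  have h1 := ME_le_cen b (zpowers_le_cz hz) hm
  exact (mem_centralizer_iff.1 h1 z (mem_zpowers z)).symm

include b hr in
/-- `C(r) ∩ C(z) ≤ M` -/
theorem M_r {g : G} (hg : g * r = r * g) (hgz : g * z = z * g) : g ∈ ME V R o (zpowers z) := by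
  refine mem_sup_left ⟨?_, ?_⟩
  · show g ∈ normalizer (R o : Set G)
    rw [normalizer_eq b hr, mem_centralizer_singleton_iff]
    exact hg
  · show g ∈ centralizer ((zpowers z : Subgroup G) : Set G)
    rw [cen_zpowers, mem_centralizer_singleton_iff]
    exact hgz

include b hr hz in
/-- `z ∈ C_G(Q r) ∩ C_G(Q t)` -/
theorem z_ZC {i : ι} {s : G} (hs : ∀ x, x ∈ R i ↔ x = 1 ∨ x = s) : z ∈ ZC QF s := by
  show z ∈ centralizer (QF s : Set G)
  rw [QF_eq b hs]
  exact E_cen_Q b hr (zpowers_le_cz hz) i (mem_zpowers z)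

/-- **`TS G`** from `HT`, `noPar` and `JEnd` with the constant `z` -/
noncomputable def tsOf {j : ι} (hj : j ≠ o) {t : G} (ht : ∀ x, x ∈ R j ↔ x = 1 ∨ x = t) (ht1 : t ≠ 1)
    (b : HT S P V R o) (hr : ∀ x, x ∈ R o ↔ x = 1 ∨ x = r) (hr1 : r ≠ 1)
    (hz : z ∈ zc (S : Subgroup G) ⊓ centralizer (P : Set G)) (hz1 : z ≠ 1)
    (hpar : ∀ x y, Adj (ME V R o (zpowers z)) r t r x → Adj (ME V R o (zpowers z)) r t r y →
      x * y ∈ ZC QF r → y = x ∨ y = r * x)
    (hE : JEnd (ME V R o (zpowers z)) r QF (NF r (zpowers z)) z) : Trans.TS G :=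
  Trans.TS.ofTv (tvH b hr hr1 (zpowers_le_cz hz) (fun h => hz1 (zpowers_eq_bot.1 h)) hj ht ht1
      (beta_z b hr hr1 hz hz1) hpar) hE (NF_gen r z)
    (by rw [← pow_two]; exact (ZN.mem_zc.1 hz.1).2.2) hz1 ⟨z_ZC b hr hz hr, z_ZC b hr hz ht⟩
    (fun _ hm => M_z b hz hm) (fun _ hg hgz => M_r b hr hg hgz)
    (o2 b hr hr1 (zpowers_le_cz hz) (fun h => hz1 (zpowers_eq_bot.1 h)))

end z

end Cfsg.Agent.Omega.HTwo.EntryTv
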