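import Cfsg.Agent.Omega.HOne.Cut
import Cfsg.Agent.Omega.HOne.TvE2
import Cfsg.Agent.Omega.HOne.Tv
import Cfsg.Agent.Omega.HOne.JunE
import Cfsg.Agent.Omega.HTwo.EntryTs
import Cfsg.Agent.Omega.HTwo.ThmD

/-!
# II.0h1, `q = 2`: the transvection statement in the position `Pos` (`HOne.Cut.TS0`)

* `g1` : `C_S(Q₁/Z₁) = Q₁`, the input (G1) of `TvE2.eleven` (THEOREM D (iii));
* `jend` : `Tv.main` for `M = ME V R o E`;
* `hA`, `c_eq` : the BS-trick: the constant `c` is the only involution of `E`;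
* `jend_z` : case (alpha)₀; `jend_Z` : case not (alpha)₀;
* `ts0 : TS0`, `stTS : StTS K`.
-/

set_option autoImplicit false
set_option linter.unusedSectionVars false

namespace Cfsg.Agent.Omega.HTwo.TSMain

open Subgroup Cfsg Cfsg.Agent.ZN Cfsg.Agent.Omega.BTwo Cfsg.Agent.Omega.HOneTwo
open Cfsg.Agent.Omega.HTwo.Hat Cfsg.Agent.Omega.HTwo.ThmA Cfsg.Agent.Omega.MinPar
open Cfsg.Agent.Omega.HOne.TvDef Cfsg.Agent.Omega.HTwo.EntryTv
open Cfsg.Agent.Omega.HTwo.AlphaP (MP)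
open Cfsg.Agent.Omega.HTwo.Entry (Pos)
open Cfsg.Agent.Omega.HOne.Cut (TSz TS0)
open Cfsg.Agent.Omega.HOneTwo.Trans (gn gen gn_eq_UU)

universe u v

section main

variable {G : Type u} [Group G] [Finite G] {ι : Type*} {S : Sylow 2 G} {P V : Subgroup G}
  {R : ι → Subgroup G} {o : ι} (b : HT S P V R o) {r : G} (hr : ∀ x, x ∈ R o ↔ x = 1 ∨ x = r) (hr1 : r ≠ 1)
  {E : Subgroup G} (hE : E ≤ zc (S : Subgroup G) ⊓ centralizer (P : Set G)) (hE1 : E ≠ ⊥)
  {j : ι} (hj : j ≠ o) {t : G} (ht : ∀ x, x ∈ R j ↔ x = 1 ∨ x = t) (ht1 : t ≠ 1)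

include b

/-- `C(Q i) ≤ Q i` -/
theorem cen_Q_le (i : ι) : centralizer (QQ (R i) : Set G) ≤ QQ (R i) := by
  intro x hx
  refine b.cenQ i (mem_inf.2 ⟨?_, hx⟩)
  exact centralizer_le_normalizer _ (centralizer_le ((b.R_le i).trans (b.V_Q i)) hx)

include hr hj ht

/-- **(G1)** -/
theorem g1 : HOne.TvE2.G1 (ME V R o E) r t QF := by
  intro n _ hnt hq
  have hnt' : n ∈ centralizer (QQ (R j) : Set G) := by
    have h1 : n ∈ centralizer (QF t : Set G) := hnt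
    rwa [QF_eq b ht] at h1
  have hn : n ∈ ZQ R j := ⟨cen_Q_le b j hnt', hnt'⟩
  have hc : ∀ x ∈ QQ (R o), n * x * n⁻¹ * x⁻¹ ∈ ZQ R o := by
    intro x hx
    have h1 : x * n * x⁻¹ * n⁻¹ ∈ centralizer (QF r : Set G) := hq x (by rw [QF_eq b hr]; exact hx)
    rw [QF_eq b hr] at h1
    have h2 : n * x * n⁻¹ * x⁻¹ ∈ centralizer (QQ (R o) : Set G) := by
      have := inv_mem h1
      have e : (x * n * x⁻¹ * n⁻¹)⁻¹ = n * x * n⁻¹ * x⁻¹ := by group
      rwa [e] at this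
    exact ⟨cen_Q_le b o h2, h2⟩
  obtain ⟨a, ha, h3⟩ := ThmD.D1 b.toBTS (Alpha.HT.le_all b) (fun x hx => (hr x).1 hx) S b.S_V b.S_R hj hn hc
  have h4 : a * n ∈ QQ (R o) := ZQ_le o (cenX_le_ZQ b.toBTS (Alpha.HT.le_all b) o h3)
  rw [QF_eq b hr]
  have h5 := mul_mem (inv_mem (b.V_Q o (b.R_le j ha))) h4
  rwa [inv_mul_cancel_left] at h5

include hr1 hE hE1 ht1

/-- `Tv.main` for `M = ME V R o E` -/
theorem jend (hbeta : ∃ u ∈ UU (ME V R o E) r, u ∉ QF r)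
    (hpar : ∀ x y, Adj (ME V R o E) r t r x → Adj (ME V R o E) r t r y → x * y ∈ ZC QF r → y = x ∨ y = r * x) :
    ∃ c, JConst (ME V R o E) r t QF (NF r E) c ∧ JEnd (ME V R o E) r QF (NF r E) c := by
  have h := tvH b hr hr1 hE hE1 hj ht ht1 hbeta hpar
  exact HOne.Tv.main h (tvS b hr hr1 hE hE1 hj ht ht1) (HOne.TvE2.eleven h (g1 b hr hj ht))

omit ht1 hj ht in
/-- the 2-local subgroups over `M` -/
theorem hA (f : G) (hf1 : f ≠ 1) (hff : f * f = 1) (hfM : ∀ m ∈ ME V R o E, m * f = f * m) :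
    ∃ A : Subgroup G, IsPGroup 2 A ∧ UU (ME V R o E) r ≤ A ∧ centralizer ({f} : Set G) ≤ normalizer (A : Set G) := by
  have hff' : f ^ 2 = 1 := by rw [pow_two, hff]
  have hfS : ∀ s ∈ (S : Subgroup G), s * f = f * s := fun s hs => hfM s (S_le_ME b hE hs)
  have hfmem : f ∈ (S : Subgroup G) := by
    have h1 : zpowers f ≤ (S : Subgroup G) := by
      refine le_of_le_normalizer S (MinSimple.Basic.isPGroup_zpowers hff') ?_
      rw [MinSimple.Basic.normalizer_zpowers_eq hff']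
      intro s hs
      rw [mem_centralizer_singleton_iff]
      exact hfS s hs
    exact h1 (mem_zpowers f)
  have hfz : f ∈ zc (S : Subgroup G) ⊓ centralizer (P : Set G) := by
    rw [b.cz_eq]
    refine mem_inf.2 ⟨mem_zc.2 ⟨hfmem, hfS, hff'⟩, ?_⟩
    rw [mem_centralizer_iff]
    exact fun x hx => hfM x (X_le_ME b hx)
  have d := b.dt hfz hf1
  refine ⟨UM V (centralizer ({f} : Set G)), ?_, ?_, le_normalizer_cl V _⟩
  · rintro ⟨x, hx⟩
    refine ⟨1, Subtype.ext ?_⟩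
    show x ^ 2 ^ 1 = 1
    rw [pow_one, pow_two]
    exact d.U_sq hx
  · rw [UU_eq b hr hr1 hE (X_le_ME b)]
    refine cl_le (le_cl _ _) ?_
    refine le_trans ?_ (le_normalizer_cl V _)
    intro m hm
    rw [mem_centralizer_singleton_iff]
    exact hfM m hm

/-- **the BS-trick** : `c` is the only involution of `E` -/
theorem c_eq (hbeta : ∃ u ∈ UU (ME V R o E) r, u ∉ QF r)
    (hpar : ∀ x y, Adj (ME V R o E) r t r x → Adj (ME V R o E) r t r y → x * y ∈ ZC QF r → y = x ∨ y = r * x) {c : G}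
    (hC : JConst (ME V R o E) r t QF (NF r E) c) (hJ : JEnd (ME V R o E) r QF (NF r E) c) {z : G} (hz : z ∈ E)
    (hz1 : z ≠ 1) : c = z := by
  have h := tvH b hr hr1 hE hE1 hj ht ht1 hbeta hpar
  refine HOne.JunE.c_eq_z h rfl (NF_base hz) ?_ hz1 ?_ (hA b hr hr1 hE hE1) hC hJ
  · rw [← pow_two]; exact (mem_zc.1 (hE hz).1).2.2
  · exact fun m hm => (mem_centralizer_iff.1 (ME_le_cen b hE hm) z hz).symm

omit hE hE1

/-- case (alpha)₀ -/
theorem jend_z {z₀ : G} (hz₀ : z₀ ∈ zc (S : Subgroup G) ⊓ centralizer (P : Set G)) (hz₀1 : z₀ ≠ 1)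
    (hα : UM V (HOne.JunAB.MZ S V R) ≤ QQ (R o)) :
    ∃ z ∈ zc (S : Subgroup G) ⊓ centralizer (P : Set G), z ≠ 1 ∧
      JEnd (ME V R o (zpowers z)) r QF (NF r (zpowers z)) z := by
  obtain ⟨z, hz, hz1, H⟩ := HOne.JunAB.exists_z b hz₀ hz₀1 hα
  have hEz := zpowers_le_cz hz
  have hE1 : zpowers z ≠ ⊥ := fun h => hz1 (zpowers_eq_bot.1 h)
  have hMz : ME V R o (zpowers z) ≤ centralizer ({z} : Set G) := by
    intro m hm
    rw [mem_centralizer_singleton_iff]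
    exact M_z b hz hm
  have hbeta := beta_z b hr hr1 hz hz1
  have hpar := HOne.JunAB.noPar b hr (M := ME V R o (zpowers z)) hMz H hj ((ht t).2 (Or.inr rfl)) ht1
    (Q := QF) (QF_eq b hr)
  obtain ⟨c, hC, hJ⟩ := jend b hr hr1 hEz hE1 hj ht ht1 hbeta hpar
  have hc := c_eq b hr hr1 hEz hE1 hj ht ht1 hbeta hpar hC hJ (mem_zpowers z) hz1
  rw [hc] at hJ
  exact ⟨z, hz, hz1, hJ⟩

/-- case not (alpha)₀ -/
theorem jend_Z {z : G} (hz : z ∈ zc (S : Subgroup G) ⊓ centralizer (P : Set G)) (hz1 : z ≠ 1)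
    (hα : ¬ UM V (HOne.JunAB.MZ S V R) ≤ QQ (R o)) :
    JEnd (ME V R o (zpowers z)) r QF (NF r (zpowers z)) z := by
  set E := zc (S : Subgroup G) ⊓ centralizer (P : Set G) with hEdef
  have hE1 : E ≠ ⊥ := fun h => hz1 (by rw [h] at hz; exact mem_bot.1 hz)
  have hMZ : ME V R o E = HOne.JunAB.MZ S V R := ME_MZ b
  have hbeta : ∃ u ∈ UU (ME V R o E) r, u ∉ QF r := beta_of b hr hr1 le_rfl (by rw [hMZ]; exact hα)
  have hpar := HOne.JunAB.noPar' b hr (M := ME V R o E)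
    (by rw [hMZ]; exact HOne.JunAB.norm_of_par_MZ b hr hz hz1) hj ((ht t).2 (Or.inr rfl)) ht1
    (Q := QF) (QF_eq b hr)
  obtain ⟨c, hC, hJ⟩ := jend b hr hr1 le_rfl hE1 hj ht ht1 hbeta hpar
  have hc : ∀ y ∈ E, y ≠ 1 → c = y := fun y hy hy1 =>
    c_eq b hr hr1 le_rfl hE1 hj ht ht1 hbeta hpar hC hJ hy hy1
  have hEz : E = zpowers z := by
    apply le_antisymm
    · intro y hy
      by_cases hy1 : y = 1
      · rw [hy1]; exact one_mem _
      · rw [← hc y hy hy1, hc z hz hz1]; exact mem_zpowers z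
    · rwa [zpowers_le]
  rw [hc z hz hz1, ← hEdef, hEz] at hJ
  exact hJ

omit hr1 hj ht ht1 in
/-- `TSz` from `JEnd` with the constant `z` -/
theorem tsz {z : G} (hz : z ∈ zc (S : Subgroup G) ⊓ centralizer (P : Set G)) (hz1 : z ≠ 1) (hrr : r * r = 1)
    (hr1 : r ≠ 1) (hJ : JEnd (ME V R o (zpowers z)) r QF (NF r (zpowers z)) z) : TSz V R o r z := by
  obtain ⟨h1, h2, -⟩ := hJ
  have hzz : z * z = 1 := by rw [← pow_two]; exact (mem_zc.1 hz.1).2.2
  have hzr : z * r = r * z := by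
    have h3 : r ∈ (S : Subgroup G) := b.V_le_S (b.R_le o ((hr r).2 (Or.inr rfl)))
    exact ((mem_zc.1 hz.1).2.1 r h3).symm
  rw [NF_gen] at h1
  rw [QF_eq b hr] at h2
  have hU : gn (MP V R o z) r = UU (ME V R o (zpowers z)) r := by rw [gn_eq_UU, ME_z]
  refine ⟨?_, ?_, ?_⟩
  · intro u hu u' hu' h3 h4
    rw [hU] at hu hu'
    exact h2 u hu u' hu' h3 h4
  · intro u hu n hn
    rw [hU] at hu
    rcases h1 u hu n hn with h3 | h3
    · left
      calc n * u = (u * n * u⁻¹ * n⁻¹)⁻¹ * (u * n) := by group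
        _ = u * n := by rw [h3]; group
    · right
      calc n * u = (u * n * u⁻¹ * n⁻¹)⁻¹ * (u * n) := by group
        _ = (r * z)⁻¹ * (u * n) := by rw [h3]
        _ = z * r * (u * n) := by
            rw [mul_inv_rev, inv_eq_of_mul_eq_one_left hzz, inv_eq_of_mul_eq_one_left hrr]
  · obtain ⟨u, hu, huQ⟩ := beta_z b hr hr1 hz hz1
    obtain ⟨n, hn, hne⟩ : ∃ n ∈ NF r (zpowers z) r, u * n ≠ n * u := by
      by_contra hcon
      push Not at hcon
      apply huQ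
      rw [QF_eq b hr]
      exact UN b hr hr1 (zpowers_le_cz hz) (fun h => hz1 (zpowers_eq_bot.1 h)) hu hcon
    refine ⟨u, ?_, n, ?_, fun h3 => hne h3.symm⟩
    · rw [hU]; exact hu
    · rw [← NF_gen]; exact hn

end main

/-- **THE TRANSVECTION STATEMENT in the position `Pos`** -/
theorem ts0 : TS0.{u, v} := by
  intro G _ _ S P V ι R o r z p
  have b := p.toHT
  obtain ⟨j, -, hj, -, -⟩ := b.one_lt
  obtain ⟨t, ht1, -, ht⟩ := b.exists_gen j
  have key : ∃ z' ∈ zc (S : Subgroup G) ⊓ centralizer (P : Set G), z' ≠ 1 ∧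
      JEnd (ME V R o (zpowers z')) r QF (NF r (zpowers z')) z' := by
    by_cases hα : UM V (HOne.JunAB.MZ S V R) ≤ QQ (R o)
    · exact jend_z b p.r_iff p.r_ne hj ht ht1 p.z_mem p.z_ne hα
    · exact ⟨z, p.z_mem, p.z_ne, jend_Z b p.r_iff p.r_ne hj ht ht1 p.z_mem p.z_ne hα⟩
  obtain ⟨z', hz', hz1', hJ⟩ := key
  exact ⟨z', { p with z_mem := hz', z_ne := hz1' }, tsz b p.r_iff hz' hz1' p.r_sq p.r_ne hJ⟩

/-- the statement `StTS` of the cut -/
theorem stTS (K : Frame.Cls.{u}) : HOne.Cut.StTS K :=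
  fun G _ _ _ _ S _ _ _ _ P V ι R o r z p _ _ => ts0 G S P V ι R o r z p

end Cfsg.Agent.Omega.HTwo.TSMain
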