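import Cfsg.Agent.Omega.HTwo.SysSymp
import Cfsg.Agent.ParSys.RankTwo

/-!
# Flags of subgroups in an elementary abelian 2-group with a symplectic form

`SData C U z f` (SysSymp.lean); `Flg C U z f m X` : `X 0 = ⟨z⟩ < X 1 < ... < X m` is a maximal flag of isotropic subgroups
of `U`, `|X d| = 2 ^ (d + 1)`, `|U| = 2 ^ (2 m + 1)`.

`PPs C m X J` : the elements of `C` which normalise `X d` for all `d ≤ m`, `d ∉ J`.

* `exists_flg` : an `S`-invariant maximal flag through an `S`-invariant partial one, `S = PPs C m X ∅` (`S ≤ C` Sylow);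
* `Flg.relIndex` : `|PPs {j} : PPs ∅| = 3`; `Flg.gpp_two`, `Flg.gpp_three`, `Flg.gpp_four` : the rank two residues;
* `Flg.gen` : `C` is generated by the `PPs {j}`, `1 ≤ j ≤ m`; `Flg.card_le` : `|Q| 2 ^ (m²) ≤ |PPs ∅|`.
-/

set_option autoImplicit false

namespace Cfsg.Agent.Omega.HTwo.SysSymp

open Subgroup Module Cfsg.Agent.ParSys Cfsg.Agent.ParSys.Polar.Flags Cfsg.Agent.ParSys.Polar.Sympl
open Cfsg.Agent.ParSys.Free Cfsg.Agent.ParSys.RankTwo

universe u

variable {G : Type u} [Group G]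

/-- the elements of `C` which normalise `X d` for all `d ≤ m`, `d ∉ J` -/
def PPs (C : Subgroup G) (m : ℕ) (X : ℕ → Subgroup G) (J : Set ℕ) : Subgroup G where
  carrier := {c | c ∈ C ∧ ∀ d ≤ m, d ∉ J → c ∈ normalizer (X d : Set G)}
  one_mem' := ⟨C.one_mem, fun _ _ _ => one_mem _⟩
  mul_mem' := fun ha hb => ⟨mul_mem ha.1 hb.1, fun d hd hJ => mul_mem (ha.2 d hd hJ) (hb.2 d hd hJ)⟩
  inv_mem' := fun ha => ⟨inv_mem ha.1, fun d hd hJ => inv_mem (ha.2 d hd hJ)⟩

theorem mem_PPs {C : Subgroup G} {m : ℕ} {X : ℕ → Subgroup G} {J : Set ℕ} {c : G} :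
    c ∈ PPs C m X J ↔ c ∈ C ∧ ∀ d ≤ m, d ∉ J → c ∈ normalizer (X d : Set G) := Iff.rfl

theorem PPs_le {C : Subgroup G} {m : ℕ} {X : ℕ → Subgroup G} {J : Set ℕ} : PPs C m X J ≤ C := fun _ h => h.1

theorem PPs_mono {C : Subgroup G} {m : ℕ} {X : ℕ → Subgroup G} {J J' : Set ℕ} (h : J ⊆ J') :
    PPs C m X J ≤ PPs C m X J' := fun _ hc => ⟨hc.1, fun d hd hJ => hc.2 d hd fun h' => hJ (h h')⟩

theorem PPs_congr {C : Subgroup G} {m : ℕ} {X X' : ℕ → Subgroup G} (h : ∀ d ≤ m, X d = X' d) (J : Set ℕ) :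
    PPs C m X J = PPs C m X' J := by
  ext c
  rw [mem_PPs, mem_PPs]
  exact and_congr_right fun _ => forall_congr' fun d => forall_congr' fun hd => by rw [h d hd]

/-- a maximal flag of isotropic subgroups -/
structure Flg (U : Subgroup G) (z : G) (f : G → G → ZMod 2) (m : ℕ) (X : ℕ → Subgroup G) : Prop where
  zero : ∀ x, x ∈ X 0 ↔ x = 1 ∨ x = z
  mono : ∀ d < m, X d ≤ X (d + 1)
  le : X m ≤ U
  card : ∀ d ≤ m, Nat.card (X d) = 2 ^ (d + 1)
  iso : ∀ x ∈ X m, ∀ y ∈ X m, f x y = 0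
  card_U : Nat.card U = 2 ^ (2 * m + 1)

namespace Flg

variable {U : Subgroup G} {z : G} {f : G → G → ZMod 2} {m : ℕ} {X : ℕ → Subgroup G} (F : Flg U z f m X)
include F

theorem mono' {a b : ℕ} (hab : a ≤ b) (hb : b ≤ m) : X a ≤ X b := by
  induction b, hab using Nat.le_induction with
  | base => exact le_rfl
  | succ b hab ih => exact (ih (by omega)).trans (F.mono b (by omega))

theorem le_U {d : ℕ} (hd : d ≤ m) : X d ≤ U := (F.mono' hd le_rfl).trans F.le

theorem z_mem {d : ℕ} (hd : d ≤ m) : z ∈ X d := F.mono' (Nat.zero_le d) hd ((F.zero z).2 (Or.inr rfl))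

end Flg

section translate

variable {C U : Subgroup G} {z : G} {f : G → G → ZMod 2} (D : SData C U z f)
  {W : Type*} [AddCommGroup W] [Module (ZMod 2) W] {w : G → W} (K : Md U z w)

/-- the subgroup of a subspace -/
def sg (D : SData C U z f) (K : Md U z w) (X : Submodule (ZMod 2) W) : Subgroup G where
  carrier := {u | u ∈ U ∧ w u ∈ X}
  one_mem' := ⟨U.one_mem, by rw [K.w_one]; exact X.zero_mem⟩
  mul_mem' := fun {a b} ha hb => ⟨mul_mem ha.1 hb.1, by rw [K.mul a ha.1 b hb.1]; exact X.add_mem ha.2 hb.2⟩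
  inv_mem' := fun {a} ha => by
    have : a⁻¹ = a := by
      rw [inv_eq_iff_mul_eq_one]; exact D.U_sq a ha.1
    rw [this]; exact ha

theorem mem_sg {X : Submodule (ZMod 2) W} {u : G} : u ∈ sg D K X ↔ u ∈ U ∧ w u ∈ X := Iff.rfl

theorem sg_le {X : Submodule (ZMod 2) W} : sg D K X ≤ U := fun _ h => h.1

theorem z_mem_sg {X : Submodule (ZMod 2) W} : z ∈ sg D K X := ⟨D.z_U, by rw [K.wz]; exact X.zero_mem⟩

theorem sg_mono {X Y : Submodule (ZMod 2) W} : sg D K X ≤ sg D K Y ↔ X ≤ Y := by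
  constructor
  · intro h x hx
    obtain ⟨u, hu, rfl⟩ := K.sur x
    exact (h (⟨hu, hx⟩ : u ∈ sg D K X)).2
  · exact fun h u hu => ⟨hu.1, h hu.2⟩

theorem sm_sg {X : Submodule (ZMod 2) W} : sm D K (sg D K X) = X := by
  ext x
  constructor
  · rintro ⟨u, hu, rfl⟩
    exact hu.1.2
  · intro hx
    obtain ⟨u, hu, rfl⟩ := K.sur x
    exact ⟨u, ⟨⟨hu, hx⟩, hu⟩, rfl⟩

theorem sg_sm {A : Subgroup G} (hz : z ∈ A) (hA : A ≤ U) : sg D K (sm D K A) = A := by
  ext u
  rw [mem_sg]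
  exact ⟨fun h => (w_mem_sm D K hz h.1).1 h.2, fun h => ⟨hA h, (w_mem_sm D K hz (hA h)).2 h⟩⟩

/-- `|sg X| = 2 |X|` -/
theorem card_sg [Finite G] [Finite W] (hz1 : z ≠ 1) (X : Submodule (ZMod 2) W) :
    Nat.card (sg D K X) = 2 ^ (finrank (ZMod 2) X + 1) := by
  have hfd : FiniteDimensional (ZMod 2) W := Module.Finite.of_finite
  let φ : ↥(sg D K X) →* Multiplicative ↥X :=
    { toFun := fun u => Multiplicative.ofAdd ⟨w u, u.2.2⟩
      map_one' := by
        have : (⟨w ((1 : ↥(sg D K X)) : G), (1 : ↥(sg D K X)).2.2⟩ : ↥X) = 0 := Subtype.ext K.w_one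
        rw [this]; rfl
      map_mul' := fun a b => by
        have : (⟨w ((a * b : ↥(sg D K X)) : G), (a * b : ↥(sg D K X)).2.2⟩ : ↥X) =
            ⟨w (a : G), a.2.2⟩ + ⟨w (b : G), b.2.2⟩ := Subtype.ext (K.mul a a.2.1 b b.2.1)
        rw [this]; rfl }
  have hs : Function.Surjective φ := by
    intro y
    obtain ⟨u, hu, h⟩ := K.sur ((Multiplicative.toAdd y : ↥X) : W)
    refine ⟨⟨u, hu, by rw [h]; exact (Multiplicative.toAdd y).2⟩, ?_⟩
    show Multiplicative.ofAdd _ = y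
    have : (⟨w u, by rw [h]; exact (Multiplicative.toAdd y).2⟩ : ↥X) = Multiplicative.toAdd y := Subtype.ext h
    rw [this]; rfl
  have hk : Nat.card φ.ker = 2 := by
    rw [Nat.card_eq_two_iff]
    have h1 : ∀ x : ↥(sg D K X), x ∈ φ.ker ↔ (x : G) = 1 ∨ (x : G) = z := by
      intro x
      rw [MonoidHom.mem_ker]
      constructor
      · intro h
        have h2 : (⟨w (x : G), x.2.2⟩ : ↥X) = 0 := h
        exact K.ker x x.2.1 (congrArg Subtype.val h2)
      · intro h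
        have h2 : (⟨w (x : G), x.2.2⟩ : ↥X) = 0 := by
          apply Subtype.ext
          show w (x : G) = 0
          rcases h with h | h
          · rw [h, K.w_one]
          · rw [h, K.wz]
        show Multiplicative.ofAdd _ = _
        rw [h2]; rfl
    refine ⟨1, ⟨⟨z, z_mem_sg D K⟩, (h1 _).2 (Or.inr rfl)⟩, ?_, ?_⟩
    · intro h
      have h2 := congrArg (fun x : φ.ker => ((x : ↥(sg D K X)) : G)) h
      exact hz1 h2.symm
    · ext x
      simp only [Set.mem_insert_iff, Set.mem_singleton_iff, Set.mem_univ, iff_true]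
      rcases (h1 x).1 x.2 with h | h
      · left; exact Subtype.ext (Subtype.ext h)
      · right; exact Subtype.ext (Subtype.ext h)
  have h1 := Subgroup.card_eq_card_quotient_mul_card_subgroup φ.ker
  rw [Nat.card_congr (QuotientGroup.quotientKerEquivOfSurjective φ hs).toEquiv, hk] at h1
  rw [h1, pow_succ]
  congr 1
  have h2 : Nat.card (Multiplicative ↥X) = Nat.card ↥X := rfl
  rw [h2, Module.natCard_eq_pow_finrank (K := ZMod 2), Nat.card_eq_fintype_card, ZMod.card]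

/-- `c` fixes the subspace iff it normalises the subgroup -/
theorem sigma_sm [Finite W] {A : Subgroup G} (hz : z ∈ A) (hA : A ≤ U) (c : ↥C) :
    sigma D K c (sm D K A) = sm D K A ↔ (c : G) ∈ normalizer (A : Set G) := by
  have key : ∀ c : ↥C, sigma D K c (sm D K A) = sm D K A ↔ ∀ u ∈ A, (c : G) * u * (c : G)⁻¹ ∈ A := by
    intro c
    rw [sigma_eq_iff]
    constructor
    · intro h u hu
      exact (w_mem_sm D K hz (D.U_C c c.2 u (hA hu))).1 (h u (hA hu) ((w_mem_sm D K hz (hA hu)).2 hu))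
    · intro h u hu hA'
      exact (w_mem_sm D K hz (D.U_C c c.2 u hu)).2 (h u ((w_mem_sm D K hz hu).1 hA'))
  constructor
  · intro h
    have h1 := (key c).1 h
    have h2 : sigma D K c⁻¹ (sm D K A) = sm D K A := by
      rw [map_inv, Equiv.Perm.inv_eq_iff_eq]; exact h.symm
    have h3 := (key c⁻¹).1 h2
    rw [Subgroup.mem_normalizer_iff]
    intro u
    constructor
    · exact h1 u
    · intro hu
      have h4 := h3 _ hu
      have e : ((c⁻¹ : ↥C) : G) * ((c : G) * u * (c : G)⁻¹) * ((c⁻¹ : ↥C) : G)⁻¹ = u := by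
        rw [Subgroup.coe_inv]; group
      rwa [e] at h4
  · intro h
    rw [key]
    exact fun u hu => (Subgroup.mem_normalizer_iff.1 h u).1 hu

/-- the polar space structure of a flag -/
theorem pol [Finite G] [Finite W] (hz1 : z ≠ 1) {m : ℕ} {X : ℕ → Subgroup G} (F : Flg U z f m X) :
    Pol C (gf K f) (rho D K) (sigma D K) m (fun d => sm D K (X d)) := by
  have hfd : FiniteDimensional (ZMod 2) W := Module.Finite.of_finite
  have hcard : ∀ A : Subgroup G, z ∈ A → A ≤ U → ∀ n, Nat.card A = 2 ^ (n + 1) → finrank (ZMod 2) (sm D K A) = n := by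
    intro A hz hA n hn
    have h1 := card_sg D K hz1 (sm D K A)
    rw [sg_sm D K hz hA, hn] at h1
    have := Nat.pow_right_injective (le_refl 2) h1
    omega
  have hTI : ∀ A : Subgroup G, A ≤ U → (∀ x ∈ A, ∀ y ∈ A, f x y = 0) → TI (gf K f) (sm D K A) := by
    rintro A hA h _ ⟨u, hu, rfl⟩ _ ⟨v, hv, rfl⟩
    rw [gf_w D K hu.2 hv.2]
    exact h u hu.1 v hv.1
  have hfl : Fl (TI (gf K f)) m (fun d => sm D K (X d)) := by
    refine ⟨fun d hd => ?_, fun d hd => hcard _ (F.z_mem hd) (F.le_U hd) _ (F.card d hd), hTI _ F.le F.iso⟩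
    rintro _ ⟨u, hu, rfl⟩
    exact ⟨u, ⟨F.mono d hd hu.1, hu.2⟩, rfl⟩
  obtain ⟨m', hm'⟩ := (symp D K).exists_witt
  have h1 := (symp D K).finrank_eq hm'
  have h2 : Nat.card U = 2 ^ (finrank (ZMod 2) W + 1) := by
    have h3 := card_sg D K hz1 (⊤ : Submodule (ZMod 2) W)
    have h4 : sg D K (⊤ : Submodule (ZMod 2) W) = U := by
      ext u; rw [mem_sg]; simp
    rw [h4, finrank_top] at h3
    exact h3
  rw [F.card_U] at h2
  have h3 := Nat.pow_right_injective (le_refl 2) h2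
  obtain rfl : m' = m := by omega
  exact ⟨symp D K, sact D K, hm', hfl⟩

theorem fst_eq [Finite W] {m : ℕ} {X : ℕ → Subgroup G} (F : Flg U z f m X) (J : Set ℕ) :
    fst C (sigma D K) m (fun d => sm D K (X d)) J = PPs C m X J := by
  ext c
  rw [mem_PPs, mem_fst]
  constructor
  · rintro ⟨hc, h⟩
    exact ⟨hc, fun d hd hJ => (sigma_sm D K (F.z_mem hd) (F.le_U hd) ⟨c, hc⟩).1 (h d hd hJ)⟩
  · rintro ⟨hc, h⟩
    exact ⟨hc, fun d hd hJ => (sigma_sm D K (F.z_mem hd) (F.le_U hd) ⟨c, hc⟩).2 (h d hd hJ)⟩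

end translate

/-! ### The flag stabilisers -/

section flag

variable [Finite G] {C U : Subgroup G} {z : G} {f : G → G → ZMod 2} (D : SData C U z f) (hz1 : z ≠ 1)
  {m : ℕ} {X : ℕ → Subgroup G}

theorem card_zmod_two : Nat.card (ZMod 2) = 2 := by rw [Nat.card_eq_fintype_card, ZMod.card]

include D hz1

namespace Flg

variable (F : Flg U z f m X)
include F

/-- **every panel has three chambers** -/
theorem relIndex {j : ℕ} (hj1 : 1 ≤ j) (hj : j ≤ m) : (PPs C m X ∅).relIndex (PPs C m X {j}) = 3 := by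
  obtain ⟨W, _, _, w, K, hW⟩ := exists_md D
  have := hW inferInstance
  have hfd : FiniteDimensional (ZMod 2) W := Module.Finite.of_finite
  rw [← fst_eq D K F, ← fst_eq D K F, (pol D K hz1 F).relIndex hj1 hj, card_zmod_two]

/-- **`C` is generated by the panel stabilisers** -/
theorem gen (hm1 : 1 ≤ m) {N : Subgroup G} (hN : ∀ j, 1 ≤ j → j ≤ m → PPs C m X {j} ≤ N) : C ≤ N := by
  obtain ⟨W, _, _, w, K, hW⟩ := exists_md D
  have := hW inferInstance
  have hfd : FiniteDimensional (ZMod 2) W := Module.Finite.of_finite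
  exact (pol D K hz1 F).gen hm1 fun j h1 h2 => by rw [fst_eq D K F]; exact hN j h1 h2

/-- **the order of the chamber stabiliser** -/
theorem card_le {Q : Subgroup G} (hQC : Q ≤ C)
    (hQ : ∀ x ∈ Q, ∀ u ∈ U, x * u * x⁻¹ = u ∨ x * u * x⁻¹ = u * z) :
    Nat.card Q * 2 ^ (m ^ 2) ≤ Nat.card (PPs C m X ∅) := by
  obtain ⟨W, _, _, w, K, hW⟩ := exists_md D
  have := hW inferInstance
  have hfd : FiniteDimensional (ZMod 2) W := Module.Finite.of_finite
  have h1 := (pol D K hz1 F).card_le hQC (fun x hx v => by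
    obtain ⟨u, hu, rfl⟩ := K.sur v
    rw [rho_w D K _ hu]
    exact (w_eq_iff D K (D.U_C x (hQC hx) u hu) hu).2 (hQ x hx u hu))
  rwa [fst_eq D K F, card_zmod_two] at h1

/-- **the chamber stabiliser is self-normalising** -/
theorem self_norm {x : G} (hx : x ∈ C) (h : ∀ b ∈ PPs C m X ∅, x⁻¹ * b * x ∈ PPs C m X ∅) :
    x ∈ PPs C m X ∅ := by
  obtain ⟨W, _, _, w, K, hW⟩ := exists_md D
  have := hW inferInstance
  have hfd : FiniteDimensional (ZMod 2) W := Module.Finite.of_finite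
  rw [← fst_eq D K F] at h ⊢
  exact (pol D K hz1 F).self_norm hx h

section res

variable {I : Type*} {P : I → Subgroup G} {a b : I} {i j : ℕ} (hB : ∀ k, PPs C m X ∅ ≤ P k)
  (ha : P a = PPs C m X {i}) (hb : P b = PPs C m X {j})
include hB ha hb

theorem gpp_two (hij : i + 1 < j) (hj : j ≤ m) :
    GPp (PPs C m X ∅) P a b 2 ∧ GPp (PPs C m X ∅) P b a 2 := by
  obtain ⟨W, _, _, w, K, hW⟩ := exists_md D
  have := hW inferInstance
  have hfd : FiniteDimensional (ZMod 2) W := Module.Finite.of_finite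
  rw [← fst_eq D K F] at hB ha hb ⊢
  exact (pol D K hz1 F).rk_two hB ha hb hij hj

theorem gpp_three (hi : 1 ≤ i) (hij : i + 1 = j) (hj : j < m) :
    GPp (PPs C m X ∅) P a b 3 ∧ GPp (PPs C m X ∅) P b a 3 := by
  obtain ⟨W, _, _, w, K, hW⟩ := exists_md D
  have := hW inferInstance
  have hfd : FiniteDimensional (ZMod 2) W := Module.Finite.of_finite
  rw [← fst_eq D K F] at hB ha hb ⊢
  exact (pol D K hz1 F).rk_three hB ha hb hi hij hj

theorem gpp_four (hi : 1 ≤ i) (hij : i + 1 = j) (hj : j = m) :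
    GPp (PPs C m X ∅) P a b 4 ∧ GPp (PPs C m X ∅) P b a 4 := by
  obtain ⟨W, _, _, w, K, hW⟩ := exists_md D
  have := hW inferInstance
  have hfd : FiniteDimensional (ZMod 2) W := Module.Finite.of_finite
  rw [← fst_eq D K F] at hB ha hb ⊢
  exact (pol D K hz1 F).rk_four hB ha hb hi hij hj

end res

end Flg

/-- **a Sylow 2-subgroup of `C` is the stabiliser of a maximal flag** through a given `S`-invariant partial flag
`X 0 = ⟨z⟩ < X 1 < ... < X k` -/
theorem exists_flg (S : Sylow 2 G) (hS : (S : Subgroup G) ≤ C)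
    (hker : ∀ c ∈ C, (∀ u ∈ U, c * u = u * c) → ∃ n, c ^ 2 ^ n = 1) {k : ℕ} {Y : ℕ → Subgroup G}
    (h0 : ∀ x, x ∈ Y 0 ↔ x = 1 ∨ x = z) (hmono : ∀ d < k, Y d ≤ Y (d + 1)) (hU : Y k ≤ U)
    (hcard : ∀ d ≤ k, Nat.card (Y d) = 2 ^ (d + 1)) (hiso : ∀ x ∈ Y k, ∀ y ∈ Y k, f x y = 0)
    (hinv : ∀ d ≤ k, (S : Subgroup G) ≤ normalizer (Y d : Set G)) :
    ∃ (m : ℕ) (X : ℕ → Subgroup G), k ≤ m ∧ Flg U z f m X ∧ (∀ d ≤ k, X d = Y d) ∧
      PPs C m X ∅ = (S : Subgroup G) := by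
  obtain ⟨W, _, _, w, K, hW⟩ := exists_md D
  have := hW inferInstance
  have hfd : FiniteDimensional (ZMod 2) W := Module.Finite.of_finite
  have hY : ∀ d ≤ k, Y d ≤ Y k := by
    intro d hd
    have key : ∀ b, d ≤ b → b ≤ k → Y d ≤ Y b := by
      intro b hb
      induction b, hb using Nat.le_induction with
      | base => exact fun _ => le_rfl
      | succ b hab ih => exact fun h => (ih (by omega)).trans (hmono b (by omega))
    exact key k hd le_rfl
  have hz : ∀ d ≤ k, z ∈ Y d := by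
    intro d hd
    have key : ∀ b, b ≤ k → Y 0 ≤ Y b := by
      intro b
      induction b with
      | zero => exact fun _ => le_rfl
      | succ b ih => exact fun h => (ih (by omega)).trans (hmono b (by omega))
    exact key d hd ((h0 z).2 (Or.inr rfl))
  have hfl : Fl (TI (gf K f)) k (fun d => sm D K (Y d)) := by
    refine ⟨fun d hd => ?_, fun d hd => ?_, ?_⟩
    · rintro _ ⟨u, hu, rfl⟩
      exact ⟨u, ⟨hmono d hd hu.1, hu.2⟩, rfl⟩
    · have h1 := card_sg D K hz1 (sm D K (Y d))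
      rw [sg_sm D K (hz d hd) ((hY d hd).trans hU), hcard d hd] at h1
      have := Nat.pow_right_injective (le_refl 2) h1
      omega
    · rintro _ ⟨u, hu, rfl⟩ _ ⟨v, hv, rfl⟩
      rw [gf_w D K hu.2 hv.2]
      exact hiso u hu.1 v hv.1
  obtain ⟨m, fl, hkm, P, h1, h2⟩ := exists_pol D K S hS hker hfl (fun s hs d hd u hu hw => by
    have h3 : u ∈ Y d := (w_mem_sm D K (hz d hd) hu).1 hw
    exact (w_mem_sm D K (hz d hd) (D.U_C s (hS hs) u hu)).2 ((Subgroup.mem_normalizer_iff.1 (hinv d hd hs) u).1 h3))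
  have hF : Flg U z f m (fun d => sg D K (fl d)) := by
    refine ⟨fun x => ?_, fun d hd => (sg_mono D K).2 (P.hf.mono d hd), sg_le D K, fun d hd => ?_, ?_, ?_⟩
    · rw [mem_sg, P.hf.zero, Submodule.mem_bot]
      constructor
      · rintro ⟨hx, h3⟩
        exact K.ker x hx h3
      · rintro (rfl | rfl)
        · exact ⟨U.one_mem, K.w_one⟩
        · exact ⟨D.z_U, K.wz⟩
    · rw [card_sg D K hz1, P.hf.rk d hd]
    · intro x hx y hy
      rw [← gf_w D K hx.1 hy.1]
      exact P.hf.sing _ hx.2 _ hy.2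
    · have h3 := card_sg D K hz1 (⊤ : Submodule (ZMod 2) W)
      have h4 : sg D K (⊤ : Submodule (ZMod 2) W) = U := by
        ext u; rw [mem_sg]; simp
      rw [h4, finrank_top, P.H.finrank_eq P.hm] at h3
      exact h3
  refine ⟨m, fun d => sg D K (fl d), hkm, hF, fun d hd => ?_, ?_⟩
  · show sg D K (fl d) = Y d
    rw [h1 d hd, sg_sm D K (hz d hd) ((hY d hd).trans hU)]
  · rw [← h2, ← fst_eq D K hF]
    congr 1
    funext d
    exact sm_sg D K

end flag

end Cfsg.Agent.Omega.HTwo.SysSymp
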