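import Cfsg.Agent.Omega.HTwo.Hat

/-!
# II.0h1, `q = 2`, after TS(z): the interface between (1)-(5), (6) and (7) of #15507 (helper779)

`C(p) = Cp p`, `Q_p = Qp p = O₂(C(p))`, `ζ_p = Zp p = Z(Q_p)`, `N_p = Np z p = ⟨z^{C(p)}⟩`, `O_M = O₂(M)`.
`M` is any subgroup with `C(p) ∩ C(z) ≤ M ≤ C(z)` for `p ∈ Δ` (so `M = C(z)` is allowed, and `M = ⟨C_{H_1}(z), X⟩`).

* `Res z M U Δ f t` : RESULT A (the output of (1)-(5)): `U ≤ Z(O_M)` elementary abelian, normal in `M`, `f` the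
  `M`-invariant alternating form on `U` with radical `⟨z⟩`, `Δ` the `M`-orbit of singular points, `t p ∈ z^{C(p)}` acts
  on `U` as `u ↦ u (p z)^{f(p, u)}`.
* `Three z Δ t` : the case `|N_p| = 8`: `z^{C(p)} = {z, t_p, p z t_p}`.
* `Out z M U Δ f t r` : the output of (6) for the point `r ∈ Δ` (the input of (7)).
-/

set_option autoImplicit false

namespace Cfsg.Agent.Omega.HTwo.Eight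

open Subgroup Cfsg.Agent.Omega.BTwo

variable {G : Type*} [Group G]

/-- `C(p)` -/
abbrev Cp (p : G) : Subgroup G := centralizer ({p} : Set G)

/-- `Q_p = O₂(C(p))` -/
def Qp (p : G) : Subgroup G := O2 (Cp p)

/-- `ζ_p = Z(Q_p)` -/
def Zp (p : G) : Subgroup G := Qp p ⊓ centralizer (Qp p : Set G)

/-- `N_p = ⟨z^{C(p)}⟩` -/
def Np (z p : G) : Subgroup G := closure {x | ∃ h ∈ Cp p, x = h * z * h⁻¹}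

/-- `K_p = C(N_p)` -/
abbrev Kp (z p : G) : Subgroup G := centralizer (Np z p : Set G)

/-- `L_p = ⟨U^{C(p)}⟩ Q_p` -/
def Lp (U : Subgroup G) (p : G) : Subgroup G := (⨆ h : Cp p, cj (h : G) U) ⊔ Qp p

/-- **RESULT A** (#15507 (1)-(5)). -/
structure Res (z : G) (M U : Subgroup G) (Δ : Set G) (f : G → G → ZMod 2) (t : G → G) : Prop where
  zz : z * z = 1
  z1 : z ≠ 1
  -- `M`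
  M_z : M ≤ Cp z
  M_p : ∀ p ∈ Δ, Cp p ⊓ Cp z ≤ M
  -- `U`
  U_comm : ∀ u ∈ U, ∀ v ∈ U, u * v = v * u
  U_sq : ∀ u ∈ U, u * u = 1
  U_M : ∀ m ∈ M, ∀ u ∈ U, m * u * m⁻¹ ∈ U
  U_O : ∀ o ∈ O2 M, ∀ u ∈ U, o * u = u * o
  U_le : U ≤ O2 M
  z_U : z ∈ U
  -- `Δ`
  Δ_U : ∀ p ∈ Δ, p ∈ U
  Δ_M : ∀ m ∈ M, ∀ p ∈ Δ, m * p * m⁻¹ ∈ Δ
  Δ_tr : ∀ p ∈ Δ, ∀ q ∈ Δ, ∃ m ∈ M, m * p * m⁻¹ = q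
  Δ_1 : (1 : G) ∉ Δ
  Δ_z : z ∉ Δ
  cover : ∀ u ∈ U, u = 1 ∨ u = z ∨ u ∈ Δ ∨ u * z ∈ Δ
  inj : ∀ p ∈ Δ, p * z ∉ Δ
  -- `f`
  f_add : ∀ u ∈ U, ∀ v ∈ U, ∀ w ∈ U, f (u * v) w = f u w + f v w
  f_symm : ∀ u ∈ U, ∀ v ∈ U, f u v = f v u
  f_self : ∀ u ∈ U, f u u = 0
  f_M : ∀ m ∈ M, ∀ u ∈ U, ∀ v ∈ U, f (m * u * m⁻¹) (m * v * m⁻¹) = f u v
  f_rad : ∀ u ∈ U, (∀ v ∈ U, f u v = 0) → u = 1 ∨ u = z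
  f_z : ∀ u ∈ U, f z u = 0
  mul0 : ∀ p ∈ Δ, ∀ q ∈ Δ, p ≠ q → f p q = 0 → p * q ∈ Δ
  mul1 : ∀ p ∈ Δ, ∀ q ∈ Δ, f p q = 1 → p * q * z ∈ Δ
  -- `t`
  t_ZZ : ∀ p ∈ Δ, ∃ h ∈ Cp p, t p = h * z * h⁻¹
  t_0 : ∀ p ∈ Δ, ∀ u ∈ U, f p u = 0 → t p * u = u * t p
  t_1 : ∀ p ∈ Δ, ∀ u ∈ U, f p u = 1 → t p * u * (t p)⁻¹ = u * (p * z)
  -- `Q_p`
  Q_comm : ∀ p ∈ Δ, ∀ x ∈ Qp p, ∀ y ∈ Qp p, x * y = y * x ∨ x * y = p * (y * x)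
  N_Z : ∀ p ∈ Δ, Np z p ≤ Zp p
  N_act : ∀ p ∈ Δ, ∀ n ∈ Np z p, ∀ u ∈ U, n * u * n⁻¹ = u ∨ n * u * n⁻¹ = u * (p * z)
  N_sq : ∀ p ∈ Δ, ∀ n ∈ Np z p, n * n = 1
  Q_f : ∀ p ∈ Δ, ∀ u ∈ U, u ∈ Qp p ↔ f p u = 0
  Q_mv : ∀ p ∈ Δ, ∀ q ∈ Δ, p ≠ q → f p q = 0 → ∃ g ∈ Qp p, g * q * g⁻¹ = q * p

/-- `|N_p| = 8`: `z^{C(p)} = {z, t_p, p z t_p}` -/
def Three (z : G) (Δ : Set G) (t : G → G) : Prop :=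
  ∀ p ∈ Δ, ∀ h ∈ Cp p, h * z * h⁻¹ = z ∨ h * z * h⁻¹ = t p ∨ h * z * h⁻¹ = p * z * t p

/-- the further input of (6) at the point `r`: condition (c), `W_r` is not abelian, `C_M(O_M) ≤ O_M` -/
structure Inp (z : G) (M U : Subgroup G) (Δ : Set G) (r : G) : Prop where
  r_Δ : r ∈ Δ
  cc : ∀ K : Subgroup G, (∀ k ∈ K, k ∈ (⨅ q ∈ Δ, Zp q) ⊔ zpowers r) →
    (∀ h ∈ Cp r, ∀ k ∈ K, h * k * h⁻¹ ∈ K) → ∀ k ∈ K, k = 1 ∨ k = r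
  nab : ∃ h ∈ Cp r, ∃ u ∈ U ⊓ Qp r, ∃ v ∈ U ⊓ Qp r, u * (h * v * h⁻¹) ≠ h * v * h⁻¹ * u
  char2 : ∀ g ∈ M, (∀ o ∈ O2 M, g * o = o * g) → g ∈ O2 M

/-- **The output of (6)** at the point `r`. -/
structure Out (z : G) (M U : Subgroup G) (Δ : Set G) (f : G → G → ZMod 2) (t : G → G) (r : G) : Prop where
  O_M : O2 M = U
  C_U : ∀ g ∈ M, (∀ u ∈ U, g * u = u * g) → g ∈ U
  B_z : ∀ x : G, (∀ q ∈ Δ, x ∈ Zp q) → x = 1 ∨ x = z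
  -- `ζ_r = N_r = ⟨r, z, t_r⟩`, `ζ_r ∩ U = ⟨r, z⟩`
  Z_N : Zp r = Np z r
  N_card : Nat.card (Np z r) = 8
  N_mem : ∀ n ∈ Np z r, (n = 1 ∨ n = r ∨ n = z ∨ n = r * z) ∨
    (n = t r ∨ n = r * t r ∨ n = z * t r ∨ n = r * z * t r)
  N_U : ∀ n ∈ Np z r, n ∈ U → n = 1 ∨ n = r ∨ n = z ∨ n = r * z
  Q_card : Nat.card (Qp r) * 8 = Nat.card U ^ 2
  -- `H_r / Q_r = L_r / Q_r × K_r / Q_r`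
  L_norm : Cp r ≤ normalizer (Lp U r : Set G)
  L_K : Lp U r ⊓ Kp z r = Qp r
  L_sup : Lp U r ⊔ Kp z r = Cp r
  L_card : Nat.card (Lp U r) = 6 * Nat.card (Qp r)
  K_L : ∀ k ∈ Kp z r, ∀ l ∈ Lp U r, k * l * k⁻¹ * l⁻¹ ∈ Qp r
  C_rz : Cp r ⊓ Cp z = Kp z r ⊔ U
  -- `Q_r / ζ_r = Ũ_z ⊕ Ũ_y`, both totally isotropic
  Q_self : ∀ h ∈ Cp r, ∀ x ∈ Qp r, (∀ u ∈ cj h U ⊓ Qp r, x * u = u * x) →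
    ∃ u ∈ cj h U ⊓ Qp r, ∃ n ∈ Np z r, x = u * n
  Q_gen : ∀ h ∈ Cp r, h * z * h⁻¹ ≠ z → ∀ x ∈ Qp r, ∃ u ∈ U ⊓ Qp r, ∃ v ∈ cj h U ⊓ Qp r, ∃ n ∈ Np z r, x = u * v * n
  Q_inf : ∀ h ∈ Cp r, h * z * h⁻¹ ≠ z → ∀ u ∈ U ⊓ Qp r, ∀ v ∈ cj h U ⊓ Qp r, u * v ∈ Np z r →
    u ∈ Np z r ∧ v ∈ Np z r
  -- `K_r` is transitive on the points `≠ r` of `r^⊥`
  K_tr : ∀ p ∈ Δ, ∀ q ∈ Δ, p ≠ r → q ≠ r → f r p = 0 → f r q = 0 → ∃ k ∈ Kp z r, k * p * k⁻¹ = q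

end Cfsg.Agent.Omega.HTwo.Eight
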