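import Cfsg.Agent.Omega.HTwo.Entry
import Cfsg.Agent.Omega.HTwo.AlphaP
import Cfsg.Agent.Omega.HOne.TvHSide
import Cfsg.Agent.Omega.HOneTwo.TransOf

/-!
# II.0h1, `q = 2`: from `HT` to the setting (H) of the transvection statement (`HOne.TvDef`)

`E ≤ C_Z(P)`, `E ≠ 1` (`E = ⟨z⟩` or `E = C_Z(P)`), `ME V R o E = ⟨C_{H₁}(E), X⟩`, `QF s = O₂(C(s))`,
`NF r E s = ⟨e^g : r^g = s, e ∈ E⟩`.

* `tvH` : `TvH (ME V R o E) r t QF (NF r E)` from `beta` and `noPar`;
* `tvS` : `TvS (ME V R o E) S r t (NF r E)`;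
* `beta_z` : `beta` for `E = ⟨z⟩` (helper972's `not_alpha'`); `ME_z` : `ME V R o ⟨z⟩ = MP V R o z`;
* `NF_gen`, `ME_le`, `le_ME`, `o2_red` : the further input of `Trans.TS.ofTv`.
-/

set_option autoImplicit false
set_option linter.unusedSectionVars false

namespace Cfsg.Agent.Omega.HTwo.EntryTv

open Subgroup Cfsg Cfsg.Agent.ZN Cfsg.Agent.Omega.BTwo Cfsg.Agent.Omega.HOneTwo
open Cfsg.Agent.Omega.HTwo.Hat Cfsg.Agent.Omega.HTwo.ThmA Cfsg.Agent.Omega.MinPar
open Cfsg.Agent.Omega.HOne.TvDef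
open Cfsg.Agent.Omega.HTwo.AlphaP (MP not_alpha')

universe u

/-- `O₂(C(s))` -/
def QF {G : Type u} [Group G] (s : G) : Subgroup G := O2 (centralizer ({s} : Set G))

/-- `⟨e^g : r^g = s, e ∈ E⟩` -/
def NF {G : Type u} [Group G] (r : G) (E : Subgroup G) (s : G) : Subgroup G :=
  closure {x | ∃ g, g * r * g⁻¹ = s ∧ ∃ e ∈ E, x = g * e * g⁻¹}

/-- `⟨C_{H₁}(E), X⟩` -/
def ME {G : Type u} [Group G] {ι : Type*} (V : Subgroup G) (R : ι → Subgroup G) (o : ι) (E : Subgroup G) :
    Subgroup G := (normalizer (R o : Set G) ⊓ centralizer (E : Set G)) ⊔ XX V R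

section basic

variable {G : Type u} [Group G]

theorem QF_conj {g s x : G} (hx : x ∈ QF s) : g * x * g⁻¹ ∈ QF (g * s * g⁻¹) := by
  unfold QF at hx ⊢
  rw [← AlphaFive.cj_C g s, ← cj_O2]
  exact conj_mem_cj hx

theorem NF_conj {r : G} {E : Subgroup G} {g s x : G} (hx : x ∈ NF r E s) : g * x * g⁻¹ ∈ NF r E (g * s * g⁻¹) := by
  unfold NF at hx ⊢
  induction hx using closure_induction with
  | mem x hx =>
    obtain ⟨h, rfl, e, he, rfl⟩ := hx
    exact subset_closure ⟨g * h, by group, e, he, by group⟩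
  | one => rw [mul_one, mul_inv_cancel]; exact one_mem _
  | mul x y _ _ hx hy =>
    have : g * (x * y) * g⁻¹ = (g * x * g⁻¹) * (g * y * g⁻¹) := by group
    rw [this]; exact mul_mem hx hy
  | inv x _ hx =>
    have : g * x⁻¹ * g⁻¹ = (g * x * g⁻¹)⁻¹ := by group
    rw [this]; exact inv_mem hx

theorem NF_base {r : G} {E : Subgroup G} : E ≤ NF r E r :=
  fun e he => subset_closure ⟨1, by group, e, he, by group⟩

end basic

section main

variable {G : Type u} [Group G] [Finite G] {ι : Type*} {S : Sylow 2 G} {P V : Subgroup G}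
  {R : ι → Subgroup G} {o : ι} (b : HT S P V R o)

include b

/-- `N(R i) = C(s)`, `s` the involution of `R i` -/
theorem normalizer_eq {i : ι} {s : G} (hs : ∀ x, x ∈ R i ↔ x = 1 ∨ x = s) :
    normalizer (R i : Set G) = centralizer ({s} : Set G) := by
  apply le_antisymm
  · intro x hx
    rw [mem_centralizer_singleton_iff]
    exact (mem_centralizer_iff.1 (normalizer_le_cen_of_card (b.card_R i) hx) s ((hs s).2 (Or.inr rfl))).symm
  · intro x hx
    rw [mem_centralizer_singleton_iff] at hx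
    refine centralizer_le_normalizer _ ?_
    rw [mem_centralizer_iff]
    intro y hy
    rcases (hs y).1 hy with rfl | rfl
    · rw [one_mul, mul_one]
    · exact hx.symm

theorem QF_eq {i : ι} {s : G} (hs : ∀ x, x ∈ R i ↔ x = 1 ∨ x = s) : QF s = QQ (R i) := by
  unfold QF
  rw [← normalizer_eq b hs]

/-- `r t` is the third involution -/
theorem mul_mem_third {i j k : ι} (hij : i ≠ j) (hki : k ≠ i) (hkj : k ≠ j) {s t : G}
    (hs : s ∈ R i) (hs1 : s ≠ 1) (ht : t ∈ R j) (ht1 : t ≠ 1) : s * t ∈ R k := by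
  obtain ⟨l, hl⟩ := b.R_cov _ (mul_mem (b.R_le i hs) (b.R_le j ht))
  have hli : l ≠ i := by
    rintro rfl
    have h1 : t ∈ R l := by
      have := mul_mem (inv_mem hs) hl
      rwa [inv_mul_cancel_left] at this
    exact ht1 (b.eq_one hij h1 ht)
  have hlj : l ≠ j := by
    rintro rfl
    have h1 : s ∈ R l := by
      have := mul_mem hl (inv_mem ht)
      rwa [mul_inv_cancel_right] at this
    exact hs1 (b.eq_one hij hs h1)
  rcases b.eq_of_ne (l := l) hij (Ne.symm hki) (Ne.symm hkj) with h | h | h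
  · exact absurd h hli
  · exact absurd h hlj
  · rwa [h] at hl

/-- `Q i` moves the involution of `R j` -/
theorem exists_q {i j : ι} (hij : i ≠ j) {s t : G} (hs : s ∈ R i) (hs1 : s ≠ 1) (ht : t ∈ R j) (ht1 : t ≠ 1) :
    ∃ q ∈ QQ (R i), q * t * q⁻¹ = s * t := by
  obtain ⟨k, hki, hkj⟩ := b.third i j
  obtain ⟨w, hw, e⟩ := b.trans i (Ne.symm hij) hki
  refine ⟨w, b.W_le_Q i hw, ?_⟩
  have h1 : w * t * w⁻¹ ∈ R k := by rw [← e]; exact conj_mem_cj ht
  have h2 := mul_mem_third b hij hki hkj hs hs1 ht ht1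
  have h3 : s * t ≠ 1 := by
    intro h
    have h4 : s = t⁻¹ := eq_inv_of_mul_eq_one_left h
    exact hs1 (b.eq_one hij hs (h4 ▸ inv_mem ht))
  exact eq_of_card_two (b.card_R k) h2 h3 h1 (fun h => ht1 (conj_eq_one_iff.1 h))

variable {r : G} (hr : ∀ x, x ∈ R o ↔ x = 1 ∨ x = r) (hr1 : r ≠ 1) {E : Subgroup G}
  (hE : E ≤ zc (S : Subgroup G) ⊓ centralizer (P : Set G)) (hE1 : E ≠ ⊥)

include hE

theorem E_cenX : E ≤ CenX V R := hE.trans b.cz_le

theorem X_le_cenE : XX V R ≤ centralizer (E : Set G) := by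
  have h1 : E ≤ centralizer (XX V R : Set G) := hE.trans b.cz_le
  exact le_centralizer_iff.1 h1

theorem S_le_cenE : (S : Subgroup G) ≤ centralizer (E : Set G) := by
  intro s hs
  rw [mem_centralizer_iff]
  exact fun e he => ((ZN.mem_zc.1 (hE he).1).2.1 s hs).symm

theorem ME_le_cen : ME V R o E ≤ centralizer (E : Set G) := sup_le inf_le_right (X_le_cenE b hE)

theorem S_le_ME : (S : Subgroup G) ≤ ME V R o E :=
  (le_inf b.S_R (S_le_cenE b hE)).trans le_sup_left

theorem Q_le_ME : QQ (R o) ≤ ME V R o E := b.Q_le_S.trans (S_le_ME b hE)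

omit hE in
theorem X_le_ME : XX V R ≤ ME V R o E := by
  have _ := b
  exact le_sup_right

theorem Qi_le_ME (i : ι) : QQ (R i) ≤ ME V R o E := by
  obtain ⟨x, hx, e⟩ := b.trans_X_one o i
  rw [← b.cj_QQ e, cj_le_iff]
  intro q hq
  exact mul_mem (mul_mem (X_le_ME b hx) (Q_le_ME b hE hq)) (inv_mem (X_le_ME b hx))

omit hE in
theorem V_le_X : V ≤ XX V R := by
  obtain ⟨i⟩ := b.toBT.nonempty
  exact (V_le_WW V (R i)).trans (W_le_X V R i)

include hr in
omit hE in
theorem exists_X {v : G} (hv : v ∈ V) (hv1 : v ≠ 1) : ∃ c ∈ XX V R, c * r * c⁻¹ = v :=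
  AlphaP.exists_conj_X b hr hv hv1

include hr hr1 in
/-- `⟨r^M⟩ = ⟨V^M⟩` for `M ≥ X` -/
theorem UU_eq {M : Subgroup G} (hX : XX V R ≤ M) : UU M r = UM V M := by
  apply le_antisymm
  · show closure (Om M r) ≤ UM V M
    rw [closure_le]
    rintro _ ⟨m, hm, rfl⟩
    exact cj_le_cl hm (conj_mem_cj (b.R_le o ((hr r).2 (Or.inr rfl))))
  · refine cl_le ?_ ?_
    · intro v hv
      by_cases hv1 : v = 1
      · rw [hv1]; exact one_mem _
      obtain ⟨c, hc, rfl⟩ := exists_X b hr hv hv1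
      exact subset_closure ⟨c, hX hc, rfl⟩
    · intro m hm
      rw [← cj_eq_self_iff]
      have key : ∀ m ∈ M, cj m (UU M r) ≤ UU M r := by
        intro m hm
        rw [cj_le_iff]
        intro x hx
        change x ∈ closure (Om M r) at hx
        change m * x * m⁻¹ ∈ closure (Om M r)
        induction hx using closure_induction with
        | mem x hx =>
          obtain ⟨k, hk, rfl⟩ := hx
          exact subset_closure ⟨m * k, mul_mem hm hk, by group⟩
        | one => rw [mul_one, mul_inv_cancel]; exact one_mem _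
        | mul x y _ _ hx hy =>
          have : m * (x * y) * m⁻¹ = (m * x * m⁻¹) * (m * y * m⁻¹) := by group
          rw [this]; exact mul_mem hx hy
        | inv x _ hx =>
          have : m * x⁻¹ * m⁻¹ = (m * x * m⁻¹)⁻¹ := by group
          rw [this]; exact inv_mem hx
      apply le_antisymm (key m hm)
      have h1 := cj_mono (g := m) (key m⁻¹ (inv_mem hm))
      rwa [cj_cj_inv] at h1

include hr hr1 hE1

/-- `U` is abelian, in `Ω₁(Z(O₂(C(e))))` -/
theorem UU_le : ∃ z ∈ E, z ≠ 1 ∧ UU (ME V R o E) r ≤ UM V (centralizer ({z} : Set G)) ∧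
    z ∈ zc (S : Subgroup G) ⊓ centralizer (P : Set G) := by
  obtain ⟨⟨z, hz⟩, hz1⟩ := (Subgroup.ne_bot_iff_exists_ne_one).1 hE1
  refine ⟨z, hz, fun e => hz1 (Subtype.ext e), ?_, hE hz⟩
  rw [UU_eq b hr hr1 hE (X_le_ME b)]
  refine cl_le (le_cl _ _) ?_
  refine le_trans ?_ (le_normalizer_cl V _)
  refine (ME_le_cen b hE).trans (centralizer_le ?_)
  rintro _ rfl
  exact hz

theorem UU_comm {u v : G} (hu : u ∈ UU (ME V R o E) r) (hv : v ∈ UU (ME V R o E) r) : u * v = v * u := by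
  obtain ⟨z, -, hz1, h1, h2⟩ := UU_le b hr hr1 hE hE1
  exact (b.dt h2 hz1).U_comm (h1 hu) (h1 hv)

theorem UU_sq {u : G} (hu : u ∈ UU (ME V R o E) r) : u * u = 1 := by
  obtain ⟨z, -, hz1, h1, h2⟩ := UU_le b hr hr1 hE hE1
  exact (b.dt h2 hz1).U_sq (h1 hu)

theorem UU_le_cenV : UU (ME V R o E) r ≤ centralizer (V : Set G) := by
  obtain ⟨z, -, hz1, h1, h2⟩ := UU_le b hr hr1 hE hE1
  exact h1.trans (b.dt h2 hz1).U_le_cen

theorem UU_pgroup : IsPGroup 2 (UU (ME V R o E) r) := by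
  rintro ⟨x, hx⟩
  refine ⟨1, Subtype.ext ?_⟩
  show x ^ 2 ^ 1 = 1
  rw [pow_one, pow_two]
  exact UU_sq b hr hr1 hE hE1 hx

omit hE1 in
theorem M_norm_UU {m u : G} (hm : m ∈ ME V R o E) (hu : u ∈ UU (ME V R o E) r) :
    m * u * m⁻¹ ∈ UU (ME V R o E) r := by
  rw [UU_eq b hr hr1 hE (X_le_ME b)] at hu ⊢
  exact conj_mem_of_normalizer (le_normalizer_cl V _ hm) hu

omit hE1 hr1 in
theorem E_cen_Q (i : ι) : E ≤ centralizer (QQ (R i) : Set G) := by
  have h1 := (E_cenX b hE).trans (cenX_le_ZQ b.toBTS (Alpha.HT.le_all b) i)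
  exact h1.trans inf_le_right

omit hE1 in
/-- `N r ≤ C(Q r)` -/
theorem NF_le : NF r E r ≤ centralizer (QQ (R o) : Set G) := by
  unfold NF
  rw [closure_le]
  rintro _ ⟨g, hg, e, he, rfl⟩
  have h1 : g ∈ normalizer (R o : Set G) := by
    rw [normalizer_eq b hr, mem_centralizer_singleton_iff]
    exact mul_inv_eq_iff_eq_mul.1 hg
  exact conj_mem_of_normalizer (normalizer_le_normalizer_centralizer _ (le_normalizer_O2 _ h1))
    (E_cen_Q b hr hE o he)

omit hE1 in
theorem ZC_le : centralizer (QQ (R o) : Set G) ≤ QQ (R o) := by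
  intro x hx
  have h1 : r ∈ QQ (R o) := b.V_Q o (b.R_le o ((hr r).2 (Or.inr rfl)))
  have h2 : x ∈ centralizer ({r} : Set G) := by
    rw [mem_centralizer_singleton_iff]
    exact (mem_centralizer_iff.1 hx r h1).symm
  rw [← normalizer_eq b hr] at h2
  exact b.cenQ o (mem_inf.2 ⟨h2, hx⟩)

omit hE1 in
/-- `H₁` normalises `N r` -/
theorem H_norm_NF : normalizer (R o : Set G) ≤ normalizer (NF r E r : Set G) := by
  have _ := hE
  refine HOne.TvHSide.le_normalizer_of fun g hg x hx => ?_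
  rw [normalizer_eq b hr, mem_centralizer_singleton_iff] at hg
  have h1 := NF_conj (g := g) hx
  have h2 : g * r * g⁻¹ = r := by rw [hg, mul_inv_cancel_right]
  rwa [h2] at h1

omit hE1 in
theorem NF_comm {m n : G} (hm : m ∈ NF r E r) (hn : n ∈ NF r E r) : m * n = n * m := by
  have h1 := NF_le b hr hr1 hE hm
  have h2 := ZC_le b hr hr1 hE (NF_le b hr hr1 hE hn)
  exact (mem_centralizer_iff.1 h1 n h2).symm

omit hE1 in
theorem NF_sq {n : G} (hn : n ∈ NF r E r) : n * n = 1 := by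
  have key : ∀ n ∈ NF r E r, n ∈ NF r E r ∧ n * n = 1 := by
    intro n hn
    unfold NF at hn
    induction hn using closure_induction with
    | mem x hx =>
      have h0 : x ∈ NF r E r := subset_closure hx
      obtain ⟨g, hg, e, he, rfl⟩ := hx
      refine ⟨h0, ?_⟩
      have h1 : e * e = 1 := by rw [← pow_two]; exact (ZN.mem_zc.1 (hE he).1).2.2
      calc g * e * g⁻¹ * (g * e * g⁻¹) = g * (e * e) * g⁻¹ := by group
        _ = 1 := by rw [h1]; group
    | one => exact ⟨one_mem _, one_mul 1⟩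
    | mul x y _ _ hx hy =>
      refine ⟨mul_mem hx.1 hy.1, ?_⟩
      have h1 := NF_comm b hr hr1 hE hx.1 hy.1
      calc x * y * (x * y) = x * (y * x) * y := by group
        _ = (x * x) * (y * y) := by rw [← h1]; group
        _ = 1 := by rw [hx.2, hy.2, one_mul]
    | inv x _ hx => exact ⟨inv_mem hx.1, by rw [← mul_inv_rev, hx.2, inv_one]⟩
  exact (key n hn).2

/-- `C_U(N r) ≤ Q r` -/
theorem UN {u : G} (hu : u ∈ UU (ME V R o E) r) (h : ∀ n ∈ NF r E r, u * n = n * u) : u ∈ QQ (R o) := by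
  set U := UU (ME V R o E) r with hU
  set C := normalizer (R o : Set G) ⊓ centralizer (NF r E r : Set G) with hC
  have hCM : C ≤ ME V R o E := by
    refine le_trans (inf_le_inf_left _ (centralizer_le ?_)) le_sup_left
    exact fun e he => NF_base he
  have hUN : U ≤ normalizer (R o : Set G) := (UU_le_cenV b hr hr1 hE hE1).trans (b.cen_le_N o)
  have key : U ⊓ centralizer (NF r E r : Set G) ≤ O2 (normalizer (R o : Set G)) := by
    refine le_O2_of_chain (B := C) (C := C) (inf_le_inf_right _ hUN) le_rfl inf_le_left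
      ((UU_pgroup b hr hr1 hE hE1).to_le inf_le_left) ?_ ?_ ?_
    · rintro g hg u ⟨hu, hu'⟩
      exact ⟨M_norm_UU b hr hr1 hE (hCM hg) hu, Hat.cmem hg.2 hu'⟩
    · exact fun g hg x hx => Hat.cmem hg hx
    · rintro g hg x ⟨hx, hx'⟩
      refine mem_inf.2 ⟨Hat.cmem hg hx, ?_⟩
      exact conj_mem_of_normalizer
        (normalizer_le_normalizer_centralizer _ (H_norm_NF b hr hr1 hE hg)) hx'
  refine key (mem_inf.2 ⟨hu, ?_⟩)
  rw [mem_centralizer_iff]
  exact fun n hn => (h n hn).symm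

omit hE1 in
/-- 2-reduced, for every normal subgroup of `H₁` -/
theorem hred (K : Subgroup G) (hK : K ≤ normalizer (R o : Set G))
    (hn : normalizer (R o : Set G) ≤ normalizer (K : Set G))
    (h2 : ∀ x ∈ K, ∃ k : ℕ, x ^ 2 ^ k ∈ centralizer (NF r E r : Set G)) :
    K ≤ centralizer (NF r E r : Set G) := by
  refine HOne.TvHSide.red_of (S := (S : Subgroup G)) (Z₀ := (E : Set G)) b.S_R S.isPGroup'
    (MinSimple.Basic.not_dvd_relIndex S b.S_R) (fun x hx e he => (ZN.mem_zc.1 (hE he).1).2.1 x hx)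
    (H_norm_NF b hr hr1 hE) (fun e he => NF_base he) ?_ K hK hn h2
  unfold NF
  rw [closure_le]
  rintro _ ⟨g, hg, e, he, rfl⟩
  refine subset_closure ⟨g, ?_, e, he, rfl⟩
  rw [normalizer_eq b hr, mem_centralizer_singleton_iff]
  exact mul_inv_eq_iff_eq_mul.1 hg

omit hE1 in
/-- the subgroup of `H₁` which acts trivially on `N r / R` centralises `N r` -/
theorem red {u : G} (hu : u ∈ normalizer (R o : Set G))
    (h : ∀ n ∈ NF r E r, u * n * u⁻¹ * n⁻¹ = 1 ∨ u * n * u⁻¹ * n⁻¹ = r) :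
    ∀ n ∈ NF r E r, u * n = n * u := by
  set N := NF r E r with hN
  set H := normalizer (R o : Set G) with hH
  have hrH : ∀ g ∈ H, g * r = r * g := by
    intro g hg
    rw [hH, normalizer_eq b hr, mem_centralizer_singleton_iff] at hg
    exact hg
  let K : Subgroup G :=
    { carrier := {x | x ∈ H ∧ ∀ n ∈ N, x * n * x⁻¹ * n⁻¹ ∈ R o}
      one_mem' := ⟨one_mem _, fun n _ => by
        have : (1 : G) * n * 1⁻¹ * n⁻¹ = 1 := by group
        rw [this]; exact one_mem _⟩
      mul_mem' := by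
        rintro x y ⟨hx, hx'⟩ ⟨hy, hy'⟩
        refine ⟨mul_mem hx hy, fun n hn => ?_⟩
        have h1 : y * n * y⁻¹ ∈ N := conj_mem_of_normalizer (H_norm_NF b hr hr1 hE hy) hn
        have e : x * y * n * (x * y)⁻¹ * n⁻¹ =
            (x * (y * n * y⁻¹) * x⁻¹ * (y * n * y⁻¹)⁻¹) * (y * n * y⁻¹ * n⁻¹) := by group
        rw [e]
        exact mul_mem (hx' _ h1) (hy' n hn)
      inv_mem' := by
        rintro x ⟨hx, hx'⟩
        refine ⟨inv_mem hx, fun n hn => ?_⟩
        have h1 : x⁻¹ * n * x⁻¹⁻¹ ∈ N := conj_mem_of_normalizer (H_norm_NF b hr hr1 hE (inv_mem hx)) hn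
        rw [inv_inv] at h1
        have e : x⁻¹ * n * x⁻¹⁻¹ * n⁻¹ = (x * (x⁻¹ * n * x) * x⁻¹ * (x⁻¹ * n * x)⁻¹)⁻¹ := by group
        rw [e]
        exact inv_mem (hx' _ h1) }
  have hKH : K ≤ H := fun x hx => hx.1
  have hHK : H ≤ normalizer (K : Set G) := by
    refine HOne.TvHSide.le_normalizer_of ?_
    rintro g hg x ⟨hx, hx'⟩
    refine ⟨mul_mem (mul_mem hg hx) (inv_mem hg), fun n hn => ?_⟩
    have h1 : g⁻¹ * n * g⁻¹⁻¹ ∈ N := conj_mem_of_normalizer (H_norm_NF b hr hr1 hE (inv_mem hg)) hn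
    rw [inv_inv] at h1
    have e : g * x * g⁻¹ * n * (g * x * g⁻¹)⁻¹ * n⁻¹ =
        g * (x * (g⁻¹ * n * g) * x⁻¹ * (g⁻¹ * n * g)⁻¹) * g⁻¹ := by group
    rw [e]
    exact conj_mem_of_normalizer hg (hx' _ h1)
  have hK2 : ∀ x ∈ K, ∃ k : ℕ, x ^ 2 ^ k ∈ centralizer (N : Set G) := by
    rintro x ⟨hx, hx'⟩
    refine ⟨1, ?_⟩
    rw [mem_centralizer_iff, pow_one, pow_two]
    intro n hn
    set f := x * n * x⁻¹ * n⁻¹ with hf
    have hfR := hx' n hn
    have hff : f * f = 1 := b.V_sq f (b.R_le o hfR)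
    have hxf : x * f = f * x := by
      rcases (hr f).1 hfR with h1 | h1
      · rw [h1, one_mul, mul_one]
      · rw [h1]; exact hrH x hx
    have h1 : x * n = f * n * x := by rw [hf]; group
    have h2 : x * x * n = n * (x * x) := by
      calc x * x * n = x * (x * n) := by group
        _ = (x * f) * n * x := by rw [h1]; group
        _ = f * (x * n) * x := by rw [hxf]; group
        _ = (f * f) * n * (x * x) := by rw [h1]; group
        _ = n * (x * x) := by rw [hff, one_mul]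
    exact h2.symm
  have huK : u ∈ K := ⟨hu, fun n hn => by
    rcases h n hn with h1 | h1
    · rw [h1]; exact one_mem _
    · rw [h1]; exact (hr r).2 (Or.inr rfl)⟩
  have h3 := hred b hr hr1 hE K hKH hHK hK2 huK
  exact fun n hn => (mem_centralizer_iff.1 h3 n hn).symm

variable {j : ι} (hj : j ≠ o) {t : G} (ht : ∀ x, x ∈ R j ↔ x = 1 ∨ x = t) (ht1 : t ≠ 1)

include hj ht ht1

omit hE1 in
theorem gen {T : Subgroup G} (h1 : ∀ m ∈ ME V R o E, m * r = r * m → m ∈ T) (h2 : QQ (R o) ≤ T)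
    (h3 : QQ (R j) ≤ T) : ME V R o E ≤ T := by
  refine sup_le ?_ ?_
  · intro m hm
    refine h1 m (mem_sup_left hm) ?_
    have h4 : m ∈ centralizer ({r} : Set G) := by
      rw [← normalizer_eq b hr]; exact hm.1
    rwa [mem_centralizer_singleton_iff] at h4
  · refine iSup_le fun k => ?_
    by_cases hk : k = o
    · rw [hk]; exact (b.W_le_Q o).trans h2
    by_cases hk' : k = j
    · rw [hk']; exact (b.W_le_Q j).trans h3
    obtain ⟨w, hw, e⟩ := b.trans o hj hk
    have hwT : w ∈ T := h2 (b.W_le_Q o hw)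
    rw [← b.cj_WW e, cj_le_iff]
    exact fun x hx => mul_mem (mul_mem hwT (h3 (b.W_le_Q j hx))) (inv_mem hwT)

/-- **from `HT` to (H)** (without `noPar`) -/
theorem tvH0 (hbeta : ∃ u ∈ UU (ME V R o E) r, u ∉ QF r) : TvH0 (ME V R o E) r t QF (NF r E) := by
  have hQr : QF r = QQ (R o) := QF_eq b hr
  have hQt : QF t = QQ (R j) := QF_eq b ht
  have hrR : r ∈ R o := (hr r).2 (Or.inr rfl)
  have htR : t ∈ R j := (ht t).2 (Or.inr rfl)
  have hLE := Alpha.HT.le_all b
  exact
    { Qc := fun g s x hx => QF_conj hx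
      Nc := fun g s x hx => NF_conj hx
      r_sq := b.V_sq r (b.R_le o hrR)
      r_ne := hr1
      t_ne := ht1
      t_ne_r := by
        rintro rfl
        exact ht1 (b.eq_one hj htR hrR)
      Q_le := by rw [hQr]; exact Q_le_ME b hE
      r_mem := by rw [hQr]; exact b.V_Q o (b.R_le o hrR)
      t_mem := by rw [hQr]; exact b.V_Q o (b.R_le j htR)
      Q_comm := by
        rw [hQr]
        intro x hx y hy
        exact (hr _).1 (ThmA.Q_comm b.toBTS (hLE o) hx hy)
      Q_sq := by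
        rw [hQr]
        intro x hx
        exact (hr _).1 (ThmA.Q_sq b.toBTS (hLE o) hx)
      ZC_le := by
        show centralizer (QF r : Set G) ≤ QF r
        rw [hQr]; exact ZC_le b hr hr1 hE
      N_le := by
        show NF r E r ≤ centralizer (QF r : Set G)
        rw [hQr]; exact NF_le b hr hr1 hE
      q12 := by rw [hQr]; exact exists_q b (Ne.symm hj) hrR hr1 htR ht1
      q21 := by
        rw [hQt]
        obtain ⟨q, hq, e⟩ := exists_q b hj htR ht1 hrR hr1
        exact ⟨q, hq, by rw [e, b.V_comm r (b.R_le o hrR) t (b.R_le j htR)]⟩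
      gen := by
        intro T h1 h2 h3
        rw [hQr] at h2
        rw [hQt] at h3
        exact gen b hr hr1 hE hj ht ht1 h1 h2 h3
      Qt_le := by rw [hQt]; exact Qi_le_ME b hE j
      ab := by
        intro m hm
        exact UU_comm b hr hr1 hE hE1 (subset_closure ⟨m, hm, rfl⟩) (subset_closure ⟨1, one_mem _, by group⟩)
      UN := by
        rw [hQr]
        exact fun u hu h => UN b hr hr1 hE hE1 hu h
      ZQ := by
        intro x hx hxt
        rw [hQt] at hxt
        have hx' : x ∈ centralizer (QQ (R o) : Set G) := by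
          have : x ∈ centralizer (QF r : Set G) := hx
          rwa [hQr] at this
        have h1 : x ∈ ZQ R o := ⟨ZC_le b hr hr1 hE hx', hx'⟩
        obtain ⟨a, ha, h2⟩ := ZQ_Q b.toBTS (Ne.symm hj) h1 hxt
        have h3 : a * x ∈ centralizer (QF t : Set G) := by
          rw [hQt]; exact (cenX_le_ZQ b.toBTS hLE j h2).2
        rcases (hr a).1 ha with rfl | rfl
        · rw [one_mul] at h3; exact Or.inl h3
        · exact Or.inr h3
      red := by
        intro u hu h
        exact red b hr hr1 hE ((UU_le_cenV b hr hr1 hE hE1).trans (b.cen_le_N o) hu) h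
      beta := hbeta }

/-- **from `HT` to (H)** -/
theorem tvH (hbeta : ∃ u ∈ UU (ME V R o E) r, u ∉ QF r)
    (hpar : ∀ x y, Adj (ME V R o E) r t r x → Adj (ME V R o E) r t r y → x * y ∈ ZC QF r → y = x ∨ y = r * x) :
    TvH (ME V R o E) r t QF (NF r E) :=
  { toTvH0 := tvH0 b hr hr1 hE hE1 hj ht ht1 hbeta, noPar := hpar }

/-- **from `HT` to the Sylow part of (H)** -/
theorem tvS : TvS (ME V R o E) (S : Subgroup G) r t (NF r E) := by
  have hrR : r ∈ R o := (hr r).2 (Or.inr rfl)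
  have htR : t ∈ R j := (ht t).2 (Or.inr rfl)
  obtain ⟨k, hko, hkj⟩ := b.third o j
  refine
    { S_le := S_le_ME b hE
      S_p := S.isPGroup'
      S_r := fun x hx => by
        have := b.S_R hx
        rwa [normalizer_eq b hr, mem_centralizer_singleton_iff] at this
      S_t := ?_
      N_S := ?_
      hside := ?_ }
  · intro x hx
    obtain ⟨l, hl⟩ := b.perm x (b.S_V hx) j
    have hlo : l ≠ o := by
      rintro rfl
      exact hj (b.R_index (cj_injective (hl.trans (cj_eq_self_iff.2 (b.S_R hx)).symm)))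
    have h1 : x * t * x⁻¹ ∈ R l := by rw [← hl]; exact conj_mem_cj htR
    have h2 : x * t * x⁻¹ ≠ 1 := fun h => ht1 (conj_eq_one_iff.1 h)
    by_cases hlj : l = j
    · left
      rw [hlj] at h1
      exact ((ht _).1 h1).resolve_left h2
    · right
      have h3 := mul_mem_third b (Ne.symm hj) hlo hlj hrR hr1 htR ht1
      have h4 : r * t ≠ 1 := by
        intro h
        have h5 : r = t⁻¹ := eq_inv_of_mul_eq_one_left h
        exact hr1 (b.eq_one (Ne.symm hj) hrR (h5 ▸ inv_mem htR))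
      exact eq_of_card_two (b.card_R l) h3 h4 h1 h2
  · -- `N t ≤ C_{Q_t}(V) ≤ O₂(C(V)) ≤ S`
    obtain ⟨x, hx, e⟩ := b.trans_X_one o j
    have hxt : x * r * x⁻¹ = t := by
      have h1 : x * r * x⁻¹ ∈ R j := by rw [← e]; exact conj_mem_cj hrR
      exact ((ht _).1 h1).resolve_left (fun h => hr1 (conj_eq_one_iff.1 h))
    have hNt : NF r E t ≤ EE V R j := by
      intro n hn
      have h1 := NF_conj (g := x⁻¹) hn
      have h2 : x⁻¹ * t * x⁻¹⁻¹ = r := by rw [← hxt]; group
      rw [h2] at h1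
      have h3 := NF_le b hr hr1 hE h1
      have h4 : x⁻¹ * n * x⁻¹⁻¹ ∈ ZQ R o := ⟨ZC_le b hr hr1 hE h3, h3⟩
      have h5 : n ∈ ZQ R j := by
        rw [← cj_ZQ b.toBT e, mem_cj]
        rwa [inv_inv] at h4
      exact ZQ_le_EE b.toBT j h5
    refine hNt.trans ?_
    have h6 : EE V R j ≤ O2 (normalizer (V : Set G)) := by
      have hVN : V ≤ normalizer (V : Set G) := le_normalizer
      refine le_O2_of_chain (B := centralizer (V : Set G)) (C := centralizer (V : Set G)) inf_le_right le_rfl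
        (centralizer_le_normalizer _) ((O2_isPGroup _).to_le inf_le_left) ?_ ?_ ?_
      · rintro g hg y ⟨hy, hy'⟩
        exact ⟨conj_mem_of_normalizer (cen_le_NQ b.toBT j hg) hy, Hat.cmem hg hy'⟩
      · exact fun g hg y hy => Hat.cmem hg hy
      · exact fun g hg y hy => conj_mem_of_normalizer (normalizer_le_normalizer_centralizer _ hg) hy
    refine h6.trans ?_
    exact le_of_le_normalizer S (O2_isPGroup _) (b.S_V.trans (le_normalizer_O2 _))
  · rw [← normalizer_eq b hr]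
    exact HOne.TvHSide.hside_of b.S_R S.isPGroup' (MinSimple.Basic.not_dvd_relIndex S b.S_R)
      (H_norm_NF b hr hr1 hE) (fun n hn => NF_sq b hr hr1 hE hn)
      (fun m hm n hn => NF_comm b hr hr1 hE hm hn) (hred b hr hr1 hE)

end main

end Cfsg.Agent.Omega.HTwo.EntryTv
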