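import Cfsg.Agent.Omega.HTwo.AlphaFour

/-!
# II.0h1, `q = 2`, case (α): conjugation of `NatC` and `Good`

* `cj_cl`, `cen_cj_singleton`, `NatC.cj`, `Good.cj` : `Good R o r y W → Good R o r (h y h⁻¹) (cj h W)`, `h ∈ N(R o)`.
-/

set_option autoImplicit false

namespace Cfsg.Agent.Omega.HTwo.Alpha

open Subgroup Cfsg Cfsg.Agent.ZN Cfsg.Agent.MinSimple.VModule Cfsg.Agent.Omega.BTwo
open Cfsg.Agent.Omega.MinPar Cfsg.Agent.Omega.HOneTwo Cfsg.Agent.Omega.HTwo.TComp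
open Cfsg.Agent.Omega.HTwo.Hat

universe u

variable {G : Type u} [Group G] {ι : Type*}

theorem cj_cl (g : G) (A M : Subgroup G) : cj g (cl A M) = cl (cj g A) (cj g M) := by
  have key : ∀ (g : G) (A M : Subgroup G), cj g (cl A M) ≤ cl (cj g A) (cj g M) := by
    intro g A M
    rw [cl, cj_iSup]
    refine iSup_le fun m => ?_
    have e : cj g (cj (m : G) A) = cj (g * m * g⁻¹) (cj g A) := by
      rw [← cj_mul, ← cj_mul]
      congr 1
      group
    rw [e]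
    exact cj_le_cl (conj_mem_cj m.2)
  apply le_antisymm (key g A M)
  have h := cj_mono (g := g) (key g⁻¹ (cj g A) (cj g M))
  rwa [cj_inv_cj, cj_inv_cj, cj_cj_inv] at h

theorem cen_cj_singleton (g y : G) :
    cj g (centralizer ({y} : Set G)) = centralizer ({g * y * g⁻¹} : Set G) := by
  ext x
  rw [mem_cj, mem_centralizer_singleton_iff, mem_centralizer_singleton_iff]
  constructor
  · intro h
    calc x * (g * y * g⁻¹) = g * (g⁻¹ * x * g * y) * g⁻¹ := by group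
      _ = g * (y * (g⁻¹ * x * g)) * g⁻¹ := by rw [h]
      _ = g * y * g⁻¹ * x := by group
  · intro h
    calc g⁻¹ * x * g * y = g⁻¹ * (x * (g * y * g⁻¹)) * g := by group
      _ = g⁻¹ * (g * y * g⁻¹ * x) * g := by rw [h]
      _ = y * (g⁻¹ * x * g) := by group

theorem cjc {g x c : G} : g * (c * x * c⁻¹) * g⁻¹ = (g * c * g⁻¹) * (g * x * g⁻¹) * (g * c * g⁻¹)⁻¹ := by
  group

theorem NatC.cj {C N W : Subgroup G} {r : G} (n : NatC C N W r) (g : G) :
    NatC (cj g C) (cj g N) (cj g W) (g * r * g⁻¹) where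
  W_le := cj_mono n.W_le
  sq := by
    rintro _ ⟨x, hx, rfl⟩
    change g * x * g⁻¹ * (g * x * g⁻¹) = 1
    calc g * x * g⁻¹ * (g * x * g⁻¹) = g * (x * x) * g⁻¹ := by group
      _ = 1 := by rw [n.sq x hx]; group
  mem := conj_mem_cj n.mem
  ne := fun h => n.ne (conj_eq_one_iff.1 h)
  pt := by
    rintro _ ⟨x, hx, rfl⟩ hx1
    change g * x * g⁻¹ ≠ 1 at hx1
    obtain ⟨c, hc, e⟩ := n.pt x hx fun h => hx1 (by rw [h]; group)
    refine ⟨g * c * g⁻¹, conj_mem_cj hc, ?_⟩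
    rw [← cjc, e]
    rfl
  blk := by
    rintro _ ⟨c, hc, rfl⟩ _ ⟨w, hw, rfl⟩ hw1 hcw _ ⟨x, hx, rfl⟩
    change g * w * g⁻¹ ≠ 1 at hw1
    change g * c * g⁻¹ * (g * w * g⁻¹) * (g * c * g⁻¹)⁻¹ ∈ _ at hcw
    change g * c * g⁻¹ * (g * x * g⁻¹) * (g * c * g⁻¹)⁻¹ ∈ _
    rw [← cjc, mem_cj] at hcw
    rw [← cjc]
    refine conj_mem_cj (n.blk c hc w hw (fun h => hw1 (by rw [h]; group)) ?_ x hx)
    have e : g⁻¹ * (g * (c * w * c⁻¹) * g⁻¹) * g = c * w * c⁻¹ := by group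
    rwa [e] at hcw
  irr := by
    rintro _ ⟨w, hw, rfl⟩ hw1 A hA hwA hinv
    change g * w * g⁻¹ ≠ 1 at hw1
    change g * w * g⁻¹ ∈ A at hwA
    have h1 := n.irr w hw (fun h => hw1 (by rw [h]; group)) (BTwo.cj g⁻¹ A) (by
      have := cj_mono (g := g⁻¹) hA
      rwa [cj_inv_cj] at this) (by
      rw [mem_cj, inv_inv]
      exact hwA) (by
      intro c hc hcw a ha
      rw [mem_cj, inv_inv] at ha ⊢
      have h2 := hinv (g * c * g⁻¹) (conj_mem_cj hc) (by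
        change g * c * g⁻¹ * (g * w * g⁻¹) = g * w * g⁻¹ * (g * c * g⁻¹)
        calc g * c * g⁻¹ * (g * w * g⁻¹) = g * (c * w) * g⁻¹ := by group
          _ = g * (w * c) * g⁻¹ := by rw [hcw]
          _ = _ := by group) _ ha
      rwa [← cjc] at h2)
    rcases h1 with h1 | h1
    · left
      intro a ha
      have h2 := h1 (g⁻¹ * a * g) (by
        rw [mem_cj, inv_inv]
        have e : g * (g⁻¹ * a * g) * g⁻¹ = a := by group
        rw [e]; exact ha)
      rcases h2 with h2 | h2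
      · left
        calc a = g * (g⁻¹ * a * g) * g⁻¹ := by group
          _ = 1 := by rw [h2]; group
      · right
        change a = g * w * g⁻¹
        rw [← h2]; group
    · right
      have := cj_mono (g := g) h1
      rwa [cj_cj_inv] at this
  adj := by
    rintro _ ⟨w, hw, rfl⟩ hw1 _ ⟨t, ht, rfl⟩ htn _ ⟨c, hc, rfl⟩ hne
    change g * w * g⁻¹ ≠ 1 at hw1
    change g * t * g⁻¹ * (g * c * g⁻¹ * (g * r * g⁻¹) * (g * c * g⁻¹)⁻¹) * (g * t * g⁻¹)⁻¹ ≠
      g * c * g⁻¹ * (g * r * g⁻¹) * (g * c * g⁻¹)⁻¹ at hne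
    change g * c * g⁻¹ * (g * r * g⁻¹) * (g * c * g⁻¹)⁻¹ ∈ _
    rw [← cjc] at hne ⊢
    rw [← cjc] at hne
    refine conj_mem_cj (n.adj w hw (fun h => hw1 (by rw [h]; group)) t ht ?_ c hc fun h => hne (by rw [h]))
    intro x hx
    have h1 := htn (g * x * g⁻¹) (conj_mem_cj hx)
    change g * t * g⁻¹ * (g * x * g⁻¹) * (g * t * g⁻¹)⁻¹ = g * x * g⁻¹ ∨
      g * t * g⁻¹ * (g * x * g⁻¹) * (g * t * g⁻¹)⁻¹ = g * x * g⁻¹ * (g * w * g⁻¹) at h1
    rw [← cjc] at h1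
    rcases h1 with h1 | h1
    · left
      exact mul_left_cancel (mul_right_cancel h1)
    · right
      have e : g * x * g⁻¹ * (g * w * g⁻¹) = g * (x * w) * g⁻¹ := by group
      rw [e] at h1
      exact mul_left_cancel (mul_right_cancel h1)
  big := by
    rintro _ ⟨x, hx, rfl⟩ _ ⟨y, hy, rfl⟩
    obtain ⟨c, hc, h1, h2, h3, h4⟩ := n.big x hx y hy
    refine ⟨g * c * g⁻¹, conj_mem_cj hc, fun h => h1 (conj_eq_one_iff.1 h), ?_, ?_, ?_⟩
    · exact fun h => h2 (mul_left_cancel (mul_right_cancel h))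
    · exact fun h => h3 (mul_left_cancel (mul_right_cancel h))
    · intro h
      apply h4
      change g * c * g⁻¹ = g * x * g⁻¹ * (g * y * g⁻¹) at h
      have e : g * x * g⁻¹ * (g * y * g⁻¹) = g * (x * y) * g⁻¹ := by group
      rw [e] at h
      exact mul_left_cancel (mul_right_cancel h)

variable {V : Subgroup G} {R : ι → Subgroup G} {o : ι}

theorem Good.cj [Finite G] (b : BT V R) {r y : G} {W : Subgroup G} (hr : ∀ x, x ∈ R o ↔ x = 1 ∨ x = r)
    (g : Good R o r y W) {h : G} (hh : h ∈ normalizer (R o : Set G)) :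
    Good R o r (h * y * h⁻¹) (cj h W) := by
  have hr1 : r ≠ 1 := g.nat.ne
  have hhr : h * r * h⁻¹ = r := by
    have h1 : h * r * h⁻¹ ∈ R o := conj_mem_of_normalizer hh ((hr r).2 (Or.inr rfl))
    rcases (hr _).1 h1 with h2 | h2
    · exact absurd (conj_eq_one_iff.1 h2) hr1
    · exact h2
  have e0 : BTwo.cj h (R o) = R o := cj_eq_self_iff.2 hh
  refine ⟨?_, fun h1 => g.ne (conj_eq_one_iff.1 h1), ?_, ?_, ?_, ?_⟩
  · calc h * y * h⁻¹ * (h * y * h⁻¹) = h * (y * y) * h⁻¹ := by group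
      _ = 1 := by rw [g.sq]; group
  · rw [← cj_ZQ b e0]
    exact conj_mem_cj g.z
  · obtain ⟨T, hT⟩ := g.syl
    obtain ⟨T', hT'⟩ := exists_sylow_conj T h
    refine ⟨T', fun t ht => ?_⟩
    obtain ⟨h1, h2⟩ := hT _ (hT' t ht)
    constructor
    · calc t * (h * y * h⁻¹) = h * (h⁻¹ * t * h * y) * h⁻¹ := by group
        _ = h * (y * (h⁻¹ * t * h)) * h⁻¹ := by rw [h1]
        _ = h * y * h⁻¹ * t := by group
    · rw [← hhr]
      calc t * (h * r * h⁻¹) = h * (h⁻¹ * t * h * r) * h⁻¹ := by group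
        _ = h * (r * (h⁻¹ * t * h)) * h⁻¹ := by rw [h2]
        _ = h * r * h⁻¹ * t := by group
  · have h1 := NatC.cj g.nat h
    rwa [cj_cl, e0, cen_cj_singleton, hhr] at h1
  · have h1 := cj_mono (g := h) g.W_Q
    rwa [b.cj_QQ e0] at h1

end Cfsg.Agent.Omega.HTwo.Alpha
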