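import Cfsg.Agent.Omega.HTwo.ThmA

/-!
# II.0h1, `q = 2`: the hats, everything with `Q i` (#13303 (2), #13317)

`ZQ i = Z(Q i)`, `EE i = C_{Q i}(V)`, `J = CC R = Q i ∩ Q j`, `C = C_X`.

* `cenX_eq` : `C_X = C(⟨Q i⟩)`, `ZQ_inf` : `Z(Q i) ∩ Z(Q j) = C_X`, `ZQ_Q` : `Z(Q i) ∩ Q j = R i × C_X`;
* `EE_eq` : `C_{Q i}(V) = U i J`, `EE_comm` : `[E i, E j] ≤ J`, `EE_inf`, `EE_map`, `EE_ker`, `EE_surj`;
* `ZQ_E` : `[Z(Q i), E j] ≤ R i × C_X`;
* `C_Q`, `XC`, `C_cen`, `C_mul`, `C_mul_left` : the pairing of `J` with `E i`.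
-/

set_option autoImplicit false
set_option linter.unusedSectionVars false

namespace Cfsg.Agent.Omega.HTwo.Hat

open Subgroup Cfsg.Agent.Omega.BTwo Cfsg.Agent.Omega.HTwo.ThmA Cfsg.Agent.Omega.HTwo.Comm

variable {G : Type*} [Group G] {ι : Type*} {V : Subgroup G} {R : ι → Subgroup G}

/-- `Z(Q)` -/
def ZQ (R : ι → Subgroup G) (i : ι) : Subgroup G := QQ (R i) ⊓ centralizer (QQ (R i) : Set G)

/-- `E i = C_{Q i}(V)` -/
def EE (V : Subgroup G) (R : ι → Subgroup G) (i : ι) : Subgroup G := QQ (R i) ⊓ centralizer (V : Set G)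

/-- `⟨Q i⟩` -/
def XH (R : ι → Subgroup G) : Subgroup G := ⨆ i, QQ (R i)

theorem cmem {H : Subgroup G} {g x : G} (hg : g ∈ H) (hx : x ∈ H) : g * x * g⁻¹ ∈ H :=
  H.mul_mem (H.mul_mem hg hx) (H.inv_mem hg)

theorem comm_mem_of {H : Subgroup G} {g x : G} (hx : x ∈ H) (hg : g ∈ normalizer (H : Set G)) :
    g * x * g⁻¹ * x⁻¹ ∈ H := H.mul_mem (conj_mem_of_normalizer hg hx) (H.inv_mem hx)

theorem comm_mem_of' {H : Subgroup G} {g x : G} (hg : g ∈ H) (hx : x ∈ normalizer (H : Set G)) :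
    g * x * g⁻¹ * x⁻¹ ∈ H := by
  have e : g * x * g⁻¹ * x⁻¹ = g * (x * g⁻¹ * x⁻¹) := by group
  rw [e]
  exact H.mul_mem hg (conj_mem_of_normalizer hx (H.inv_mem hg))

theorem ZQ_le (i : ι) : ZQ R i ≤ QQ (R i) := inf_le_left

theorem ZQ_comm {i : ι} {n q : G} (hn : n ∈ ZQ R i) (hq : q ∈ QQ (R i)) : q * n = n * q :=
  mem_centralizer_iff.1 hn.2 q hq

theorem EE_le_Q (i : ι) : EE V R i ≤ QQ (R i) := inf_le_left

theorem EE_le_cen (i : ι) : EE V R i ≤ centralizer (V : Set G) := inf_le_right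

theorem Q_le_XH (R : ι → Subgroup G) (i : ι) : QQ (R i) ≤ XH R := le_iSup (fun i => QQ (R i)) i

theorem N_le_NZQ (i : ι) : normalizer (R i : Set G) ≤ normalizer (ZQ R i : Set G) := by
  intro g hg
  have h1 := le_normalizer_O2 _ hg
  have h2 := normalizer_le_normalizer_centralizer _ h1
  rw [← cj_eq_self_iff, ZQ, cj_inf, cj_eq_self_iff.2 h1, cj_eq_self_iff.2 h2]

section BT

variable (b : BT V R)
include b

theorem XH_le_NV : XH R ≤ normalizer (V : Set G) := iSup_le fun i => (b.Q_le_K i).trans (b.K_le_NV i)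

theorem X_le_XH : XX V R ≤ XH R := iSup_le fun i => (b.W_le_Q i).trans (Q_le_XH R i)

theorem ZQ_le_cenW (i : ι) : ZQ R i ≤ centralizer (WW V (R i) : Set G) :=
  inf_le_right.trans (centralizer_le (b.W_le_Q i))

theorem R_le_ZQ (i : ι) : R i ≤ ZQ R i := by
  refine le_inf ((b.R_le i).trans (b.V_Q i)) ?_
  intro a ha
  rw [mem_centralizer_iff]
  exact fun g hg => b.QR i g hg a ha

theorem ZQ_le_cen (i : ι) : ZQ R i ≤ centralizer (V : Set G) := by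
  intro n hn
  rw [mem_centralizer_iff]
  exact fun v hv => ZQ_comm hn (b.V_Q i hv)

theorem ZQ_le_EE (i : ι) : ZQ R i ≤ EE V R i := le_inf (ZQ_le i) (ZQ_le_cen b i)

theorem V_le_EE (i : ι) : V ≤ EE V R i := le_inf (b.V_Q i) b.V_le_cen

theorem U_le_EE (i : ι) : UU V R i ≤ EE V R i := le_inf ((UU_le_WW i).trans (b.W_le_Q i)) (UU_le_cen i)

theorem C_le_EE (i : ι) : CC R ≤ EE V R i := le_inf (iInf_le _ i) b.C_le_cen

theorem cen_le_NQ (i : ι) : centralizer (V : Set G) ≤ normalizer (QQ (R i) : Set G) :=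
  (b.cen_le_N i).trans (le_normalizer_O2 _)

theorem cen_le_NE (i : ι) : centralizer (V : Set G) ≤ normalizer (EE V R i : Set G) := by
  intro g hg
  have h1 := cen_le_NQ b i hg
  have h2 : g ∈ normalizer (centralizer (V : Set G) : Set G) := le_normalizer hg
  rw [← cj_eq_self_iff, EE, cj_inf, cj_eq_self_iff.2 h1, cj_eq_self_iff.2 h2]

/-- `E i ∩ Q j = J` -/
theorem EE_inf {i j : ι} (hij : i ≠ j) : EE V R i ⊓ QQ (R j) = CC R := by
  apply le_antisymm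
  · rintro x ⟨hx, hx'⟩
    rw [b.C_eq hij]
    exact ⟨hx.1, hx'⟩
  · exact le_inf (C_le_EE b i) (iInf_le _ j)

/-- `[E i, E j] ≤ J` -/
theorem EE_comm {i j : ι} (hij : i ≠ j) {x y : G} (hx : x ∈ EE V R i) (hy : y ∈ EE V R j) :
    x * y * x⁻¹ * y⁻¹ ∈ CC R := by
  rw [b.C_eq hij]
  exact ⟨comm_mem_of' hx.1 (cen_le_NQ b i hy.2), comm_mem_of hy.1 (cen_le_NQ b j hx.2)⟩

/-- `E i = U i J` -/
theorem EE_eq [Finite G] (i : ι) {x : G} (hx : x ∈ EE V R i) : ∃ u ∈ UU V R i, ∃ c ∈ CC R, x = c * u := by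
  obtain ⟨y, hy, h⟩ := b.exists_eps hx.1 hx.2
  exact ⟨y⁻¹, inv_mem hy, _, h, by group⟩

/-- `Q i = W i J` -/
theorem Q_eq [Finite G] (i : ι) {x : G} (hx : x ∈ QQ (R i)) : ∃ w ∈ WW V (R i), ∃ c ∈ CC R, x = c * w := by
  obtain ⟨y, hy, h⟩ := b.exists_eps_W hx
  exact ⟨y⁻¹, inv_mem hy, _, h, by group⟩

theorem cj_ZQ {g : G} {i j : ι} (h : cj g (R i) = R j) : cj g (ZQ R i) = ZQ R j := by
  rw [ZQ, cj_inf, ← centralizer_cj, b.cj_QQ h]
  rfl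

theorem cj_EE {g : G} (hg : g ∈ normalizer (V : Set G)) {i j : ι} (h : cj g (R i) = R j) :
    cj g (EE V R i) = EE V R j := by
  rw [EE, cj_inf, ← centralizer_cj, b.cj_QQ h, cj_eq_self_iff.2 hg]
  rfl

/-- `N(V)` normalises `J` -/
theorem NV_le_NC : normalizer (V : Set G) ≤ normalizer (CC R : Set G) := by
  have key : ∀ g ∈ normalizer (V : Set G), cj g (CC R) ≤ CC R := by
    intro g hg
    refine le_iInf fun k => ?_
    obtain ⟨j, hj⟩ := b.perm_inv hg k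
    rw [← b.cj_QQ hj]
    exact cj_mono (iInf_le _ j)
  intro g hg
  rw [← cj_eq_self_iff]
  apply le_antisymm (key g hg)
  have h := cj_mono (g := g) (key g⁻¹ (inv_mem hg))
  rwa [cj_cj_inv] at h

/-- an element of `Q j` outside `E j` moves every other point -/
theorem movesQ {i j : ι} (hij : i ≠ j) {v : G} (hv : v ∈ QQ (R j)) (hv' : v ∉ centralizer (V : Set G)) :
    ∃ k, k ≠ i ∧ k ≠ j ∧ cj v (R i) = R k := by
  obtain ⟨k, hk⟩ := b.perm v ((b.Q_le_K j).trans (b.K_le_NV j) hv) i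
  refine ⟨k, ?_, ?_, hk⟩
  · rintro rfl
    exact hv' (b.mem_cen_Q hij hv hk)
  · rintro rfl
    exact hij (b.R_index (cj_injective (hk.trans (cj_eq_self_iff.2 (b.Q_le k hv)).symm)))

/-- `e ↦ [v, e]` maps `E i` into `E j` for `v ∈ Q j` -/
theorem EE_map {i j : ι} {v e : G} (hv : v ∈ QQ (R j)) (he : e ∈ EE V R i) : v * e * v⁻¹ * e⁻¹ ∈ EE V R j := by
  refine ⟨comm_mem_of' hv (cen_le_NQ b j he.2), ?_⟩
  exact comm_mem_of he.2 (normalizer_le_normalizer_centralizer V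
    ((b.Q_le_K j).trans (b.K_le_NV j) hv))

/-- modulo `J` this is a homomorphism -/
theorem EE_mul {i j : ι} (hij : i ≠ j) {v e e' : G} (hv : v ∈ QQ (R j)) (he : e ∈ EE V R i)
    (he' : e' ∈ EE V R i) :
    (v * (e * e') * v⁻¹ * (e * e')⁻¹) * (v * e * v⁻¹ * e⁻¹ * (v * e' * v⁻¹ * e'⁻¹))⁻¹ ∈ CC R := by
  have h := EE_comm b hij he (EE_map b hv he')
  have h2 := conj_mem_of_normalizer (NV_le_NC b (cen_le_NV V (EE_le_cen j (EE_map b hv he)))) h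
  have e1 : (v * (e * e') * v⁻¹ * (e * e')⁻¹) * (v * e * v⁻¹ * e⁻¹ * (v * e' * v⁻¹ * e'⁻¹))⁻¹ =
      (v * e * v⁻¹ * e⁻¹) * (e * (v * e' * v⁻¹ * e'⁻¹) * e⁻¹ * (v * e' * v⁻¹ * e'⁻¹)⁻¹) *
        (v * e * v⁻¹ * e⁻¹)⁻¹ := by group
  rw [e1]
  exact h2

/-- its kernel is `J` -/
theorem EE_ker {i j : ι} (hij : i ≠ j) {v e : G} (hv : v ∈ QQ (R j)) (hv' : v ∉ centralizer (V : Set G))
    (he : e ∈ EE V R i) (h : v * e * v⁻¹ * e⁻¹ ∈ CC R) : e ∈ CC R := by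
  obtain ⟨k, hki, -, hk⟩ := movesQ b hij hv hv'
  have h1 : v * e * v⁻¹ ∈ QQ (R k) := by
    rw [← b.cj_QQ hk]; exact conj_mem_cj he.1
  have h2 : v * e * v⁻¹ ∈ QQ (R i) := by
    have e1 : v * e * v⁻¹ = v * e * v⁻¹ * e⁻¹ * e := by group
    rw [e1]
    exact mul_mem (mem_iInf.1 h i) he.1
  have h3 : v * e * v⁻¹ ∈ CC R := by rw [b.C_eq hki]; exact ⟨h1, h2⟩
  have h4 := conj_inv_mem_of_normalizer (NV_le_NC b ((b.Q_le_K j).trans (b.K_le_NV j) hv)) h3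
  have e2 : v⁻¹ * (v * e * v⁻¹) * v = e := by group
  rwa [e2] at h4

/-- `[J, ⟨Q i⟩] ≤ V` -/
theorem XH_C {x c : G} (hx : x ∈ XH R) (hc : c ∈ CC R) (hQ : ∀ i, ∀ q ∈ QQ (R i), q * c * q⁻¹ * c⁻¹ ∈ V) :
    x * c * x⁻¹ * c⁻¹ ∈ V := by
  have _ := hc
  let T : Subgroup G :=
    { carrier := {x | x ∈ normalizer (V : Set G) ∧ x * c * x⁻¹ * c⁻¹ ∈ V}
      one_mem' := ⟨one_mem _, by
        have : (1 : G) * c * 1⁻¹ * c⁻¹ = 1 := by group
        rw [this]; exact one_mem _⟩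
      mul_mem' := by
        rintro x y ⟨hx, hx'⟩ ⟨hy, hy'⟩
        refine ⟨mul_mem hx hy, ?_⟩
        have e : x * y * c * (x * y)⁻¹ * c⁻¹ = x * (y * c * y⁻¹ * c⁻¹) * x⁻¹ * (x * c * x⁻¹ * c⁻¹) := by group
        rw [e]
        exact mul_mem (conj_mem_of_normalizer hx hy') hx'
      inv_mem' := by
        rintro x ⟨hx, hx'⟩
        refine ⟨inv_mem hx, ?_⟩
        have e : x⁻¹ * c * x⁻¹⁻¹ * c⁻¹ = x⁻¹ * (x * c * x⁻¹ * c⁻¹)⁻¹ * x := by group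
        rw [e]
        exact conj_inv_mem_of_normalizer hx (inv_mem hx') }
  have hT : XH R ≤ T := iSup_le fun i q hq => ⟨(b.Q_le_K i).trans (b.K_le_NV i) hq, hQ i q hq⟩
  exact (hT hx).2

end BT

section LE

variable [Finite G] (b : BTS V R) (h : ∀ i, LE V R i)
include b h

/-- `[J, Q i] ≤ R i` -/
theorem C_Q {i : ι} {q c : G} (hq : q ∈ QQ (R i)) (hc : c ∈ CC R) : q * c * q⁻¹ * c⁻¹ ∈ R i :=
  Q_comm b (h i) hq (mem_iInf.1 hc i)

/-- `C_X ≤ Z(Q i)` -/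
theorem cenX_le_ZQ (i : ι) : CenX V R ≤ ZQ R i := by
  intro x hx
  refine mem_inf.2 ⟨mem_iInf.1 (b.CenX_le_C hx) i, ?_⟩
  rw [mem_centralizer_iff]
  exact fun q hq => (cenX_Q b (h i) hx hq).symm

/-- `C_X = C(⟨Q i⟩)` -/
theorem cenX_eq : CenX V R = centralizer (XH R : Set G) := by
  apply le_antisymm
  · intro x hx
    have h1 : XH R ≤ centralizer ({x} : Set G) := iSup_le fun i q hq =>
      mem_centralizer_singleton_iff.2 (cenX_Q b (h i) hx hq).symm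
    exact mem_centralizer_iff.2 fun g hg => mem_centralizer_singleton_iff.1 (h1 hg)
  · exact centralizer_le (X_le_XH b.toBT)

/-- `Z(Q i) ∩ Z(Q j) = C_X` -/
theorem ZQ_inf {i j : ι} (hij : i ≠ j) : ZQ R i ⊓ ZQ R j = CenX V R := by
  apply le_antisymm
  · rintro x ⟨hi, hj⟩
    exact b.mem_cen_X hij (ZQ_le_cenW b.toBT i hi) (ZQ_le_cenW b.toBT j hj)
  · exact le_inf (cenX_le_ZQ b h i) (cenX_le_ZQ b h j)

omit h in
/-- `Z(Q i) ∩ Q j ≤ R i × C_X` -/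
theorem ZQ_Q {i j : ι} (hij : i ≠ j) {c : G} (hc : c ∈ ZQ R i) (hj : c ∈ QQ (R j)) :
    ∃ a ∈ R i, a * c ∈ CenX V R := b.cen_W_Q hij (ZQ_le_cenW b.toBT i hc) hj

omit h in
/-- `[Z(Q i), E j] ≤ R i × C_X` -/
theorem ZQ_E {i j : ι} (hij : i ≠ j) {n y : G} (hn : n ∈ ZQ R i) (hy : y ∈ EE V R j) :
    ∃ a ∈ R i, a * (n * y * n⁻¹ * y⁻¹) ∈ CenX V R := by
  refine ZQ_Q b hij ?_ ?_
  · exact comm_mem_of' hn (N_le_NZQ i (b.cen_le_N i hy.2))
  · exact comm_mem_of hy.1 (cen_le_NQ b.toBT j (ZQ_le_cen b.toBT i hn))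

/-- `[J, ⟨Q i⟩] ≤ V` -/
theorem XC {x c : G} (hx : x ∈ XH R) (hc : c ∈ CC R) : x * c * x⁻¹ * c⁻¹ ∈ V :=
  XH_C b.toBT hx hc fun i _ hq => b.R_le i (C_Q b h hq hc)

/-- `J` centralises `J` and `Z(Q i)` -/
theorem C_ZQ {i : ι} {n c : G} (hn : n ∈ ZQ R i) (hc : c ∈ CC R) : c * n = n * c := by
  have _ := h
  have _ := b
  exact ZQ_comm hn (mem_iInf.1 hc i)

/-- an element of `J` centralising `E i` is in `V × C_X` -/
theorem C_cen {i : ι} {c : G} (hc : c ∈ CC R) (hE : ∀ u ∈ EE V R i, c * u = u * c) :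
    ∃ v ∈ V, v * c ∈ CenX V R := by
  have _ := h
  exact b.cen_CU hc fun u hu => hE u (U_le_EE b.toBT i hu)

/-- `[c, ·]` for `c ∈ J` is a homomorphism `E i → R i` trivial on `J` and on `Z(Q i)` -/
theorem C_mul {i : ι} {c u u' : G} (hc : c ∈ CC R) (hu : u ∈ QQ (R i)) (hu' : u' ∈ QQ (R i)) :
    c * (u * u') * c⁻¹ * (u * u')⁻¹ = (c * u * c⁻¹ * u⁻¹) * (c * u' * c⁻¹ * u'⁻¹) := by
  have h1 : c * u' * c⁻¹ * u'⁻¹ ∈ R i := Q_comm b (h i) (mem_iInf.1 hc i) hu'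
  have h2 := b.QR i u hu _ h1
  calc c * (u * u') * c⁻¹ * (u * u')⁻¹
      = (c * u * c⁻¹) * (c * u' * c⁻¹ * u'⁻¹) * u⁻¹ := by group
    _ = (c * u * c⁻¹ * u⁻¹) * (u * (c * u' * c⁻¹ * u'⁻¹)) * u⁻¹ := by group
    _ = (c * u * c⁻¹ * u⁻¹) * (c * u' * c⁻¹ * u'⁻¹) := by rw [h2]; group

theorem C_mul_left {i : ι} {c c' u : G} (hc : c ∈ CC R) (hc' : c' ∈ CC R) (hu : u ∈ QQ (R i)) :
    (c * c') * u * (c * c')⁻¹ * u⁻¹ = (c * u * c⁻¹ * u⁻¹) * (c' * u * c'⁻¹ * u⁻¹) := by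
  have h1 : c' * u * c'⁻¹ * u⁻¹ ∈ R i := Q_comm b (h i) (mem_iInf.1 hc' i) hu
  have h2 := b.QR i c (mem_iInf.1 hc i) _ h1
  have h3 : c * u * c⁻¹ * u⁻¹ ∈ R i := Q_comm b (h i) (mem_iInf.1 hc i) hu
  calc (c * c') * u * (c * c')⁻¹ * u⁻¹
      = c * (c' * u * c'⁻¹ * u⁻¹) * u * c⁻¹ * u⁻¹ := by group
    _ = (c' * u * c'⁻¹ * u⁻¹) * (c * u * c⁻¹ * u⁻¹) := by rw [h2]; group
    _ = _ := b.V_comm _ (b.R_le i h1) _ (b.R_le i h3)

end LE

/-! ### `E i / J ≅ E j / J` -/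

section surj

variable [Finite G] (b : BTS V R)
include b

theorem cardE (i j : ι) : (CC R).relIndex (EE V R i) = (CC R).relIndex (EE V R j) := by
  obtain ⟨x, hx, e⟩ := b.trans_one i j
  have h1 : cj x (CC R) = CC R := cj_eq_self_iff.2 (NV_le_NC b.toBT hx)
  have h2 := relIndex_map_map_of_injective (CC R) (EE V R i) (f := (MulAut.conj x).toMonoidHom)
    (MulAut.conj x).injective
  have h3 : (CC R).map (MulAut.conj x).toMonoidHom = CC R := h1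
  have h4 : (EE V R i).map (MulAut.conj x).toMonoidHom = EE V R j := cj_EE b.toBT hx e
  rw [h3, h4] at h2
  exact h2.symm

/-- every element of `E j` is `[v, e]` modulo `J` -/
theorem EE_surj {i j : ι} (hij : i ≠ j) {v : G} (hv : v ∈ QQ (R j)) (hv' : v ∉ centralizer (V : Set G))
    {y : G} (hy : y ∈ EE V R j) : ∃ e ∈ EE V R i, (v * e * v⁻¹ * e⁻¹)⁻¹ * y ∈ CC R := by
  -- the map on cosets
  let f : EE V R i → EE V R j ⧸ (CC R).subgroupOf (EE V R j) := fun e =>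
    QuotientGroup.mk ⟨v * e * v⁻¹ * (e : G)⁻¹, EE_map b.toBT hv e.2⟩
  have hf : ∀ e e' : EE V R i, f e = f e' ↔ (e : G)⁻¹ * e' ∈ CC R := by
    intro e e'
    have h1 : f e = f e' ↔ (v * e * v⁻¹ * (e : G)⁻¹)⁻¹ * (v * e' * v⁻¹ * (e' : G)⁻¹) ∈ CC R := by
      rw [QuotientGroup.eq]
      rfl
    rw [h1]
    -- `e' = e g`
    have hg : (e : G)⁻¹ * e' ∈ EE V R i := mul_mem (inv_mem e.2) e'.2
    have h2 := EE_mul b.toBT hij hv e.2 hg
    have e3 : (e : G) * ((e : G)⁻¹ * e') = e' := by group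
    rw [e3] at h2
    set a := v * e * v⁻¹ * (e : G)⁻¹ with ha
    set c := v * e' * v⁻¹ * (e' : G)⁻¹ with hc
    set g := (e : G)⁻¹ * e' with hgd
    set d := v * g * v⁻¹ * g⁻¹ with hd
    -- `c (a d)⁻¹ ∈ J`
    have haN : a ∈ normalizer (CC R : Set G) :=
      NV_le_NC b.toBT (cen_le_NV V (EE_le_cen j (EE_map b.toBT hv e.2)))
    have h3 : a⁻¹ * (c * (a * d)⁻¹) * a ∈ CC R := conj_inv_mem_of_normalizer haN h2
    have h4 : a⁻¹ * c = a⁻¹ * (c * (a * d)⁻¹) * a * d := by group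
    rw [h4]
    constructor
    · intro h5
      have h6 : d ∈ CC R := by
        have := mul_mem (inv_mem h3) h5
        rwa [inv_mul_cancel_left] at this
      exact EE_ker b.toBT hij hv hv' hg h6
    · intro h5
      refine mul_mem h3 ?_
      have h6 := conj_mem_of_normalizer (NV_le_NC b.toBT ((b.Q_le_K j).trans (b.K_le_NV j) hv)) h5
      exact mul_mem h6 (inv_mem h5)
  -- injective on cosets of `J`, so surjective
  let F : EE V R i ⧸ (CC R).subgroupOf (EE V R i) → EE V R j ⧸ (CC R).subgroupOf (EE V R j) :=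
    Quotient.lift f (by
      intro x y hxy
      rw [hf]
      have : QuotientGroup.leftRel _ x y := hxy
      rw [QuotientGroup.leftRel_apply] at this
      exact this)
  have hF : Function.Injective F := by
    rintro ⟨x⟩ ⟨y⟩ hxy
    have h1 : f x = f y := hxy
    rw [hf] at h1
    apply Quotient.sound
    show QuotientGroup.leftRel _ x y
    rw [QuotientGroup.leftRel_apply]
    exact h1
  have hc : Nat.card (EE V R i ⧸ (CC R).subgroupOf (EE V R i)) =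
      Nat.card (EE V R j ⧸ (CC R).subgroupOf (EE V R j)) := cardE b i j
  have hFs : Function.Surjective F := ((Nat.bijective_iff_injective_and_card F).2 ⟨hF, hc⟩).2
  obtain ⟨⟨e⟩, he⟩ := hFs (QuotientGroup.mk ⟨y, hy⟩)
  refine ⟨e, e.2, ?_⟩
  have h1 : f e = QuotientGroup.mk ⟨y, hy⟩ := he
  rw [QuotientGroup.eq] at h1
  exact h1

end surj

end Cfsg.Agent.Omega.HTwo.Hat
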