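import Cfsg.Agent.Omega.HTwo.TCore
import Cfsg.Agent.Omega.HTwo.Hat
import Cfsg.Agent.Omega.HOneTwo.Dich

/-!
# II.0h1, `q = 2`, case (α), (4) of #14489: non-diagonal pairs do not exist

`Good R o r y W`: `y` is an involution of `Z(Q o)`, a Sylow 2-subgroup of `G` centralises `y` and `r`, the component
`W` of `r` in `⟨(R o)^{C(y)}⟩` is natural and `W ≤ Q o`.

* `HT.le_all` : THEOREM A holds in the situation `HT`;
* `alpha_four` : `W ≤ C(V)` or `y ∈ R o × C_X`.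
-/

set_option autoImplicit false

namespace Cfsg.Agent.Omega.HTwo.Alpha

open Subgroup Cfsg Cfsg.Agent.ZN Cfsg.Agent.MinSimple.VModule Cfsg.Agent.Omega.BTwo
open Cfsg.Agent.Omega.MinPar Cfsg.Agent.Omega.HOneTwo Cfsg.Agent.Omega.HTwo.TComp
open Cfsg.Agent.Omega.HTwo.Hat Cfsg.Agent.Omega.HTwo.ThmA Cfsg.Agent.Omega.HTwo.Comm
open scoped Pointwise

universe u

variable {G : Type u} [Group G] {ι : Type*}

/-- the elements `y` of (4) -/
structure Good (R : ι → Subgroup G) (o : ι) (r y : G) (W : Subgroup G) : Prop where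
  sq : y * y = 1
  ne : y ≠ 1
  z : y ∈ ZQ R o
  syl : ∃ T : Sylow 2 G, ∀ t ∈ (T : Subgroup G), t * y = y * t ∧ t * r = r * t
  nat : NatC (centralizer ({y} : Set G)) (cl (R o) (centralizer ({y} : Set G))) W r
  W_Q : W ≤ QQ (R o)

section

variable {S : Sylow 2 G} {P V : Subgroup G} {R : ι → Subgroup G} {o : ι}

/-- THEOREM A holds for `HT` -/
theorem HT.le_all [Finite G] (b : HT S P V R o) : ∀ i, ThmA.LE V R i := by
  obtain ⟨r, hr1, hrr, hr⟩ := b.exists_gen o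
  intro i
  refine le_of b.toBTS (i := o) (r := r) (fun x hx => (hr x).1 hx) ((hr r).2 (Or.inr rfl)) S b.S_V b.S_R
    ?_ ?_ i
  · intro e he1 hee hs
    exact (isLoc_centralizer S (by rw [pow_two]; exact hee) he1 (fun s hs' => by
      rw [mem_centralizer_singleton_iff]
      exact (hs s hs').symm)).char2 S b.char2
  · obtain ⟨j, k, hj, hk, hjk⟩ := b.one_lt
    obtain ⟨w, hw, e⟩ := b.trans o hj hk
    obtain ⟨s, hs, hs1⟩ := b.exists_ne j
    refine ⟨w, hw, s, V_le_WW V (R o) (b.R_le j hs), fun h => hs1 ?_⟩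
    have h1 : w * s * w⁻¹ = s := by rw [h]; group
    have h2 : s ∈ R k := by
      rw [← e, ← h1]
      exact conj_mem_cj hs
    exact b.eq_one hjk hs h2

theorem comm_of_sq {N : Subgroup G} (h : ∀ x ∈ N, x * x = 1) {a c : G} (ha : a ∈ N) (hc : c ∈ N) :
    a * c = c * a := Omega.TV.EA.comm_of h ha hc

/-- `W ≤ C(y)` -/
theorem Good.W_cen [Finite G] {r y : G} {W : Subgroup G} (g : Good R o r y W) (b : BT V R) :
    W ≤ centralizer ({y} : Set G) := by
  refine g.nat.W_le.trans (cl_le ?_ le_normalizer)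
  intro a ha
  rw [mem_centralizer_singleton_iff]
  have := b.QR o y (ZQ_le o g.z) a ha
  exact this.symm

end

/-- the Sylow group `T^k` -/
theorem exists_sylow_conj [Finite G] (T : Sylow 2 G) (k : G) :
    ∃ T' : Sylow 2 G, ∀ t ∈ (T' : Subgroup G), k⁻¹ * t * k ∈ (T : Subgroup G) := by
  refine ⟨k • T, fun t ht => ?_⟩
  have h1 : t ∈ MulAut.conj k • (T : Subgroup G) := ht
  rw [mem_pointwise_smul_iff_inv_smul_mem] at h1
  have e : (MulAut.conj k)⁻¹ • t = k⁻¹ * t * k := by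
    rw [← map_inv, MulAut.smul_def, MulAut.conj_apply, inv_inv]
  rwa [e] at h1

/-! ### the abstract part (4.3)-(4.5) -/

/-- (4.3): `y₁ = y`, `y₂`, `y₃` commuting, `w ∈ W` interchanges `y₂`, `y₃`, `v` interchanges `y₁`, `y₃` and fixes `y₂`;
`z` commutes with `W`, `v`, the `y i`. Then some element `x` commuting with `z` satisfies `x⁻¹ r x r⁻¹ = y₂ y₃`. -/
theorem core [Finite G] (hG : IsCharacteristicTwoType G) {A W : Subgroup G} {r y y₂ y₃ w v z : G}
    (hy : y * y = 1) (h2 : y₂ * y₂ = 1) (c23 : y₂ * y₃ = y₃ * y₂)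
    (hsyl : ∃ T : Sylow 2 G, ∀ t ∈ (T : Subgroup G), t * y = y * t ∧ t * r = r * t)
    (nat : NatC (centralizer ({y} : Set G)) (cl A (centralizer ({y} : Set G))) W r)
    (hWy : W ≤ centralizer ({y} : Set G)) (hw : w ∈ W) (hw3 : w * y₃ * w⁻¹ = y₂)
    (hv : v * y * v⁻¹ = y₃) (hv3 : v * y₃ * v⁻¹ = y) (hv2 : v * y₂ * v⁻¹ = y₂)
    (hp : y₂ * y₃ ∈ W) (hp1 : y₂ * y₃ ≠ 1) (hpr : y₂ * y₃ ≠ r)
    (zW : ∀ x ∈ W, z * x = x * z) (zv : z * v = v * z) (z1 : z * y = y * z) (z2 : z * y₂ = y₂ * z)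
    (z3 : z * y₃ = y₃ * z) : ∃ x, z * x = x * z ∧ x⁻¹ * r * x * r⁻¹ = y₂ * y₃ := by
  obtain ⟨p, hpdef⟩ : ∃ p, p = y₂ * y₃ := ⟨_, rfl⟩
  rw [← hpdef] at hp hp1 hpr ⊢
  have hWc : ∀ a ∈ W, ∀ c ∈ W, a * c = c * a := fun a ha c hc => comm_of_sq nat.sq ha hc
  have hpp : p * p = 1 := nat.sq p hp
  have hyp : y * p = p * y := (mem_centralizer_singleton_iff.1 (hWy hp)).symm
  -- the Sylow group
  obtain ⟨T₀, hT₀⟩ := hsyl
  obtain ⟨k, hk, hkp⟩ := nat.pt p hp hp1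
  have hky : k * y = y * k := mem_centralizer_singleton_iff.1 hk
  obtain ⟨T, hT⟩ := exists_sylow_conj T₀ k
  have hTy : ∀ t ∈ (T : Subgroup G), t * y = y * t := by
    intro t ht
    have h1 := (hT₀ _ (hT t ht)).1
    have h4 : k * (k⁻¹ * t * k * y) * k⁻¹ = k * (y * (k⁻¹ * t * k)) * k⁻¹ := by rw [h1]
    have e1 : k * (k⁻¹ * t * k * y) * k⁻¹ = t * (k * y) * k⁻¹ := by group
    have e2 : k * (y * (k⁻¹ * t * k)) * k⁻¹ = (k * y) * k⁻¹ * t := by group
    rw [e1, e2, hky] at h4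
    calc t * y = t * (y * k) * k⁻¹ := by group
      _ = y * k * k⁻¹ * t := h4
      _ = y * t := by group
  have hTp : ∀ t ∈ (T : Subgroup G), t * p = p * t := by
    intro t ht
    have h1 := (hT₀ _ (hT t ht)).2
    rw [← hkp]
    calc t * (k * r * k⁻¹) = k * (k⁻¹ * t * k * r) * k⁻¹ := by group
      _ = k * (r * (k⁻¹ * t * k)) * k⁻¹ := by rw [h1]
      _ = k * r * k⁻¹ * t := by group
  -- `q = y p`
  have hynp : y ≠ p := by
    intro h
    apply hpr
    have h1 : k * r = y * k := by rw [h, ← hkp]; group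
    rw [← hky] at h1
    rw [← h]
    exact (mul_left_cancel h1).symm
  set q := y * p with hq
  have hq1 : q ≠ 1 := by
    intro h
    apply hynp
    have : y = p⁻¹ := eq_inv_of_mul_eq_one_left h
    rw [this]
    exact inv_eq_of_mul_eq_one_left hpp
  have hqq : q ^ 2 = 1 := by
    rw [pow_two, hq]
    calc y * p * (y * p) = (y * p) * (p * y) := by rw [← hyp]
      _ = y * (p * p) * y := by group
      _ = 1 := by rw [hpp, mul_one, hy]
  set C := centralizer ({q} : Set G) with hC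
  have mC : ∀ g : G, g * y = y * g → g * p = p * g → g ∈ C := by
    intro g g1 g2
    rw [hC, mem_centralizer_singleton_iff, hq]
    calc g * (y * p) = (g * y) * p := by group
      _ = y * (g * p) := by rw [g1]; group
      _ = y * p * g := by rw [g2]; group
  have hTC : (T : Subgroup G) ≤ C := fun t ht => mC t (hTy t ht) (hTp t ht)
  have hloc := isLoc_centralizer T hqq hq1 hTC
  set O := o2 C with hO
  have hOT : O ≤ (T : Subgroup G) := hloc.o2_le T
  have hch : C ⊓ centralizer (O : Set G) ≤ O := hloc.char2 T hG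
  have hpC : p ∈ C := mC p hyp.symm rfl
  have hyC : y ∈ C := mC y rfl hyp
  have hpz : p ∈ zc O := by
    have h1 : p ∈ centralizer (O : Set G) := by
      rw [mem_centralizer_iff]
      exact fun t ht => hTp t (hOT ht)
    exact mem_zc.2 ⟨hch ⟨hpC, h1⟩, fun t ht => hTp t (hOT ht), by rw [pow_two]; exact hpp⟩
  have hyz : y ∈ zc O := by
    have h1 : y ∈ centralizer (O : Set G) := by
      rw [mem_centralizer_iff]
      exact fun t ht => hTy t (hOT ht)
    exact mem_zc.2 ⟨hch ⟨hyC, h1⟩, fun t ht => hTy t (hOT ht), by rw [pow_two]; exact hy⟩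
  have hCz : C ≤ normalizer (zc O : Set G) := (le_normalizer_o2 C).trans (normalizer_le_normalizer_zc _)
  -- `v ∈ C`
  have hvp : v * p * v⁻¹ = y₂ * y := by
    rw [hpdef]
    calc v * (y₂ * y₃) * v⁻¹ = (v * y₂ * v⁻¹) * (v * y₃ * v⁻¹) := by group
      _ = y₂ * y := by rw [hv2, hv3]
  have hvC : v ∈ C := by
    rw [hC, mem_centralizer_singleton_iff]
    have h1 : v * q * v⁻¹ = q := by
      calc v * q * v⁻¹ = (v * y * v⁻¹) * (v * p * v⁻¹) := by rw [hq]; group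
        _ = y₃ * (y₂ * y) := by rw [hv, hvp]
        _ = (y₂ * y₃) * y := by rw [c23]; group
        _ = p * y := by rw [hpdef]
        _ = q := hyp.symm
    exact mul_inv_eq_iff_eq_mul.1 h1
  have hy3z : y₃ ∈ zc O := by
    rw [← hv]
    exact conj_mem_of_normalizer (hCz hvC) hyz
  have hww : w * w = 1 := nat.sq w hw
  -- `w` moves `y₃`
  have hwy3 : w * y₃ ≠ y₃ * w := by
    intro h
    apply hp1
    have h1 : y₃ = y₂ := by
      rw [← hw3, h]; group
    rw [hpdef, h1, h2]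
  -- elements of `C(y) ∩ C(p)` normalise `W`
  have nW : ∀ c ∈ centralizer ({y} : Set G), c * p = p * c → ∀ x ∈ W, c * x * c⁻¹ ∈ W := by
    intro c hc hcp x hx
    refine nat.blk c hc p hp hp1 ?_ x hx
    rw [hcp, mul_inv_cancel_right]
    exact hp
  have cC : ∀ c ∈ centralizer ({y} : Set G), c * p = p * c → c ∈ C := fun c hc hcp =>
    mC c (mem_centralizer_singleton_iff.1 hc) hcp
  -- `W ∩ O = ⟨p⟩`
  have hA1 : ∀ a ∈ W, a ∈ O → a = 1 ∨ a = p := by
    rcases nat.irr p hp hp1 (W ⊓ O) inf_le_left ⟨hp, zc_le _ hpz⟩ (by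
      rintro c hc hcp a ⟨ha, ha'⟩
      exact ⟨nW c hc hcp a ha, conj_mem_of_normalizer (le_normalizer_o2 C (cC c hc hcp)) ha'⟩) with h | h
    · exact fun a ha ha' => h a ⟨ha, ha'⟩
    · exfalso
      exact hwy3 ((mem_zc.1 hy3z).2.1 w (h hw).2)
  set U := cl (zpowers p) C with hU
  have hUz : U ≤ zc O := cl_le (by rw [zpowers_le]; exact hpz) hCz
  have hUO : U ≤ O := hUz.trans (zc_le _)
  have hUc : ∀ a ∈ U, ∀ c ∈ U, a * c = c * a := fun a ha c hc => (mem_zc.1 (hUz hc)).2.1 a (hUO ha)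
  have hUsq : ∀ a ∈ U, a * a = 1 := fun a ha => by
    rw [← pow_two]; exact (mem_zc.1 (hUz ha)).2.2
  have hpU : p ∈ U := le_cl _ _ (mem_zpowers p)
  have hCU : C ≤ normalizer (U : Set G) := le_normalizer_cl _ _
  have hWC : W ≤ C := fun x hx => mC x (mem_centralizer_singleton_iff.1 (hWy hx)) (hWc x hx p hp)
  -- `[W, U] ≤ ⟨p⟩`
  have hWU : ∀ x ∈ W, ∀ n ∈ U, x * n * x⁻¹ = n ∨ x * n * x⁻¹ = n * p := by
    intro x hx n hn
    have hnT := hOT (hUO hn)
    have h1 : n * x⁻¹ * n⁻¹ ∈ W := nW n (by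
      rw [mem_centralizer_singleton_iff]; exact hTy n hnT) (hTp n hnT) _ (inv_mem hx)
    have h4 : x * n * x⁻¹ * n⁻¹ ∈ W := by
      have e : x * n * x⁻¹ * n⁻¹ = x * (n * x⁻¹ * n⁻¹) := by group
      rw [e]; exact mul_mem hx h1
    have h5 : x * n * x⁻¹ * n⁻¹ ∈ U := mul_mem (conj_mem_of_normalizer (hCU (hWC hx)) hn) (inv_mem hn)
    rcases hA1 _ h4 (hUO h5) with h6 | h6
    · left
      exact mul_inv_eq_one.1 h6
    · right
      rw [mul_inv_eq_iff_eq_mul] at h6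
      rw [h6, hUc p hpU n hn]
  -- `C_W(U) = ⟨p⟩`
  have hp' : y₂ * y ∈ U := by
    rw [← hvp]
    exact conj_mem_of_normalizer (hCU hvC) hpU
  have hwp' : w * (y₂ * y) * w⁻¹ ≠ y₂ * y := by
    intro h
    apply hp1
    have h1 : w * y₂ * w⁻¹ = y₃ := by
      rw [← hw3]
      calc w * (w * y₃ * w⁻¹) * w⁻¹ = (w * w) * y₃ * (w * w)⁻¹ := by group
        _ = y₃ := by rw [hww]; group
    have h4 : w * y * w⁻¹ = y := by
      rw [mem_centralizer_singleton_iff.1 (hWy hw), mul_inv_cancel_right]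
    have h5 : w * (y₂ * y) * w⁻¹ = y₃ * y := by
      calc w * (y₂ * y) * w⁻¹ = (w * y₂ * w⁻¹) * (w * y * w⁻¹) := by group
        _ = y₃ * y := by rw [h1, h4]
    rw [h5] at h
    have h6 := mul_right_cancel h
    rw [hpdef, h6, h2]
  have hA2 : ∀ a ∈ W, (∀ u ∈ U, a * u = u * a) → a = 1 ∨ a = p := by
    rcases nat.irr p hp hp1 (W ⊓ centralizer (U : Set G)) inf_le_left
        (mem_inf.2 ⟨hp, mem_centralizer_iff.2 fun u hu => hUc u hu p hpU⟩) (by
      rintro c hc hcp a ⟨ha, ha'⟩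
      refine ⟨nW c hc hcp a ha, ?_⟩
      exact conj_mem_of_normalizer (normalizer_le_normalizer_centralizer _ (hCU (cC c hc hcp))) ha') with h | h
    · intro a ha ha'
      exact h a (mem_inf.2 ⟨ha, mem_centralizer_iff.2 fun u hu => (ha' u hu).symm⟩)
    · exfalso
      have h1 := mem_centralizer_iff.1 (h hw).2 _ hp'
      exact hwp' (by rw [← h1]; group)
  have mv : ∀ a ∈ W, a ≠ 1 → a ≠ p → ∃ n ∈ U, a * n * a⁻¹ ≠ n := by
    intro a ha ha1 hap
    by_contra hcon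
    push Not at hcon
    rcases hA2 a ha (fun u hu => mul_inv_eq_iff_eq_mul.1 (hcon u hu)) with h | h
    · exact ha1 h
    · exact hap h
  -- the natural component for `C`
  obtain ⟨a, ha, ha1, hap, -, -⟩ := nat.big p hp p hp
  obtain ⟨c, hc, hc1, hcp, hca, hcpa⟩ := nat.big p hp a ha
  have haa : a * a = 1 := nat.sq a ha
  have hainv : a⁻¹ = a := inv_eq_of_mul_eq_one_left haa
  have hac1 : a * c ≠ 1 := by
    intro h
    apply hca
    have : c = a⁻¹ := eq_inv_of_mul_eq_one_right h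
    rw [this, hainv]
  have hacp : a * c ≠ p := by
    intro h
    apply hcpa
    rw [hWc p hp a ha, ← h]
    calc c = a⁻¹ * (a * c) := by group
      _ = a * (a * c) := by rw [hainv]
  obtain ⟨W', nat'⟩ := natC_of_sylow T (C := C) (A := zpowers p) (r := p) hTC hTp
    (fun x => ⟨fun hx => zpowers_two hpp hx, by
      rintro (rfl | rfl)
      · exact one_mem _
      · exact mem_zpowers _⟩) hp1 hUsq (hWC ha) (hWC hc) (hWU a ha) (hWU c hc) (mv a ha ha1 hap)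
    (mv c hc hc1 hcp) (mv _ (mul_mem ha hc) hac1 hacp)
  have hpW' : p ∈ W' := nat'.mem
  have hW'U : W' ≤ U := nat'.W_le
  -- an element of `W` moving `U` moves a conjugate of `p`, which lies in `W'`
  have mvW' : ∀ x ∈ W, (∃ n ∈ U, x * n * x⁻¹ ≠ n) → ∃ n ∈ W', x * n * x⁻¹ ≠ n := by
    intro x hx hne
    by_contra hcon
    push Not at hcon
    obtain ⟨n, hn, hne⟩ := hne
    apply hne
    have h1 : U ≤ centralizer ({x} : Set G) := by
      refine iSup_le fun m => ?_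
      rintro _ ⟨n, hn, rfl⟩
      change (m : G) * n * (m : G)⁻¹ ∈ _
      rcases zpowers_two hpp hn with rfl | rfl
      · rw [mul_one, mul_inv_cancel]; exact one_mem _
      · rw [mem_centralizer_singleton_iff]
        by_cases h4 : x * ((m : G) * n * (m : G)⁻¹) * x⁻¹ = (m : G) * n * (m : G)⁻¹
        · exact (mul_inv_eq_iff_eq_mul.1 h4).symm
        · have h5 := nat'.adj n hpW' hp1 x (hWC hx) (hWU x hx) m m.2 h4
          exact absurd (hcon _ h5) h4
    have h4 := mem_centralizer_singleton_iff.1 (h1 hn)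
    rw [← h4, mul_inv_cancel_right]
  -- `z` centralises `W'`
  have hzp : z * p = p * z := by
    rw [hpdef]
    calc z * (y₂ * y₃) = (z * y₂) * y₃ := by group
      _ = y₂ * (z * y₃) := by rw [z2]; group
      _ = y₂ * y₃ * z := by rw [z3]; group
  have hzC : z ∈ C := mC z z1 hzp
  have hp'W : y₂ * y ∈ W' := by
    have h1 := nat'.adj p hpW' hp1 w (hWC hw) (hWU w hw) v hvC (by rw [hvp]; exact hwp')
    rwa [hvp] at h1
  have hpp' : p ≠ y₂ * y := by
    intro h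
    apply hwp'
    rw [← h, hWc w hw p hp, mul_inv_cancel_right]
  have zW' : ∀ x ∈ W', z * x * z⁻¹ ∈ W' := by
    intro x hx
    refine nat'.blk z hzC p hpW' hp1 ?_ x hx
    rw [hzp, mul_inv_cancel_right]
    exact hpW'
  have hK1 : ∀ d ∈ W', (∀ a ∈ W, a * d = d * a) → d = 1 ∨ d = p := by
    rcases nat'.irr p hpW' hp1 (W' ⊓ centralizer (W : Set G)) inf_le_left
        (mem_inf.2 ⟨hpW', mem_centralizer_iff.2 fun a ha => hWc a ha p hp⟩) (by
      rintro c hc hcp d ⟨hd, hd'⟩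
      refine mem_inf.2 ⟨nat'.blk c hc p hpW' hp1 (by rw [hcp, mul_inv_cancel_right]; exact hpW') d hd, ?_⟩
      -- `c ∈ C(y)`
      have hcy : ∀ c : G, c ∈ C → c * p = p * c → c ∈ centralizer ({y} : Set G) := by
        intro c hc hcp
        rw [mem_centralizer_singleton_iff]
        have h1 : c * q = q * c := mem_centralizer_singleton_iff.1 hc
        have h4 : y = q * p := by
          rw [hq, mul_assoc, hpp, mul_one]
        rw [h4]
        calc c * (q * p) = (c * q) * p := by group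
          _ = q * (c * p) := by rw [h1]; group
          _ = q * p * c := by rw [hcp]; group
      rw [mem_centralizer_iff]
      intro a ha
      have hcinv : c⁻¹ * p = p * c⁻¹ := by
        rw [inv_mul_eq_iff_eq_mul, ← mul_assoc, hcp, mul_inv_cancel_right]
      have h1 := nW _ (hcy _ (inv_mem hc) hcinv) hcinv a ha
      rw [inv_inv] at h1
      have h4 := mem_centralizer_iff.1 hd' _ h1
      calc a * (c * d * c⁻¹) = c * ((c⁻¹ * a * c) * d) * c⁻¹ := by group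
        _ = c * (d * (c⁻¹ * a * c)) * c⁻¹ := by rw [h4]
        _ = c * d * c⁻¹ * a := by group) with h | h
    · intro d hd hd'
      exact h d (mem_inf.2 ⟨hd, mem_centralizer_iff.2 fun a ha => hd' a ha⟩)
    · exfalso
      obtain ⟨n, hn, hne⟩ := mvW' a ha (mv a ha ha1 hap)
      exact hne (by rw [mem_centralizer_iff.1 (h hn).2 a ha, mul_inv_cancel_right])
  have hz1 : ∀ x ∈ W', z * x * z⁻¹ * x⁻¹ = 1 ∨ z * x * z⁻¹ * x⁻¹ = p := by
    intro x hx
    refine hK1 _ (mul_mem (zW' x hx) (inv_mem hx)) fun a ha => ?_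
    have hxU := hW'U hx
    have hzx := hW'U (zW' x hx)
    have h0 := zW a ha
    have e1 : a * (z * x * z⁻¹) * a⁻¹ = z * (a * x * a⁻¹) * z⁻¹ := by
      have h4 : a⁻¹ * z = z * a⁻¹ := by
        rw [inv_mul_eq_iff_eq_mul, ← mul_assoc, ← h0, mul_inv_cancel_right]
      have h5 : z⁻¹ * a⁻¹ = a⁻¹ * z⁻¹ := by
        rw [← mul_inv_rev, ← mul_inv_rev, h0]
      calc a * (z * x * z⁻¹) * a⁻¹ = (a * z) * x * (z⁻¹ * a⁻¹) := by group
        _ = (z * a) * x * (a⁻¹ * z⁻¹) := by rw [← h0, h5]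
        _ = z * (a * x * a⁻¹) * z⁻¹ := by group
    rw [← mul_inv_eq_iff_eq_mul]
    rcases hWU a ha x hxU with h4 | h4
    · calc a * (z * x * z⁻¹ * x⁻¹) * a⁻¹ = (a * (z * x * z⁻¹) * a⁻¹) * (a * x * a⁻¹)⁻¹ := by group
        _ = z * x * z⁻¹ * x⁻¹ := by rw [e1, h4]
    · have h5 : z * (x * p) * z⁻¹ = (z * x * z⁻¹) * p := by
        calc z * (x * p) * z⁻¹ = z * x * z⁻¹ * ((z * p) * z⁻¹) := by group
          _ = (z * x * z⁻¹) * p := by rw [hzp, mul_inv_cancel_right]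
      calc a * (z * x * z⁻¹ * x⁻¹) * a⁻¹ = (a * (z * x * z⁻¹) * a⁻¹) * (a * x * a⁻¹)⁻¹ := by group
        _ = (z * x * z⁻¹) * p * (x * p)⁻¹ := by rw [e1, h4, h5]
        _ = z * x * z⁻¹ * x⁻¹ := by group
  have hvW : ∀ x ∈ W', v⁻¹ * x * v ∈ W' := by
    intro x hx
    have h1 := nat'.blk v⁻¹ (inv_mem hvC) (y₂ * y) hp'W (fun h => hwp' (by rw [h]; group)) (by
      rw [← hvp]
      have e : v⁻¹ * (v * p * v⁻¹) * v⁻¹⁻¹ = p := by group
      rw [e]; exact hpW') x hx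
    rwa [inv_inv] at h1
  have hzc : ∀ x ∈ W', z * x = x * z := by
    intro x hx
    have h1 := hz1 x hx
    have h4 : z * x * z⁻¹ * x⁻¹ = 1 ∨ z * x * z⁻¹ * x⁻¹ = y₂ * y := by
      have hzv' : v⁻¹ * z = z * v⁻¹ := by
        rw [inv_mul_eq_iff_eq_mul, ← mul_assoc, ← zv, mul_inv_cancel_right]
      have e : v * (z * (v⁻¹ * x * v) * z⁻¹ * (v⁻¹ * x * v)⁻¹) * v⁻¹ = z * x * z⁻¹ * x⁻¹ := by
        have h6 : v * z⁻¹ = z⁻¹ * v := by
          rw [eq_inv_mul_iff_mul_eq, ← mul_assoc, zv, mul_inv_cancel_right]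
        calc v * (z * (v⁻¹ * x * v) * z⁻¹ * (v⁻¹ * x * v)⁻¹) * v⁻¹
            = (v * z) * v⁻¹ * x * (v * z⁻¹) * v⁻¹ * x⁻¹ := by group
          _ = (z * v) * v⁻¹ * x * (z⁻¹ * v) * v⁻¹ * x⁻¹ := by rw [← zv, h6]
          _ = z * x * z⁻¹ * x⁻¹ := by group
      rcases hz1 _ (hvW x hx) with h5 | h5
      · left
        rw [← e, h5]; group
      · right
        rw [← e, h5, hvp]
    have h5 : z * x * z⁻¹ * x⁻¹ = 1 := by
      rcases h1 with h1 | h1
      · exact h1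
      · rcases h4 with h4 | h4
        · exact h4
        · exact absurd (h1.symm.trans h4) hpp'
    rw [mul_inv_eq_one, mul_inv_eq_iff_eq_mul] at h5
    exact h5
  -- `r` moves an element of `W'`
  obtain ⟨x, hx, hne⟩ := mvW' r nat.mem (mv r nat.mem nat.ne hpr.symm)
  refine ⟨x, hzc x hx, ?_⟩
  have h1 := (hWU r nat.mem x (hW'U hx)).resolve_left hne
  calc x⁻¹ * r * x * r⁻¹ = x⁻¹ * (r * x * r⁻¹) := by group
    _ = p := by rw [h1]; group

/-! ### (4) -/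

section

variable {S : Sylow 2 G} {P V : Subgroup G} {R : ι → Subgroup G} {o : ι}

/-- an element of `Q k` conjugates `Z(Q i)` elements: `c ∈ Z(Q i)`, `w ∈ Q j - C(V)` : `[c, c^w] = 1` -/
theorem comm_conj_Q [Finite G] (b : BTS V R) {i j : ι} (hij : i ≠ j) {c w : G} (hc : c ∈ ZQ R i)
    (hw : w ∈ QQ (R j)) (hw' : w ∉ centralizer (V : Set G)) :
    c * (w * c * w⁻¹) = (w * c * w⁻¹) * c := by
  obtain ⟨w₀, hw₀, d, hd, rfl⟩ := Q_eq b.toBT j hw
  have hdV : d ∈ centralizer (V : Set G) := C_le_EE b.toBT j hd |>.2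
  have hw0V : w₀ ∉ centralizer (V : Set G) := fun h => hw' (mul_mem hdV h)
  have h1 := comm_conj b hij (ZQ_le_cenW b.toBT i hc) hw₀ (fun h => hw0V (UU_le_cen j h))
  obtain ⟨k, -, -, hk⟩ := movesQ b.toBT hij (b.W_le_Q j hw₀) hw0V
  have h2 : w₀ * c * w₀⁻¹ ∈ ZQ R k := by
    rw [← cj_ZQ b.toBT hk]
    exact conj_mem_cj hc
  have h3 : d * (w₀ * c * w₀⁻¹) = w₀ * c * w₀⁻¹ * d := ZQ_comm h2 (mem_iInf.1 hd k)
  have e : d * w₀ * c * (d * w₀)⁻¹ = w₀ * c * w₀⁻¹ := by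
    calc d * w₀ * c * (d * w₀)⁻¹ = d * (w₀ * c * w₀⁻¹) * d⁻¹ := by group
      _ = w₀ * c * w₀⁻¹ := by rw [h3, mul_inv_cancel_right]
  rw [e]
  exact h1

/-- **(4) of #14489** -/
theorem alpha_four [Finite G] (b : HT S P V R o) {r : G} (hr : ∀ x, x ∈ R o ↔ x = 1 ∨ x = r) {z : G}
    (hz : z ∈ zc (S : Subgroup G) ⊓ centralizer (P : Set G)) (hz1 : z ≠ 1)
    (hα : UM V (centralizer ({z} : Set G)) ≤ QQ (R o)) {y : G} {W : Subgroup G} (g : Good R o r y W)
    (hW : ¬ W ≤ centralizer (V : Set G)) : ∃ a ∈ R o, a * y ∈ CenX V R := by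
  have bs := b.toBTS
  have hLE := HT.le_all b
  have d := b.dt hz hz1
  obtain ⟨w, hw, hwV⟩ := Set.not_subset.1 hW
  have hwQ : w ∈ QQ (R o) := g.W_Q hw
  have hww : w * w = 1 := g.nat.sq w hw
  obtain ⟨j, -, hj, -, -⟩ := b.one_lt
  obtain ⟨k, hkj, hko, hk⟩ := movesQ b.toBT hj hwQ hwV
  have hk' : cj w (R k) = R j := by
    rw [← hk, ← cj_mul, hww, cj_one]
  obtain ⟨v, hv, ev⟩ := b.trans j (Ne.symm hj) hkj
  have hvv : v * v ∈ R j := b.W_sq j hv
  have hvX : v ∈ XX V R := W_le_X V R j hv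
  have hvQ : v ∈ QQ (R j) := b.W_le_Q j hv
  have hvU : v ∉ UU V R j := by
    intro h
    have h1 : cj v (R o) = R o := cj_eq_self_iff.2 (b.cen_le_N o (UU_le_cen j h))
    exact hko (b.R_index (ev.symm.trans h1))
  obtain ⟨y₃, hy₃⟩ : ∃ y₃, y₃ = v * y * v⁻¹ := ⟨_, rfl⟩
  have z3 : y₃ ∈ ZQ R k := by
    rw [hy₃, ← cj_ZQ b.toBT ev]
    exact conj_mem_cj g.z
  obtain ⟨y₂, hy₂⟩ : ∃ y₂, y₂ = w * y₃ * w⁻¹ := ⟨_, rfl⟩
  have z2 : y₂ ∈ ZQ R j := by
    rw [hy₂, ← cj_ZQ b.toBT hk']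
    exact conj_mem_cj z3
  have yV : y ∈ centralizer (V : Set G) := ZQ_le_cen b.toBT o g.z
  have y3V : y₃ ∈ centralizer (V : Set G) := ZQ_le_cen b.toBT k z3
  -- back to `y`
  have back : (∃ a ∈ R k, a * y₃ ∈ CenX V R) → ∃ a ∈ R o, a * y ∈ CenX V R := by
    rintro ⟨a, ha, h⟩
    refine ⟨v⁻¹ * a * v, ?_, ?_⟩
    · rw [← ev, mem_cj] at ha
      exact ha
    · have h1 := conj_inv_mem_of_normalizer (b.NV_le_NCenX (b.X_le_NV hvX)) h
      have e : v⁻¹ * (a * y₃) * v = v⁻¹ * a * v * y := by rw [hy₃]; group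
      rwa [e] at h1
  by_cases h3j : y₃ ∈ QQ (R j)
  · exact back (ZQ_Q bs hkj z3 h3j)
  -- the commutations
  have c13 : y * y₃ = y₃ * y := by
    rw [hy₃]
    exact comm_conj bs (Ne.symm hj) (ZQ_le_cenW b.toBT o g.z) hv hvU
  have c23 : y₂ * y₃ = y₃ * y₂ := by
    rw [hy₂]
    exact (comm_conj_Q bs hko z3 hwQ hwV).symm
  have hy3sq : y₃ * y₃ = 1 := by
    rw [hy₃]
    calc v * y * v⁻¹ * (v * y * v⁻¹) = v * (y * y) * v⁻¹ := by group
      _ = 1 := by rw [g.sq]; group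
  have hy2sq : y₂ * y₂ = 1 := by
    rw [hy₂]
    calc w * y₃ * w⁻¹ * (w * y₃ * w⁻¹) = w * (y₃ * y₃) * w⁻¹ := by group
      _ = 1 := by rw [hy3sq]; group
  have hrV : r ∈ V := b.R_le o ((hr r).2 (Or.inr rfl))
  have hp : y₂ * y₃ ∈ W := by
    have h1 : y₃ * w⁻¹ * y₃⁻¹ ∈ W := by
      refine g.nat.blk y₃ (mem_centralizer_singleton_iff.2 c13.symm) r g.nat.mem g.nat.ne ?_ _ (inv_mem hw)
      have h2 := mem_centralizer_iff.1 y3V r hrV
      rw [← h2, mul_inv_cancel_right]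
      exact g.nat.mem
    have h2 : y₃⁻¹ = y₃ := inv_eq_of_mul_eq_one_left hy3sq
    have e : y₂ * y₃ = w * (y₃ * w⁻¹ * y₃⁻¹) := by rw [hy₂, h2]; group
    rw [e]
    exact mul_mem hw h1
  have hp1 : y₂ * y₃ ≠ 1 := by
    intro h
    apply h3j
    have h1 : y₂ = y₃⁻¹ := eq_inv_of_mul_eq_one_left h
    rw [inv_eq_of_mul_eq_one_left hy3sq] at h1
    rw [← h1]
    exact ZQ_le j z2
  have hpr : y₂ * y₃ ≠ r := by
    intro h
    apply h3j
    have h1 : y₃ = y₂⁻¹ * r := by rw [← h]; group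
    rw [h1]
    exact mul_mem (inv_mem (ZQ_le j z2)) (b.V_Q j hrV)
  -- `z`
  have hzX : z ∈ CenX V R := b.cz_le hz
  have zQ : ∀ i, ∀ q ∈ QQ (R i), z * q = q * z := fun i q hq => cenX_Q bs (hLE i) hzX hq
  obtain ⟨x, hx, hxr⟩ := core b.char2 (A := R o) (r := r) (y := y) (y₂ := y₂) (y₃ := y₃) (w := w) (v := v)
    (z := z) g.sq hy2sq c23 g.syl g.nat (g.W_cen b.toBT) hw hy₂.symm hy₃.symm (by
      have h1 : v * v * y = y * (v * v) := (mem_centralizer_iff.1 yV _ (b.R_le j hvv))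
      calc v * y₃ * v⁻¹ = (v * v * y) * (v * v)⁻¹ := by rw [hy₃]; group
        _ = y := by rw [h1, mul_inv_cancel_right]) (by
      have h1 := ZQ_comm z2 hvQ
      rw [h1, mul_inv_cancel_right]) hp hp1 hpr (fun q hq => zQ o q (g.W_Q hq)) (zQ j v hvQ)
      (zQ o y (ZQ_le o g.z)) (zQ j y₂ (ZQ_le j z2)) (zQ k y₃ (ZQ_le k z3))
  -- `p ∈ U_z ≤ Q j`
  have hrU : r ∈ UM V (centralizer ({z} : Set G)) := le_cl _ _ hrV
  have hxU : x⁻¹ * r * x ∈ UM V (centralizer ({z} : Set G)) :=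
    conj_inv_mem_of_normalizer (le_normalizer_cl V _ (mem_centralizer_singleton_iff.2 hx.symm)) hrU
  have hpU : y₂ * y₃ ∈ UM V (centralizer ({z} : Set G)) := by
    rw [← hxr]
    exact mul_mem hxU (inv_mem hrU)
  have hpQ : y₂ * y₃ ∈ QQ (R j) := (d.alpha_indep b.toBT o j).1 hα hpU
  exfalso
  apply h3j
  have e : y₃ = y₂⁻¹ * (y₂ * y₃) := by group
  rw [e]
  exact mul_mem (inv_mem (ZQ_le j z2)) hpQ

end

end Cfsg.Agent.Omega.HTwo.Alpha
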