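import Cfsg.Agent.Omega.HTwo.EightFour

/-!
# #15507 (helper779) (6)(ii): `L_r ∩ K_r = Q_r`, `L_r K_r = H_r`, `|L_r| = 6 |Q_r|`
-/

set_option autoImplicit false
set_option Elab.async false

namespace Cfsg.Agent.Omega.HTwo.Eight

open Subgroup Cfsg.Agent.Omega.BTwo

variable {G : Type*} [Group G]

/-- the two involutions generating `L_r / Q_r` -/
structure UA (z : G) (U : Subgroup G) (f : G → G → ZMod 2) (t : G → G) (r u h0 a : G) : Prop where
  uU : u ∈ U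
  h0C : h0 ∈ Cp r
  aC : a ∈ Cp r
  a_def : a = h0 * u * h0⁻¹
  h0z : h0 * z * h0⁻¹ = t r
  f1 : f r u = 1
  ut : u * t r * u⁻¹ = r * z * t r
  ta : a * t r * a⁻¹ = t r
  az : a * z * a⁻¹ = r * z * t r

/-- the six coset representatives -/
def wrd (u a : G) : Fin 6 → G := ![1, u, a, u * a, a * u, u * a * u]

/-- images of `z` -/
def sgz (z y y' : G) : Fin 6 → G := ![z, z, y', y, y', y]

/-- images of `y` -/
def sgy (z y y' : G) : Fin 6 → G := ![y, y', y, y', z, z]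

theorem sg_inj {z y y' : G} (h1 : z ≠ y) (h2 : z ≠ y') (h3 : y ≠ y') (i j : Fin 6)
    (hz : sgz z y y' i = sgz z y y' j) (hy : sgy z y y' i = sgy z y y' j) : i = j := by
  fin_cases i <;> fin_cases j <;> first
    | rfl
    | exact absurd hz h1
    | exact absurd hz h2
    | exact absurd hz h3
    | exact absurd hz h1.symm
    | exact absurd hz h2.symm
    | exact absurd hz h3.symm
    | exact absurd hy h1
    | exact absurd hy h2
    | exact absurd hy h3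
    | exact absurd hy h1.symm
    | exact absurd hy h2.symm
    | exact absurd hy h3.symm

namespace Res

variable {z : G} {M U : Subgroup G} {Δ : Set G} {f : G → G → ZMod 2} {t : G → G} (A : Res z M U Δ f t)
include A

theorem exists_UA (h3 : Three z Δ t) {r : G} (hr : r ∈ Δ) : ∃ u h0 a, UA z U f t r u h0 a := by
  obtain ⟨u, hu, h0, hh0, a, _, e1, e2, e3, e4, e5, e6, e7⟩ := A.exists_ua h3 hr
  exact ⟨u, h0, a, ⟨hu, hh0, e7, e3, e1, e2, e4, e5, e6⟩⟩

variable {r u h0 a : G}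

theorem z_ne_t (hr : r ∈ Δ) : z ≠ t r := fun h =>
  A.t_mv hr fun v hv => by rw [← h]; exact A.U_comm z A.z_U v hv

theorem z_ne_y (hr : r ∈ Δ) : z ≠ r * z * t r := fun h => by
  apply A.t_mv hr
  intro v hv
  have h1 : t r ∈ U := by
    have e : t r = (r * z)⁻¹ * z := by
      calc t r = (r * z)⁻¹ * (r * z * t r) := by group
        _ = (r * z)⁻¹ * z := by rw [← h]
    rw [e]
    exact mul_mem (inv_mem (A.pz_U hr)) A.z_U
  exact A.U_comm _ h1 v hv

theorem t_ne_y (hr : r ∈ Δ) : t r ≠ r * z * t r := fun h => by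
  have h1 : 1 * t r = r * z * t r := by rw [one_mul]; exact h
  exact A.pz_ne_one hr (mul_right_cancel h1).symm

theorem aa (c : UA z U f t r u h0 a) : a * a = 1 := by
  rw [c.a_def]
  calc h0 * u * h0⁻¹ * (h0 * u * h0⁻¹) = h0 * (u * u) * h0⁻¹ := by group
    _ = 1 := by rw [A.U_sq u c.uU]; group

theorem uy (c : UA z U f t r u h0 a) : u * (r * z * t r) * u⁻¹ = t r := by
  rw [← c.ut]
  calc u * (u * t r * u⁻¹) * u⁻¹ = (u * u) * t r * (u * u)⁻¹ := by group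
    _ = t r := by rw [A.U_sq u c.uU]; group

theorem ay (c : UA z U f t r u h0 a) : a * (r * z * t r) * a⁻¹ = z := by
  rw [← c.az]
  calc a * (a * z * a⁻¹) * a⁻¹ = (a * a) * z * (a * a)⁻¹ := by group
    _ = z := by rw [A.aa c]; group

theorem uz (c : UA z U f t r u h0 a) : u * z * u⁻¹ = z := by
  rw [A.U_comm u c.uU z A.z_U, mul_inv_cancel_right]

/-- the action of the six words on `z`, `t_r` -/
theorem wrd_z (c : UA z U f t r u h0 a) (i : Fin 6) :
    wrd u a i * z * (wrd u a i)⁻¹ = sgz z (t r) (r * z * t r) i := by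
  have h1 := A.uz c
  have h2 := c.az
  have h4 := A.uy c
  fin_cases i
  · change (1 : G) * z * 1⁻¹ = z; group
  · exact h1
  · exact h2
  · change u * a * z * (u * a)⁻¹ = t r
    calc u * a * z * (u * a)⁻¹ = u * (a * z * a⁻¹) * u⁻¹ := by group
      _ = t r := by rw [h2, h4]
  · change a * u * z * (a * u)⁻¹ = r * z * t r
    calc a * u * z * (a * u)⁻¹ = a * (u * z * u⁻¹) * a⁻¹ := by group
      _ = r * z * t r := by rw [h1, h2]
  · change u * a * u * z * (u * a * u)⁻¹ = t r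
    calc u * a * u * z * (u * a * u)⁻¹ = u * (a * (u * z * u⁻¹) * a⁻¹) * u⁻¹ := by group
      _ = t r := by rw [h1, h2, h4]

theorem wrd_t (c : UA z U f t r u h0 a) (i : Fin 6) :
    wrd u a i * t r * (wrd u a i)⁻¹ = sgy z (t r) (r * z * t r) i := by
  have h1 := c.ut
  have h2 := c.ta
  have h4 := A.uy c
  have h5 := A.ay c
  have h6 := A.uz c
  fin_cases i
  · change (1 : G) * t r * 1⁻¹ = t r; group
  · exact h1
  · exact h2
  · change u * a * t r * (u * a)⁻¹ = r * z * t r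
    calc u * a * t r * (u * a)⁻¹ = u * (a * t r * a⁻¹) * u⁻¹ := by group
      _ = r * z * t r := by rw [h2, h1]
  · change a * u * t r * (a * u)⁻¹ = z
    calc a * u * t r * (a * u)⁻¹ = a * (u * t r * u⁻¹) * a⁻¹ := by group
      _ = z := by rw [h1, h5]
  · change u * a * u * t r * (u * a * u)⁻¹ = z
    calc u * a * u * t r * (u * a * u)⁻¹ = u * (a * (u * t r * u⁻¹) * a⁻¹) * u⁻¹ := by group
      _ = z := by rw [h1, h5, h6]

theorem wrd_L (hr : r ∈ Δ) (c : UA z U f t r u h0 a) (i : Fin 6) : wrd u a i ∈ Lp U r := by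
  have _ := hr
  have hu : u ∈ Lp U r := A.U_le_L c.uU
  have ha : a ∈ Lp U r := A.cj_U_le_L c.h0C (by rw [c.a_def]; exact conj_mem_cj c.uU)
  fin_cases i
  · exact one_mem _
  · exact hu
  · exact ha
  · exact mul_mem hu ha
  · exact mul_mem ha hu
  · exact mul_mem (mul_mem hu ha) hu

/-- two words congruent mod `K_r` are equal -/
theorem wrd_inj (hr : r ∈ Δ) (c : UA z U f t r u h0 a) (i j : Fin 6) {k : G} (hk : k ∈ Kp z r)
    (e : wrd u a i * k = wrd u a j) : i = j := by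
  have hkz : k * z * k⁻¹ = z := by
    rw [← (mem_centralizer_iff.1 hk) z (z_N z r), mul_inv_cancel_right]
  have hkt : k * t r * k⁻¹ = t r := by
    rw [← (mem_centralizer_iff.1 hk) _ (A.t_N hr), mul_inv_cancel_right]
  refine sg_inj (A.z_ne_t hr) (A.z_ne_y hr) (A.t_ne_y hr) i j ?_ ?_
  · rw [← A.wrd_z c i, ← A.wrd_z c j, ← e]
    calc wrd u a i * z * (wrd u a i)⁻¹ = wrd u a i * (k * z * k⁻¹) * (wrd u a i)⁻¹ := by rw [hkz]
      _ = wrd u a i * k * z * (wrd u a i * k)⁻¹ := by group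
  · rw [← A.wrd_t c i, ← A.wrd_t c j, ← e]
    calc wrd u a i * t r * (wrd u a i)⁻¹ = wrd u a i * (k * t r * k⁻¹) * (wrd u a i)⁻¹ := by rw [hkt]
      _ = wrd u a i * k * t r * (wrd u a i * k)⁻¹ := by group

/-! ### the cosets of `Q_r` in `U_y` -/

theorem U_coset (hr : r ∈ Δ) (c : UA z U f t r u h0 a) {v : G} (hv : v ∈ U) : v ∈ Qp r ∨ v * u⁻¹ ∈ Qp r := by
  rcases z2 (f r v) with h | h
  · exact Or.inl ((A.Q_f r hr v hv).2 h)
  · right
    rw [A.Q_f r hr _ (mul_mem hv (inv_mem c.uU)), A.inv_eq c.uU, A.f_add' (A.Δ_U r hr) hv c.uU, h, c.f1]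
    decide

theorem U_coset' (hr : r ∈ Δ) (c : UA z U f t r u h0 a) {h x : G} (hh : h ∈ Cp r) (hx : x ∈ cj h U) :
    x ∈ Qp r ∨ x * (h * u * h⁻¹)⁻¹ ∈ Qp r := by
  rw [mem_cj] at hx
  rcases A.U_coset hr c hx with h1 | h1
  · left
    have h2 := Q_normal hh h1
    have e : h * (h⁻¹ * x * h) * h⁻¹ = x := by group
    rwa [e] at h2
  · right
    have h2 := Q_normal hh h1
    have e : h * (h⁻¹ * x * h * u⁻¹) * h⁻¹ = x * (h * u * h⁻¹)⁻¹ := by group
    rwa [e] at h2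

theorem u_notin (hr : r ∈ Δ) (c : UA z U f t r u h0 a) : u ∉ Qp r := fun h => by
  have h1 := (A.Q_f r hr u c.uU).1 h
  rw [c.f1] at h1
  exact absurd h1 (by decide)

/-- the braid relation mod `Q_r` -/
theorem braid (hr : r ∈ Δ) (c : UA z U f t r u h0 a) : a * u * a * (u * a * u)⁻¹ ∈ Qp r := by
  have hU := A.U_cen hr c.uU
  have h1 : cj a U = cj (u * h0) U := by
    refine A.cj_U_eq hr c.aC (mul_mem hU c.h0C) ?_
    rw [c.az]
    calc r * z * t r = u * t r * u⁻¹ := c.ut.symm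
      _ = u * (h0 * z * h0⁻¹) * u⁻¹ := by rw [c.h0z]
      _ = u * h0 * z * (u * h0)⁻¹ := by group
  have h2 : a * u * a⁻¹ ∈ cj (u * h0) U := by rw [← h1]; exact conj_mem_cj c.uU
  rcases A.U_coset' hr c (mul_mem hU c.h0C) h2 with h4 | h4
  · exfalso
    have h5 := Q_normal (inv_mem c.aC) h4
    have e : a⁻¹ * (a * u * a⁻¹) * a⁻¹⁻¹ = u := by group
    rw [e] at h5
    exact A.u_notin hr c h5
  · have ha : a⁻¹ = a := inv_eq_of_mul_eq_one_left (A.aa c)
    have hu : u⁻¹ = u := A.inv_eq c.uU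
    have e : a * u * a⁻¹ * (u * h0 * u * (u * h0)⁻¹)⁻¹ = a * u * a⁻¹ * (u * (h0 * u * h0⁻¹) * u⁻¹)⁻¹ := by group
    rw [e, ← c.a_def, ha, hu] at h4
    exact h4

/-- every element of `L_r` is congruent to one of the six words -/
theorem L_mem (h3 : Three z Δ t) (hr : r ∈ Δ) (c : UA z U f t r u h0 a) {l : G} (hl : l ∈ Lp U r) :
    ∃ i, (wrd u a i)⁻¹ * l ∈ Qp r := by
  have hU := A.U_cen hr c.uU
  have hn : ((Qp r).subgroupOf (Cp r)).Normal :=
    ⟨fun x hx g => Q_normal g.2 hx⟩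
  let π := QuotientGroup.mk' ((Qp r).subgroupOf (Cp r))
  have hπ : ∀ (x y : G) (hx : x ∈ Cp r) (hy : y ∈ Cp r), x⁻¹ * y ∈ Qp r → π ⟨x, hx⟩ = π ⟨y, hy⟩ := by
    intro x y hx hy h
    exact QuotientGroup.eq.2 h
  have hπ' : ∀ (x y : G) (hx : x ∈ Cp r) (hy : y ∈ Cp r), π ⟨x, hx⟩ = π ⟨y, hy⟩ → x⁻¹ * y ∈ Qp r := by
    intro x y hx hy h
    have h' : ((⟨x, hx⟩ : Cp r) : Cp r ⧸ (Qp r).subgroupOf (Cp r)) = ((⟨y, hy⟩ : Cp r) : _) := h
    have h2 := QuotientGroup.eq.1 h'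
    exact h2
  -- `x y⁻¹ ∈ Q` also suffices
  have hπ2 : ∀ (x y : G) (hx : x ∈ Cp r) (hy : y ∈ Cp r), x * y⁻¹ ∈ Qp r → π ⟨x, hx⟩ = π ⟨y, hy⟩ := by
    intro x y hx hy h
    refine (hπ y x hy hx ?_).symm
    have h1 := Q_normal (inv_mem hy) h
    have e : y⁻¹ * (x * y⁻¹) * y⁻¹⁻¹ = y⁻¹ * x := by group
    rwa [e] at h1
  set s := π ⟨u, hU⟩ with hs
  set b := π ⟨a, c.aC⟩ with hb
  have hss : s * s = 1 := by
    rw [hs, ← map_mul]
    have e : (⟨u, hU⟩ : Cp r) * ⟨u, hU⟩ = 1 := Subtype.ext (A.U_sq u c.uU)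
    rw [e, map_one]
  have hbb : b * b = 1 := by
    rw [hb, ← map_mul]
    have e : (⟨a, c.aC⟩ : Cp r) * ⟨a, c.aC⟩ = 1 := Subtype.ext (A.aa c)
    rw [e, map_one]
  have hbr : b * s * b = s * b * s :=
    hπ2 (a * u * a) (u * a * u) (mul_mem (mul_mem c.aC hU) c.aC) (mul_mem (mul_mem hU c.aC) hU) (A.braid hr c)
  let T : Subgroup G := ((closure ({s, b} : Set _)).comap π).map (Cp r).subtype
  have hT : ∀ x (hx : x ∈ Cp r), π ⟨x, hx⟩ ∈ closure ({s, b} : Set _) → x ∈ T := fun x hx h =>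
    ⟨⟨x, hx⟩, h, rfl⟩
  have hs1 : s ∈ closure ({s, b} : Set _) := subset_closure (Or.inl rfl)
  have hb1 : b ∈ closure ({s, b} : Set _) := subset_closure (Or.inr rfl)
  have hQT : Qp r ≤ T := by
    intro x hx
    refine hT x (Q_le r hx) ?_
    have h1 : π ⟨x, Q_le r hx⟩ = 1 := (QuotientGroup.eq_one_iff _).2 hx
    rw [h1]
    exact one_mem _
  -- the conjugates
  have hcj : ∀ h (hh : h ∈ Cp r), π ⟨h * u * h⁻¹, mul_mem (mul_mem hh hU) (inv_mem hh)⟩ ∈ closure ({s, b} : Set _) →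
      cj h U ≤ T := by
    intro h hh h1 x hx
    have hxC : x ∈ Cp r := by
      rw [mem_cj] at hx
      have h5 := mul_mem (mul_mem hh (A.U_cen hr hx)) (inv_mem hh)
      have e : h * (h⁻¹ * x * h) * h⁻¹ = x := by group
      rwa [e] at h5
    rcases A.U_coset' hr c hh hx with h2 | h2
    · exact hQT h2
    · refine hT x hxC ?_
      rw [hπ2 x (h * u * h⁻¹) hxC (mul_mem (mul_mem hh hU) (inv_mem hh)) h2]
      exact h1
  have hLT : Lp U r ≤ T := by
    refine sup_le (iSup_le fun h => ?_) hQT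
    rcases h3 r hr (h : G) h.2 with h1 | h1 | h1
    · -- `U`
      rw [A.cj_U_M (A.stab hr h.2 h1)]
      have := hcj 1 (one_mem _) (by
        have e : π ⟨1 * u * 1⁻¹, mul_mem (mul_mem (one_mem _) hU) (inv_mem (one_mem _))⟩ = s := by
          rw [hs]
          congr 1
          exact Subtype.ext (by change (1 : G) * u * 1⁻¹ = u; group)
        rw [e]; exact hs1)
      rwa [cj_one] at this
    · rw [A.cj_U_eq hr h.2 c.h0C (h1.trans c.h0z.symm)]
      refine hcj h0 c.h0C ?_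
      have e : π ⟨h0 * u * h0⁻¹, mul_mem (mul_mem c.h0C hU) (inv_mem c.h0C)⟩ = b := by
        rw [hb]
        congr 1
        exact Subtype.ext c.a_def.symm
      rw [e]; exact hb1
    · have h2 : u * h0 ∈ Cp r := mul_mem hU c.h0C
      have h4 : cj (h : G) U = cj (u * h0) U := by
        refine A.cj_U_eq hr h.2 h2 ?_
        rw [h1, ← c.ut, ← c.h0z]; group
      rw [h4]
      refine hcj (u * h0) h2 ?_
      have e : π ⟨u * h0 * u * (u * h0)⁻¹, mul_mem (mul_mem h2 hU) (inv_mem h2)⟩ = s * b * s⁻¹ := by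
        rw [hs, hb, ← map_inv, ← map_mul, ← map_mul]
        congr 1
        refine Subtype.ext ?_
        change u * h0 * u * (u * h0)⁻¹ = u * a * u⁻¹
        rw [c.a_def]; group
      rw [e]
      exact mul_mem (mul_mem hs1 hb1) (inv_mem hs1)
  obtain ⟨⟨x, hxC⟩, hx, e⟩ := hLT hl
  change x = l at e
  subst e
  have hx' : π ⟨x, hxC⟩ ∈ closure ({s, b} : Set _) := hx
  rcases six hss hbb hbr _ hx' with h | h | h | h | h | h
  · exact ⟨0, hπ' 1 x (one_mem _) hxC h.symm⟩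
  · exact ⟨1, hπ' u x hU hxC h.symm⟩
  · exact ⟨2, hπ' a x c.aC hxC h.symm⟩
  · exact ⟨3, hπ' (u * a) x (mul_mem hU c.aC) hxC h.symm⟩
  · exact ⟨4, hπ' (a * u) x (mul_mem c.aC hU) hxC h.symm⟩
  · exact ⟨5, hπ' (u * a * u) x (mul_mem (mul_mem hU c.aC) hU) hxC h.symm⟩

theorem L_inf_K (h3 : Three z Δ t) (hr : r ∈ Δ) : Lp U r ⊓ Kp z r = Qp r := by
  obtain ⟨u, h0, a, c⟩ := A.exists_UA h3 hr
  apply le_antisymm
  · rintro l ⟨hl, hk⟩
    obtain ⟨i, hi⟩ := A.L_mem h3 hr c hl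
    have h1 : wrd u a i ∈ Kp z r := by
      have e : wrd u a i = l * ((wrd u a i)⁻¹ * l)⁻¹ := by group
      rw [e]
      exact (Kp z r).mul_mem hk ((Kp z r).inv_mem (A.Q_le_K hr hi))
    have h2 : (0 : Fin 6) = i := A.wrd_inj hr c 0 i h1 (one_mul _)
    rw [← h2] at hi
    change (1 : G)⁻¹ * l ∈ Qp r at hi
    rwa [inv_one, one_mul] at hi
  · exact le_inf (A.Q_le_L r) (A.Q_le_K hr)

theorem L_card (h3 : Three z Δ t) (hr : r ∈ Δ) : Nat.card (Lp U r) = 6 * Nat.card (Qp r) := by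
  obtain ⟨u, h0, a, c⟩ := A.exists_UA h3 hr
  exact card_of_cosets (wrd u a) (fun i x hx => mul_mem (A.wrd_L hr c i) (A.Q_le_L r hx))
    (fun i j x hx e => A.wrd_inj hr c i j (A.Q_le_K hr hx) e) (fun b hb => A.L_mem h3 hr c hb)

/-- `C_{H_r}(z) = K_r U` -/
theorem C_rz (h3 : Three z Δ t) (hr : r ∈ Δ) : Cp r ⊓ Cp z = Kp z r ⊔ U := by
  obtain ⟨u, h0, a, c⟩ := A.exists_UA h3 hr
  apply le_antisymm
  · rintro g ⟨hg1, hg2⟩
    have hgr := mem_Cp.1 hg1
    have hgz := mem_Cp.1 hg2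
    have e1 : g * t r * g⁻¹ = (g * h0) * z * (g * h0)⁻¹ := by rw [← c.h0z]; group
    rcases h3 r hr (g * h0) (mul_mem hg1 c.h0C) with h | h | h
    · exfalso
      rw [← e1] at h
      apply A.z_ne_t hr
      calc z = g⁻¹ * (g * z) := by group
        _ = g⁻¹ * (z * g) := by rw [hgz]
        _ = g⁻¹ * (g * t r * g⁻¹ * g) := by rw [h]
        _ = t r := by group
    · rw [← e1] at h
      rw [mul_inv_eq_iff_eq_mul] at h
      exact mem_sup_left ((A.mem_K h3 hr).2 ⟨hgr, hgz, h⟩)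
    · rw [← e1] at h
      have huC := A.U_cen hr c.uU
      have h1 : u * g ∈ Kp z r := by
        refine (A.mem_K h3 hr).2 ⟨?_, ?_, ?_⟩
        · exact mem_Cp.1 (mul_mem huC hg1)
        · rw [mul_assoc, hgz, ← mul_assoc, A.U_comm u c.uU z A.z_U, mul_assoc]
        · rw [← mul_inv_eq_iff_eq_mul]
          calc u * g * t r * (u * g)⁻¹ = u * (g * t r * g⁻¹) * u⁻¹ := by group
            _ = t r := by rw [h, A.uy c]
      have e2 : g = u⁻¹ * (u * g) := by group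
      rw [e2]
      exact mul_mem (mem_sup_right (inv_mem c.uU)) (mem_sup_left h1)
  · refine sup_le (le_inf (A.CN_le hr) ?_) (le_inf (A.U_cen hr) ?_)
    · exact fun k hk => mem_Cp.2 ((mem_centralizer_iff.1 hk) z (z_N z r)).symm
    · exact fun v hv => mem_Cp.2 (A.U_comm v hv z A.z_U)

theorem L_sup_K (h3 : Three z Δ t) (hr : r ∈ Δ) : Lp U r ⊔ Kp z r = Cp r := by
  obtain ⟨u, h0, a, c⟩ := A.exists_UA h3 hr
  apply le_antisymm (sup_le (A.L_le hr) (A.CN_le hr))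
  intro h hh
  -- a word with the same image of `z`
  have h1 : ∃ i, wrd u a i * z * (wrd u a i)⁻¹ = h * z * h⁻¹ := by
    rcases h3 r hr h hh with h1 | h1 | h1
    · exact ⟨0, by rw [h1, A.wrd_z c]; rfl⟩
    · exact ⟨3, by rw [h1, A.wrd_z c]; rfl⟩
    · exact ⟨2, by rw [h1, A.wrd_z c]; rfl⟩
  obtain ⟨i, hi⟩ := h1
  have hw := A.wrd_L hr c i
  have h2 : (wrd u a i)⁻¹ * h ∈ Kp z r ⊔ U := by
    rw [← A.C_rz h3 hr]
    refine ⟨(Cp r).mul_mem ((Cp r).inv_mem (A.L_le hr hw)) hh, mem_Cp.2 ?_⟩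
    rw [← mul_inv_eq_iff_eq_mul]
    calc (wrd u a i)⁻¹ * h * z * ((wrd u a i)⁻¹ * h)⁻¹ = (wrd u a i)⁻¹ * (h * z * h⁻¹) * wrd u a i := by group
      _ = (wrd u a i)⁻¹ * (wrd u a i * z * (wrd u a i)⁻¹) * wrd u a i := by rw [hi]
      _ = z := by group
  have e : h = wrd u a i * ((wrd u a i)⁻¹ * h) := by group
  rw [e]
  refine mul_mem (mem_sup_left hw) ?_
  exact (sup_le (le_sup_right : Kp z r ≤ _) (A.U_le_L.trans le_sup_left)) h2

theorem L_norm (r : G) : Cp r ≤ normalizer (Lp U r : Set G) := by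
  have _ := A
  intro g hg
  rw [← cj_eq_self_iff]
  have key : ∀ g ∈ Cp r, cj g (Lp U r) ≤ Lp U r := by
    intro g hg
    rw [Lp, cj_sup, cj_iSup]
    refine sup_le (iSup_le fun h => ?_) ?_
    · rw [← cj_mul]
      exact (le_iSup (fun h : Cp r => cj (h : G) U) ⟨g * h, mul_mem hg h.2⟩).trans le_sup_left
    · refine le_trans ?_ le_sup_right
      rw [cj_le_iff]
      exact fun x hx => Q_normal hg hx
  apply le_antisymm (key g hg)
  have h1 := cj_mono (g := g) (key g⁻¹ (inv_mem hg))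
  rwa [cj_cj_inv] at h1

end Res

end Cfsg.Agent.Omega.HTwo.Eight
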