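import Cfsg.Agent.Omega.HTwo.EightTwo

/-!
# #15507 (helper779) (6)(i), and #16429 (14): elements of `O_M` acting on every `N_p` as `1` or as `u_z`

* `Good z M U Δ t x` : `x ∈ O_M` centralises `N_p ∩ C(U)` and `[x, t_p] ∈ ⟨p z⟩` for all `p ∈ Δ`;
* `Res.good` : then `x w ∈ ⋂ ζ_q` for some `w ∈ U`.
-/

set_option autoImplicit false
set_option Elab.async false

namespace Cfsg.Agent.Omega.HTwo.Eight

open Subgroup Cfsg.Agent.Omega.BTwo

variable {G : Type*} [Group G]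

/-- `x ∈ O_M` acts on every `N_p` as `1` or as `u_z` -/
structure Good (z : G) (M U : Subgroup G) (Δ : Set G) (t : G → G) (x : G) : Prop where
  O : x ∈ O2 M
  cen : ∀ p ∈ Δ, ∀ n ∈ Np z p, (∀ u ∈ U, n * u = u * n) → x * n = n * x
  mv : ∀ p ∈ Δ, x * t p * x⁻¹ = t p ∨ x * t p * x⁻¹ = t p * (p * z)

open Classical in
/-- `ψ_x(p)` -/
noncomputable def ps (t : G → G) (x p : G) : ZMod 2 := if x * t p * x⁻¹ = t p then 0 else 1

open Classical in
/-- the extension of `ψ_x` to `U` -/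
noncomputable def Ps (z : G) (Δ : Set G) (t : G → G) (x u : G) : ZMod 2 :=
  if u ∈ Δ then ps t x u else if u * z ∈ Δ then ps t x (u * z) else 0

namespace Res

variable {z : G} {M U : Subgroup G} {Δ : Set G} {f : G → G → ZMod 2} {t : G → G} (A : Res z M U Δ f t)
include A

theorem xU {x u : G} (hx : x ∈ O2 M) (hu : u ∈ U) : x * u = u * x := A.U_O x hx u hu

theorem good_t {x : G} (hx : Good z M U Δ t x) {p : G} (hp : p ∈ Δ) :
    x * t p * x⁻¹ = t p * pw (p * z) (ps t x p) := by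
  by_cases h : x * t p * x⁻¹ = t p
  · rw [ps, if_pos h, pw_zero, mul_one, h]
  · rw [ps, if_neg h, pw_one]
    exact (hx.mv p hp).resolve_left h

/-- `ψ_x(p)` is determined by any element of `N_p` moving `U` -/
theorem good_n {x : G} (hx : Good z M U Δ t x) {p : G} (hp : p ∈ Δ) {n : G} (hn : n ∈ Np z p)
    (hm : ¬ ∀ u ∈ U, n * u = u * n) : x * n * x⁻¹ = n * pw (p * z) (ps t x p) := by
  have h1 := (A.act_or hp hn).resolve_left hm
  have h2 : ∀ u ∈ U, n * (t p)⁻¹ * u = u * (n * (t p)⁻¹) := by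
    intro u hu
    rw [← mul_inv_eq_iff_eq_mul]
    have h3 : (t p)⁻¹ * u * t p = u * pw (p * z) (f p u) := by
      have := A.t_act hp hu
      rw [A.t_inv hp] at this ⊢
      exact this
    calc n * (t p)⁻¹ * u * (n * (t p)⁻¹)⁻¹ = n * ((t p)⁻¹ * u * t p) * n⁻¹ := by group
      _ = n * (u * pw (p * z) (f p u)) * n⁻¹ := by rw [h3]
      _ = (n * u * n⁻¹) * (n * pw (p * z) (f p u) * n⁻¹) := by group
      _ = u * pw (p * z) (f p u) * (n * pw (p * z) (f p u) * n⁻¹) := by rw [h1 u hu]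
      _ = u * pw (p * z) (f p u) * pw (p * z) (f p u) := by
        have h4 := h1 _ (pw_mem (A.pz_U hp) (f p u))
        have h5 : f p (pw (p * z) (f p u)) = 0 := by
          rcases z2 (f p u) with h | h
          · rw [h, pw_zero, A.f_one (A.Δ_U p hp)]
          · rw [h, pw_one, A.f_add' (A.Δ_U p hp) (A.Δ_U p hp) A.z_U, A.f_self _ (A.Δ_U p hp),
              A.f_z' (A.Δ_U p hp), add_zero]
        rw [h5, pw_zero, mul_one] at h4
        rw [h4]
      _ = u * (pw (p * z) (f p u) * pw (p * z) (f p u)) := mul_assoc _ _ _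
      _ = u := by rw [pw_sq (A.pz_sq hp), mul_one]
  have h3 := hx.cen p hp (n * (t p)⁻¹) (mul_mem hn (inv_mem (A.t_N hp))) h2
  have h4 : x * n * x⁻¹ = x * (n * (t p)⁻¹) * x⁻¹ * (x * t p * x⁻¹) := by group
  rw [h4, h3, A.good_t hx hp]
  group

/-- for `t_p t_q t_p⁻¹` -/
theorem tt_N {p q : G} (hp : p ∈ Δ) (hq : q ∈ Δ) (h : f p q = 1) : t p * t q * (t p)⁻¹ ∈ Np z (p * q * z) := by
  have e : t p * q * (t p)⁻¹ = p * q * z := by
    rw [A.t_act hp (A.Δ_U q hq), h, pw_one, ← mul_assoc, A.U_comm q (A.Δ_U q hq) p (A.Δ_U p hp)]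
  rw [← e, ← cj_Np (A.M_z (A.t_M hp))]
  exact conj_mem_cj (A.t_N hq)

theorem t_mv {q : G} (hq : q ∈ Δ) : ¬ ∀ u ∈ U, t q * u = u * t q := by
  intro h
  obtain ⟨u, hu, h1⟩ := A.exists_f1 hq
  have h2 := A.t_act hq hu
  rw [h1, pw_one, h u hu, mul_inv_cancel_right] at h2
  exact A.pz_ne_one hq (left_eq_mul.1 h2)

theorem conj_mv {m n : G} (hm : m ∈ M) (hn : ¬ ∀ u ∈ U, n * u = u * n) :
    ¬ ∀ u ∈ U, (m * n * m⁻¹) * u = u * (m * n * m⁻¹) := by
  intro h
  apply hn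
  intro u hu
  have h1 := h _ (A.U_M m hm u hu)
  calc n * u = m⁻¹ * (m * n * m⁻¹ * (m * u * m⁻¹)) * m := by group
    _ = m⁻¹ * (m * u * m⁻¹ * (m * n * m⁻¹)) * m := by rw [h1]
    _ = u * n := by group

/-- `ψ_x(p q z) = ψ_x(p) + ψ_x(q)` if `f(p, q) = 1` -/
theorem ps_mul1 {x : G} (hx : Good z M U Δ t x) {p q : G} (hp : p ∈ Δ) (hq : q ∈ Δ) (h : f p q = 1) :
    ps t x (p * q * z) = ps t x p + ps t x q := by
  have hpU := A.Δ_U p hp
  have hqU := A.Δ_U q hq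
  have hr := A.mul1 p hp q hq h
  have e1 := A.good_n hx hr (A.tt_N hp hq h) (A.conj_mv (A.t_M hp) (A.t_mv hq))
  have hpq : p * q * z * z = p * q := by rw [mul_assoc, A.zz, mul_one]
  rw [hpq] at e1
  have hne : p * q ≠ 1 := by
    intro h0
    have : p = q := by rw [← A.inv_eq hqU]; exact mul_eq_one_iff_eq_inv.1 h0
    rw [this, A.f_self q hqU] at h
    exact absurd h (by decide)
  have hPZ := A.pz_U hp
  have hQZ := A.pz_U hq
  set a := ps t x p with ha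
  set b := ps t x q with hb
  -- `t_q` on `pw (pz) a`
  have h2 : (t q)⁻¹ * pw (p * z) a * t q = pw (p * z) a * pw (q * z) a := by
    have h3 := A.t_act hq (pw_mem hPZ a)
    rw [A.t_inv hq] at h3 ⊢
    rw [h3]
    congr 2
    rcases z2 a with h0 | h0
    · rw [h0, pw_zero, A.f_one hqU]
    · rw [h0, pw_one, A.f_add' hqU hpU A.z_U, A.f_z' hqU, add_zero, A.f_symm q hqU p hpU, h]
  have h4 : t p * (q * z) * (t p)⁻¹ = p * q := by
    rw [A.t_act hp hQZ, A.f_add' hpU hqU A.z_U, A.f_z' hpU, add_zero, h, pw_one]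
    calc q * z * (p * z) = q * (z * p) * z := by group
      _ = q * (p * z) * z := by rw [A.U_comm z A.z_U p hpU]
      _ = q * p * (z * z) := by group
      _ = p * q := by rw [A.zz, mul_one, A.U_comm q hqU p hpU]
  have e2 : x * (t p * t q * (t p)⁻¹) * x⁻¹ = t p * t q * (t p)⁻¹ * pw (p * q) (a + b) := by
    have e3 : x * (t p * t q * (t p)⁻¹) * x⁻¹ = (x * t p * x⁻¹) * (x * t q * x⁻¹) * (x * t p * x⁻¹)⁻¹ := by group
    rw [e3, A.good_t hx hp, A.good_t hx hq, ← ha, ← hb]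
    calc t p * pw (p * z) a * (t q * pw (q * z) b) * (t p * pw (p * z) a)⁻¹
        = t p * t q * ((t q)⁻¹ * pw (p * z) a * t q) * pw (q * z) b * (pw (p * z) a)⁻¹ * (t p)⁻¹ := by group
      _ = t p * t q * (pw (p * z) a * pw (q * z) a) * pw (q * z) b * (pw (p * z) a)⁻¹ * (t p)⁻¹ := by rw [h2]
      _ = t p * t q * (pw (p * z) a * (pw (q * z) a * pw (q * z) b)) * (pw (p * z) a)⁻¹ * (t p)⁻¹ := by group
      _ = t p * t q * (pw (p * z) a * pw (q * z) (a + b)) * (pw (p * z) a)⁻¹ * (t p)⁻¹ := by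
        rw [pw_add (A.pz_sq hq)]
      _ = t p * t q * (pw (q * z) (a + b) * pw (p * z) a) * (pw (p * z) a)⁻¹ * (t p)⁻¹ := by
        rw [A.U_comm _ (pw_mem hPZ a) _ (pw_mem hQZ _)]
      _ = t p * t q * (t p)⁻¹ * (t p * pw (q * z) (a + b) * (t p)⁻¹) := by group
      _ = t p * t q * (t p)⁻¹ * pw (p * q) (a + b) := by rw [conj_pw, h4]
  rw [e2] at e1
  exact (pw_inj hne (mul_left_cancel e1)).symm

/-- `ψ_x(p q) = ψ_x(q)` if `f(p, q) = 0`, `p ≠ q`, `ψ_x(p) = 0` -/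
theorem ps_mul00 {x : G} (hx : Good z M U Δ t x) {p q : G} (hp : p ∈ Δ) (hq : q ∈ Δ) (hne : p ≠ q)
    (h : f p q = 0) (h0 : ps t x p = 0) : ps t x (p * q) = ps t x q := by
  have hpU := A.Δ_U p hp
  have hqU := A.Δ_U q hq
  -- `x ∈ Q_p`
  have hxK : x ∈ Kp z p := by
    rw [mem_centralizer_iff]
    intro n hn
    by_cases hm : ∀ u ∈ U, n * u = u * n
    · exact (hx.cen p hp n hn hm).symm
    · have := A.good_n hx hp hn hm
      rw [h0, pw_zero, mul_one, mul_inv_eq_iff_eq_mul] at this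
      exact this.symm
  have hxQ := A.O_inf_K hp hx.O hxK
  obtain ⟨g, hg, e⟩ := A.Q_mv p hp q hq hne h
  have hgM := A.Q_M hp hg
  have hpq := A.mul0 p hp q hq hne h
  have hqp : q * p = p * q := A.U_comm q hqU p hpU
  have hs : g * t q * g⁻¹ ∈ Np z (p * q) := by
    rw [← hqp, ← e, ← cj_Np (A.M_z hgM)]
    exact conj_mem_cj (A.t_N hq)
  have hsm := A.conj_mv hgM (A.t_mv hq)
  have e1 := A.good_n hx hpq hs hsm
  have e2 := A.good_t hx hq
  set s := g * t q * g⁻¹ with hsdef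
  set b := ps t x q with hb
  set c := ps t x (p * q) with hc
  -- `d = t_q s⁻¹ ∈ Q_p`
  have htq : t q ∈ Cp p := mem_Cp.2 (A.t_0 q hq p hpU (by rw [A.f_symm q hqU p hpU, h]))
  have hd : t q * s⁻¹ ∈ Qp p := by
    have e3 : t q * s⁻¹ = (t q * g * (t q)⁻¹) * g⁻¹ := by rw [hsdef]; group
    rw [e3]
    exact mul_mem (Q_normal htq hg) (inv_mem hg)
  -- `s` centralises `q z`, `p q z`
  have hsact := (A.act_or hpq hs).resolve_left hsm
  have hpqU : p * q ∈ U := mul_mem hpU hqU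
  have hs1 : s * (q * z) * s⁻¹ = q * z := by
    rw [hsact _ (A.pz_U hq), A.f_add' hpqU hqU A.z_U, A.f_z' hpqU, add_zero, A.f_add p hpU q hqU q hqU, h,
      A.f_self q hqU, add_zero, pw_zero, mul_one]
  have hs2 : s * (p * q * z) * s⁻¹ = p * q * z := by
    rw [hsact _ (A.pz_U hpq), A.f_add' hpqU hpqU A.z_U, A.f_z' hpqU, A.f_self _ hpqU, add_zero, pw_zero, mul_one]
  have e4 : x * (t q * s⁻¹) * x⁻¹ = t q * s⁻¹ * (pw (q * z) b * pw (p * q * z) c) := by
    have e5 : x * (t q * s⁻¹) * x⁻¹ = (x * t q * x⁻¹) * (x * s * x⁻¹)⁻¹ := by group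
    rw [e5, e1, e2]
    have h6 : (pw (p * q * z) c)⁻¹ = pw (p * q * z) c := A.inv_eq (pw_mem (A.pz_U hpq) c)
    calc t q * pw (q * z) b * (s * pw (p * q * z) c)⁻¹
        = t q * pw (q * z) b * (pw (p * q * z) c)⁻¹ * s⁻¹ := by group
      _ = t q * pw (q * z) b * pw (p * q * z) c * s⁻¹ := by rw [h6]
      _ = t q * s⁻¹ * ((s * pw (q * z) b * s⁻¹) * (s * pw (p * q * z) c * s⁻¹)) := by group
      _ = t q * s⁻¹ * (pw (q * z) b * pw (p * q * z) c) := by rw [conj_pw, conj_pw, hs1, hs2]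
  have e6 : pw (q * z) b * pw (p * q * z) c = 1 ∨ pw (q * z) b * pw (p * q * z) c = p := by
    have hdp : t q * s⁻¹ * p = p * (t q * s⁻¹) := mem_Cp.1 (Q_le p hd)
    rcases A.Q_comm p hp x hxQ _ hd with h7 | h7
    · left
      rw [h7, mul_inv_cancel_right] at e4
      exact left_eq_mul.1 e4
    · right
      rw [h7, ← mul_assoc, mul_inv_cancel_right, ← hdp] at e4
      exact (mul_left_cancel e4).symm
  -- the four cases
  rcases z2 b with hb0 | hb0 <;> rcases z2 c with hc0 | hc0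
  · rw [hb0, hc0]
  · exfalso
    rw [hb0, hc0, pw_zero, pw_one, one_mul] at e6
    rcases e6 with h8 | h8
    · exact A.pz_ne_one hpq h8
    · apply A.p_ne_z hq
      have : q * z = 1 := by
        have h9 : p * (q * z) = p * 1 := by rw [← mul_assoc, h8, mul_one]
        exact mul_left_cancel h9
      exact absurd this (A.pz_ne_one hq)
  · exfalso
    rw [hb0, hc0, pw_zero, pw_one, mul_one] at e6
    rcases e6 with h8 | h8
    · exact A.pz_ne_one hq h8
    · exact A.inj q hq (h8 ▸ hp)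
  · rw [hb0, hc0]

/-- `x u` for `u ∈ U` -/
theorem good_mul {x : G} (hx : Good z M U Δ t x) {u : G} (hu : u ∈ U) : Good z M U Δ t (x * u) where
  O := mul_mem hx.O (A.U_le hu)
  cen := fun p hp n hn hm => by
    rw [mul_assoc, ← hm u hu, ← mul_assoc, hx.cen p hp n hn hm, mul_assoc]
  mv := fun p hp => by
    have e : x * u * t p * (x * u)⁻¹ = x * (u * t p * u⁻¹) * x⁻¹ := by group
    have e2 : x * (u * t p * u⁻¹) * x⁻¹ = t p * pw (p * z) (ps t x p + f p u) := by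
      rw [A.u_act hp hu]
      calc x * (t p * pw (p * z) (f p u)) * x⁻¹ = (x * t p * x⁻¹) * (x * pw (p * z) (f p u) * x⁻¹) := by group
        _ = t p * pw (p * z) (ps t x p) * pw (p * z) (f p u) := by
          rw [A.good_t hx hp, A.xU hx.O (pw_mem (A.pz_U hp) _), mul_inv_cancel_right]
        _ = t p * pw (p * z) (ps t x p + f p u) := by rw [pw_add (A.pz_sq hp), mul_assoc]
    rw [e, e2]
    rcases z2 (ps t x p + f p u) with h | h
    · left; rw [h, pw_zero, mul_one]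
    · right; rw [h, pw_one]

theorem ps_mulU {x : G} (hx : Good z M U Δ t x) {u : G} (hu : u ∈ U) {p : G} (hp : p ∈ Δ) :
    ps t (x * u) p = ps t x p + f p u := by
  have h1 := A.good_t (A.good_mul hx hu) hp
  have e : x * u * t p * (x * u)⁻¹ = x * (u * t p * u⁻¹) * x⁻¹ := by group
  have e2 : x * (u * t p * u⁻¹) * x⁻¹ = t p * pw (p * z) (ps t x p + f p u) := by
    rw [A.u_act hp hu]
    calc x * (t p * pw (p * z) (f p u)) * x⁻¹ = (x * t p * x⁻¹) * (x * pw (p * z) (f p u) * x⁻¹) := by group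
      _ = t p * pw (p * z) (ps t x p) * pw (p * z) (f p u) := by
        rw [A.good_t hx hp, A.xU hx.O (pw_mem (A.pz_U hp) _), mul_inv_cancel_right]
      _ = t p * pw (p * z) (ps t x p + f p u) := by rw [pw_add (A.pz_sq hp), mul_assoc]
  rw [e, e2] at h1
  exact (pw_inj (A.pz_ne_one hp) (mul_left_cancel h1)).symm

/-- `ψ_x(p q) = ψ_x(p) + ψ_x(q)` if `f(p, q) = 0`, `p ≠ q` -/
theorem ps_mul0 {x : G} (hx : Good z M U Δ t x) {p q : G} (hp : p ∈ Δ) (hq : q ∈ Δ) (hne : p ≠ q)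
    (h : f p q = 0) : ps t x (p * q) = ps t x p + ps t x q := by
  rcases z2 (ps t x p) with h0 | h0
  · rw [A.ps_mul00 hx hp hq hne h h0, h0, zero_add]
  · obtain ⟨u, hu, h1⟩ := A.exists_f1 hp
    have h2 := A.ps_mul00 (A.good_mul hx hu) hp hq hne h (by rw [A.ps_mulU hx hu hp, h0, h1]; decide)
    rw [A.ps_mulU hx hu (A.mul0 p hp q hq hne h), A.ps_mulU hx hu hq,
      A.f_add p (A.Δ_U p hp) q (A.Δ_U q hq) u hu, h1] at h2
    rw [h0]
    generalize ps t x (p * q) = a at h2 ⊢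
    generalize ps t x q = b at h2 ⊢
    generalize f q u = c at h2
    revert a b c; decide

theorem Ps_Δ {x u : G} (hu : u ∈ Δ) : Ps z Δ t x u = ps t x u := by
  have _ := A
  exact if_pos hu

theorem Ps_Δz {x u : G} (hu : u * z ∈ Δ) : Ps z Δ t x u = ps t x (u * z) := by
  have h : u ∉ Δ := fun h => A.inj u h hu
  rw [Ps, if_neg h, if_pos hu]

theorem Ps_one (x : G) : Ps z Δ t x 1 = 0 := by
  rw [Ps, if_neg A.Δ_1, if_neg (by rw [one_mul]; exact A.Δ_z)]

theorem Ps_z (x : G) : Ps z Δ t x z = 0 := by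
  rw [Ps, if_neg A.Δ_z, if_neg (by rw [A.zz]; exact A.Δ_1)]

theorem Ps_mulz {x u : G} (hu : u ∈ U) : Ps z Δ t x (u * z) = Ps z Δ t x u := by
  have hzz : u * z * z = u := by rw [mul_assoc, A.zz, mul_one]
  rcases A.cover u hu with rfl | rfl | h | h
  · rw [one_mul, A.Ps_z, A.Ps_one]
  · rw [A.zz, A.Ps_z, A.Ps_one]
  · rw [A.Ps_Δ h, A.Ps_Δz (by rw [hzz]; exact h), hzz]
  · rw [A.Ps_Δ h, A.Ps_Δz h]

/-- `Ψ_x` is additive -/
theorem Ps_add {x : G} (hx : Good z M U Δ t x) {u v : G} (hu : u ∈ U) (hv : v ∈ U) :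
    Ps z Δ t x (u * v) = Ps z Δ t x u + Ps z Δ t x v := by
  -- for points
  have key : ∀ p ∈ Δ, ∀ q ∈ Δ, Ps z Δ t x (p * q) = Ps z Δ t x p + Ps z Δ t x q := by
    intro p hp q hq
    by_cases hne : p = q
    · subst hne
      rw [A.U_sq p (A.Δ_U p hp), A.Ps_one]
      generalize Ps z Δ t x p = a
      revert a; decide
    · rcases z2 (f p q) with h | h
      · rw [A.Ps_Δ (A.mul0 p hp q hq hne h), A.Ps_Δ hp, A.Ps_Δ hq, A.ps_mul0 hx hp hq hne h]
      · rw [A.Ps_Δz (A.mul1 p hp q hq h), A.Ps_Δ hp, A.Ps_Δ hq, A.ps_mul1 hx hp hq h]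
  -- for `u` a point
  have key2 : ∀ p ∈ Δ, ∀ v ∈ U, Ps z Δ t x (p * v) = Ps z Δ t x p + Ps z Δ t x v := by
    intro p hp v hv
    rcases A.cover v hv with rfl | rfl | h | h
    · rw [mul_one, A.Ps_one, add_zero]
    · rw [A.Ps_mulz (A.Δ_U p hp), A.Ps_z, add_zero]
    · exact key p hp v h
    · rw [← A.Ps_mulz hv, ← key p hp _ h, ← mul_assoc, A.Ps_mulz (mul_mem (A.Δ_U p hp) hv)]
  rcases A.cover u hu with rfl | rfl | h | h
  · rw [one_mul, A.Ps_one, zero_add]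
  · rw [A.U_comm _ hu v hv, A.Ps_mulz hv, A.Ps_z, zero_add]
  · exact key2 u h v hv
  · rw [← A.Ps_mulz hu, ← key2 _ h v hv]
    have e : u * z * v = u * v * z := by rw [mul_assoc, A.U_comm z A.z_U v hv, mul_assoc]
    rw [e, A.Ps_mulz (mul_mem hu hv)]

/-- the elements of `O_M` centralising all `N_p` are in all `ζ_p` -/
theorem cen_all_le {y : G} (hy : y ∈ O2 M) (hc : ∀ p ∈ Δ, y ∈ Kp z p) {p : G} (hp : p ∈ Δ) : y ∈ Zp p := by
  let B : Subgroup G := O2 M ⊓ ⨅ q ∈ Δ, Kp z q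
  have hB : ∀ y, y ∈ B ↔ y ∈ O2 M ∧ ∀ q ∈ Δ, y ∈ Kp z q := by
    intro y
    rw [mem_inf, mem_iInf]
    simp only [mem_iInf]
  have hBQ : ∀ y ∈ B, y ∈ Qp p := fun y hy => A.O_inf_K hp ((hB y).1 hy).1 (((hB y).1 hy).2 p hp)
  have hBn : ∀ m ∈ M, ∀ y ∈ B, m * y * m⁻¹ ∈ B := by
    intro m hm y hy
    rw [hB] at hy ⊢
    refine ⟨conj_mem_of_normalizer (le_normalizer_O2 M hm) hy.1, fun q hq => ?_⟩
    have h1 := hy.2 (m⁻¹ * q * m) (by
      have := A.Δ_M m⁻¹ (inv_mem hm) q hq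
      rwa [inv_inv] at this)
    rw [mem_centralizer_iff] at h1 ⊢
    intro n hn
    have h2 : m⁻¹ * n * m ∈ Np z (m⁻¹ * q * m) := by
      have e : m⁻¹ * q * m = m⁻¹ * q * m⁻¹⁻¹ := by rw [inv_inv]
      have e' : m⁻¹ * n * m = m⁻¹ * n * m⁻¹⁻¹ := by rw [inv_inv]
      rw [e, e', ← cj_Np (A.M_z (inv_mem hm))]
      exact conj_mem_cj hn
    have h3 := h1 _ h2
    calc n * (m * y * m⁻¹) = m * (m⁻¹ * n * m * y) * m⁻¹ := by group
      _ = m * (y * (m⁻¹ * n * m)) * m⁻¹ := by rw [h3]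
      _ = m * y * m⁻¹ * n := by group
  have hyB : y ∈ B := (hB y).2 ⟨hy, hc⟩
  refine ⟨hBQ y hyB, mem_centralizer_iff.2 fun g hg => ?_⟩
  rcases A.Q_comm p hp g hg y (hBQ y hyB) with h | h
  · exact h
  · exfalso
    -- `p ∈ B`
    have h1 : p ∈ B := by
      have e : p = (g * y * g⁻¹) * y⁻¹ := by
        rw [h]; group
      rw [e]
      exact mul_mem (hBn g (A.Q_M hp hg) y hyB) (inv_mem hyB)
    obtain ⟨q, hq, hf⟩ := A.exists_q1 hp
    have h2 := (mem_centralizer_iff.1 (((hB p).1 h1).2 q hq)) (t q) (A.t_N hq)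
    have h3 := A.t_act hq (A.Δ_U p hp)
    rw [h2, mul_inv_cancel_right, A.f_symm q (A.Δ_U q hq) p (A.Δ_U p hp), hf, pw_one] at h3
    exact A.pz_ne_one hq (left_eq_mul.1 h3)

/-- **(6)(i)**: `x w` centralises all `N_p` for some `w ∈ U`; it is in all `ζ_p`. -/
theorem good [Finite U] {x : G} (hx : Good z M U Δ t x) :
    ∃ w ∈ U, x * w ∈ O2 M ∧ (∀ p ∈ Δ, x * w ∈ Kp z p) ∧ ∀ p ∈ Δ, x * w ∈ Zp p := by
  obtain ⟨w, hw, h1⟩ := exists_rep (U := U) A.U_comm A.U_sq A.f_add A.f_symm (Ψ := Ps z Δ t x)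
    (fun u hu v hv => A.Ps_add hx hu hv) (fun u hu h => by
      rcases A.f_rad u hu h with rfl | rfl
      · exact A.Ps_one x
      · exact A.Ps_z x)
  have hO : x * w ∈ O2 M := mul_mem hx.O (A.U_le hw)
  have hK : ∀ p ∈ Δ, x * w ∈ Kp z p := by
    intro p hp
    have hg := A.good_mul hx hw
    have h2 : ps t (x * w) p = 0 := by
      rw [A.ps_mulU hx hw hp, ← A.Ps_Δ hp, h1 p (A.Δ_U p hp), A.f_symm w hw p (A.Δ_U p hp)]
      generalize f p w = a
      revert a; decide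
    rw [mem_centralizer_iff]
    intro n hn
    by_cases hm : ∀ u ∈ U, n * u = u * n
    · exact (hg.cen p hp n hn hm).symm
    · have := A.good_n hg hp hn hm
      rw [h2, pw_zero, mul_one, mul_inv_eq_iff_eq_mul] at this
      exact this.symm
  exact ⟨w, hw, hO, hK, fun p hp => A.cen_all_le hO hK hp⟩

end Res

end Cfsg.Agent.Omega.HTwo.Eight
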