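import Cfsg.Agent.Omega.HTwo.EightOne

/-!
# #15507 (helper779) (6): the case `|N_p| = 8`

* `Res.N_mem`, `Res.N_card`, `Res.N_cenU` : `N_p = ⟨p, z, t_p⟩`;
* `Res.good_all`, `Res.O_eq` : `O_M = U ⋂ ζ_q`;
* `Res.Q_cen` : `C_{Q_p}(U ∩ Q_p) = (U ∩ Q_p)(⋂ ζ_q)⟨t_p⟩`.
-/

set_option autoImplicit false
set_option Elab.async false

namespace Cfsg.Agent.Omega.HTwo.Eight

open Subgroup Cfsg.Agent.Omega.BTwo

variable {G : Type*} [Group G]

/-- `⟨p, z⟩` -/
def four (p z : G) (hp : p * p = 1) (hz : z * z = 1) (hc : p * z = z * p) : Subgroup G where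
  carrier := {n | n = 1 ∨ n = p ∨ n = z ∨ n = p * z}
  one_mem' := Or.inl rfl
  mul_mem' := by
    have e1 : p * (p * z) = z := by rw [← mul_assoc, hp, one_mul]
    have e2 : z * (p * z) = p := by rw [← mul_assoc, ← hc, mul_assoc, hz, mul_one]
    have e3 : p * z * p = z := by rw [hc, mul_assoc, hp, mul_one]
    have e4 : p * z * z = p := by rw [mul_assoc, hz, mul_one]
    have e5 : p * z * (p * z) = 1 := by rw [← mul_assoc, e3, hz]
    rintro a b (rfl | rfl | rfl | rfl) (rfl | rfl | rfl | rfl)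
    all_goals simp only [Set.mem_setOf_eq, one_mul, mul_one, hp, hz, e1, e2, e3, e4, e5, ← hc]
    all_goals simp
  inv_mem' := by
    have e : (p * z)⁻¹ = p * z := by
      refine inv_eq_of_mul_eq_one_left ?_
      rw [mul_assoc, ← mul_assoc z, ← hc, mul_assoc p z z, hz, mul_one, hp]
    rintro a (rfl | rfl | rfl | rfl)
    · left; exact inv_one
    · right; left; exact inv_eq_of_mul_eq_one_left hp
    · right; right; left; exact inv_eq_of_mul_eq_one_left hz
    · right; right; right; exact e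

/-- `⋂_{q ∈ Δ} ζ_q` -/
def Bz (Δ : Set G) : Subgroup G := ⨅ q ∈ Δ, Zp q

theorem mem_Bz {Δ : Set G} {x : G} : x ∈ Bz Δ ↔ ∀ q ∈ Δ, x ∈ Zp q := by
  simp only [Bz, mem_iInf]

namespace Res

variable {z : G} {M U : Subgroup G} {Δ : Set G} {f : G → G → ZMod 2} {t : G → G} (A : Res z M U Δ f t)
include A

/-! ### `⋂ ζ_q` -/

theorem z_Bz : z ∈ Bz Δ := mem_Bz.2 fun q hq => A.N_Z q hq (z_N z q)

theorem Bz_U {r : G} (hr : r ∈ Δ) {x u : G} (hx : x ∈ Bz Δ) (hu : u ∈ U) : x * u = u * x := by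
  have h1 : ∀ q ∈ Δ, x * q = q * x := fun q hq => Z_comm (mem_Bz.1 hx q hq) (A.N_le_Q hq (A.p_N hq))
  have h2 : x * z = z * x := A.Q_comm_z hr (mem_Bz.1 hx r hr).1
  rcases A.cover u hu with h | h | h | h
  · rw [h, mul_one, one_mul]
  · rw [h, h2]
  · exact h1 u h
  · have e : u = u * z * z := by rw [mul_assoc, A.zz, mul_one]
    rw [e, ← mul_assoc, h1 _ h, mul_assoc, h2, ← mul_assoc]

theorem Bz_normal {m x : G} (hm : m ∈ M) (hx : x ∈ Bz Δ) : m * x * m⁻¹ ∈ Bz Δ := by
  rw [mem_Bz] at hx ⊢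
  intro q hq
  have h1 := hx (m⁻¹ * q * m) (by
    have := A.Δ_M m⁻¹ (inv_mem hm) q hq
    rwa [inv_inv] at this)
  have h2 : m * x * m⁻¹ ∈ cj m (Zp (m⁻¹ * q * m)) := conj_mem_cj h1
  rw [cj_Zp] at h2
  have e : m * (m⁻¹ * q * m) * m⁻¹ = q := by group
  rwa [e] at h2

/-! ### `N_p` -/

theorem pz_comm {p : G} (hp : p ∈ Δ) : p * z = z * p := A.U_comm p (A.Δ_U p hp) z A.z_U

theorem N_mem' (h3 : Three z Δ t) {p : G} (hp : p ∈ Δ) {n : G} (hn : n ∈ Np z p) :
    n ∈ four p z (A.U_sq p (A.Δ_U p hp)) A.zz (A.pz_comm hp) ∨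
      n * t p ∈ four p z (A.U_sq p (A.Δ_U p hp)) A.zz (A.pz_comm hp) := by
  set F := four p z (A.U_sq p (A.Δ_U p hp)) A.zz (A.pz_comm hp) with hF
  have hzF : z ∈ F := Or.inr (Or.inr (Or.inl rfl))
  have hpzF : p * z ∈ F := Or.inr (Or.inr (Or.inr rfl))
  have htt : t p * t p = 1 := A.N_sq p hp _ (A.t_N hp)
  have hFN : F ≤ Np z p := by
    rintro x (rfl | rfl | rfl | rfl)
    · exact one_mem _
    · exact A.p_N hp
    · exact z_N _ _
    · exact mul_mem (A.p_N hp) (z_N z p)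
  have hFt : ∀ x ∈ F, x * t p = t p * x := fun x hx => A.N_comm hp (hFN hx) (A.t_N hp)
  let T : Subgroup G :=
    { carrier := {n | n ∈ F ∨ n * t p ∈ F}
      one_mem' := Or.inl (one_mem _)
      mul_mem' := by
        rintro a b (ha | ha) (hb | hb)
        · exact Or.inl (mul_mem ha hb)
        · exact Or.inr (by rw [mul_assoc]; exact mul_mem ha hb)
        · refine Or.inr ?_
          rw [mul_assoc, hFt b hb, ← mul_assoc]
          exact mul_mem ha hb
        · refine Or.inl ?_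
          have e : a * b = a * t p * (b * t p) := by
            have h1 := hFt _ hb
            calc a * b = a * (b * t p * t p) := by rw [mul_assoc b, htt, mul_one]
              _ = a * (t p * (b * t p)) := by rw [h1]
              _ = a * t p * (b * t p) := by group
          rw [e]
          exact mul_mem ha hb
      inv_mem' := by
        rintro a (ha | ha)
        · exact Or.inl (inv_mem ha)
        · refine Or.inr ?_
          have h1 := inv_mem ha
          rw [mul_inv_rev] at h1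
          have h2 := hFt _ h1
          have h3 : a⁻¹ * t p = (t p)⁻¹ * a⁻¹ := by
            have h4 : (t p)⁻¹ = t p := inv_eq_of_mul_eq_one_left htt
            rw [h4] at h2 ⊢
            have h5 : t p * a⁻¹ * t p * t p = t p * (t p * a⁻¹) * t p := by rw [h2]
            have h6 : t p * a⁻¹ * t p * t p = t p * a⁻¹ := by rw [mul_assoc, htt, mul_one]
            have h7 : t p * (t p * a⁻¹) * t p = a⁻¹ * t p := by rw [← mul_assoc (t p), htt, one_mul]
            rw [← h7, ← h5, h6]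
          rw [h3]
          exact h1 }
  have hT : Np z p ≤ T := by
    rw [Np, closure_le]
    rintro _ ⟨h, hh, rfl⟩
    rcases h3 p hp h hh with e | e | e
    · rw [e]; exact Or.inl hzF
    · rw [e]; exact Or.inr (by rw [htt]; exact one_mem _)
    · rw [e]; exact Or.inr (by rw [mul_assoc, htt, mul_one]; exact hpzF)
  exact hT hn

theorem N_mem (h3 : Three z Δ t) {p : G} (hp : p ∈ Δ) {n : G} (hn : n ∈ Np z p) :
    (n = 1 ∨ n = p ∨ n = z ∨ n = p * z) ∨ (n = t p ∨ n = p * t p ∨ n = z * t p ∨ n = p * z * t p) := by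
  have htt : t p * t p = 1 := A.N_sq p hp _ (A.t_N hp)
  rcases A.N_mem' h3 hp hn with h | h
  · exact Or.inl h
  · refine Or.inr ?_
    have e : n = n * t p * t p := by rw [mul_assoc, htt, mul_one]
    rcases h with h | h | h | h
    · left; rw [e, h, one_mul]
    · right; left; rw [e, h]
    · right; right; left; rw [e, h]
    · right; right; right; rw [e, h]

/-- `N_p ∩ C(U) = ⟨p, z⟩` -/
theorem N_cenU (h3 : Three z Δ t) {p : G} (hp : p ∈ Δ) {n : G} (hn : n ∈ Np z p)
    (hc : ∀ u ∈ U, n * u = u * n) : n = 1 ∨ n = p ∨ n = z ∨ n = p * z := by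
  rcases A.N_mem' h3 hp hn with h | h
  · exact h
  · exfalso
    apply A.t_mv hp
    intro u hu
    have h1 : n * t p ∈ U := by
      rcases h with h | h | h | h
      · rw [h]; exact one_mem _
      · rw [h]; exact A.Δ_U p hp
      · rw [h]; exact A.z_U
      · rw [h]; exact A.pz_U hp
    have e : t p = n⁻¹ * (n * t p) := by group
    rw [e, mul_assoc, A.U_comm _ h1 u hu, ← mul_assoc, ← mul_assoc]
    congr 1
    have := hc u hu
    calc n⁻¹ * u * n = n⁻¹ * (u * n) := by group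
      _ = n⁻¹ * (n * u) := by rw [this]
      _ = u := by group

theorem N_U (h3 : Three z Δ t) {p : G} (hp : p ∈ Δ) {n : G} (hn : n ∈ Np z p) (hU : n ∈ U) :
    n = 1 ∨ n = p ∨ n = z ∨ n = p * z := A.N_cenU h3 hp hn fun u hu => A.U_comm n hU u hu

theorem N_card (h3 : Three z Δ t) {p : G} (hp : p ∈ Δ) : Nat.card (Np z p) = 8 := by
  have hpU := A.Δ_U p hp
  let F : ZMod 2 × ZMod 2 × ZMod 2 → Np z p := fun c =>
    ⟨pw p c.1 * pw z c.2.1 * pw (t p) c.2.2,
      mul_mem (mul_mem (pw_mem (A.p_N hp) _) (pw_mem (z_N z p) _)) (pw_mem (A.t_N hp) _)⟩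
  have hU : ∀ a b : ZMod 2, pw p a * pw z b ∈ U := fun a b => mul_mem (pw_mem hpU _) (pw_mem A.z_U _)
  have htU : t p ∉ U := fun h => A.t_mv hp fun u hu => A.U_comm _ h u hu
  have hinj : Function.Injective F := by
    rintro ⟨a, b, c⟩ ⟨a', b', c'⟩ h
    have h1 : pw p a * pw z b * pw (t p) c = pw p a' * pw z b' * pw (t p) c' := congrArg Subtype.val h
    have hc : c = c' := by
      by_contra hne
      apply htU
      rcases z2 c with hc | hc <;> rcases z2 c' with hc' | hc'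
      · exact absurd (hc.trans hc'.symm) hne
      · rw [hc, hc', pw_zero, pw_one, mul_one] at h1
        have e : t p = (pw p a' * pw z b')⁻¹ * (pw p a * pw z b) := by rw [h1]; group
        rw [e]; exact mul_mem (inv_mem (hU _ _)) (hU _ _)
      · rw [hc, hc', pw_zero, pw_one, mul_one] at h1
        have e : t p = (pw p a * pw z b)⁻¹ * (pw p a' * pw z b') := by rw [← h1]; group
        rw [e]; exact mul_mem (inv_mem (hU _ _)) (hU _ _)
      · exact absurd (hc.trans hc'.symm) hne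
    subst hc
    have h2 := mul_right_cancel h1
    have ha : a = a' := by
      by_contra hne
      have key : ∀ b b' : ZMod 2, p * pw z b = pw z b' → False := by
        intro b b' h
        have e : p = pw z (b' + b) := by
          rw [pw_add A.zz, ← h, mul_assoc, pw_sq A.zz, mul_one]
        rcases z2 (b' + b) with h0 | h0
        · rw [h0, pw_zero] at e; exact A.p_ne_one hp e
        · rw [h0, pw_one] at e; exact A.p_ne_z hp e
      rcases z2 a with ha | ha <;> rcases z2 a' with ha' | ha'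
      · exact absurd (ha.trans ha'.symm) hne
      · rw [ha, ha', pw_zero, pw_one, one_mul] at h2
        exact key _ _ h2.symm
      · rw [ha, ha', pw_zero, pw_one, one_mul] at h2
        exact key _ _ h2
      · exact absurd (ha.trans ha'.symm) hne
    subst ha
    have hb := pw_inj A.z1 (mul_left_cancel h2)
    rw [hb]
  have hsurj : Function.Surjective F := by
    rintro ⟨n, hn⟩
    have key : ∀ a b c : ZMod 2, n = pw p a * pw z b * pw (t p) c → ∃ x, F x = ⟨n, hn⟩ := fun a b c h =>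
      ⟨(a, b, c), Subtype.ext h.symm⟩
    rcases A.N_mem h3 hp hn with (h | h | h | h) | (h | h | h | h)
    · exact key 0 0 0 (by rw [h, pw_zero, pw_zero, pw_zero, mul_one, mul_one])
    · exact key 1 0 0 (by rw [h, pw_one, pw_zero, pw_zero, mul_one, mul_one])
    · exact key 0 1 0 (by rw [h, pw_one, pw_zero, pw_zero, mul_one, one_mul])
    · exact key 1 1 0 (by rw [h, pw_one, pw_one, pw_zero, mul_one])
    · exact key 0 0 1 (by rw [h, pw_one, pw_zero, pw_zero, one_mul, one_mul])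
    · exact key 1 0 1 (by rw [h, pw_one, pw_one, pw_zero, mul_one])
    · exact key 0 1 1 (by rw [h, pw_one, pw_one, pw_zero, one_mul])
    · exact key 1 1 1 (by rw [h, pw_one, pw_one, pw_one])
  rw [← Nat.card_congr (Equiv.ofBijective F ⟨hinj, hsurj⟩), Nat.card_prod, Nat.card_prod, Nat.card_zmod]

/-! ### `O_M` -/

theorem good_all (h3 : Three z Δ t) {x : G} (hx : x ∈ O2 M) : Good z M U Δ t x where
  O := hx
  cen := fun p hp n hn hc => by
    rcases A.N_cenU h3 hp hn hc with h | h | h | h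
    · rw [h, mul_one, one_mul]
    · rw [h]; exact A.U_O x hx p (A.Δ_U p hp)
    · rw [h]; exact A.U_O x hx z A.z_U
    · rw [h]; exact A.U_O x hx _ (A.pz_U hp)
  mv := fun p hp => by
    obtain ⟨h, hh, e⟩ := A.t_ZZ p hp
    have hxp : x ∈ Cp p := mem_Cp.2 (A.U_O x hx p (A.Δ_U p hp))
    have e1 : x * t p * x⁻¹ = (x * h) * z * (x * h)⁻¹ := by rw [e]; group
    rw [e1]
    rcases h3 p hp (x * h) (mul_mem hxp hh) with h4 | h4 | h4
    · exfalso
      rw [← e1] at h4
      have hxz := A.mz (O2_le M hx)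
      have h5 : t p = z := by
        calc t p = x⁻¹ * (x * t p * x⁻¹) * x := by group
          _ = x⁻¹ * (z * x) := by rw [h4, mul_assoc]
          _ = x⁻¹ * (x * z) := by rw [hxz]
          _ = z := by group
      apply A.t_mv hp
      intro u hu
      rw [h5]
      exact A.U_comm z A.z_U u hu
    · exact Or.inl h4
    · right
      rw [h4]
      exact A.N_comm hp (mul_mem (A.p_N hp) (z_N z p)) (A.t_N hp)

/-- `O_M = U ⋂ ζ_q` -/
theorem O_eq [Finite U] (h3 : Three z Δ t) {x : G} (hx : x ∈ O2 M) : ∃ w ∈ U, ∃ b ∈ Bz Δ, x = w * b := by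
  obtain ⟨w, hw, _, _, h⟩ := A.good (A.good_all h3 hx)
  refine ⟨w, hw, x * w, mem_Bz.2 h, ?_⟩
  rw [A.U_O x hx w hw, ← mul_assoc, A.U_sq w hw, one_mul]

/-! ### `Q_p` -/

/-- `U ∩ ζ_p = ⟨p, z⟩` -/
theorem U_Z {p : G} (hp : p ∈ Δ) {u : G} (hu : u ∈ U) (hZ : u ∈ Zp p) : u = 1 ∨ u = p ∨ u = z ∨ u = p * z := by
  have hpU := A.Δ_U p hp
  -- for a point
  have key : ∀ q ∈ Δ, q ∈ Zp p → q = p := by
    intro q hq hqZ
    by_contra hne
    have h0 : f p q = 0 := (A.Q_f p hp q (A.Δ_U q hq)).1 hqZ.1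
    obtain ⟨g, hg, e⟩ := A.Q_mv p hp q hq (Ne.symm hne) h0
    rw [← Z_comm hqZ hg, mul_inv_cancel_right] at e
    exact A.p_ne_one hp (left_eq_mul.1 e)
  rcases A.cover u hu with h | h | h | h
  · exact Or.inl h
  · exact Or.inr (Or.inr (Or.inl h))
  · exact Or.inr (Or.inl (key u h hZ))
  · have h1 := key _ h (mul_mem hZ (A.N_Z p hp (z_N z p)))
    refine Or.inr (Or.inr (Or.inr ?_))
    rw [← h1, mul_assoc, A.zz, mul_one]

theorem M_cenU_normal {m x : G} (hm : m ∈ M) (hx : ∀ u ∈ U, x * u = u * x) :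
    ∀ u ∈ U, (m * x * m⁻¹) * u = u * (m * x * m⁻¹) := by
  intro u hu
  have h1 := A.U_M m⁻¹ (inv_mem hm) u hu
  rw [inv_inv] at h1
  have h2 := hx _ h1
  calc m * x * m⁻¹ * u = m * (x * (m⁻¹ * u * m)) * m⁻¹ := by group
    _ = m * (m⁻¹ * u * m * x) * m⁻¹ := by rw [h2]
    _ = u * (m * x * m⁻¹) := by group

/-- `C_{Q_p}(U) ≤ O_M` -/
theorem Q_cenU {p : G} (hp : p ∈ Δ) {x : G} (hx : x ∈ Qp p) (hc : ∀ u ∈ U, x * u = u * x) : x ∈ O2 M := by
  have hmem : ∀ y, y ∈ centralizer (U : Set G) ↔ ∀ u ∈ U, y * u = u * y := fun y => by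
    rw [mem_centralizer_iff]
    exact ⟨fun h u hu => (h u hu).symm, fun h u hu => (h u hu).symm⟩
  have h1 : Qp p ⊓ centralizer (U : Set G) ≤ O2 M := by
    refine le_O2_of_chain (B := M ⊓ centralizer (U : Set G)) (C := M) ?_ inf_le_left le_rfl
      ((O2_isPGroup (Cp p)).to_le inf_le_left) ?_ ?_ ?_
    · exact le_inf (inf_le_left.trans (A.Q_M hp)) inf_le_right
    · rintro b ⟨hb1, hb2⟩ a ⟨ha1, ha2⟩
      have hbp : b ∈ Cp p := mem_Cp.2 ((hmem b).1 hb2 p (A.Δ_U p hp))
      exact ⟨Q_normal hbp ha1, (centralizer (U : Set G)).mul_mem ((centralizer (U : Set G)).mul_mem hb2 ha2)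
        ((centralizer (U : Set G)).inv_mem hb2)⟩
    · rintro c hc b ⟨hb1, hb2⟩
      refine ⟨M.mul_mem (M.mul_mem hc hb1) (M.inv_mem hc), ?_⟩
      exact (hmem _).2 (A.M_cenU_normal hc ((hmem b).1 hb2))
    · intro g hg c hc
      exact mul_mem (mul_mem hg hc) (inv_mem hg)
  exact h1 ⟨hx, (hmem x).2 hc⟩

/-- an element of `Q_p` centralising `U ∩ Q_p` acts on `U` as `1` or as `t_p` -/
theorem Q_act {p : G} (hp : p ∈ Δ) {x : G} (hx : x ∈ Qp p) (hc : ∀ u ∈ U ⊓ Qp p, x * u = u * x) :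
    (∀ u ∈ U, x * u = u * x) ∨ ∀ u ∈ U, (x * t p) * u = u * (x * t p) := by
  have hpU := A.Δ_U p hp
  have hxM := A.Q_M hp hx
  have hc' : ∀ u ∈ U, f p u = 0 → x * u * x⁻¹ = u := fun u hu h => by
    rw [hc u ⟨hu, (A.Q_f p hp u hu).2 h⟩, mul_inv_cancel_right]
  -- for `v` with `f p v = 1`: `x v x⁻¹ = v` or `v (p z)`
  have key : ∀ v ∈ U, f p v = 1 → x * v * x⁻¹ = v ∨ x * v * x⁻¹ = v * (p * z) := by
    intro v hv hv1
    have hc1 : v * (x * v * x⁻¹) ∈ U := mul_mem hv (A.U_M x hxM v hv)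
    have e : x * v * x⁻¹ = v * (v * (x * v * x⁻¹)) := by rw [← mul_assoc v v, A.U_sq v hv, one_mul]
    set c := v * (x * v * x⁻¹) with hcdef
    -- `f c u = 0` if `f p u = 0`
    have h1 : ∀ u ∈ U, f p u = 0 → f c u = 0 := by
      intro u hu h
      rw [hcdef, A.f_add v hv _ (A.U_M x hxM v hv) u hu]
      have h2 := A.f_M x hxM v hv u hu
      rw [hc' u hu h] at h2
      rw [h2]
      generalize f v u = a
      revert a; decide
    -- so `c p^l ∈ ⟨z⟩`
    have h2 : c = 1 ∨ c = z ∨ c = p ∨ c = p * z := by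
      rcases z2 (f c v) with h3 | h3
      · have h4 : ∀ u ∈ U, f c u = 0 := by
          intro u hu
          rcases z2 (f p u) with h | h
          · exact h1 u hu h
          · have h5 := h1 (u * v) (mul_mem hu hv) (by rw [A.f_add' hpU hu hv, h, hv1]; decide)
            rw [A.f_add' hc1 hu hv, h3, add_zero] at h5
            exact h5
        rcases A.f_rad c hc1 h4 with h | h
        · exact Or.inl h
        · exact Or.inr (Or.inl h)
      · have h4 : ∀ u ∈ U, f (c * p) u = 0 := by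
          intro u hu
          rw [A.f_add c hc1 p hpU u hu]
          rcases z2 (f p u) with h | h
          · rw [h1 u hu h, h, add_zero]
          · have h5 := h1 (u * v) (mul_mem hu hv) (by rw [A.f_add' hpU hu hv, h, hv1]; decide)
            rw [A.f_add' hc1 hu hv, h3] at h5
            rw [h]; exact h5
        have h6 : c = c * p * p := by rw [mul_assoc, A.U_sq p hpU, mul_one]
        rcases A.f_rad _ (mul_mem hc1 hpU) h4 with h | h
        · right; right; left; rw [h6, h, one_mul]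
        · right; right; right; rw [h6, h, A.pz_comm hp]
    -- `Δ` is `M`-invariant
    have h7 : ∀ w ∈ Δ, f p w = 1 → ∀ c : G, x * w * x⁻¹ = w * c → c ≠ z ∧ c ≠ p := by
      intro w hw hw1 c h8
      have h9 := A.Δ_M x hxM w hw
      rw [h8] at h9
      refine ⟨fun h => A.inj w hw (h ▸ h9), fun h => ?_⟩
      rw [h, A.U_comm w (A.Δ_U w hw) p hpU] at h9
      exact A.inj _ h9 (A.mul1 p hp w hw hw1)
    have h8 : c ≠ z ∧ c ≠ p := by
      rcases A.cover v hv with h | h | h | h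
      · rw [h, A.f_one hpU] at hv1; exact absurd hv1 (by decide)
      · rw [h, A.f_z' hpU] at hv1; exact absurd hv1 (by decide)
      · exact h7 v h hv1 c e
      · refine h7 (v * z) h (by rw [A.f_add' hpU hv A.z_U, A.f_z' hpU, hv1, add_zero]) c ?_
        have h9 : x * (v * z) * x⁻¹ = x * v * x⁻¹ * (x * z * x⁻¹) := by group
        rw [h9, A.conj_z hxM, e, mul_assoc, A.U_comm c hc1 z A.z_U, ← mul_assoc]
    rcases h2 with h | h | h | h
    · left; rw [e, h, mul_one]
    · exact absurd h h8.1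
    · exact absurd h h8.2
    · right; rw [e, h]
  obtain ⟨v, hv, hv1⟩ := A.exists_f1 hp
  -- other elements
  have huv : ∀ u ∈ U, f p u = 1 → x * (u * v) * x⁻¹ = u * v := fun u hu h =>
    hc' _ (mul_mem hu hv) (by rw [A.f_add' hpU hu hv, h, hv1]; decide)
  rcases key v hv hv1 with h | h
  · left
    intro u hu
    rw [← mul_inv_eq_iff_eq_mul]
    rcases z2 (f p u) with h0 | h0
    · exact hc' u hu h0
    · have h1 := huv u hu h0
      have h2 : x * u * x⁻¹ = x * (u * v) * x⁻¹ * (x * v * x⁻¹)⁻¹ := by group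
      rw [h2, h1, h]; group
  · right
    intro u hu
    rw [← mul_inv_eq_iff_eq_mul]
    have h3 : x * t p * u * (x * t p)⁻¹ = x * (t p * u * (t p)⁻¹) * x⁻¹ := by group
    rw [h3, A.t_act hp hu]
    have hpz : x * (p * z) * x⁻¹ = p * z := hc' _ (A.pz_U hp) (by
      rw [A.f_add' hpU hpU A.z_U, A.f_self p hpU, A.f_z' hpU, add_zero])
    rcases z2 (f p u) with h0 | h0
    · rw [h0, pw_zero, mul_one]
      exact hc' u hu h0
    · rw [h0, pw_one]
      have h1 := huv u hu h0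
      have h2 : x * (u * (p * z)) * x⁻¹ = x * (u * v) * x⁻¹ * (x * v * x⁻¹)⁻¹ * (x * (p * z) * x⁻¹) := by group
      rw [h2, h1, h, hpz, mul_inv_rev, A.inv_eq (A.pz_U hp), A.inv_eq hv, A.U_comm _ (A.pz_U hp) v hv]
      calc u * v * (v * (p * z)) * (p * z) = u * (v * v) * ((p * z) * (p * z)) := by group
        _ = u := by rw [A.U_sq v hv, A.pz_sq hp, mul_one, mul_one]

/-- `C_{Q_p}(U ∩ Q_p) = (U ∩ Q_p)(⋂ ζ_q)⟨t_p⟩` -/
theorem Q_cen [Finite U] (h3 : Three z Δ t) {p : G} (hp : p ∈ Δ) {x : G} (hx : x ∈ Qp p)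
    (hc : ∀ u ∈ U ⊓ Qp p, x * u = u * x) :
    ∃ w ∈ U ⊓ Qp p, ∃ b ∈ Bz Δ, x = w * b ∨ x = w * b * t p := by
  have key : ∀ y ∈ Qp p, (∀ u ∈ U, y * u = u * y) → ∃ w ∈ U ⊓ Qp p, ∃ b ∈ Bz Δ, y = w * b := by
    intro y hy hcy
    obtain ⟨w, hw, b, hb, e⟩ := A.O_eq h3 (A.Q_cenU hp hy hcy)
    refine ⟨w, ⟨hw, ?_⟩, b, hb, e⟩
    have e1 : w = y * b⁻¹ := by rw [e]; group
    rw [e1]
    exact (Qp p).mul_mem hy ((Qp p).inv_mem (mem_Bz.1 hb p hp).1)
  rcases A.Q_act hp hx hc with h | h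
  · obtain ⟨w, hw, b, hb, e⟩ := key x hx h
    exact ⟨w, hw, b, hb, Or.inl e⟩
  · obtain ⟨w, hw, b, hb, e⟩ := key (x * t p) (mul_mem hx (A.N_le_Q hp (A.t_N hp))) h
    refine ⟨w, hw, b, hb, Or.inr ?_⟩
    rw [← e, mul_assoc, A.N_sq p hp _ (A.t_N hp), mul_one]

end Res

end Cfsg.Agent.Omega.HTwo.Eight
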