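import Cfsg.Agent.Omega.TV.Basic

/-!
# LEMMA T for a family of transvection groups over `𝔽₂` (#14489 (0))

`H` acts on `V` over `𝔽₂`, `Om` is an orbit of `H` spanning `V`, `F r` (for `r ∈ Om`) an equivariant family of
groups of functionals, whose transvections are induced by `H`; every `F r` has at least four elements.  Two
different points with a common neighbour are adjacent (`adj_of_near`); hence the component of a point, together
with `0`, is a subspace `cls`, on which `F r` has only `r` in its common kernel.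

The proofs follow helper895's `Omega/TV/Basic.lean` and `Omega/TV/Big.lean` (there `F r` consists of all induced
transvections).
-/

set_option autoImplicit false
set_option linter.dupNamespace false

namespace Cfsg.Agent.Omega.HTwo.Fam

open Module Cfsg.Agent.Omega.TV

variable {H : Type*} [Group H] {V : Type*} [AddCommGroup V] [Module (ZMod 2) V]

/-- Some transvection of the family with centre `r` moves `s`. -/
def Adj (F : V → Dual (ZMod 2) V → Prop) (r s : V) : Prop := ∃ φ, F r φ ∧ φ s = 1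

/-- An equivariant family of transvection groups. -/
structure Fam (ρ : H →* (V ≃ₗ[ZMod 2] V)) (Om : Set V) (F : V → Dual (ZMod 2) V → Prop) : Prop where
  zero : (0 : V) ∉ Om
  inv : ∀ (g : H), ∀ r ∈ Om, ρ g r ∈ Om
  trans : ∀ r ∈ Om, ∀ s ∈ Om, ∃ g : H, ρ g r = s
  span : Submodule.span (ZMod 2) Om = ⊤
  chain : ∀ U : Submodule (ZMod 2) V, (∀ (g : H), ∀ u ∈ U, ρ g u ∈ U) →
    ∀ g : H, (∀ u ∈ U, ρ g u = u) → (∀ v, ρ g v + v ∈ U) → ∀ v, ρ g v = v
  self : ∀ r ∈ Om, ∀ φ, F r φ → φ r = 0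
  add : ∀ r ∈ Om, ∀ φ ψ, F r φ → F r ψ → F r (φ + ψ)
  conj : ∀ r ∈ Om, ∀ φ, F r φ → ∀ g : H, F (ρ g r) (φ ∘ₗ (ρ g⁻¹ : V ≃ₗ[ZMod 2] V).toLinearMap)
  real : ∀ r ∈ Om, ∀ φ, F r φ → ∃ g : H, ∀ x, ρ g x = x + φ x • r
  big : ∀ r ∈ Om, ∀ s : V, ∃ κ, κ ≠ 0 ∧ F r κ ∧ κ s = 0

namespace Fam

variable {ρ : H →* (V ≃ₗ[ZMod 2] V)} {Om : Set V} {F : V → Dual (ZMod 2) V → Prop} (h : Fam ρ Om F)

include h

theorem ne_zero {r : V} (hr : r ∈ Om) : r ≠ 0 := fun e => h.zero (e ▸ hr)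

theorem eq_zero_of {φ : Dual (ZMod 2) V} (hφ : ∀ s ∈ Om, φ s = 0) : φ = 0 := by
  refine LinearMap.ext_on h.span fun s hs => ?_
  simpa using hφ s hs

theorem exists_one {φ : Dual (ZMod 2) V} (hφ : φ ≠ 0) : ∃ s ∈ Om, φ s = 1 := by
  by_contra hcon
  push Not at hcon
  exact hφ (h.eq_zero_of fun s hs => z2_ne_one (hcon s hs))

/-- Conjugation of one transvection by another. -/
theorem cc {u y : V} {κ φ : Dual (ZMod 2) V} (hu : u ∈ Om) (hy : y ∈ Om) (fu : F u κ) (fy : F y φ) :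
    F (u + φ u • y) (κ + κ y • φ) := by
  obtain ⟨g, hg⟩ := h.real y hy φ fy
  have h1 := h.conj u hu κ fu g
  rw [hg] at h1
  have e : κ ∘ₗ (ρ g⁻¹ : V ≃ₗ[ZMod 2] V).toLinearMap = κ + κ y • φ := by
    ext x
    have hgi : ρ g⁻¹ x = x + φ x • y := by
      have h2 : ρ g (x + φ x • y) = x := by
        rw [hg, map_add, map_smul, h.self y hy φ fy, smul_zero, add_zero, add_assoc, v_add_self, add_zero]
      rw [← h2, rinv, h2]
    change κ (ρ g⁻¹ x) = _
    rw [hgi, map_add, map_smul, LinearMap.add_apply, LinearMap.smul_apply, smul_eq_mul, smul_eq_mul, mul_comm]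
  rwa [e] at h1

theorem adj_conj {r s : V} (hr : r ∈ Om) (ha : Adj F r s) (g : H) : Adj F (ρ g r) (ρ g s) := by
  obtain ⟨φ, hφ, h1⟩ := ha
  exact ⟨_, h.conj r hr φ hφ g, by simpa [rinv] using h1⟩

theorem exists_fn {r : V} (hr : r ∈ Om) : ∃ φ, φ ≠ 0 ∧ F r φ := by
  obtain ⟨κ, h1, h2, -⟩ := h.big r hr 0
  exact ⟨κ, h1, h2⟩

theorem exists_adj {r : V} (hr : r ∈ Om) : ∃ s ∈ Om, Adj F r s := by
  obtain ⟨φ, hne, hφ⟩ := h.exists_fn hr
  obtain ⟨s, hs, h1⟩ := h.exists_one hne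
  exact ⟨s, hs, φ, hφ, h1⟩

theorem add_mem {r s : V} (hr : r ∈ Om) (hs : s ∈ Om) (ha : Adj F r s) : s + r ∈ Om := by
  obtain ⟨φ, hφ, h1⟩ := ha
  obtain ⟨g, hg⟩ := h.real r hr φ hφ
  have := h.inv g s hs
  rwa [hg, h1, one_smul] at this

/-- if `φ ∈ F r` moves `s` and `ψ ∈ F s` kills `r`, then `ψ ∈ F r` -/
theorem mem_of_kill {r s : V} {φ ψ : Dual (ZMod 2) V} (hr : r ∈ Om) (hs : s ∈ Om) (fr : F r φ) (h1 : φ s = 1)
    (fs : F s ψ) (h0 : ψ r = 0) : F r ψ := by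
  have e1 := h.cc hr hs fr fs
  rw [h0, zero_smul, add_zero, h1, one_smul] at e1
  have e2 := h.add r hr _ _ fr e1
  have e3 : φ + (φ + ψ) = ψ := by
    ext x
    simp only [LinearMap.add_apply]
    rw [← add_assoc, z2_add_self, zero_add]
  rwa [e3] at e2

theorem symm [Finite V] {r s : V} (hr : r ∈ Om) (hs : s ∈ Om) (ha : Adj F r s) : Adj F s r := by
  have : Finite (Dual (ZMod 2) V) := Finite.of_injective (fun f : Dual (ZMod 2) V => (f : V → ZMod 2))
    DFunLike.coe_injective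
  obtain ⟨φ, hφ, h1⟩ := ha
  by_contra hcon
  have h0 : ∀ ψ, F s ψ → ψ r = 0 := fun ψ hψ => z2_ne_one fun e => hcon ⟨ψ, hψ, e⟩
  have hsub : {ψ | F s ψ} ⊆ {ψ | F r ψ} := fun ψ hψ => h.mem_of_kill hr hs hφ h1 hψ (h0 ψ hψ)
  have hcard : {ψ | F r ψ}.ncard ≤ {ψ | F s ψ}.ncard := by
    obtain ⟨g, hg⟩ := h.trans r hr s hs
    refine Set.ncard_le_ncard_of_injOn
      (fun ψ => ψ ∘ₗ (ρ g⁻¹ : V ≃ₗ[ZMod 2] V).toLinearMap) ?_ ?_ (Set.toFinite _)
    · intro ψ hψ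
      exact hg ▸ h.conj r hr ψ hψ g
    · intro ψ _ ψ' _ he
      ext x
      have := LinearMap.congr_fun he (ρ g x)
      simpa [rinv] using this
  have heq := Set.eq_of_subset_of_ncard_le hsub hcard (Set.toFinite _)
  have : φ ∈ {ψ | F s ψ} := by rw [heq]; exact hφ
  have h2 : φ s = 0 := h.self s hs φ this
  rw [h1] at h2
  exact one_ne_zero h2

/-- `F r ∩ s^⊥ ≤ F s` for adjacent `r`, `s`. -/
theorem fn_of_adj [Finite V] {r s : V} (hr : r ∈ Om) (hs : s ∈ Om) (ha : Adj F r s)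
    {ψ : Dual (ZMod 2) V} (hψ : F r ψ) (h0 : ψ s = 0) : F s ψ := by
  obtain ⟨φ, hφ, h1⟩ := h.symm hr hs ha
  exact h.mem_of_kill hs hr hφ h1 hψ h0

/-- Having a common neighbour. -/
def Near (F : V → Dual (ZMod 2) V → Prop) (Om : Set V) (r s : V) : Prop :=
  ∃ v ∈ Om, Adj F r v ∧ Adj F v s

theorem near_of_adj [Finite V] {r s : V} (hr : r ∈ Om) (hs : s ∈ Om) (ha : Adj F r s) :
    Near F Om r s := by
  obtain ⟨φ, hφ, h1⟩ := ha
  obtain ⟨ψ, hψ, h2⟩ := h.symm hr hs ⟨φ, hφ, h1⟩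
  have hm : s + r ∈ Om := h.add_mem hr hs ⟨φ, hφ, h1⟩
  refine ⟨s + r, hm, ⟨φ, hφ, by rw [map_add, h1, h.self r hr φ hφ, add_zero]⟩, ?_⟩
  exact h.symm hs hm ⟨ψ, hψ, by rw [map_add, h.self s hs ψ hψ, h2, zero_add]⟩

theorem near_refl [Finite V] {r : V} (hr : r ∈ Om) : Near F Om r r := by
  obtain ⟨s, hs, ha⟩ := h.exists_adj hr
  exact ⟨s, hs, ha, h.symm hr hs ha⟩

theorem near_symm [Finite V] {r s : V} (hr : r ∈ Om) (hs : s ∈ Om) (hn : Near F Om r s) :
    Near F Om s r := by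
  obtain ⟨v, hv, h1, h2⟩ := hn
  exact ⟨v, hv, h.symm hv hs h2, h.symm hr hv h1⟩

theorem near_three [Finite V] {a u v b : V} (ha : a ∈ Om) (hu : u ∈ Om) (hv : v ∈ Om) (hb : b ∈ Om)
    (h1 : Adj F a u) (h2 : Adj F u v) (h3 : Adj F v b) : Near F Om a b := by
  by_cases h4 : Adj F a v
  · exact ⟨v, hv, h4, h3⟩
  by_cases h5 : Adj F u b
  · exact ⟨u, hu, h1, h5⟩
  have hm : v + u ∈ Om := h.add_mem hu hv h2
  obtain ⟨φ, hφ, e1⟩ := h1
  have e2 : φ v = 0 := z2_ne_one fun e => h4 ⟨φ, hφ, e⟩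
  obtain ⟨ψ, hψ, e3⟩ := h.symm hv hb h3
  have e4 : ψ u = 0 := z2_ne_one fun e => h5 (h.symm hb hu ⟨ψ, hψ, e⟩)
  refine ⟨v + u, hm, ⟨φ, hφ, by rw [map_add, e2, e1, zero_add]⟩, h.symm hb hm
    ⟨ψ, hψ, by rw [map_add, e3, e4, add_zero]⟩⟩

theorem near_trans [Finite V] {a b c : V} (ha : a ∈ Om) (hb : b ∈ Om) (hc : c ∈ Om)
    (h1 : Near F Om a b) (h2 : Near F Om b c) : Near F Om a c := by
  obtain ⟨v, hv, e1, e2⟩ := h1
  obtain ⟨w, hw, e3, e4⟩ := h2
  obtain ⟨x, hx, e5, e6⟩ := h.near_three ha hv hb hw e1 e2 e3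
  exact h.near_three ha hx hw hc e5 e6 e4

theorem near_conj {a b : V} (ha : a ∈ Om) (hn : Near F Om a b) (g : H) : Near F Om (ρ g a) (ρ g b) := by
  obtain ⟨v, hv, h1, h2⟩ := hn
  exact ⟨ρ g v, h.inv g v hv, h.adj_conj ha h1 g, h.adj_conj hv h2 g⟩

/-- the functionals of a common neighbour agree on two nonadjacent points. -/
theorem agree [Finite V] {a b v : V} (ha : a ∈ Om) (hb : b ∈ Om) (hv : v ∈ Om)
    (hn : ¬ Adj F a b) (h1 : Adj F v a) (h2 : Adj F v b) {ψ : Dual (ZMod 2) V} (hψ : F v ψ) :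
    ψ a = ψ b := by
  rcases z2 (ψ a) with e1 | e1 <;> rcases z2 (ψ b) with e2 | e2
  · rw [e1, e2]
  · exact absurd ⟨ψ, h.fn_of_adj hv ha h1 hψ e1, e2⟩ hn
  · exact absurd (h.symm hb ha ⟨ψ, h.fn_of_adj hv hb h2 hψ e2, e1⟩) hn
  · rw [e1, e2]

/-- The vectors killed by all functionals of the family. -/
def rad (F : V → Dual (ZMod 2) V → Prop) (Om : Set V) : Submodule (ZMod 2) V where
  carrier := {x | ∀ r ∈ Om, ∀ φ, F r φ → φ x = 0}
  zero_mem' := fun r _ φ _ => map_zero φ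
  add_mem' := fun ha hb r hr φ hφ => by rw [map_add, ha r hr φ hφ, hb r hr φ hφ, add_zero]
  smul_mem' := fun c x hx r hr φ hφ => by rw [map_smul, hx r hr φ hφ, smul_zero]

theorem rad_inv (g : H) {x : V} (hx : x ∈ rad F Om) : ρ g x ∈ rad F Om := by
  intro r hr φ hφ
  have h1 := hx (ρ g⁻¹ r) (h.inv _ r hr) _ (h.conj r hr φ hφ g⁻¹)
  simpa using h1

/-- different points with the same nonzero functional do not differ by a vector of the radical -/
theorem no_rad {y y' : V} (hy : y ∈ Om) (hy' : y' ∈ Om) (hc : y + y' ∈ rad F Om) {κ : Dual (ZMod 2) V}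
    (h1 : F y κ) (h2 : F y' κ) (hκ : κ ≠ 0) : y = y' := by
  obtain ⟨g, hg⟩ := h.real y hy κ h1
  obtain ⟨g', hg'⟩ := h.real y' hy' κ h2
  have hgg : ∀ x, ρ (g * g') x = x + κ x • (y + y') := by
    intro x
    rw [rmul, hg', hg, map_add, map_smul, h.self y' hy' κ h2, smul_zero, add_zero, smul_add]
    abel
  have h3 := h.chain (rad F Om) (fun g u hu => h.rad_inv g hu) (g * g')
    (fun u hu => by rw [hgg, hu y hy κ h1, zero_smul, add_zero])
    (fun v => by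
      rw [hgg, add_comm v, add_add_self]
      exact (rad F Om).smul_mem _ hc)
  obtain ⟨s, _, hs⟩ := h.exists_one hκ
  have h4 := h3 s
  rw [hgg, hs, one_smul] at h4
  exact v_eq_of_add (by simpa using h4)

theorem core [Finite V] {y y' v u : V} {χ : Dual (ZMod 2) V}
    (hy : y ∈ Om) (hy' : y' ∈ Om) (hv : v ∈ Om) (hu : u ∈ Om) (hn : ¬ Adj F y y')
    (h1 : Adj F v y) (h2 : Adj F v y') (hχ : F u χ) (e1 : χ y = 1) (e2 : χ y' = 0)
    (huv : Adj F u v) : False := by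
  have huy : Adj F u y := ⟨χ, hχ, e1⟩
  have hn' : ¬ Adj F u y' := by
    intro ha
    have := h.agree hy hy' hu hn huy ha hχ
    rw [e1, e2] at this
    exact one_ne_zero this
  have hvu := h.symm hu hv huv
  obtain ⟨κ, hκ0, hκ, k1⟩ := h.big v hv y
  have k2 : κ y' = 0 := by rw [← h.agree hy hy' hv hn h1 h2 hκ, k1]
  have k3 : κ u = 0 := by rw [h.agree hu hy' hv hn' hvu h2 hκ, k2]
  have f1 := h.fn_of_adj hv hy h1 hκ k1
  have f2 := h.fn_of_adj hv hy' h2 hκ k2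
  have f3 := h.fn_of_adj hv hu hvu hκ k3
  obtain ⟨w, hw, hw1⟩ := h.exists_one hκ0
  obtain ⟨φ, hφ, p1⟩ := h.symm hu hy huy
  have f4 := h.cc hu hy f3 hφ
  rw [p1, one_smul, h.self y hy κ f1, zero_smul, add_zero] at f4
  have hm : u + y ∈ Om := h.add_mem hy hu ⟨φ, hφ, p1⟩
  obtain ⟨ψ, hψ, q1⟩ := h.symm hm hw ⟨κ, f4, hw1⟩
  have w1 := h.symm hy hw ⟨κ, f1, hw1⟩
  have w2 := h.symm hy' hw ⟨κ, f2, hw1⟩
  have w3 := h.symm hu hw ⟨κ, f3, hw1⟩
  have g1 := h.agree hy hy' hw hn w1 w2 hψ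
  have g2 := h.agree hu hy' hw hn' w3 w2 hψ
  rw [map_add, g1, g2, z2_add_self] at q1
  exact zero_ne_one q1

theorem core' [Finite V] {y y' v u : V} {χ : Dual (ZMod 2) V}
    (hy : y ∈ Om) (hy' : y' ∈ Om) (hv : v ∈ Om) (hu : u ∈ Om) (hn : ¬ Adj F y y')
    (h1 : Adj F v y) (h2 : Adj F v y') (hχ : F u χ) (e1 : χ y = 1) (e2 : χ y' = 0) :
    False := by
  by_cases huv : Adj F u v
  · exact h.core hy hy' hv hu hn h1 h2 hχ e1 e2 huv
  have huy : Adj F u y := ⟨χ, hχ, e1⟩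
  obtain ⟨φ, hφ, p1⟩ := h.symm hu hy huy
  have hm : u + y ∈ Om := h.add_mem hy hu ⟨φ, hφ, p1⟩
  have f := h.cc hu hy hχ hφ
  rw [p1, e1, one_smul, one_smul] at f
  have p2 : φ y' = 0 := z2_ne_one fun e => hn ⟨φ, hφ, e⟩
  obtain ⟨ψ, hψ, q1⟩ := h1
  have q2 : ψ u = 0 := z2_ne_one fun e => huv (h.symm hv hu ⟨ψ, hψ, e⟩)
  refine h.core hy hy' hv hm hn ⟨ψ, hψ, q1⟩ h2 f ?_ ?_ ?_
  · rw [LinearMap.add_apply, e1, h.self y hy φ hφ, add_zero]
  · rw [LinearMap.add_apply, e2, p2, add_zero]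
  · exact h.symm hv hm ⟨ψ, hψ, by rw [map_add, q2, q1, zero_add]⟩

/-- **LEMMA T**: two different points with a common neighbour are adjacent. -/
theorem adj_of_near [Finite V] {y y' : V} (hy : y ∈ Om)
    (hy' : y' ∈ Om) (hne : y ≠ y') (hnear : Near F Om y y') : Adj F y y' := by
  by_contra hn
  obtain ⟨v, hv, a1, h2⟩ := hnear
  have h1 := h.symm hy hv a1
  have hn' : ¬ Adj F y' y := fun e => hn (h.symm hy' hy e)
  have hrad : y + y' ∈ rad F Om := by
    intro u hu χ hχ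
    rw [map_add]
    rcases z2 (χ y) with e1 | e1 <;> rcases z2 (χ y') with e2 | e2
    · rw [e1, e2, add_zero]
    · exact (h.core' hy' hy hv hu hn' h2 h1 hχ e2 e1).elim
    · exact (h.core' hy hy' hv hu hn h1 h2 hχ e1 e2).elim
    · rw [e1, e2]; exact z2_add_self 1
  obtain ⟨κ, hκ0, hκ, k1⟩ := h.big v hv y
  have k2 : κ y' = 0 := by rw [← h.agree hy hy' hv hn h1 h2 hκ, k1]
  have f1 := h.fn_of_adj hv hy h1 hκ k1
  have f2 := h.fn_of_adj hv hy' h2 hκ k2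
  exact hne (h.no_rad hy hy' hrad f1 f2 hκ0)

/-- the component of `r`, together with `0`, is a subspace -/
def cls [Finite V] {r : V} (hr : r ∈ Om) : Submodule (ZMod 2) V where
  carrier := {x | x = 0 ∨ (x ∈ Om ∧ Near F Om r x)}
  zero_mem' := Or.inl rfl
  add_mem' := by
    rintro a b (rfl | ⟨ha, hra⟩) (rfl | ⟨hb, hrb⟩)
    · exact Or.inl (add_zero 0)
    · rw [zero_add]; exact Or.inr ⟨hb, hrb⟩
    · rw [add_zero]; exact Or.inr ⟨ha, hra⟩
    · by_cases hab : a = b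
      · subst hab; exact Or.inl (v_add_self a)
      · have h1 := h.near_trans ha hr hb (h.near_symm hr ha hra) hrb
        have h2 := h.adj_of_near ha hb hab h1
        have h3 := h.symm ha hb h2
        have h4 : a + b ∈ Om := h.add_mem hb ha h3
        refine Or.inr ⟨h4, ?_⟩
        obtain ⟨φ, hφ, e⟩ := h2
        have h5 : Adj F a (a + b) := ⟨φ, hφ, by rw [map_add, h.self a ha φ hφ, e, zero_add]⟩
        exact h.near_trans hr ha h4 hra (h.near_of_adj ha h4 h5)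
  smul_mem' := by
    intro c x hx
    rcases z2 c with rfl | rfl
    · rw [zero_smul]; exact Or.inl rfl
    · rwa [one_smul]

theorem mem_cls [Finite V] {r x : V} (hr : r ∈ Om) :
    x ∈ h.cls hr ↔ x = 0 ∨ (x ∈ Om ∧ Near F Om r x) := Iff.rfl

theorem self_mem_cls [Finite V] {r : V} (hr : r ∈ Om) : r ∈ h.cls hr := Or.inr ⟨hr, h.near_refl hr⟩

theorem adj_mem_cls [Finite V] {r x : V} (hr : r ∈ Om) (hx : x ∈ Om) (ha : Adj F r x) : x ∈ h.cls hr :=
  Or.inr ⟨hx, h.near_of_adj hr hx ha⟩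

/-- an element mapping a point of the component into the component normalises the component -/
theorem cls_inv [Finite V] {r : V} (hr : r ∈ Om) {g : H} (hg : ρ g r ∈ h.cls hr) {x : V}
    (hx : x ∈ h.cls hr) : ρ g x ∈ h.cls hr := by
  rcases hx with rfl | ⟨hx, hn⟩
  · rw [map_zero]; exact (h.cls hr).zero_mem
  · rcases hg with h0 | ⟨-, hg⟩
    · exact absurd h0 (h.ne_zero (h.inv g r hr))
    · exact Or.inr ⟨h.inv g x hx,
        h.near_trans hr (h.inv g r hr) (h.inv g x hx) hg (h.near_conj hr hn g)⟩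

/-- the common kernel of `F r` on the component is `{0, r}` -/
theorem eq_of_kill [Finite V] {r x : V} (hr : r ∈ Om) (hx : x ∈ h.cls hr) (hk : ∀ φ, F r φ → φ x = 0) :
    x = 0 ∨ x = r := by
  rcases hx with hx | ⟨hx, hn⟩
  · exact Or.inl hx
  · right
    by_contra hne
    obtain ⟨φ, hφ, e⟩ := h.adj_of_near hr hx (Ne.symm hne) hn
    rw [hk φ hφ] at e
    exact zero_ne_one e

/-- the same for the other points of the component -/
theorem eq_of_kill' [Finite V] {r u x : V} (hr : r ∈ Om) (hu : u ∈ h.cls hr) (hu0 : u ≠ 0) (hx : x ∈ h.cls hr)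
    (hk : ∀ φ, F u φ → φ x = 0) : x = 0 ∨ x = u := by
  rcases hx with hx | ⟨hx, hn⟩
  · exact Or.inl hx
  · right
    rcases hu with hu | ⟨hu, hn'⟩
    · exact absurd hu hu0
    by_contra hne
    obtain ⟨φ, hφ, e⟩ := h.adj_of_near hu hx (Ne.symm hne)
      (h.near_trans hu hr hx (h.near_symm hr hu hn') hn)
    rw [hk φ hφ] at e
    exact zero_ne_one e

/-- a functional of `F r` vanishing on the component vanishes -/
theorem faithful [Finite V] {r : V} (hr : r ∈ Om) {φ : Dual (ZMod 2) V} (hφ : F r φ)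
    (hk : ∀ x ∈ h.cls hr, φ x = 0) : φ = 0 := by
  by_contra hne
  obtain ⟨s, hs, e⟩ := h.exists_one hne
  rw [hk s (h.adj_mem_cls hr hs ⟨φ, hφ, e⟩)] at e
  exact zero_ne_one e

/-- `u`, `r`, `l` in the component, `l ∉ ⟨u, r⟩`: some functional of `F u` kills `r` and moves `l` -/
theorem exists_move [Finite V] {r u l : V} (hr : r ∈ Om) (hu : u ∈ h.cls hr) (hu0 : u ≠ 0)
    (hl : l ∈ h.cls hr) (h1 : l ≠ 0) (h2 : l ≠ u) (h3 : l ≠ r) (h4 : l ≠ r + u) :
    ∃ κ, F u κ ∧ κ r = 0 ∧ κ l = 1 := by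
  have huO : u ∈ Om := by
    rcases hu with hu | ⟨hu, -⟩
    · exact absurd hu hu0
    · exact hu
  by_contra hcon
  push Not at hcon
  have key : ∀ κ, F u κ → κ r = 0 → κ l = 0 := fun κ hκ h0 => z2_ne_one (hcon κ hκ h0)
  by_cases h5 : ∀ κ, F u κ → κ l = 0
  · rcases h.eq_of_kill' hr hu hu0 hl h5 with h6 | h6
    · exact h1 h6
    · exact h2 h6
  push Not at h5
  obtain ⟨κ₀, hκ₀, h6⟩ := h5
  have h6' := z2_ne_zero h6
  have h7 : ∀ κ, F u κ → κ (l + r) = 0 := by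
    intro κ hκ
    have h8 : κ₀ r = 1 := by
      by_contra h9
      exact h6 (key κ₀ hκ₀ (z2_ne_one h9))
    rcases z2 (κ r) with h9 | h9
    · rw [map_add, key κ hκ h9, h9, add_zero]
    · have h10 := key (κ + κ₀) (h.add u huO _ _ hκ hκ₀)
        (by rw [LinearMap.add_apply, h9, h8]; exact z2_add_self 1)
      rw [LinearMap.add_apply, h6'] at h10
      have h11 : κ l = 1 := by
        rcases z2 (κ l) with h12 | h12
        · rw [h12, zero_add] at h10; exact absurd h10 one_ne_zero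
        · exact h12
      rw [map_add, h11, h9]; exact z2_add_self 1
  have h8 : l + r ∈ h.cls hr := (h.cls hr).add_mem hl (h.self_mem_cls hr)
  rcases h.eq_of_kill' hr hu hu0 h8 h7 with h9 | h9
  · exact h3 (v_eq_of_add h9)
  · apply h4
    have := congrArg (· + r) h9
    simp only [add_add_self] at this
    rw [this, add_comm]

end Fam

end Cfsg.Agent.Omega.HTwo.Fam
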