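import Cfsg.Agent.Omega.HTwo.Hat

/-!
# II.0h1, `q = 2`: LEMMA J (#13886, helper720; referee helper709): the local part

`z ∈ C_X` central in `S`, `A ≤ C(V)`, `[z^h, A] ≤ R i` for `h ∈ N(R i)`; `L = ⟨A^h⟩` (`A = E j` or `U j`).

* `no_swap` : `z` and `z r` are not conjugate in `C(r)`, `S ≤ C(z) ∩ C(r)`;
* `L_cen` : `L ≤ C(z)`; `L_comm` : the conjugates of `V` under `L` commute;
* `F1`, `F1'` : `E j` on `Q i / Z(Q i)`; `cenW_E` : `[C(W i), E j] ≤ R i × C_X`.
-/

set_option autoImplicit false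
set_option linter.unusedSectionVars false

namespace Cfsg.Agent.Omega.HTwo.LemJ

open Subgroup Cfsg.Agent.Omega.BTwo Cfsg.Agent.Omega.HTwo.Par Cfsg.Agent.Omega.HTwo.ThmA
  Cfsg.Agent.Omega.HTwo.Hat

variable {G : Type*} [Group G] {ι : Type*} {V : Subgroup G} {R : ι → Subgroup G}

/-- the elements commuting with `r` which map `z` to `z` or `z r` -/
def swapGrp (z r : G) (hrr : r * r = 1) : Subgroup G where
  carrier := {g | g * r = r * g ∧ (g * z * g⁻¹ = z ∨ g * z * g⁻¹ = z * r)}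
  one_mem' := ⟨by rw [one_mul, mul_one], Or.inl (by group)⟩
  mul_mem' := by
    rintro g h ⟨hg, hg'⟩ ⟨hh, hh'⟩
    refine ⟨by rw [mul_assoc, hh, ← mul_assoc, hg, mul_assoc], ?_⟩
    have e : g * h * z * (g * h)⁻¹ = g * (h * z * h⁻¹) * g⁻¹ := by group
    have e2 : g * (z * r) * g⁻¹ = g * z * g⁻¹ * r := by
      have : r * g⁻¹ = g⁻¹ * r := by rw [eq_inv_mul_iff_mul_eq, ← mul_assoc, hg, mul_inv_cancel_right]
      calc g * (z * r) * g⁻¹ = g * z * (r * g⁻¹) := by group
        _ = _ := by rw [this]; group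
    rw [e]
    rcases hh' with h1 | h1
    · rw [h1]; exact hg'
    · rw [h1, e2]
      rcases hg' with h2 | h2
      · right; rw [h2]
      · left; rw [h2, mul_assoc, hrr, mul_one]
  inv_mem' := by
    rintro g ⟨hg, hg'⟩
    have h1 : g⁻¹ * r = r * g⁻¹ := by rw [inv_mul_eq_iff_eq_mul, ← mul_assoc, hg, mul_inv_cancel_right]
    refine ⟨h1, ?_⟩
    rcases hg' with h2 | h2
    · left
      have : z = g⁻¹ * z * g := by
        calc z = g⁻¹ * (g * z * g⁻¹) * g := by group
          _ = _ := by rw [h2]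
      rw [inv_inv]; exact this.symm
    · right
      rw [inv_inv]
      have : z = g⁻¹ * z * g * r := by
        calc z = g⁻¹ * (g * z * g⁻¹) * g := by group
          _ = g⁻¹ * z * (r * g) := by rw [h2]; group
          _ = _ := by rw [← hg]; group
      calc g⁻¹ * z * g = g⁻¹ * z * g * (r * r) := by rw [hrr, mul_one]
        _ = (g⁻¹ * z * g * r) * r := by group
        _ = z * r := by rw [← this]

/-- `z` and `z r` are not conjugate in `C(r)` if a Sylow 2-subgroup centralises `z` and `r` -/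
theorem no_swap [Finite G] (S : Sylow 2 G) {z r : G} (hrr : r * r = 1) (hr1 : r ≠ 1)
    (hSz : ∀ s ∈ (S : Subgroup G), z * s = s * z) (hSr : ∀ s ∈ (S : Subgroup G), r * s = s * r)
    {g : G} (hgr : g * r = r * g) (hg : g * z * g⁻¹ = z * r) : False := by
  set K := swapGrp z r hrr with hK
  have hSK : (S : Subgroup G) ≤ K := fun s hs =>
    ⟨(hSr s hs).symm, Or.inl (by rw [← hSz s hs, mul_inv_cancel_right])⟩
  have hSC : (S : Subgroup G) ≤ centralizer ({z} : Set G) := fun s hs => by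
    rw [mem_centralizer_singleton_iff]; exact (hSz s hs).symm
  have h2 : (centralizer ({z} : Set G)).relIndex K = 2 := by
    rw [relIndex_eq_two_iff]
    refine ⟨g, ⟨hgr, Or.inr hg⟩, fun b hb => ?_⟩
    have e : b * g * z * (b * g)⁻¹ = b * z * b⁻¹ * r := by
      have h3 : r * b⁻¹ = b⁻¹ * r := by
        rw [eq_inv_mul_iff_mul_eq, ← mul_assoc, hb.1, mul_inv_cancel_right]
      calc b * g * z * (b * g)⁻¹ = b * (g * z * g⁻¹) * b⁻¹ := by group
        _ = b * z * (r * b⁻¹) := by rw [hg]; group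
        _ = _ := by rw [h3]; group
    have key : ∀ x : G, x ∈ centralizer ({z} : Set G) ↔ x * z * x⁻¹ = z := by
      intro x
      rw [mem_centralizer_singleton_iff, mul_inv_eq_iff_eq_mul]
    rw [key, key, e]
    rcases hb.2 with h3 | h3
    · right
      refine ⟨h3, ?_⟩
      rw [h3]
      intro h4
      exact hr1 (mul_eq_left.1 h4)
    · left
      refine ⟨?_, ?_⟩
      · rw [h3, mul_assoc, hrr, mul_one]
      · rw [h3]
        intro h4
        exact hr1 (mul_eq_left.1 h4)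
  have h3 : 2 ∣ (S : Subgroup G).relIndex K := by
    rw [← relIndex_mul_relIndex (S : Subgroup G) (centralizer ({z} : Set G) ⊓ K) K
      (le_inf hSC hSK) inf_le_right, inf_relIndex_right, h2]
    exact dvd_mul_left _ _
  exact S.not_dvd_index (h3.trans (relIndex_dvd_index_of_le hSK))

/-- `L = ⟨A^h : h ∈ N(R i)⟩`; here `A = E j` or `A = U j` -/
def LJ (R : ι → Subgroup G) (i : ι) (A : Subgroup G) : Subgroup G :=
  ⨆ h : normalizer (R i : Set G), cj (h : G) A

theorem cj_le_LJ {i : ι} {A : Subgroup G} {h : G} (hh : h ∈ normalizer (R i : Set G)) :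
    cj h A ≤ LJ R i A :=
  le_iSup (fun h : normalizer (R i : Set G) => cj (h : G) A) ⟨h, hh⟩

theorem A_le_LJ (i : ι) (A : Subgroup G) : A ≤ LJ R i A := by
  have := cj_le_LJ (R := R) (A := A) (one_mem (normalizer (R i : Set G)))
  rwa [cj_one] at this

theorem N_le_NLJ (i : ι) (A : Subgroup G) : normalizer (R i : Set G) ≤ normalizer (LJ R i A : Set G) := by
  intro g hg
  rw [← cj_eq_self_iff]
  apply le_antisymm
  · rw [LJ, cj_iSup]
    refine iSup_le fun h => ?_
    rw [← cj_mul]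
    exact cj_le_LJ (mul_mem hg h.2)
  · rw [LJ]
    refine iSup_le fun h => ?_
    have := cj_mono (g := g) (cj_le_LJ (R := R) (A := A) (mul_mem (inv_mem hg) h.2))
    rwa [cj_mul, cj_cj_inv] at this

theorem LJ_le_N (b : BT V R) (i : ι) {A : Subgroup G} (hA : A ≤ centralizer (V : Set G)) :
    LJ R i A ≤ normalizer (R i : Set G) := by
  refine iSup_le fun h => ?_
  rw [cj_le_iff]
  intro x hx
  exact mul_mem (mul_mem h.2 (b.cen_le_N i (hA hx))) (inv_mem h.2)

/-- elements of `N(R i)` commute with `r` -/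
theorem comm_r {i : ι} {r : G} (hr : ∀ x ∈ R i, x = 1 ∨ x = r) (hri : r ∈ R i) (hr1 : r ≠ 1)
    {k : G} (hk : k ∈ normalizer (R i : Set G)) : k * r = r * k := by
  rcases hr _ (conj_mem_of_normalizer hk hri) with h | h
  · exfalso
    apply hr1
    have := congrArg (fun y => k⁻¹ * y * k) h
    simp only [mul_one, inv_mul_cancel] at this
    rw [← this]; group
  · rw [mul_inv_eq_iff_eq_mul] at h
    exact h

section L

variable [Finite G] (b : BTS V R) {i : ι} {r : G} (hr : ∀ x ∈ R i, x = 1 ∨ x = r) (hri : r ∈ R i)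
  (S : Sylow 2 G) (hSR : (S : Subgroup G) ≤ normalizer (R i : Set G))
  {z : G} (hzX : z ∈ CenX V R) (hzS : ∀ s ∈ (S : Subgroup G), z * s = s * z)
  {A : Subgroup G} (hA : A ≤ centralizer (V : Set G))
  (hz : ∀ h ∈ normalizer (R i : Set G), ∀ y ∈ A, h * z * h⁻¹ * y * (h * z * h⁻¹)⁻¹ * y⁻¹ ∈ R i)

omit [Finite G] in
include b hr in
theorem r_ne : r ≠ 1 := by
  rintro rfl
  refine b.R_ne i ((eq_bot_iff_forall _).2 fun x hx => ?_)
  rcases hr x hx with h | h <;> exact h

include b hr hri hSR hzX hzS hA hz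

/-- **(1)** `L ≤ C(z)` -/
theorem L_cen {l : G} (hl : l ∈ LJ R i A) : l * z = z * l := by
  have hr1 : r ≠ 1 := r_ne b hr
  have hrr : r * r = 1 := b.V_sq r (b.R_le i hri)
  have hKr : ∀ k ∈ normalizer (R i : Set G), k * r = r * k := fun k hk => comm_r hr hri hr1 hk
  have hzr := hKr z (b.cen_le_N i (b.CenX_le_cen hzX))
  have h1 : LJ R i A ≤ swapGrp z r hrr := by
    refine iSup_le fun h => ?_
    rintro _ ⟨y, hy, rfl⟩
    change (h : G) * y * (h : G)⁻¹ ∈ _
    have hyN : y ∈ normalizer (R i : Set G) := b.cen_le_N i (hA hy)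
    refine ⟨hKr _ (mul_mem (mul_mem h.2 hyN) (inv_mem h.2)), ?_⟩
    have h2 := hz _ (inv_mem h.2) y hy
    set n := (h : G)⁻¹ * z * (h : G)⁻¹⁻¹ with hn
    set a := n * y * n⁻¹ * y⁻¹ with ha
    have e : (h : G) * y * (h : G)⁻¹ * z * ((h : G) * y * (h : G)⁻¹)⁻¹ =
        h * a⁻¹ * (h : G)⁻¹ * z := by
      calc (h : G) * y * (h : G)⁻¹ * z * ((h : G) * y * (h : G)⁻¹)⁻¹ = h * (y * n * y⁻¹) * (h : G)⁻¹ := by
            rw [hn]; group
        _ = h * (a⁻¹ * n) * (h : G)⁻¹ := by rw [ha]; group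
        _ = _ := by rw [hn]; group
    rcases hr _ h2 with h4 | h4
    · left
      rw [e, h4]; group
    · right
      have h5 : (h : G) * r * (h : G)⁻¹ = r := by rw [hKr h h.2, mul_inv_cancel_right]
      have h6 : r⁻¹ = r := inv_eq_of_mul_eq_one_left hrr
      rw [e, h4, h6, h5, hzr]
  obtain ⟨h2, h3 | h3⟩ := h1 hl
  · rwa [mul_inv_eq_iff_eq_mul] at h3
  · exact (no_swap S hrr hr1 hzS (fun s hs => (hKr s (hSR hs)).symm) h2 h3).elim

/-- **(1)** the conjugates of `V` under `L` lie in an abelian group -/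
theorem L_comm (hc : Char2 (S : Subgroup G)) (hz1 : z ≠ 1) (hzz : z * z = 1)
    {l l' : G} (hl : l ∈ LJ R i A) (hl' : l' ∈ LJ R i A)
    {v w : G} (hv : v ∈ cj l V) (hw : w ∈ cj l' V) : v * w = w * v := by
  have hr1 : r ≠ 1 := r_ne b hr
  have hKr : ∀ k ∈ normalizer (R i : Set G), k * r = r * k := fun k hk => comm_r hr hri hr1 hk
  have hrS : ∀ s ∈ (S : Subgroup G), r * s = s * r := fun s hs => (hKr s (hSR hs)).symm
  have hzr := hKr z (b.cen_le_N i (b.CenX_le_cen hzX))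
  have key : ∀ l ∈ LJ R i A, z ∈ centralizer (cj l (XX V R) : Set G) := by
    intro l hl
    rw [centralizer_cj, mem_cj]
    have h1 : l⁻¹ * z * l = z := by
      rw [mul_assoc, ← L_cen b hr hri S hSR hzX hzS hA hz hl, inv_mul_cancel_left]
    rw [h1]; exact hzX
  have h1 := cj_le b.toBT hr S hrS hc hz1 hzz hzS hzr (hKr l (LJ_le_N b.toBT i hA hl)) (key l hl) hv
  have h2 := cj_le b.toBT hr S hrS hc hz1 hzz hzS hzr (hKr l' (LJ_le_N b.toBT i hA hl')) (key l' hl') hw
  exact mem_centralizer_iff.1 h2.2 v h1.1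

end L

section F1

variable [Finite G] (b : BTS V R) (h : ∀ i, LE V R i)
include b

/-- **(F1)** every element of `E i` is `[q, a]` modulo `J`, `a ∈ E j`, for `q ∈ Q i` outside `E i` -/
theorem F1 {i j : ι} (hij : i ≠ j) {q : G} (hq : q ∈ QQ (R i)) (hq' : q ∉ centralizer (V : Set G))
    {y : G} (hy : y ∈ EE V R i) : ∃ a ∈ EE V R j, (q * a * q⁻¹ * a⁻¹)⁻¹ * y ∈ CC R :=
  EE_surj b (Ne.symm hij) hq hq' hy

/-- `[C(W i), E j] ≤ R i × C_X` -/
theorem cenW_E {i j : ι} (hij : i ≠ j) {c y : G} (hc : c ∈ centralizer (WW V (R i) : Set G))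
    (hy : y ∈ EE V R j) : ∃ a ∈ R i, a * (c * y * c⁻¹ * y⁻¹) ∈ CenX V R := by
  have hcV : c ∈ centralizer (V : Set G) := cen_W_le V (R i) hc
  refine b.cen_W_Q hij ?_ ?_
  · exact comm_mem_of' hc (normalizer_le_normalizer_centralizer _ (b.cen_le_NW i hy.2))
  · exact comm_mem_of hy.1 (cen_le_NQ b.toBT j hcV)

end F1

end Cfsg.Agent.Omega.HTwo.LemJ
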