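import Cfsg.Agent.Omega.BTwo.Conj

/-!
# LEMMA J (#13886, with the repair of step (3)), abstract form

`Q` a group with `Q' ≤ {1, r}`, `Z = Z(Q)`, `V ≤ J ≤ Q`, `J` abelian, `|V Z / Z| ≤ 2`, `H` acts on `Q`,
`L ⊴ H` is generated by the conjugates of `A ≤ C(V)`.  Hypotheses: for `x ∈ Q - C(V)` the set `[x, A]` covers
`C_Q(V) / J`, `[C_Q(V), A] ≤ J`, `A` centralises `C_Q(⟨V^H⟩) / Z`, the `L`-conjugates of `V` commute, some
`H`-conjugate does not commute with `V`, and `N_H(V)` has odd index in `H`.  Conclusion: `|Q / Z| = 4` or `16`.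
-/

set_option autoImplicit false

namespace Cfsg.Agent.Omega.HTwo.LemJAbs

open Subgroup Cfsg.Agent.Omega.BTwo

variable {G : Type*} [Group G]

/-- `Z(Q)` -/
abbrev ZQ (Q : Subgroup G) : Subgroup G := Q ⊓ centralizer (Q : Set G)

/-- `Z(Q) ⟨V^L⟩` -/
def II (Q L V : Subgroup G) : Subgroup G := ZQ Q ⊔ ⨆ l : L, cj (l : G) V

structure Data (Q H L A V J S : Subgroup G) (r : G) : Prop where
  HQ : H ≤ normalizer (Q : Set G)
  LH : L ≤ H
  HL : H ≤ normalizer (L : Set G)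
  AL : A ≤ L
  LA : L ≤ ⨆ h : H, cj (h : G) A
  rQ : r ∈ Q
  rc : ∀ x ∈ Q, r * x = x * r
  rr : r * r = 1
  rH : ∀ h ∈ H, h * r = r * h
  comm : ∀ x ∈ Q, ∀ y ∈ Q, x * y * x⁻¹ * y⁻¹ = 1 ∨ x * y * x⁻¹ * y⁻¹ = r
  VJ : V ≤ J
  JQ : J ≤ Q
  JJ : ∀ x ∈ J, ∀ y ∈ J, x * y = y * x
  AV : A ≤ centralizer (V : Set G)
  V2 : ∀ x ∈ V, ∀ y ∈ V, x ∉ ZQ Q → y ∉ ZQ Q → x * y ∈ ZQ Q
  F1 : ∀ x ∈ Q, x ∉ centralizer (V : Set G) → ∀ y ∈ Q, y ∈ centralizer (V : Set G) →
    ∃ a ∈ A, (x * a * x⁻¹ * a⁻¹)⁻¹ * y ∈ J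
  F2 : ∀ y ∈ Q, y ∈ centralizer (V : Set G) → ∀ a ∈ A, y * a * y⁻¹ * a⁻¹ ∈ J
  F3 : ∀ y ∈ Q, (∀ h ∈ H, y ∈ centralizer (cj h V : Set G)) → ∀ a ∈ A, y * a * y⁻¹ * a⁻¹ ∈ ZQ Q
  iso : ∀ l ∈ L, cj l V ≤ centralizer (V : Set G)
  non : ∃ h ∈ H, ¬ cj h V ≤ centralizer (V : Set G)
  SH : S ≤ H
  SV : S ≤ normalizer (V : Set G)
  odd : ¬ 2 ∣ S.relIndex H

/-! ### index lemmas -/

theorem rne [Finite G] (H K : Subgroup G) : H.relIndex K ≠ 0 := index_ne_zero_of_finite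

theorem relIndex_dvd_of_normalizer [Finite G] {S L H : Subgroup G} (LH : L ≤ H)
    (HL : H ≤ normalizer (L : Set G)) (SH : S ≤ H) : S.relIndex L ∣ S.relIndex H := by
  have hn : (L.subgroupOf H).Normal := by
    refine ⟨?_⟩
    rintro ⟨x, hxH⟩ hx ⟨g, hg⟩
    exact mem_subgroupOf.2 (conj_mem_of_normalizer (HL hg) (mem_subgroupOf.1 hx))
  have h1 : L.relIndex S ∣ L.relIndex H := by
    have := relIndex_dvd_index_of_normal (L.subgroupOf H) (S.subgroupOf H)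
    rwa [relIndex_subgroupOf SH] at this
  obtain ⟨m, hm⟩ := h1
  have h2 : (S ⊓ L).relIndex L * L.relIndex H = (S ⊓ L).relIndex H :=
    relIndex_mul_relIndex _ _ _ inf_le_right LH
  have h3 : (S ⊓ L).relIndex S * S.relIndex H = (S ⊓ L).relIndex H :=
    relIndex_mul_relIndex _ _ _ inf_le_left SH
  rw [inf_relIndex_right] at h2
  rw [inf_relIndex_left] at h3
  have h4 : 0 < L.relIndex S := Nat.pos_of_ne_zero (rne _ _)
  refine ⟨m, ?_⟩
  apply Nat.eq_of_mul_eq_mul_left h4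
  rw [h3, ← h2, hm]
  ring

/-- the duality bound `|Q : C_Q(M)| ≤ |M : Z(Q)|` -/
theorem dual_le [Finite G] {Q : Subgroup G} {r : G} (rr : r * r = 1) (rc : ∀ x ∈ Q, r * x = x * r)
    (comm : ∀ x ∈ Q, ∀ y ∈ Q, x * y * x⁻¹ * y⁻¹ = 1 ∨ x * y * x⁻¹ * y⁻¹ = r) :
    ∀ (n : ℕ) (M : Subgroup G), Nat.card M = n → M ≤ Q → ZQ Q ≤ M →
      (Q ⊓ centralizer (M : Set G)).relIndex Q ≤ (ZQ Q).relIndex M := by
  intro n
  induction n using Nat.strong_induction_on with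
  | _ n ih =>
    intro M hMn hMQ hZM
    by_cases hM : M ≤ ZQ Q
    · have h1 : Q ≤ Q ⊓ centralizer (M : Set G) := le_inf le_rfl (by
        rw [le_centralizer_iff]
        exact hM.trans inf_le_right)
      rw [relIndex_eq_one.2 h1]
      exact Nat.one_le_iff_ne_zero.2 (rne _ _)
    · have hfin : ({K : Subgroup G | ZQ Q ≤ K ∧ K < M} : Set (Subgroup G)).Finite := Set.toFinite _
      obtain ⟨K, hK1, hKmax⟩ := hfin.exists_le_maximal (a := ZQ Q) ⟨le_rfl, lt_of_le_not_ge hZM hM⟩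
      have hK : ZQ Q ≤ K ∧ K < M := hKmax.prop
      obtain ⟨m, hmM, hmK⟩ := SetLike.exists_of_lt hK.2
      have hmQ := hMQ hmM
      have hMeq : K ⊔ zpowers m = M := by
        by_contra hne
        have h1 : K ⊔ zpowers m ≤ M := sup_le hK.2.le (zpowers_le.2 hmM)
        have h2 : K ⊔ zpowers m < M := lt_of_le_of_ne h1 hne
        have h3 : K ⊔ zpowers m ≤ K := hKmax.le_of_ge ⟨hK.1.trans le_sup_left, h2⟩ le_sup_left
        exact hmK (h3 ((le_sup_right : zpowers m ≤ K ⊔ zpowers m) (mem_zpowers m)))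
      have hcardK : Nat.card K < n := by
        rw [← hMn]
        exact lt_of_le_of_ne (Subgroup.card_le_of_le hK.2.le) fun h =>
          hK.2.ne (eq_of_le_of_card_ge hK.2.le h.ge)
      have h1 := ih _ hcardK K rfl (hK.2.le.trans hMQ) hK.1
      have hle : Q ⊓ centralizer (M : Set G) ≤ Q ⊓ centralizer (K : Set G) :=
        inf_le_inf_left _ (centralizer_le hK.2.le)
      -- `C_Q(M) = C_Q(K) ∩ C(m)`
      have hmem : ∀ x ∈ Q ⊓ centralizer (K : Set G), x * m = m * x → x ∈ Q ⊓ centralizer (M : Set G) := by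
        intro x hx hxm
        refine mem_inf.2 ⟨hx.1, ?_⟩
        have h2 : M ≤ centralizer ({x} : Set G) := by
          rw [← hMeq, sup_le_iff, zpowers_le]
          exact ⟨fun k hk => mem_centralizer_singleton_iff.2 (mem_centralizer_iff.1 hx.2 k hk),
            mem_centralizer_singleton_iff.2 hxm.symm⟩
        rw [mem_centralizer_iff]
        exact fun k hk => mem_centralizer_singleton_iff.1 (h2 hk)
      have h2 : (Q ⊓ centralizer (M : Set G)).relIndex (Q ⊓ centralizer (K : Set G)) ∣ 2 := by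
        rw [relIndex_dvd_two_iff]
        by_cases hall : ∀ b ∈ Q ⊓ centralizer (K : Set G), b ∈ Q ⊓ centralizer (M : Set G)
        · exact ⟨1, one_mem _, fun b hb => Or.inr (hall b hb)⟩
        · push Not at hall
          obtain ⟨a, ha, haM⟩ := hall
          refine ⟨a, ha, fun b hb => ?_⟩
          have ha1 : a * m * a⁻¹ * m⁻¹ = r := (comm a ha.1 m hmQ).resolve_left fun h => haM (hmem a ha (by
            rwa [mul_inv_eq_one, mul_inv_eq_iff_eq_mul] at h))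
          rcases comm b hb.1 m hmQ with h | h
          · right
            refine hmem b hb ?_
            rwa [mul_inv_eq_one, mul_inv_eq_iff_eq_mul] at h
          · left
            refine hmem _ (mul_mem hb ha) ?_
            have e1 : a * m = r * m * a := by rw [← ha1]; group
            have e2 : b * m = r * m * b := by rw [← h]; group
            calc b * a * m = b * (a * m) := by group
              _ = b * r * m * a := by rw [e1]; group
              _ = r * (b * m) * a := by rw [← rc b hb.1]; group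
              _ = (r * r) * m * (b * a) := by rw [e2]; group
              _ = m * (b * a) := by rw [rr, one_mul]
      have h3 : (Q ⊓ centralizer (M : Set G)).relIndex (Q ⊓ centralizer (K : Set G)) ≤ 2 :=
        Nat.le_of_dvd (by norm_num) h2
      have h4 : 2 ≤ K.relIndex M := by
        have h5 : K.relIndex M ≠ 0 := rne _ _
        have h6 : K.relIndex M ≠ 1 := fun h => hmK (relIndex_eq_one.1 h hmM)
        omega
      rw [← relIndex_mul_relIndex _ _ _ hle inf_le_left, ← relIndex_mul_relIndex _ _ _ hK.1 hK.2.le,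
        mul_comm]
      exact Nat.mul_le_mul h1 (h3.trans h4)

/-! ### elementary consequences -/

variable {Q H L A V J S : Subgroup G} {r : G}

theorem Z_comm {z x : G} (hz : z ∈ ZQ Q) (hx : x ∈ Q) : x * z = z * x :=
  mem_centralizer_iff.1 hz.2 x hx

theorem ZQ_le (Q : Subgroup G) : ZQ Q ≤ Q := inf_le_left

theorem Z_of {z : G} (hz : z ∈ Q) (h : ∀ x ∈ Q, x * z = z * x) : z ∈ ZQ Q :=
  mem_inf.2 ⟨hz, mem_centralizer_iff.2 h⟩

theorem c_one {x y : G} (h : x * y * x⁻¹ * y⁻¹ = 1) : x * y = y * x := by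
  rwa [mul_inv_eq_one, mul_inv_eq_iff_eq_mul] at h

/-- modulo `Z` everything commutes -/
theorem swap {x y : G} (hx : x ∈ Q) (h : x * y ∈ ZQ Q) : y * x ∈ ZQ Q := by
  have h1 := Z_comm h (inv_mem hx)
  have e : y * x = x⁻¹ * (x * y) * x := by group
  rw [e, h1, inv_mul_cancel_right]
  exact h

theorem Z_le_II : ZQ Q ≤ II Q L V := le_sup_left

theorem cj_le_II {l : G} (hl : l ∈ L) : cj l V ≤ II Q L V :=
  (le_iSup (fun l : L => cj (l : G) V) ⟨l, hl⟩).trans le_sup_right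

theorem V_le_II : V ≤ II Q L V := by
  have := cj_le_II (Q := Q) (V := V) (one_mem L)
  rwa [cj_one] at this

theorem not_cen {x : G} (h : x ∉ centralizer (V : Set G)) : ∃ v ∈ V, v * x ≠ x * v := by
  by_contra hc
  push Not at hc
  exact h (mem_centralizer_iff.2 hc)

section

variable (d : Data Q H L A V J S r)
include d

theorem Data.VQ : V ≤ Q := d.VJ.trans d.JQ

theorem Data.rZ : r ∈ ZQ Q := Z_of d.rQ fun x hx => (d.rc x hx).symm

theorem Data.HZ : H ≤ normalizer (ZQ Q : Set G) := by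
  intro g hg
  have h1 := d.HQ hg
  have h2 := normalizer_le_normalizer_centralizer _ h1
  rw [← cj_eq_self_iff, cj_inf, cj_eq_self_iff.2 h1, cj_eq_self_iff.2 h2]

theorem Data.comm_Z {x y : G} (hx : x ∈ Q) (hy : y ∈ Q) : x * y * x⁻¹ * y⁻¹ ∈ ZQ Q := by
  rcases d.comm x hx y hy with h | h
  · rw [h]; exact one_mem _
  · rw [h]; exact d.rZ

theorem Data.c_mul {x x' y : G} (hx : x ∈ Q) (hx' : x' ∈ Q) (hy : y ∈ Q) :
    (x * x') * y * (x * x')⁻¹ * y⁻¹ = (x * y * x⁻¹ * y⁻¹) * (x' * y * x'⁻¹ * y⁻¹) := by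
  have h1 := d.comm_Z hx' hy
  have h2 := Z_comm h1 hx
  have h3 := Z_comm h1 (ZQ_le Q (d.comm_Z hx hy))
  calc (x * x') * y * (x * x')⁻¹ * y⁻¹ = (x * (x' * y * x'⁻¹ * y⁻¹)) * y * x⁻¹ * y⁻¹ := by group
    _ = (x' * y * x'⁻¹ * y⁻¹) * (x * y * x⁻¹ * y⁻¹) := by rw [h2]; group
    _ = _ := h3.symm

theorem Data.c_mul_right {x y y' : G} (hx : x ∈ Q) (hy : y ∈ Q) (hy' : y' ∈ Q) :
    x * (y * y') * x⁻¹ * (y * y')⁻¹ = (x * y * x⁻¹ * y⁻¹) * (x * y' * x⁻¹ * y'⁻¹) := by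
  have h1 := Z_comm (d.comm_Z hx hy') hy
  calc x * (y * y') * x⁻¹ * (y * y')⁻¹
      = (x * y * x⁻¹ * y⁻¹) * (y * (x * y' * x⁻¹ * y'⁻¹)) * y⁻¹ := by group
    _ = _ := by rw [h1]; group

theorem Data.c_eq {x y : G} (hx : x ∈ Q) (hy : y ∈ Q) (h : y * x ≠ x * y) : x * y * x⁻¹ * y⁻¹ = r :=
  (d.comm x hx y hy).resolve_left fun h1 => h (by
    rw [mul_inv_eq_one, mul_inv_eq_iff_eq_mul] at h1
    exact h1.symm)

theorem Data.sq_Z {x : G} (hx : x ∈ Q) : x * x ∈ ZQ Q := by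
  refine Z_of (mul_mem hx hx) fun y hy => ?_
  have h1 : x * x * y * (x * x)⁻¹ * y⁻¹ = 1 := by
    rw [d.c_mul hx hx hy]
    rcases d.comm x hx y hy with h | h
    · rw [h, one_mul]
    · rw [h, d.rr]
  exact (c_one h1).symm

/-- `|Q : C_Q(V)| ≤ 2` -/
theorem Data.two {x y : G} (hx : x ∈ Q) (hy : y ∈ Q) (hxV : x ∉ centralizer (V : Set G))
    (hyV : y ∉ centralizer (V : Set G)) : x * y ∈ centralizer (V : Set G) := by
  have key : ∀ x ∈ Q, x ∉ centralizer (V : Set G) → ∀ u ∈ V, u ∉ ZQ Q → x * u * x⁻¹ * u⁻¹ = r := by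
    intro x hx hxV u hu huZ
    obtain ⟨v, hv, hne⟩ := not_cen hxV
    have hvQ := d.VQ hv
    have huQ := d.VQ hu
    have hvZ : v ∉ ZQ Q := fun h => hne (Z_comm h hx).symm
    have h1 := d.c_eq hx hvQ hne
    have h2 := d.c_mul_right hx hvQ huQ
    have h3 : x * (v * u) * x⁻¹ * (v * u)⁻¹ = 1 := by
      rw [Z_comm (d.V2 v hv u hu hvZ huZ) hx]; group
    rw [h3, h1] at h2
    have h4 : r * (r * (x * u * x⁻¹ * u⁻¹)) = r := by rw [← h2, mul_one]
    rw [← mul_assoc, d.rr, one_mul] at h4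
    exact h4
  rw [mem_centralizer_iff]
  intro u hu
  by_cases huZ : u ∈ ZQ Q
  · exact (Z_comm huZ (mul_mem hx hy)).symm
  · have h1 : (x * y) * u * (x * y)⁻¹ * u⁻¹ = 1 := by
      rw [d.c_mul hx hy (d.VQ hu), key x hx hxV u hu huZ, key y hy hyV u hu huZ, d.rr]
    exact (c_one h1).symm

/-! ### conjugation -/

theorem Data.conj {g : G} (hg : g ∈ H) :
    Data Q H L (cj g A) (cj g V) (cj g J) (cj g S) r where
  HQ := d.HQ
  LH := d.LH
  HL := d.HL
  AL := by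
    rw [← cj_eq_self_iff.2 (d.HL hg)]
    exact cj_mono d.AL
  LA := by
    refine d.LA.trans (iSup_le fun h => ?_)
    have e : cj (h : G) A = cj ((⟨h * g⁻¹, mul_mem h.2 (inv_mem hg)⟩ : H) : G) (cj g A) := by
      change _ = cj (h * g⁻¹ : G) (cj g A)
      rw [← cj_mul, inv_mul_cancel_right]
    rw [e]
    exact le_iSup (fun h : H => cj (h : G) (cj g A)) _
  rQ := d.rQ
  rc := d.rc
  rr := d.rr
  rH := d.rH
  comm := d.comm
  VJ := cj_mono d.VJ
  JQ := by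
    rw [← cj_eq_self_iff.2 (d.HQ hg)]
    exact cj_mono d.JQ
  JJ := by
    rintro _ ⟨x, hx, rfl⟩ _ ⟨y, hy, rfl⟩
    change g * x * g⁻¹ * (g * y * g⁻¹) = g * y * g⁻¹ * (g * x * g⁻¹)
    have := d.JJ x hx y hy
    calc g * x * g⁻¹ * (g * y * g⁻¹) = g * (x * y) * g⁻¹ := by group
      _ = g * (y * x) * g⁻¹ := by rw [this]
      _ = _ := by group
  AV := by
    rw [centralizer_cj]
    exact cj_mono d.AV
  V2 := by
    rintro _ ⟨x, hx, rfl⟩ _ ⟨y, hy, rfl⟩ hx' hy'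
    change g * x * g⁻¹ * (g * y * g⁻¹) ∈ ZQ Q
    have e : g * x * g⁻¹ * (g * y * g⁻¹) = g * (x * y) * g⁻¹ := by group
    rw [e]
    exact conj_mem_of_normalizer (d.HZ hg) (d.V2 x hx y hy
      (fun h => hx' (conj_mem_of_normalizer (d.HZ hg) h))
      (fun h => hy' (conj_mem_of_normalizer (d.HZ hg) h)))
  F1 := by
    intro x hx hxV y hy hyV
    rw [centralizer_cj, mem_cj] at hxV hyV
    obtain ⟨a, ha, h⟩ := d.F1 _ (conj_inv_mem_of_normalizer (d.HQ hg) hx) hxV _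
      (conj_inv_mem_of_normalizer (d.HQ hg) hy) hyV
    refine ⟨g * a * g⁻¹, conj_mem_cj ha, ?_⟩
    have e : (x * (g * a * g⁻¹) * x⁻¹ * (g * a * g⁻¹)⁻¹)⁻¹ * y = g * ((g⁻¹ * x * g * a * (g⁻¹ * x * g)⁻¹ *
        a⁻¹)⁻¹ * (g⁻¹ * y * g)) * g⁻¹ := by group
    rw [e]
    exact conj_mem_cj h
  F2 := by
    rintro y hy hyV _ ⟨a, ha, rfl⟩
    rw [centralizer_cj, mem_cj] at hyV
    change y * (g * a * g⁻¹) * y⁻¹ * (g * a * g⁻¹)⁻¹ ∈ cj g J
    have h := d.F2 _ (conj_inv_mem_of_normalizer (d.HQ hg) hy) hyV a ha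
    have e : y * (g * a * g⁻¹) * y⁻¹ * (g * a * g⁻¹)⁻¹ = g * (g⁻¹ * y * g * a * (g⁻¹ * y * g)⁻¹ * a⁻¹) *
        g⁻¹ := by group
    rw [e]
    exact conj_mem_cj h
  F3 := by
    rintro y hy hyV _ ⟨a, ha, rfl⟩
    change y * (g * a * g⁻¹) * y⁻¹ * (g * a * g⁻¹)⁻¹ ∈ ZQ Q
    have h := d.F3 _ (conj_inv_mem_of_normalizer (d.HQ hg) hy) (fun h hh => by
      have h1 := hyV (g * h * g⁻¹) (mul_mem (mul_mem hg hh) (inv_mem hg))
      rw [← cj_mul, inv_mul_cancel_right, cj_mul, centralizer_cj, mem_cj] at h1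
      exact h1) a ha
    have e : y * (g * a * g⁻¹) * y⁻¹ * (g * a * g⁻¹)⁻¹ = g * (g⁻¹ * y * g * a * (g⁻¹ * y * g)⁻¹ * a⁻¹) *
        g⁻¹ := by group
    rw [e]
    exact conj_mem_of_normalizer (d.HZ hg) h
  iso := by
    intro l hl
    have h := d.iso _ (conj_inv_mem_of_normalizer (d.HL hg) hl)
    have h1 := cj_mono (g := g) h
    rw [← cj_mul, ← centralizer_cj] at h1
    have e : g * (g⁻¹ * l * g) = l * g := by group
    rwa [e, cj_mul] at h1
  non := by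
    obtain ⟨h, hh, hne⟩ := d.non
    refine ⟨g * h * g⁻¹, mul_mem (mul_mem hg hh) (inv_mem hg), fun hle => hne ?_⟩
    rw [← cj_mul, inv_mul_cancel_right, cj_mul, centralizer_cj] at hle
    have := cj_mono (g := g⁻¹) hle
    rwa [cj_inv_cj, cj_inv_cj] at this
  SH := by
    rw [← cj_of_mem hg]
    exact cj_mono d.SH
  SV := by
    rw [normalizer_cj]
    exact cj_mono d.SV
  odd := by
    have h2 : (cj g S).relIndex (cj g H) = S.relIndex H :=
      relIndex_map_map_of_injective S H (f := (MulAut.conj g).toMonoidHom) (MulAut.conj g).injective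
    rw [cj_of_mem hg] at h2
    rw [h2]
    exact d.odd

/-! ### the subgroup `I` -/

theorem Data.II_le : II Q L V ≤ Q := by
  refine sup_le (ZQ_le Q) (iSup_le fun l => ?_)
  rw [← cj_eq_self_iff.2 (d.HQ (d.LH l.2))]
  exact cj_mono d.VQ

theorem Data.cj_II {g : G} (hg : g ∈ H) : cj g (II Q L V) = II Q L (cj g V) := by
  rw [II, II, cj_sup, cj_eq_self_iff.2 (d.HZ hg), cj_iSup]
  congr 1
  apply le_antisymm
  · refine iSup_le fun l => ?_
    have e : cj g (cj (l : G) V) = cj ((⟨g * l * g⁻¹, conj_mem_of_normalizer (d.HL hg) l.2⟩ : L) : G)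
        (cj g V) := by
      change _ = cj (g * l * g⁻¹ : G) (cj g V)
      rw [← cj_mul, ← cj_mul, inv_mul_cancel_right]
    rw [e]
    exact le_iSup (fun l : L => cj (l : G) (cj g V)) _
  · refine iSup_le fun l => ?_
    have e : cj (l : G) (cj g V) = cj g (cj ((⟨g⁻¹ * l * g,
        conj_inv_mem_of_normalizer (d.HL hg) l.2⟩ : L) : G) V) := by
      change _ = cj g (cj (g⁻¹ * l * g : G) V)
      rw [← cj_mul, ← cj_mul]
      congr 1
      group
    rw [e]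
    exact le_iSup (fun l : L => cj g (cj (l : G) V)) _

theorem Data.L_II : L ≤ normalizer (II Q L V : Set G) := by
  intro g hg
  rw [← cj_eq_self_iff, d.cj_II (d.LH hg), II, II]
  congr 1
  apply le_antisymm
  · refine iSup_le fun l => ?_
    rw [← cj_mul]
    exact le_iSup (fun l : L => cj (l : G) V) (l * ⟨g, hg⟩)
  · refine iSup_le fun l => ?_
    have e : cj (l : G) V = cj ((l * ⟨g, hg⟩⁻¹ : L) : G) (cj g V) := by
      change _ = cj (l * g⁻¹ : G) (cj g V)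
      rw [← cj_mul, inv_mul_cancel_right]
    rw [e]
    exact le_iSup (fun l : L => cj (l : G) (cj g V)) _

theorem Data.S_II : S ≤ normalizer (II Q L V : Set G) := by
  intro g hg
  rw [← cj_eq_self_iff, d.cj_II (d.SH hg), cj_eq_self_iff.2 (d.SV hg)]

theorem Data.II_comm {x y : G} (hx : x ∈ II Q L V) (hy : y ∈ II Q L V) : x * y = y * x := by
  have h1 : ∀ l ∈ L, II Q L V ≤ centralizer (cj l V : Set G) := by
    intro l hl
    refine sup_le ?_ (iSup_le fun l' => ?_)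
    · intro z hz
      rw [mem_centralizer_iff]
      intro v hv
      exact Z_comm hz (d.II_le (cj_le_II hl hv))
    · have h2 := cj_mono (g := l) (d.iso (l⁻¹ * l') (mul_mem (inv_mem hl) l'.2))
      rwa [← cj_mul, mul_inv_cancel_left, ← centralizer_cj] at h2
  have h2 : II Q L V ≤ centralizer (II Q L V : Set G) := by
    refine sup_le ?_ (iSup_le fun l => ?_)
    · intro z hz
      rw [mem_centralizer_iff]
      exact fun v hv => Z_comm hz (d.II_le hv)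
    · rw [le_centralizer_iff]
      exact h1 l l.2
  exact (mem_centralizer_iff.1 (h2 hx) y hy).symm

/-! ### `I₀ J = Q` -/

theorem Data.cA_mem {I0 : Subgroup G} (hL : L ≤ normalizer (I0 : Set G)) {x a : G} (hx : x ∈ I0)
    (ha : a ∈ L) : x * a * x⁻¹ * a⁻¹ ∈ I0 := by
  have _ := d
  have e : x * a * x⁻¹ * a⁻¹ = x * (a * x⁻¹ * a⁻¹) := by group
  rw [e]
  exact mul_mem hx (conj_mem_of_normalizer (hL ha) (inv_mem hx))

theorem Data.push {I0 : Subgroup G} (hI0 : I0 ≤ Q) (hL : L ≤ normalizer (I0 : Set G)) {x y : G}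
    (hx : x ∈ I0) (hxV : x ∉ centralizer (V : Set G)) (hy : y ∈ Q) : ∃ i ∈ I0, ∃ j ∈ J, y = i * j := by
  by_cases hyV : y ∈ centralizer (V : Set G)
  · obtain ⟨a, ha, h⟩ := d.F1 x (hI0 hx) hxV y hy hyV
    exact ⟨_, d.cA_mem hL hx (d.AL ha), _, h, by group⟩
  · have hx' : x⁻¹ ∉ centralizer (V : Set G) := fun h => hxV (by
      have := inv_mem h
      rwa [inv_inv] at this)
    have h1 := d.two (inv_mem (hI0 hx)) hy hx' hyV
    obtain ⟨a, ha, h⟩ := d.F1 x (hI0 hx) hxV _ (mul_mem (inv_mem (hI0 hx)) hy) h1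
    exact ⟨_, mul_mem hx (d.cA_mem hL hx (d.AL ha)), _, h, by group⟩

theorem Data.meet {I0 : Subgroup G} (hI0 : I0 ≤ Q) (hab : ∀ x ∈ I0, ∀ y ∈ I0, x * y = y * x)
    (hL : L ≤ normalizer (I0 : Set G)) {x c : G} (hx : x ∈ I0) (hxV : x ∉ centralizer (V : Set G))
    (hc : c ∈ I0) (hcJ : c ∈ J) : c ∈ ZQ Q := by
  refine Z_of (hI0 hc) fun y hy => ?_
  obtain ⟨i, hi, j, hj, rfl⟩ := d.push hI0 hL hx hxV hy
  rw [mul_assoc, d.JJ j hj c hcJ, ← mul_assoc, hab i hi c hc, mul_assoc]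

theorem Data.selfc {I0 : Subgroup G} (hI0 : I0 ≤ Q) (hZ : ZQ Q ≤ I0)
    (hab : ∀ x ∈ I0, ∀ y ∈ I0, x * y = y * x)
    (hL : L ≤ normalizer (I0 : Set G)) {x c : G} (hx : x ∈ I0) (hxV : x ∉ centralizer (V : Set G))
    (hc : c ∈ Q) (h : ∀ i ∈ I0, i * c = c * i) : c ∈ I0 := by
  obtain ⟨i, hi, j, hj, rfl⟩ := d.push hI0 hL hx hxV hc
  have hjQ := d.JQ hj
  have h1 : ∀ k ∈ I0, k * j = j * k := by
    intro k hk
    have h2 := h k hk
    have h3 : k * j = i⁻¹ * (k * (i * j)) := by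
      rw [← mul_assoc k i, hab k hk i hi]; group
    rw [h3, h2]; group
  refine mul_mem hi (hZ (Z_of hjQ fun y hy => ?_))
  obtain ⟨i', hi', j', hj', rfl⟩ := d.push hI0 hL hx hxV hy
  rw [mul_assoc, d.JJ j' hj' j hj, ← mul_assoc, h1 i' hi', mul_assoc]

theorem Data.partner : ∃ h ∈ H, ∃ x ∈ V, x ∉ centralizer (cj h V : Set G) := by
  obtain ⟨h, hh, hne⟩ := d.non
  refine ⟨h, hh, ?_⟩
  by_contra hc
  push Not at hc
  apply hne
  rw [le_centralizer_iff]
  exact hc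

theorem Data.not_V_le : ¬ V ≤ ZQ Q := by
  obtain ⟨h, hh, x, hx, hne⟩ := d.partner
  intro hle
  apply hne
  rw [mem_centralizer_iff]
  exact fun v hv => Z_comm (hle hx) ((d.conj hh).VQ hv)

theorem Data.II_self {c : G} (hc : c ∈ Q) (h : ∀ i ∈ II Q L V, i * c = c * i) : c ∈ II Q L V := by
  obtain ⟨g, hg, x, hx, hne⟩ := d.partner
  exact (d.conj hg).selfc d.II_le Z_le_II (fun x hx y hy => d.II_comm hx hy) d.L_II (V_le_II hx) hne hc h

/-! ### the parity argument (3') -/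

theorem Data.L_triv {t : G} (htB : ∀ h ∈ H, t ∈ centralizer (cj h V : Set G)) (ht : t ∈ Q) {l : G}
    (hl : l ∈ L) : l * t * l⁻¹ * t⁻¹ ∈ ZQ Q := by
  let T0 : Subgroup G :=
    { carrier := {g | g ∈ H ∧ g * t * g⁻¹ * t⁻¹ ∈ ZQ Q}
      one_mem' := ⟨one_mem _, by
        have : (1 : G) * t * 1⁻¹ * t⁻¹ = 1 := by group
        rw [this]; exact one_mem _⟩
      mul_mem' := by
        rintro g g' ⟨hg, h1⟩ ⟨hg', h2⟩
        refine ⟨mul_mem hg hg', ?_⟩
        have e : g * g' * t * (g * g')⁻¹ * t⁻¹ = (g * (g' * t * g'⁻¹ * t⁻¹) * g⁻¹) * (g * t * g⁻¹ * t⁻¹) := by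
          group
        rw [e]
        exact mul_mem (conj_mem_of_normalizer (d.HZ hg) h2) h1
      inv_mem' := by
        rintro g ⟨hg, h1⟩
        refine ⟨inv_mem hg, ?_⟩
        have e : g⁻¹ * t * g⁻¹⁻¹ * t⁻¹ = g⁻¹ * (g * t * g⁻¹ * t⁻¹)⁻¹ * g := by group
        rw [e]
        exact conj_inv_mem_of_normalizer (d.HZ hg) (inv_mem h1) }
  have h1 : L ≤ T0 := by
    refine d.LA.trans (iSup_le fun h => ?_)
    intro a ha
    have d' := d.conj h.2
    refine ⟨d.LH (d'.AL ha), ?_⟩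
    have h2 := d'.F3 t ht (fun h' hh' => by
      rw [← cj_mul]
      exact htB _ (mul_mem hh' h.2)) a ha
    have e : a * t * a⁻¹ * t⁻¹ = (t * a * t⁻¹ * a⁻¹)⁻¹ := by group
    rw [e]
    exact inv_mem h2
  exact (h1 hl).2

/-- (3') `I ∩ C_Q(⟨V^H⟩) = Z` -/
theorem Data.par [Finite G] {t : G} (ht : t ∈ II Q L V)
    (htB : ∀ h ∈ H, t ∈ centralizer (cj h V : Set G)) : t ∈ ZQ Q := by
  by_contra htZ
  have htQ := d.II_le ht
  have htt := d.sq_Z htQ
  obtain ⟨h, hh, x, hx, hne⟩ := d.partner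
  have d' := d.conj hh
  have hxQ := d.VQ hx
  have hxZ : x ∉ ZQ Q := fun hz => hne (by
    rw [mem_centralizer_iff]
    exact fun v hv => Z_comm hz (d'.VQ hv))
  obtain ⟨a, ha, hj⟩ := d'.F1 x hxQ hne t htQ (htB h hh)
  have haL := d'.AL ha
  have hat : a * x * a⁻¹ * x⁻¹ * t ∈ ZQ Q := by
    have e : a * x * a⁻¹ * x⁻¹ * t = (x * a * x⁻¹ * a⁻¹)⁻¹ * t := by group
    rw [e]
    exact d'.meet d.II_le (fun x hx y hy => d.II_comm hx hy) d.L_II (V_le_II hx) hne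
      (mul_mem (inv_mem (d.cA_mem d.L_II (V_le_II hx) haL)) ht) hj
  -- the function `u l = [l, x]`
  have hu : ∀ l ∈ L, l * x * l⁻¹ * x⁻¹ ∈ Q := fun l hl =>
    mul_mem (conj_mem_of_normalizer (d.HQ (d.LH hl)) hxQ) (inv_mem hxQ)
  have umul : ∀ l l' : G, l * l' * x * (l * l')⁻¹ * x⁻¹ = (l * (l' * x * l'⁻¹ * x⁻¹) * l⁻¹) *
      (l * x * l⁻¹ * x⁻¹) := fun l l' => by group
  have uinv : ∀ l : G, l⁻¹ * x * l⁻¹⁻¹ * x⁻¹ = l⁻¹ * (l * x * l⁻¹ * x⁻¹)⁻¹ * l := fun l => by group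
  have hLZ : ∀ l ∈ L, l ∈ normalizer (ZQ Q : Set G) := fun l hl => d.HZ (d.LH hl)
  -- if `p t ∈ Z` then `(l p l⁻¹) t ∈ Z`
  have hconj : ∀ l ∈ L, ∀ p ∈ Q, p * t ∈ ZQ Q → l * p * l⁻¹ * t ∈ ZQ Q := by
    intro l hl p hp hpt
    have h1 := conj_mem_of_normalizer (hLZ l hl) hpt
    have h2 := d.L_triv htB htQ hl
    have h3 : l * p * l⁻¹ * t = (l * (p * t) * l⁻¹) * (t⁻¹ * (l * t * l⁻¹ * t⁻¹)⁻¹ * t) := by group
    rw [h3]
    have h4 := Z_comm (inv_mem h2) (inv_mem htQ)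
    rw [h4, inv_mul_cancel_right]
    exact mul_mem h1 (inv_mem h2)
  -- `p t ∈ Z` and `q t ∈ Z` imply `p q ∈ Z`
  have hpq : ∀ p ∈ Q, ∀ q ∈ Q, p * t ∈ ZQ Q → q * t ∈ ZQ Q → p * q ∈ ZQ Q := by
    intro p hp q hq hpt hqt
    have h1 := swap hq hqt
    have e : p * q = (p * t) * ((t⁻¹ * t⁻¹) * (t * q)) := by group
    have e2 : t⁻¹ * t⁻¹ = (t * t)⁻¹ := by group
    rw [e, e2]
    exact mul_mem hpt (mul_mem (inv_mem htt) h1)
  -- `p t ∈ Z`, `q ∈ Z` imply `p q t ∈ Z`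
  have hpz : ∀ p ∈ Q, ∀ q ∈ ZQ Q, p * t ∈ ZQ Q → p * q * t ∈ ZQ Q := by
    intro p hp q hq hpt
    have h1 := Z_comm hq htQ
    rw [mul_assoc, ← h1, ← mul_assoc]
    exact mul_mem hpt hq
  let N : Subgroup G :=
    { carrier := {l | l ∈ L ∧ l * x * l⁻¹ * x⁻¹ ∈ ZQ Q}
      one_mem' := ⟨one_mem _, by
        have : (1 : G) * x * 1⁻¹ * x⁻¹ = 1 := by group
        rw [this]; exact one_mem _⟩
      mul_mem' := by
        rintro l l' ⟨hl, h1⟩ ⟨hl', h2⟩
        refine ⟨mul_mem hl hl', ?_⟩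
        rw [umul]
        exact mul_mem (conj_mem_of_normalizer (hLZ l hl) h2) h1
      inv_mem' := by
        rintro l ⟨hl, h1⟩
        refine ⟨inv_mem hl, ?_⟩
        rw [uinv]
        exact conj_inv_mem_of_normalizer (hLZ l hl) (inv_mem h1) }
  let K : Subgroup G :=
    { carrier := {l | l ∈ L ∧ (l * x * l⁻¹ * x⁻¹ ∈ ZQ Q ∨ l * x * l⁻¹ * x⁻¹ * t ∈ ZQ Q)}
      one_mem' := ⟨one_mem _, Or.inl (by
        have : (1 : G) * x * 1⁻¹ * x⁻¹ = 1 := by group
        rw [this]; exact one_mem _)⟩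
      mul_mem' := by
        rintro l l' ⟨hl, h1⟩ ⟨hl', h2⟩
        refine ⟨mul_mem hl hl', ?_⟩
        rw [umul]
        have hpQ : l * (l' * x * l'⁻¹ * x⁻¹) * l⁻¹ ∈ Q :=
          conj_mem_of_normalizer (d.HQ (d.LH hl)) (hu l' hl')
        rcases h2 with h2 | h2
        · have h3 := conj_mem_of_normalizer (hLZ l hl) h2
          rcases h1 with h1 | h1
          · exact Or.inl (mul_mem h3 h1)
          · right
            rw [mul_assoc]
            exact mul_mem h3 h1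
        · have h3 := hconj l hl _ (hu l' hl') h2
          rcases h1 with h1 | h1
          · exact Or.inr (hpz _ hpQ _ h1 h3)
          · exact Or.inl (hpq _ hpQ _ (hu l hl) h3 h1)
      inv_mem' := by
        rintro l ⟨hl, h1⟩
        refine ⟨inv_mem hl, ?_⟩
        rw [uinv]
        rcases h1 with h1 | h1
        · exact Or.inl (conj_inv_mem_of_normalizer (hLZ l hl) (inv_mem h1))
        · right
          have h2 : (l * x * l⁻¹ * x⁻¹)⁻¹ * t ∈ ZQ Q := by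
            have h3 := inv_mem h1
            have e : (l * x * l⁻¹ * x⁻¹)⁻¹ * t = t * (l * x * l⁻¹ * x⁻¹ * t)⁻¹ * t := by group
            rw [e, Z_comm h3 htQ, mul_assoc]
            exact mul_mem h3 htt
          have h4 := hconj l⁻¹ (inv_mem hl) _ (inv_mem (hu l hl)) h2
          rwa [inv_inv] at h4 }
  have hNK : N ≤ K := fun l hl => ⟨hl.1, Or.inl hl.2⟩
  have hKL : K ≤ L := fun l hl => hl.1
  have h2 : N.relIndex K = 2 := by
    rw [relIndex_eq_two_iff]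
    refine ⟨a, ⟨haL, Or.inr hat⟩, ?_⟩
    rintro b ⟨hb, hb'⟩
    have h3 := hconj b hb _ (hu a haL) hat
    have hpQ : b * (a * x * a⁻¹ * x⁻¹) * b⁻¹ ∈ Q :=
      conj_mem_of_normalizer (d.HQ (d.LH hb)) (hu a haL)
    by_cases hbN : b * x * b⁻¹ * x⁻¹ ∈ ZQ Q
    · right
      refine ⟨⟨hb, hbN⟩, ?_⟩
      rintro ⟨-, h4⟩
      rw [umul] at h4
      apply htZ
      have h5 : b * (a * x * a⁻¹ * x⁻¹) * b⁻¹ ∈ ZQ Q := by
        have := mul_mem h4 (inv_mem hbN)
        rwa [mul_inv_cancel_right] at this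
      have h6 := mul_mem (inv_mem h5) h3
      rwa [inv_mul_cancel_left] at h6
    · left
      refine ⟨⟨mul_mem hb haL, ?_⟩, fun h4 => hbN h4.2⟩
      rw [umul]
      exact hpq _ hpQ _ (hu b hb) h3 (hb'.resolve_left hbN)
  have hSN : S ⊓ L ≤ N := by
    rintro s ⟨hs, hsL⟩
    refine ⟨hsL, ?_⟩
    refine d.V2 _ (conj_mem_of_normalizer (d.SV hs) hx) _ (inv_mem hx) (fun hz => hxZ ?_) (fun hz => hxZ ?_)
    · have := conj_inv_mem_of_normalizer (hLZ s hsL) hz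
      have e : s⁻¹ * (s * x * s⁻¹) * s = x := by group
      rwa [e] at this
    · have := inv_mem hz
      rwa [inv_inv] at this
  have h3 : N.relIndex L ∣ S.relIndex L := by
    rw [← inf_relIndex_right S L]
    exact relIndex_dvd_of_le_left L hSN
  have h4 := relIndex_dvd_of_normalizer d.LH d.HL d.SH
  apply d.odd
  refine dvd_trans ?_ (h3.trans h4)
  rw [← relIndex_mul_relIndex _ _ _ hNK hKL, h2]
  exact dvd_mul_right _ _

/-- irreducibility -/
theorem Data.irr [Finite G] {I0 : Subgroup G} (hI : I0 ≤ II Q L V) (hZ : ZQ Q ≤ I0)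
    (hL : L ≤ normalizer (I0 : Set G)) (hne : ¬ I0 ≤ ZQ Q) : I0 = II Q L V := by
  obtain ⟨x, hx, hxZ⟩ := SetLike.not_le_iff_exists.1 hne
  have h1 : ∃ h ∈ H, x ∉ centralizer (cj h V : Set G) := by
    by_contra hc
    push Not at hc
    exact hxZ (d.par (hI hx) hc)
  obtain ⟨h, hh, hxV⟩ := h1
  have d' := d.conj hh
  refine le_antisymm hI fun y hy => ?_
  obtain ⟨i, hi, j, hj, rfl⟩ := d'.push (hI.trans d.II_le) hL hx hxV (d.II_le hy)
  refine mul_mem hi (hZ (d'.meet d.II_le (fun x hx y hy => d.II_comm hx hy) d.L_II (hI hx) hxV ?_ hj))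
  have := mul_mem (inv_mem (hI hi)) hy
  rwa [inv_mul_cancel_left] at this

/-- there are three different conjugates -/
theorem Data.three [Finite G] : ∃ g ∈ H, ∃ h ∈ H, II Q L V ≠ II Q L (cj g V) ∧
    II Q L V ≠ II Q L (cj h V) ∧ II Q L (cj g V) ≠ II Q L (cj h V) := by
  obtain ⟨g, hg, hne⟩ := d.non
  have h1 : II Q L V ≠ II Q L (cj g V) := by
    intro h
    apply hne
    intro x hx
    rw [mem_centralizer_iff]
    intro v hv
    have h2 : x ∈ II Q L V := by rw [h]; exact V_le_II hx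
    exact d.II_comm (V_le_II hv) h2
  refine ⟨g, hg, ?_⟩
  by_contra hcon
  push Not at hcon
  have hcon' : ∀ h ∈ H, cj h (II Q L V) = II Q L V ∨ cj h (II Q L V) = cj g (II Q L V) := by
    intro h hh
    by_cases h2 : II Q L V = II Q L (cj h V)
    · left; rw [d.cj_II hh, ← h2]
    · right; rw [d.cj_II hh, d.cj_II hg, hcon h hh h1 h2]
  have h1' : cj g (II Q L V) ≠ II Q L V := by rw [d.cj_II hg]; exact h1.symm
  have h2 : (normalizer (II Q L V : Set G)).relIndex H = 2 := by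
    rw [relIndex_eq_two_iff]
    refine ⟨g, hg, fun b hb => ?_⟩
    rw [← cj_eq_self_iff, ← cj_eq_self_iff]
    by_cases hb1 : cj b (II Q L V) = II Q L V
    · right
      refine ⟨hb1, fun h => h1' ?_⟩
      rw [cj_mul] at h
      exact cj_injective (h.trans hb1.symm)
    · left
      refine ⟨?_, hb1⟩
      have hb2 := (hcon' b hb).resolve_left hb1
      rcases hcon' (b * g) (mul_mem hb hg) with h | h
      · exact h
      · exfalso
        rw [cj_mul, ← hb2] at h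
        exact h1' (hb2.symm.trans (cj_injective h))
  apply d.odd
  rw [← h2]
  exact relIndex_dvd_of_le_left H d.S_II

end

/-! ### two different conjugates of `I` -/

section pair

variable {A' V' J' S' : Subgroup G}

theorem inf_eq [Finite G] (d : Data Q H L A V J S r) (d' : Data Q H L A' V' J' S' r)
    (hne : II Q L V ≠ II Q L V') : II Q L V ⊓ II Q L V' = ZQ Q := by
  by_contra h
  have h1 : ZQ Q ≤ II Q L V ⊓ II Q L V' := le_inf Z_le_II Z_le_II
  have h2 : ¬ II Q L V ⊓ II Q L V' ≤ ZQ Q := fun h2 => h (le_antisymm h2 h1)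
  have h3 : L ≤ normalizer ((II Q L V ⊓ II Q L V' : Subgroup G) : Set G) := by
    intro g hg
    rw [← cj_eq_self_iff, cj_inf, cj_eq_self_iff.2 (d.L_II hg), cj_eq_self_iff.2 (d'.L_II hg)]
  have h4 := d.irr inf_le_left h1 h3 h2
  have h5 := d'.irr inf_le_right h1 h3 h2
  exact hne (h4.symm.trans h5)

theorem card_ZQ [Finite G] {M : Subgroup G} (h : ZQ Q ≤ M) : Nat.card (ZQ Q) * (ZQ Q).relIndex M = Nat.card M := by
  have := relIndex_mul_relIndex ⊥ (ZQ Q) M bot_le h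
  rwa [relIndex_bot_left, relIndex_bot_left] at this

theorem index_eq [Finite G] (d : Data Q H L A V J S r) (d' : Data Q H L A' V' J' S' r)
    (hne : II Q L V ≠ II Q L V') (hc : Nat.card (II Q L V) = Nat.card (II Q L V')) :
    Q ≤ II Q L V ⊔ II Q L V' ∧ (II Q L V).relIndex Q = (ZQ Q).relIndex (II Q L V') := by
  have h1 := dual_le d.rr d.rc d.comm _ (II Q L V) rfl d.II_le Z_le_II
  have h2 : Q ⊓ centralizer (II Q L V : Set G) = II Q L V := by
    apply le_antisymm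
    · rintro c ⟨hc, hc'⟩
      exact d.II_self hc (mem_centralizer_iff.1 hc')
    · exact fun c hc => mem_inf.2 ⟨d.II_le hc, mem_centralizer_iff.2 fun y hy => d.II_comm hy hc⟩
  rw [h2] at h1
  have h3 : (ZQ Q).relIndex (II Q L V) = (ZQ Q).relIndex (II Q L V') := by
    have h4 := card_ZQ (Z_le_II (Q := Q) (L := L) (V := V))
    have h5 := card_ZQ (Z_le_II (Q := Q) (L := L) (V := V'))
    rw [← hc, ← h4] at h5
    exact (Nat.eq_of_mul_eq_mul_left Nat.card_pos h5).symm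
  have h4 : (II Q L V).relIndex (II Q L V') = (ZQ Q).relIndex (II Q L V') := by
    rw [← inf_relIndex_right, inf_eq d d' hne]
  have h5 : (II Q L V).relIndex (II Q L V') ≤ (II Q L V).relIndex (II Q L V ⊔ II Q L V') :=
    relIndex_le_of_le_right le_sup_right (rne _ _)
  have h6 : II Q L V ⊔ II Q L V' ≤ Q := sup_le d.II_le d'.II_le
  have h7 := relIndex_mul_relIndex _ _ _ (le_sup_left : II Q L V ≤ II Q L V ⊔ II Q L V') h6
  have h8 : 0 < (II Q L V).relIndex (II Q L V ⊔ II Q L V') := Nat.pos_of_ne_zero (rne _ _)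
  have h9 : (II Q L V ⊔ II Q L V').relIndex Q ≤ 1 := by
    have : (II Q L V).relIndex (II Q L V ⊔ II Q L V') * (II Q L V ⊔ II Q L V').relIndex Q ≤
        (II Q L V).relIndex (II Q L V ⊔ II Q L V') * 1 := by
      rw [h7, mul_one]
      exact (h1.trans (h3.trans h4.symm).le).trans h5
    exact Nat.le_of_mul_le_mul_left this h8
  have h10 : (II Q L V ⊔ II Q L V').relIndex Q = 1 :=
    le_antisymm h9 (Nat.one_le_iff_ne_zero.2 (rne _ _))
  refine ⟨relIndex_eq_one.1 h10, ?_⟩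
  apply le_antisymm (h1.trans h3.le)
  rw [← h4]
  exact relIndex_le_of_le_right d'.II_le (rne _ _)

theorem prod [Finite G] (d : Data Q H L A V J S r) (d' : Data Q H L A' V' J' S' r)
    (hne : II Q L V ≠ II Q L V') (hc : Nat.card (II Q L V) = Nat.card (II Q L V')) {y : G} (hy : y ∈ Q) :
    ∃ i ∈ II Q L V, ∃ i' ∈ II Q L V', y = i * i' := by
  let P : Subgroup G :=
    { carrier := {y | ∃ i ∈ II Q L V, ∃ i' ∈ II Q L V', y = i * i'}
      one_mem' := ⟨1, one_mem _, 1, one_mem _, by group⟩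
      mul_mem' := by
        rintro _ _ ⟨i, hi, i', hi', rfl⟩ ⟨k, hk, k', hk', rfl⟩
        have h1 := d.comm_Z (d'.II_le hi') (d.II_le hk)
        refine ⟨i * (i' * k * i'⁻¹ * k⁻¹) * k, mul_mem (mul_mem hi (Z_le_II h1)) hk, i' * k',
          mul_mem hi' hk', ?_⟩
        group
      inv_mem' := by
        rintro _ ⟨i, hi, i', hi', rfl⟩
        have h1 := d.comm_Z (inv_mem (d'.II_le hi')) (inv_mem (d.II_le hi))
        refine ⟨(i'⁻¹ * i⁻¹ * i'⁻¹⁻¹ * i⁻¹⁻¹) * i⁻¹, mul_mem (Z_le_II h1) (inv_mem hi), i'⁻¹, inv_mem hi', ?_⟩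
        group }
  have h1 : II Q L V ⊔ II Q L V' ≤ P := sup_le (fun i hi => ⟨i, hi, 1, one_mem _, by group⟩)
    (fun i hi => ⟨1, one_mem _, i, hi, by group⟩)
  exact h1 ((index_eq d d' hne hc).1 hy)

end pair

/-! ### the end -/

section

variable (d : Data Q H L A V J S r)
include d

/-- **LEMMA J** -/
theorem main [Finite G] : (ZQ Q).relIndex Q = 4 ∨ (ZQ Q).relIndex Q = 16 := by
  obtain ⟨g, hg, h, hh, h12, h13, h23⟩ := d.three
  have d2 := d.conj hg
  have d3 := d.conj hh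
  have c12 : Nat.card (II Q L V) = Nat.card (II Q L (cj g V)) := by rw [← d.cj_II hg, card_cj]
  have c13 : Nat.card (II Q L V) = Nat.card (II Q L (cj h V)) := by rw [← d.cj_II hh, card_cj]
  have i12 := inf_eq d d2 h12
  have i23 := inf_eq d2 d3 h23
  set I1 := II Q L V with hI1
  set I2 := II Q L (cj g V) with hI2
  set I3 := II Q L (cj h V) with hI3
  have hab2 : ∀ x ∈ I2, ∀ y ∈ I2, x * y = y * x := fun x hx y hy => d2.II_comm hx hy
  -- `x ∈ I2 - C(V)`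
  have hx : ∃ x ∈ I2, x ∉ centralizer (V : Set G) := by
    by_contra hc
    push Not at hc
    apply d.not_V_le
    intro v hv
    rw [← i12]
    exact mem_inf.2 ⟨V_le_II hv, d2.II_self (d.VQ hv) fun i hi => (mem_centralizer_iff.1 (hc i hi) v hv).symm⟩
  obtain ⟨x, hx, hxV⟩ := hx
  have hxQ := d2.II_le hx
  obtain ⟨y1, hy1, w, hw, hxe⟩ := prod d d3 h13 c13 hxQ
  have hy1Q := d.II_le hy1
  have hwQ := d3.II_le hw
  -- claim A
  have clA : ∀ y ∈ I2, y ∈ centralizer (V : Set G) → ∃ t ∈ I1,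
      (∀ y' ∈ I2, y' ∈ centralizer (V : Set G) → t * y' = y' * t) ∧ y * t⁻¹ ∈ I3 := by
    intro y hy hyV
    have hyQ := d2.II_le hy
    obtain ⟨a, ha, hj⟩ := d.F1 x hxQ hxV y hyQ hyV
    have haL := d.AL ha
    have hz := d.meet d2.II_le hab2 d2.L_II hx hxV (mul_mem (inv_mem (d2.cA_mem d2.L_II hx haL)) hy) hj
    have ht : y1 * a * y1⁻¹ * a⁻¹ ∈ I1 := d.cA_mem d.L_II hy1 haL
    have hw' : w * a * w⁻¹ * a⁻¹ ∈ I3 := d3.cA_mem d3.L_II hw haL
    set t := y1 * a * y1⁻¹ * a⁻¹ with htd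
    set w' := w * a * w⁻¹ * a⁻¹ with hwd
    have htQ : t ∈ Q := d.II_le ht
    have hw'Q : w' ∈ Q := d3.II_le hw'
    refine ⟨t, ht, ?_, ?_⟩
    · intro y' hy' hy'V
      have hy'Q := d2.II_le hy'
      have hm := d.meet d2.II_le hab2 d2.L_II hx hxV (d2.cA_mem d2.L_II hy' haL)
        (d.F2 y' hy'Q hy'V a ha)
      -- `[y1, y']` is fixed by `a`
      have hfix : a * (y1 * y' * y1⁻¹ * y'⁻¹) * a⁻¹ = y1 * y' * y1⁻¹ * y'⁻¹ := by
        rcases d.comm y1 hy1Q y' hy'Q with h | h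
        · rw [h]; group
        · rw [h, d.rH a (d.LH haL)]; group
      have e1 : a * y1 * a⁻¹ = t⁻¹ * y1 := by rw [htd]; group
      have e2 : a * y' * a⁻¹ = (y' * a * y'⁻¹ * a⁻¹)⁻¹ * y' := by group
      have e3 : a * (y1 * y' * y1⁻¹ * y'⁻¹) * a⁻¹ =
          (a * y1 * a⁻¹) * (a * y' * a⁻¹) * (a * y1 * a⁻¹)⁻¹ * (a * y' * a⁻¹)⁻¹ := by group
      rw [e3, e1, e2] at hfix
      have hmQ := ZQ_le Q (inv_mem hm)
      have hzc := Z_comm (inv_mem hm) (mul_mem (inv_mem htQ) hy1Q)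
      rw [d.c_mul_right (mul_mem (inv_mem htQ) hy1Q) hmQ hy'Q, hzc] at hfix
      rw [d.c_mul (inv_mem htQ) hy1Q hy'Q] at hfix
      have h1 : t⁻¹ * y' * t⁻¹⁻¹ * y'⁻¹ = 1 := by
        have h2 : (y' * a * y'⁻¹ * a⁻¹)⁻¹ * (t⁻¹ * y1) * (t⁻¹ * y1)⁻¹ * (y' * a * y'⁻¹ * a⁻¹)⁻¹⁻¹ = 1 := by
          group
        rw [h2, one_mul] at hfix
        exact mul_eq_right.1 hfix
      have h3 := c_one h1
      calc t * y' = t * (y' * t⁻¹) * t := by group
        _ = y' * t := by rw [← h3]; group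
    · have e : y * t⁻¹ = (y1 * w' * y1⁻¹ * w'⁻¹) * w' * (t * ((x * a * x⁻¹ * a⁻¹)⁻¹ * y)) * t⁻¹ := by
        rw [htd, hwd, hxe]; group
      have hzt := Z_comm hz htQ
      rw [e, hzt]
      have e2 : y1 * w' * y1⁻¹ * w'⁻¹ * w' * ((x * a * x⁻¹ * a⁻¹)⁻¹ * y * t) * t⁻¹ =
          (y1 * w' * y1⁻¹ * w'⁻¹) * w' * ((x * a * x⁻¹ * a⁻¹)⁻¹ * y) := by group
      rw [e2]
      exact mul_mem (mul_mem (Z_le_II (d.comm_Z hy1Q hw'Q)) hw') (Z_le_II hz)
  -- claim B
  have clB : ∀ t ∈ I1, (∀ y' ∈ I2, y' ∈ centralizer (V : Set G) → t * y' = y' * t) → t * x = x * t →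
      t ∈ ZQ Q := by
    intro t ht h1 h2
    refine Z_of (d.II_le ht) fun y hy => ?_
    obtain ⟨i, hi, i', hi', rfl⟩ := prod d d2 h12 c12 hy
    have h3 : i' * t = t * i' := by
      by_cases hV : i' ∈ centralizer (V : Set G)
      · exact (h1 i' hi' hV).symm
      · have hx' : x⁻¹ ∉ centralizer (V : Set G) := fun h => hxV (by
          have := inv_mem h
          rwa [inv_inv] at this)
        have h4 := h1 _ (mul_mem (inv_mem hx) hi') (d.two (inv_mem hxQ) (d2.II_le hi') hx' hV)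
        calc i' * t = x * ((x⁻¹ * i') * t) := by group
          _ = x * (t * (x⁻¹ * i')) := by rw [h4]
          _ = (x * t) * x⁻¹ * i' := by group
          _ = t * i' := by rw [← h2]; group
    rw [mul_assoc, h3, ← mul_assoc, d.II_comm hi ht, mul_assoc]
  -- claim C
  have clC : ∀ y ∈ I2, y ∈ centralizer (V : Set G) → y ∉ ZQ Q → ∀ y' ∈ I2, y' ∈ centralizer (V : Set G) →
      y' ∉ ZQ Q → y * y' ∈ ZQ Q := by
    have key : ∀ y ∈ I2, y ∉ ZQ Q → ∀ t ∈ I1,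
        (∀ y' ∈ I2, y' ∈ centralizer (V : Set G) → t * y' = y' * t) → y * t⁻¹ ∈ I3 →
        t * x * t⁻¹ * x⁻¹ = r := by
      intro y hy hyZ t ht h1 h2
      refine (d.comm t (d.II_le ht) x hxQ).resolve_left fun h3 => hyZ ?_
      have h4 := clB t ht h1 (c_one h3)
      rw [← i23]
      refine mem_inf.2 ⟨hy, ?_⟩
      have := mul_mem h2 (Z_le_II (L := L) (V := cj h V) h4)
      rwa [inv_mul_cancel_right] at this
    intro y hy hyV hyZ y' hy' hyV' hyZ'
    obtain ⟨t, ht, h1, h2⟩ := clA y hy hyV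
    obtain ⟨t', ht', h1', h2'⟩ := clA y' hy' hyV'
    have k1 := key y hy hyZ t ht h1 h2
    have k2 := key y' hy' hyZ' t' ht' h1' h2'
    have h3 : t * t' ∈ ZQ Q := by
      refine clB _ (mul_mem ht ht') ?_ ?_
      · intro u hu huV
        rw [mul_assoc, h1' u hu huV, ← mul_assoc, h1 u hu huV, mul_assoc]
      · apply c_one
        rw [d.c_mul (d.II_le ht) (d.II_le ht') hxQ, k1, k2, d.rr]
    rw [← i23]
    refine mem_inf.2 ⟨mul_mem hy hy', ?_⟩
    have h4 := d.comm_Z (d.II_le ht) (d3.II_le h2')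
    have e : y * y' = (y * t⁻¹) * (t * (y' * t'⁻¹) * t⁻¹ * (y' * t'⁻¹)⁻¹) * (y' * t'⁻¹) * (t * t') := by
      group
    rw [e]
    exact mul_mem (mul_mem (mul_mem h2 (Z_le_II h4)) h2') (Z_le_II h3)
  -- the indices
  have h4 : (ZQ Q).relIndex (I2 ⊓ centralizer (V : Set G)) ∣ 2 := by
    rw [relIndex_dvd_two_iff]
    by_cases hall : ∀ b ∈ I2 ⊓ centralizer (V : Set G), b ∈ ZQ Q
    · exact ⟨1, one_mem _, fun b hb => Or.inr (hall b hb)⟩
    · push Not at hall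
      obtain ⟨a, ha, haZ⟩ := hall
      refine ⟨a, ha, fun b hb => ?_⟩
      by_cases hbZ : b ∈ ZQ Q
      · exact Or.inr hbZ
      · exact Or.inl (clC b hb.1 hb.2 hbZ a ha.1 ha.2 haZ)
  have h5 : (I2 ⊓ centralizer (V : Set G)).relIndex I2 = 2 := by
    rw [relIndex_eq_two_iff]
    refine ⟨x, hx, fun b hb => ?_⟩
    by_cases hbV : b ∈ centralizer (V : Set G)
    · right
      refine ⟨mem_inf.2 ⟨hb, hbV⟩, fun h6 => hxV ?_⟩
      have := mul_mem (inv_mem hbV) h6.2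
      rwa [inv_mul_cancel_left] at this
    · left
      exact ⟨mem_inf.2 ⟨mul_mem hb hx, d.two (d2.II_le hb) hxQ hbV hxV⟩, fun h6 => hbV h6.2⟩
  have hZV : ZQ Q ≤ I2 ⊓ centralizer (V : Set G) := le_inf Z_le_II (fun z hz => by
    rw [mem_centralizer_iff]
    exact fun v hv => Z_comm hz (d.VQ hv))
  have h6 := relIndex_mul_relIndex _ _ _ hZV (inf_le_left : I2 ⊓ centralizer (V : Set G) ≤ I2)
  rw [h5] at h6
  have h7 : (ZQ Q).relIndex Q = (ZQ Q).relIndex I2 * (ZQ Q).relIndex I2 := by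
    have h8 := relIndex_mul_relIndex _ _ _ (Z_le_II : ZQ Q ≤ I1) d.II_le
    rw [(index_eq d d2 h12 c12).2] at h8
    have h9 : (ZQ Q).relIndex I1 = (ZQ Q).relIndex I2 := by
      have k4 := card_ZQ (Z_le_II (Q := Q) (L := L) (V := V))
      have k5 := card_ZQ (Z_le_II (Q := Q) (L := L) (V := cj g V))
      rw [← c12, ← k4] at k5
      exact (Nat.eq_of_mul_eq_mul_left Nat.card_pos k5).symm
    rw [← h8, h9]
  rcases (Nat.dvd_prime Nat.prime_two).1 h4 with h8 | h8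
  · left
    rw [h7, ← h6, h8]
  · right
    rw [h7, ← h6, h8]

end

end Cfsg.Agent.Omega.HTwo.LemJAbs
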