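import Cfsg.Agent.Omega.HTwo.LemJ

/-!
# II.0h1, `q = 2`: LEMMA J (#13886), consequence (b): the subgroup `C_c`

`C_c = ⟨c_n(y) : n ∈ Z(Q i), y ∈ E j⟩ ≤ C_X`, `[n, y] ∈ R i c_n(y)`; it is normalised by `N(V)` and does
not depend on `i ≠ j`.  If it is `≠ 1` it contains an involution central in `S`.
-/

set_option autoImplicit false

namespace Cfsg.Agent.Omega.HTwo.LemJ

open Subgroup Cfsg.Agent.Omega.BTwo Cfsg.Agent.Omega.HTwo.Par Cfsg.Agent.Omega.HTwo.ThmA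
  Cfsg.Agent.Omega.HTwo.Hat

variable {G : Type*} [Group G] {ι : Type*} {V : Subgroup G} {R : ι → Subgroup G}

/-- `C_c = ⟨c_n(y) : n ∈ Z(Q i), y ∈ E j⟩`, `[n, y] ∈ R i c_n(y)` -/
def CJ (V : Subgroup G) (R : ι → Subgroup G) (i j : ι) : Subgroup G :=
  closure {x | x ∈ CenX V R ∧ ∃ a ∈ R i, ∃ n ∈ ZQ R i, ∃ y ∈ EE V R j, x = a * (n * y * n⁻¹ * y⁻¹)}

theorem CJ_le (i j : ι) : CJ V R i j ≤ CenX V R := by
  rw [CJ, closure_le]
  exact fun x hx => hx.1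

theorem cj_CJ (b : BT V R) {g : G} (hg : g ∈ normalizer (V : Set G)) {i j k l : ι}
    (hi : cj g (R i) = R k) (hj : cj g (R j) = R l) : cj g (CJ V R i j) = CJ V R k l := by
  have key : ∀ g ∈ normalizer (V : Set G), ∀ i j k l : ι, cj g (R i) = R k → cj g (R j) = R l →
      cj g (CJ V R i j) ≤ CJ V R k l := by
    intro g hg i j k l hi hj
    rw [cj, map_le_iff_le_comap, CJ, closure_le]
    rintro x ⟨hx, a, ha, n, hn, y, hy, e⟩
    refine subset_closure ⟨conj_mem_of_normalizer (b.NV_le_NCenX hg) hx, g * a * g⁻¹, ?_,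
      g * n * g⁻¹, ?_, g * y * g⁻¹, ?_, ?_⟩
    · rw [← hi]; exact conj_mem_cj ha
    · rw [← cj_ZQ b hi]; exact conj_mem_cj hn
    · rw [← cj_EE b hg hj]; exact conj_mem_cj hy
    · change g * x * g⁻¹ = _
      rw [e]; group
  apply le_antisymm (key g hg i j k l hi hj)
  have hi' : cj g⁻¹ (R k) = R i := by rw [← hi, cj_inv_cj]
  have hj' : cj g⁻¹ (R l) = R j := by rw [← hj, cj_inv_cj]
  have h3 := cj_mono (g := g) (key g⁻¹ (inv_mem hg) k l i j hi' hj')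
  rwa [cj_cj_inv] at h3

theorem CJ_eq (b : BT V R) {i j k l : ι} (hij : i ≠ j) (hkl : k ≠ l) : CJ V R i j = CJ V R k l := by
  obtain ⟨x, hx, hi, hj⟩ := b.trans_X hij hkl
  rw [← cj_CJ b (b.X_le_NV hx) hi hj, eq_comm, cj_eq_self_iff]
  refine centralizer_le_normalizer _ ?_
  rw [mem_centralizer_iff]
  exact fun y hy => (mem_centralizer_iff.1 (CJ_le i j hy) x hx).symm

/-- `N(V)` normalises `C_c` -/
theorem NV_le_NCJ (b : BT V R) {i j : ι} (hij : i ≠ j) :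
    normalizer (V : Set G) ≤ normalizer (CJ V R i j : Set G) := by
  intro g hg
  obtain ⟨k, hk⟩ := b.perm g hg i
  obtain ⟨l, hl⟩ := b.perm g hg j
  have hkl : k ≠ l := by
    rintro rfl
    exact hij (b.R_index (cj_injective (hk.trans hl.symm)))
  rw [← cj_eq_self_iff, cj_CJ b hg hk hl, CJ_eq b hij hkl]

/-- `C_c = 1` ⟹ `[Z(Q i), E j] ≤ R i` -/
theorem comm_R_of_CJ [Finite G] (b : BTS V R) {i j : ι} (hij : i ≠ j) (h : CJ V R i j = ⊥) {n y : G}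
    (hn : n ∈ ZQ R i) (hy : y ∈ EE V R j) : n * y * n⁻¹ * y⁻¹ ∈ R i := by
  obtain ⟨a, ha, hx⟩ := ZQ_E b hij hn hy
  have h1 : a * (n * y * n⁻¹ * y⁻¹) ∈ CJ V R i j := subset_closure ⟨hx, a, ha, n, hn, y, hy, rfl⟩
  rw [h, mem_bot, mul_eq_one_iff_inv_eq] at h1
  rw [← h1]
  exact inv_mem ha

/-- `C_c ≠ 1` contains an involution central in `S` -/
theorem exists_CJ [Finite G] (b : BTS V R) {i j : ι} (hij : i ≠ j) (h : CJ V R i j ≠ ⊥) (S : Sylow 2 G)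
    (hSV : (S : Subgroup G) ≤ normalizer (V : Set G)) :
    ∃ z ∈ CJ V R i j, z ≠ 1 ∧ z * z = 1 ∧ ∀ s ∈ (S : Subgroup G), z * s = s * z :=
  exists_inv S (b.CenX_isPGroup.to_le (CJ_le i j)) h (hSV.trans (NV_le_NCJ b.toBT hij))

end Cfsg.Agent.Omega.HTwo.LemJ
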