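import Cfsg.Agent.Omega.HTwo.LemJ
import Cfsg.Agent.Omega.HTwo.LemJCor
import Cfsg.Agent.Omega.HTwo.LemJAbs

/-!
# II.0h1, `q = 2`: LEMMA J (#13886, helper720; repair #14561, helper709)

* `lemJ` : `[N, E j] ≤ R i` ⟹ `|Q i / Z(Q i)| = 4` or `16`, where `N = ⟨z^{N(R i)}⟩`;
* `lemJ_W` : `[N, U j] ≤ R i` ⟹ `|W i / Z(W i)| = 4` or `16`;
* `lemJ_CJ` : `C_c = 1` ⟹ `|Q i / Z(Q i)| = 4` or `16`;
* `exists_z` : if `|Q i / Z(Q i)| ≠ 4, 16` one may choose `z ∈ C_c`.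
-/

set_option autoImplicit false
set_option linter.unusedSectionVars false

namespace Cfsg.Agent.Omega.HTwo.LemJ

open Subgroup Cfsg.Agent.Omega.BTwo Cfsg.Agent.Omega.HTwo.Par Cfsg.Agent.Omega.HTwo.ThmA
  Cfsg.Agent.Omega.HTwo.Hat

variable {G : Type*} [Group G] {ι : Type*} {V : Subgroup G} {R : ι → Subgroup G}

/-- `|V / R i| = 2` -/
theorem mul_mem_R (b : BT V R) {i : ι} {r : G} (hr : ∀ x ∈ R i, x = 1 ∨ x = r) {x y : G} (hx : x ∈ V)
    (hy : y ∈ V) (hx' : x ∉ R i) (hy' : y ∉ R i) : x * y ∈ R i := by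
  obtain ⟨j, hj, -⟩ := b.third i i
  obtain ⟨g, hg, e⟩ := b.trans_one i j
  have h1 : ∀ c ∈ R j, c = 1 ∨ c = g * r * g⁻¹ := by
    intro c hc
    rw [← e, mem_cj] at hc
    rcases hr _ hc with h | h
    · left
      have : c = g * (g⁻¹ * c * g) * g⁻¹ := by group
      rw [this, h]; group
    · right
      rw [← h]; group
  obtain ⟨a, ha, c, hc, rfl⟩ := b.exists_mul (Ne.symm hj) hx
  obtain ⟨a', ha', c', hc', rfl⟩ := b.exists_mul (Ne.symm hj) hy
  have hc1 : c = g * r * g⁻¹ := (h1 c hc).resolve_left fun h => hx' (by rw [h, mul_one]; exact ha)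
  have hc1' : c' = g * r * g⁻¹ := (h1 c' hc').resolve_left fun h => hy' (by rw [h, mul_one]; exact ha')
  have h2 : c' = c := by rw [hc1, hc1']
  rw [h2]
  have h3 := b.V_comm c (b.R_le j hc) a' (b.R_le i ha')
  have e1 : a * c * (a' * c) = a * a' * (c * c) := by
    calc a * c * (a' * c) = a * (c * a') * c := by group
      _ = _ := by rw [h3]; group
  rw [e1, b.V_sq c (b.R_le j hc), mul_one]
  exact mul_mem ha ha'

theorem odd_relIndex [Finite G] (S : Sylow 2 G) {H : Subgroup G} (h : (S : Subgroup G) ≤ H) :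
    ¬ 2 ∣ (S : Subgroup G).relIndex H := fun h2 => S.not_dvd_index (h2.trans (relIndex_dvd_index_of_le h))

section

variable [Finite G] (b : BTS V R) {i j : ι} {r : G} (hr : ∀ x ∈ R i, x = 1 ∨ x = r) (hri : r ∈ R i)
  (S : Sylow 2 G) (hSV : (S : Subgroup G) ≤ normalizer (V : Set G))
  (hSR : (S : Subgroup G) ≤ normalizer (R i : Set G)) (hc : Char2 (S : Subgroup G))
  (hnc : ∃ w ∈ WW V (R i), ∃ w' ∈ WW V (R i), w * w' ≠ w' * w)
  {z : G} (hzX : z ∈ CenX V R) (hz1 : z ≠ 1) (hzz : z * z = 1) (hzS : ∀ s ∈ (S : Subgroup G), z * s = s * z)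

include b hr hri hSV hSR hc hnc hzX hz1 hzz hzS

/-- the data of the abstract theorem, `Q`-version -/
theorem dataQ (hij : i ≠ j)
    (hz : ∀ h ∈ normalizer (R i : Set G), ∀ y ∈ EE V R j, h * z * h⁻¹ * y * (h * z * h⁻¹)⁻¹ * y⁻¹ ∈ R i) :
    LemJAbs.Data (QQ (R i)) (normalizer (R i : Set G)) (LJ R i (EE V R j)) (EE V R j) V (CC R)
      (S : Subgroup G) r := by
  have hLE : ∀ j, LE V R j := le_of b hr hri S hSV hSR hc hnc
  have hr1 : r ≠ 1 := r_ne b hr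
  have hrr : r * r = 1 := b.V_sq r (b.R_le i hri)
  obtain ⟨k, hk, v, hv, w, hw, hne⟩ := noncomm_of_W b.toBT hnc
  refine
    { HQ := le_normalizer_O2 _
      LH := LJ_le_N b.toBT i (EE_le_cen j)
      HL := N_le_NLJ i _
      AL := A_le_LJ i _
      LA := le_rfl
      rQ := b.V_Q i (b.R_le i hri)
      rc := fun x hx => (b.QR i x hx r hri).symm
      rr := hrr
      rH := fun h hh => comm_r hr hri hr1 hh
      comm := fun x hx y hy => hr _ (Q_comm b (hLE i) hx hy)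
      VJ := b.V_le_C
      JQ := iInf_le _ i
      JJ := fun x hx y hy => C_comm_one b hLE hx hy
      AV := EE_le_cen j
      V2 := ?_
      F1 := fun x hx hx' y hy hy' => F1 b hij hx hx' ⟨hy, hy'⟩
      F2 := fun y hy hy' a ha => EE_comm b.toBT hij ⟨hy, hy'⟩ ha
      F3 := ?_
      iso := ?_
      non := ⟨k, hk, fun h => hne (mem_centralizer_iff.1 (h hw) v hv)⟩
      SH := hSR
      SV := hSV
      odd := odd_relIndex S hSR }
  · intro x hx y hy hx' hy'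
    have h1 := R_le_ZQ b.toBT i
    exact h1 (mul_mem_R b.toBT hr hx hy (fun h => hx' (h1 h)) (fun h => hy' (h1 h)))
  · intro y hy hyc a ha
    have h1 : y ∈ centralizer (WW V (R i) : Set G) := by
      have h2 : WW V (R i) ≤ centralizer ({y} : Set G) := by
        refine iSup_le fun h => ?_
        intro w hw
        rw [mem_centralizer_singleton_iff]
        exact mem_centralizer_iff.1 (hyc h h.2) w hw
      rw [mem_centralizer_iff]
      exact fun w hw => mem_centralizer_singleton_iff.1 (h2 hw)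
    obtain ⟨c, hc', hx⟩ := cenW_E b hij h1 ha
    have h3 : c⁻¹ * (c * (y * a * y⁻¹ * a⁻¹)) ∈ ZQ R i :=
      mul_mem (inv_mem (R_le_ZQ b.toBT i hc')) (cenX_le_ZQ b hLE i hx)
    rwa [inv_mul_cancel_left] at h3
  · intro l hl w hw
    rw [mem_centralizer_iff]
    intro v hv
    have h1 := L_comm b hr hri S hSR hzX hzS (EE_le_cen j) hz hc hz1 hzz (one_mem _) hl
      (by rw [cj_one]; exact hv) hw
    exact h1

/-- **LEMMA J** (`Q`-version) -/
theorem lemJ (hij : i ≠ j)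
    (hz : ∀ h ∈ normalizer (R i : Set G), ∀ y ∈ EE V R j, h * z * h⁻¹ * y * (h * z * h⁻¹)⁻¹ * y⁻¹ ∈ R i) :
    (ZQ R i).relIndex (QQ (R i)) = 4 ∨ (ZQ R i).relIndex (QQ (R i)) = 16 :=
  LemJAbs.main (dataQ b hr hri S hSV hSR hc hnc hzX hz1 hzz hzS hij hz)

/-- the data of the abstract theorem, `W`-version -/
theorem dataW (hij : i ≠ j)
    (hz : ∀ h ∈ normalizer (R i : Set G), ∀ y ∈ UU V R j, h * z * h⁻¹ * y * (h * z * h⁻¹)⁻¹ * y⁻¹ ∈ R i) :
    LemJAbs.Data (WW V (R i)) (normalizer (R i : Set G)) (LJ R i (UU V R j)) (UU V R j) V (DD V R)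
      (S : Subgroup G) r := by
  have hr1 : r ≠ 1 := r_ne b hr
  have hrr : r * r = 1 := b.V_sq r (b.R_le i hri)
  obtain ⟨k, hk, v, hv, w, hw, hne⟩ := noncomm_of_W b.toBT hnc
  refine
    { HQ := normalizer_le_WW V (R i)
      LH := LJ_le_N b.toBT i (UU_le_cen j)
      HL := N_le_NLJ i _
      AL := A_le_LJ i _
      LA := le_rfl
      rQ := V_le_WW V (R i) (b.R_le i hri)
      rc := fun x hx => (b.QR i x (b.W_le_Q i hx) r hri).symm
      rr := hrr
      rH := fun h hh => comm_r hr hri hr1 hh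
      comm := fun x hx y hy => hr _ (b.WW_comm i hx hy)
      VJ := V_le_D V R
      JQ := D_le_W V R i
      JJ := fun x hx y hy => b.D_comm hx hy
      AV := UU_le_cen j
      V2 := ?_
      F1 := fun x hx hx' y hy hy' => b.surj (Ne.symm hij) hx (fun h => hx' h.2) ⟨hy, hy'⟩
      F2 := ?_
      F3 := ?_
      iso := ?_
      non := ⟨k, hk, fun h => hne (mem_centralizer_iff.1 (h hw) v hv)⟩
      SH := hSR
      SV := hSV
      odd := odd_relIndex S hSR }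
  · intro x hx y hy hx' hy'
    have h1 : R i ≤ LemJAbs.ZQ (WW V (R i)) := b.R_le_Z i
    exact h1 (mul_mem_R b.toBT hr hx hy (fun h => hx' (h1 h)) (fun h => hy' (h1 h)))
  · intro y hy hy' a ha
    have h1 : y ∈ UU V R i := ⟨hy, hy'⟩
    rw [b.D_eq' hij]
    refine mem_inf.2 ⟨?_, ?_⟩
    · exact comm_mem_of' hy (b.cen_le_NW i (UU_le_cen j ha))
    · exact comm_mem_of (UU_le_WW j ha) (b.cen_le_NW j hy')
  · intro y hy hyc a ha
    have h1 : y ∈ centralizer (WW V (R i) : Set G) := by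
      have h2 : WW V (R i) ≤ centralizer ({y} : Set G) := by
        refine iSup_le fun h => ?_
        intro w hw
        rw [mem_centralizer_singleton_iff]
        exact mem_centralizer_iff.1 (hyc h h.2) w hw
      rw [mem_centralizer_iff]
      exact fun w hw => mem_centralizer_singleton_iff.1 (h2 hw)
    have h3 : y ∈ ZZ V R i := ⟨hy, h1⟩
    exact comm_mem_of' h3 (N_le_NZ i (b.cen_le_N i (UU_le_cen j ha)))
  · intro l hl w hw
    rw [mem_centralizer_iff]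
    intro v hv
    exact L_comm b hr hri S hSR hzX hzS (UU_le_cen j) hz hc hz1 hzz (one_mem _) hl
      (by rw [cj_one]; exact hv) hw

/-- **LEMMA J** (`W`-version) -/
theorem lemJ_W (hij : i ≠ j)
    (hz : ∀ h ∈ normalizer (R i : Set G), ∀ y ∈ UU V R j, h * z * h⁻¹ * y * (h * z * h⁻¹)⁻¹ * y⁻¹ ∈ R i) :
    (ZZ V R i).relIndex (WW V (R i)) = 4 ∨ (ZZ V R i).relIndex (WW V (R i)) = 16 :=
  LemJAbs.main (dataW b hr hri S hSV hSR hc hnc hzX hz1 hzz hzS hij hz)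

end

section cor

variable [Finite G] (b : BTS V R) {i j : ι} {r : G} (hr : ∀ x ∈ R i, x = 1 ∨ x = r) (hri : r ∈ R i)
  (S : Sylow 2 G) (hSV : (S : Subgroup G) ≤ normalizer (V : Set G))
  (hSR : (S : Subgroup G) ≤ normalizer (R i : Set G)) (hc : Char2 (S : Subgroup G))
  (hnc : ∃ w ∈ WW V (R i), ∃ w' ∈ WW V (R i), w * w' ≠ w' * w)
include b hr hri hSV hSR hc hnc

/-- **(b)** `C_X ≠ 1`, `C_c = 1` ⟹ `|Q i / Z(Q i)| = 4` or `16` -/
theorem lemJ_CJ (hX : CenX V R ≠ ⊥) (hij : i ≠ j) (h : CJ V R i j = ⊥) :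
    (ZQ R i).relIndex (QQ (R i)) = 4 ∨ (ZQ R i).relIndex (QQ (R i)) = 16 := by
  have hLE : ∀ j, LE V R j := le_of b hr hri S hSV hSR hc hnc
  obtain ⟨z, hzX, hz1, hzz, hzS⟩ := exists_inv S b.CenX_isPGroup hX (hSV.trans b.NV_le_NCenX)
  refine lemJ b hr hri S hSV hSR hc hnc hzX hz1 hzz hzS hij fun g hg y hy => ?_
  exact comm_R_of_CJ b hij h (conj_mem_of_normalizer (N_le_NZQ i hg) (cenX_le_ZQ b hLE i hzX)) hy

/-- **(b)** if `C_X ≠ 1` and `|Q i / Z(Q i)| ≠ 4, 16`, then `z` may be chosen in `C_c` -/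
theorem exists_z (hX : CenX V R ≠ ⊥) (hij : i ≠ j)
    (h : ¬ ((ZQ R i).relIndex (QQ (R i)) = 4 ∨ (ZQ R i).relIndex (QQ (R i)) = 16)) :
    ∃ z ∈ CJ V R i j, z ≠ 1 ∧ z * z = 1 ∧ ∀ s ∈ (S : Subgroup G), z * s = s * z :=
  exists_CJ b hij (fun h1 => h (lemJ_CJ b hr hri S hSV hSR hc hnc hX hij h1)) S hSV

/-- **(a)** if `|Q i / Z(Q i)| ≠ 4, 16`, then `[N, E j] ≰ R i` for every `z` -/
theorem exists_not (hij : i ≠ j)
    (h : ¬ ((ZQ R i).relIndex (QQ (R i)) = 4 ∨ (ZQ R i).relIndex (QQ (R i)) = 16))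
    {z : G} (hzX : z ∈ CenX V R) (hz1 : z ≠ 1) (hzS : ∀ s ∈ (S : Subgroup G), z * s = s * z) :
    ∃ g ∈ normalizer (R i : Set G), ∃ y ∈ EE V R j,
      g * z * g⁻¹ * y * (g * z * g⁻¹)⁻¹ * y⁻¹ ∉ R i := by
  by_contra hcon
  push Not at hcon
  have hLE : ∀ j, LE V R j := le_of b hr hri S hSV hSR hc hnc
  exact h (lemJ b hr hri S hSV hSR hc hnc hzX hz1 (cenX_sq b (hLE i) hzX) hzS hij hcon)

end cor

end Cfsg.Agent.Omega.HTwo.LemJ
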