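import Cfsg.Agent.Omega.HTwo.ThmD
import Cfsg.Agent.Omega.HOneTwo.Dich
import Cfsg.Agent.Omega.HOne.NSClaim

/-!
# II.0h1, `q = 2`: LEMMA N (#13459)

`BTS V R`, LEMMA E (`LE`) at all points, `|R i| = 2`, a Sylow 2-subgroup `S ≤ N(V) ∩ N(R i)`, `z ∈ Ω₁(Z(S))`, the data
`Dt V R z M` (`M = C(z) ≥ X`), `i ≠ j`.

* `cenN` : `[N i, E j] ≤ R i` implies `[N i, E j] = 1` (`O₂(H / C_H(R i N i)) = 1`);
* `lemN'` : if `[N i, E j] = 1` then `|Q i : Z(Q i)| ≤ 16`;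
* `lemN` : the same if `[N i, E j] ≤ R i`;
* `lemN_contra` : if `|Q i : Z(Q i)| > 16` then `[n, y] ∉ R i` for some `n ∈ N i`, `y ∈ E j`.
-/

set_option autoImplicit false
set_option linter.unusedSectionVars false

namespace Cfsg.Agent.Omega.HTwo.LemN

open Subgroup Cfsg Cfsg.Agent.ZN Cfsg.Agent.MinSimple.VModule Cfsg.Agent.Omega.BTwo
  Cfsg.Agent.Omega.HTwo.ThmA Cfsg.Agent.Omega.HTwo.Hat Cfsg.Agent.Omega.HOneTwo

universe u

variable {G : Type u} [Group G] {ι : Type*} {V : Subgroup G} {R : ι → Subgroup G} {z : G} {M : Subgroup G}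

/-! ### generalities -/

theorem relIndex_le_two {A B : Subgroup G}
    (h : ∀ x ∈ B, ∀ y ∈ B, x ∉ A → y ∉ A → x⁻¹ * y ∈ A) : A.relIndex B ≤ 2 := by
  classical
  let f : B ⧸ A.subgroupOf B → Bool := fun q => decide (q = QuotientGroup.mk 1)
  have hf : Function.Injective f := by
    rintro ⟨x⟩ ⟨y⟩ hxy
    change decide ((QuotientGroup.mk x : B ⧸ A.subgroupOf B) = QuotientGroup.mk 1) =
      decide ((QuotientGroup.mk y : B ⧸ A.subgroupOf B) = QuotientGroup.mk 1) at hxy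
    change (QuotientGroup.mk x : B ⧸ A.subgroupOf B) = QuotientGroup.mk y
    have hm : ∀ x : B, (QuotientGroup.mk x : B ⧸ A.subgroupOf B) = QuotientGroup.mk 1 ↔ (x : G) ∈ A := by
      intro x
      rw [eq_comm, QuotientGroup.eq, inv_one, one_mul]
      rfl
    rw [decide_eq_decide, hm, hm] at hxy
    by_cases hx : (x : G) ∈ A
    · rw [(hm x).2 hx, (hm y).2 (hxy.1 hx)]
    · rw [QuotientGroup.eq]
      exact h x x.2 y y.2 hx (fun hy => hx (hxy.2 hy))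
  have h1 := Nat.card_le_card_of_injective f hf
  rwa [Nat.card_eq_fintype_card (α := Bool), Fintype.card_bool] at h1

theorem le_normalizer_sup {A B H : Subgroup G} (hA : H ≤ normalizer (A : Set G))
    (hB : H ≤ normalizer (B : Set G)) : H ≤ normalizer ((A ⊔ B : Subgroup G) : Set G) := by
  intro g hg
  rw [← cj_eq_self_iff, cj_sup, cj_eq_self_iff.2 (hA hg), cj_eq_self_iff.2 (hB hg)]

theorem le_normalizer_inf {A B H : Subgroup G} (hA : H ≤ normalizer (A : Set G))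
    (hB : H ≤ normalizer (B : Set G)) : H ≤ normalizer ((A ⊓ B : Subgroup G) : Set G) := by
  intro g hg
  rw [← cj_eq_self_iff, cj_inf, cj_eq_self_iff.2 (hA hg), cj_eq_self_iff.2 (hB hg)]

/-- `K` normalised by `a`, `K ≤ N(Y)` implies `K ≤ N(Y^a)` -/
theorem le_normalizer_cj {K Y : Subgroup G} {a : G} (ha : a ∈ normalizer (K : Set G))
    (hK : K ≤ normalizer (Y : Set G)) : K ≤ normalizer ((cj a Y : Subgroup G) : Set G) := by
  rw [← cj_eq_self_iff.2 ha, normalizer_cj]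
  exact cj_mono hK

/-- all points have order 2 -/
theorem R_two (b : BT V R) {i : ι} {r : G} (hr : ∀ x ∈ R i, x = 1 ∨ x = r) {m : ι} {x y : G} (hx : x ∈ R m)
    (hy : y ∈ R m) (hx1 : x ≠ 1) (hy1 : y ≠ 1) : x = y := by
  obtain ⟨g, -, e⟩ := b.trans_one i m
  have key : ∀ w ∈ R m, w ≠ 1 → w = g * r * g⁻¹ := by
    intro w hw hw1
    rw [← e, mem_cj] at hw
    rcases hr _ hw with h3 | h3
    · exfalso
      apply hw1
      have : w = g * (g⁻¹ * w * g) * g⁻¹ := by group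
      rw [this, h3]; group
    · rw [← h3]; group
  rw [key x hx hx1, key y hy hy1]

/-! ### `K = C_{H i}(N i)` -/

/-- `K = C_{H i}(N i)` -/
def KN (R : ι → Subgroup G) (i : ι) (z : G) : Subgroup G :=
  normalizer (R i : Set G) ⊓ centralizer (NN (R i) z : Set G)

theorem KN_le (i : ι) : KN R i z ≤ normalizer (R i : Set G) := inf_le_left

theorem N_le_NK (i : ι) : normalizer (R i : Set G) ≤ normalizer (KN R i z : Set G) :=
  le_normalizer_inf le_normalizer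
    ((le_normalizer_cl _ _).trans (normalizer_le_normalizer_centralizer _))

/-- `⟨V^K⟩` -/
def DK (V : Subgroup G) (R : ι → Subgroup G) (i : ι) (z : G) : Subgroup G := cl V (KN R i z)

theorem V_le_DK (V : Subgroup G) (R : ι → Subgroup G) (i : ι) (z : G) : V ≤ DK V R i z := le_cl _ _

theorem K_le_ND (V : Subgroup G) (R : ι → Subgroup G) (i : ι) (z : G) :
    KN R i z ≤ normalizer (DK V R i z : Set G) := le_normalizer_cl _ _

/-- `J Z(Q i)` -/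
def FJ (R : ι → Subgroup G) (i : ι) : Subgroup G := CC R ⊔ ZQ R i

theorem ZQ_le_FJ (i : ι) : ZQ R i ≤ FJ R i := le_sup_right

theorem CC_le_FJ (i : ι) : CC R ≤ FJ R i := le_sup_left

theorem FJ_le_Q (i : ι) : FJ R i ≤ QQ (R i) := sup_le (iInf_le _ i) (ZQ_le i)

theorem FJ_le_E (b : BT V R) (i : ι) : FJ R i ≤ EE V R i := sup_le (C_le_EE b i) (ZQ_le_EE b i)

/-- elements of `J Z(Q i)` -/
theorem mem_FJ {i : ι} {x : G} : x ∈ FJ R i ↔ ∃ c ∈ CC R, ∃ n ∈ ZQ R i, x = c * n := by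
  constructor
  · intro hx
    have hle : CC R ≤ normalizer (ZQ R i : Set G) := by
      refine fun c hc => centralizer_le_normalizer _ ?_
      rw [mem_centralizer_iff]
      exact fun n hn => (ZQ_comm hn (mem_iInf.1 hc i)).symm
    rw [FJ, ← SetLike.mem_coe, coe_mul_of_left_le_normalizer_right _ _ hle] at hx
    obtain ⟨c, hc, n, hn, rfl⟩ := hx
    exact ⟨c, hc, n, hn, rfl⟩
  · rintro ⟨c, hc, n, hn, rfl⟩
    exact mul_mem (CC_le_FJ i hc) (ZQ_le_FJ i hn)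

section

variable (d : Dt V R z M)
include d

theorem Q_le_K (i : ι) : QQ (R i) ≤ KN R i z := by
  refine le_inf (O2_le _) ?_
  intro q hq
  rw [mem_centralizer_iff]
  exact fun n hn => (d.N_comm hn hq).symm

theorem K_le_M (i : ι) : KN R i z ≤ M := by
  intro g hg
  rw [d.mem_M]
  exact (mem_centralizer_iff.1 hg.2 z (z_mem_NN (R i) z)).symm

theorem DK_le_UM (i : ι) : DK V R i z ≤ UM V M :=
  cl_le (le_cl V M) ((K_le_M d i).trans (le_normalizer_cl V M))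

theorem DK_comm {i : ι} {x y : G} (hx : x ∈ DK V R i z) (hy : y ∈ DK V R i z) : x * y = y * x :=
  d.U_comm (DK_le_UM d i hx) (DK_le_UM d i hy)

end

theorem DK_le_Q (b : BT V R) (i : ι) : DK V R i z ≤ QQ (R i) :=
  cl_le (b.V_Q i) ((KN_le i).trans (le_normalizer_O2 _))

/-! ### (0) -/

section

variable [Finite G] (b : BTS V R) (d : Dt V R z M)
include b d

/-- **(0)** `[N i, E j] ≤ R i` implies `[N i, E j] = 1` -/
theorem cenN {i : ι} {r : G} (hr : ∀ x ∈ R i, x = 1 ∨ x = r) (S : Sylow 2 G)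
    (hSR : (S : Subgroup G) ≤ normalizer (R i : Set G)) (hz : z ∈ centralizer ((S : Subgroup G) : Set G)) {E : Subgroup G}
    (hE : E ≤ normalizer (R i : Set G)) (h : ∀ n ∈ NN (R i) z, ∀ y ∈ E, n * y * n⁻¹ * y⁻¹ ∈ R i) :
    E ≤ centralizer (NN (R i) z : Set G) := by
  -- `N(R i)` centralises `R i`
  have hc : ∀ x ∈ normalizer (R i : Set G), ∀ u ∈ R i, x * u = u * x := by
    intro x hx u hu
    by_cases hu1 : u = 1
    · rw [hu1, mul_one, one_mul]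
    · have h1 : x * u * x⁻¹ ∈ R i := conj_mem_of_normalizer hx hu
      have h2 : x * u * x⁻¹ ≠ 1 := fun h => hu1 (conj_eq_one_iff.1 h)
      have h3 := R_two b.toBT hr h1 hu h2 hu1
      rwa [mul_inv_eq_iff_eq_mul] at h3
  have hNz := d.N_le i
  have hRz : R i ≤ zc (QQ (R i)) := by
    intro a ha
    refine mem_zc.2 ⟨(b.R_le i).trans (b.V_Q i) ha, fun c hc' => b.QR i c hc' a ha, ?_⟩
    rw [pow_two]; exact b.V_sq a (b.R_le i ha)
  set A := R i ⊔ NN (R i) z with hAd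
  have hAz : A ≤ zc (QQ (R i)) := sup_le hRz hNz
  have hNA : normalizer (R i : Set G) ≤ normalizer (A : Set G) :=
    le_normalizer_sup le_rfl (le_normalizer_cl _ _)
  have hodd := ThmD.odd_relIndex S hSR
  have key := HOne.NSClaim.hO2_of (A := A) (U := R i) (B := R i ⊔ zpowers z) (T := (S : Subgroup G))
    (M := normalizer (R i : Set G)) hSR S.isPGroup'
    (by
      intro hd
      exact (Nat.not_even_iff_odd.2 hodd) (even_iff_two_dvd.2 hd))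
    (fun u hu => by rw [← pow_two]; exact (mem_zc.1 (hAz hu)).2.2)
    (sup_le (fun u hu => mem_centralizer_iff.2 fun s hs => hc s (hSR hs) u hu)
      (by rw [zpowers_le]; exact hz))
    (sup_le_sup le_rfl (le_cl _ _))
    (fun x hx u hu => conj_mem_of_normalizer (hNA hx) hu)
    hc le_sup_left
    (by
      intro W hW hMW
      refine sup_le (le_sup_left.trans hW) (cl_le (le_sup_right.trans hW) hMW))
  intro y hy
  have hyN := hE hy
  have h1 : ∀ u ∈ A, HOne.NSClaim.br y u ∈ R i := by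
    -- the set of such `u` is a subgroup
    let T : Subgroup G :=
      { carrier := {u | u ∈ A ∧ y * u * y⁻¹ * u⁻¹ ∈ R i}
        one_mem' := ⟨one_mem _, by
          have : y * 1 * y⁻¹ * (1 : G)⁻¹ = 1 := by group
          rw [this]; exact one_mem _⟩
        mul_mem' := by
          rintro u v ⟨hu, hu'⟩ ⟨hv, hv'⟩
          refine ⟨mul_mem hu hv, ?_⟩
          have e : y * (u * v) * y⁻¹ * (u * v)⁻¹ = (y * u * y⁻¹) * (y * v * y⁻¹ * v⁻¹) * (y * u * y⁻¹)⁻¹ *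
            (y * u * y⁻¹ * u⁻¹) := by group
          rw [e]
          refine mul_mem (conj_mem_of_normalizer ?_ hv') hu'
          exact mul_mem (mul_mem hyN (b.Q_le i (zc_le _ (hAz hu)))) (inv_mem hyN)
        inv_mem' := by
          rintro u ⟨hu, hu'⟩
          refine ⟨inv_mem hu, ?_⟩
          have e3 : y * u⁻¹ * y⁻¹ * u⁻¹⁻¹ = (y * u⁻¹ * y⁻¹) * (y * u * y⁻¹ * u⁻¹)⁻¹ * (y * u⁻¹ * y⁻¹)⁻¹ := by
            group
          rw [e3]
          refine conj_mem_of_normalizer ?_ (inv_mem hu')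
          exact mul_mem (mul_mem hyN (inv_mem (b.Q_le i (zc_le _ (hAz hu))))) (inv_mem hyN) }
    have hT : A ≤ T := by
      refine sup_le ?_ ?_
      · intro u hu
        refine ⟨mem_sup_left hu, ?_⟩
        exact comm_mem_of hu hyN
      · intro n hn
        refine ⟨mem_sup_right hn, ?_⟩
        have := inv_mem (h n hn y hy)
        have e : (n * y * n⁻¹ * y⁻¹)⁻¹ = y * n * y⁻¹ * n⁻¹ := by group
        rwa [e] at this
    exact fun u hu => (hT hu).2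
  have h2 := key y hyN h1
  rw [mem_centralizer_iff]
  intro n hn
  have h3 := h2 n (mem_sup_right hn)
  change y * n * y⁻¹ * n⁻¹ = 1 at h3
  rw [mul_inv_eq_one, mul_inv_eq_iff_eq_mul] at h3
  exact h3.symm

end

/-! ### (1), (2): `⟨V^K⟩ Z(Q i) = J Z(Q i)` -/

section

variable [Finite G] (b : BTS V R) (h : ∀ i, LE V R i) (d : Dt V R z M)
include b h d

/-- the image of `⟨V^K⟩^a` and `J`: `Q i = ⟨V^K⟩^a J` if `V^a` moves `V` -/
theorem Q_fac {i j : ι} (hij : i ≠ j) {r : G} (hr : ∀ x ∈ R i, x = 1 ∨ x = r)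
    (hE : EE V R j ≤ KN R i z) {a v : G} (ha : a ∈ normalizer (R i : Set G)) (hv : v ∈ cj a (DK V R i z))
    (hvV : v ∉ centralizer (V : Set G)) {q : G} (hq : q ∈ QQ (R i)) :
    ∃ t ∈ cj a (DK V R i z), ∃ c ∈ CC R, q = t * c := by
  have _ := h
  have haQ : cj a (QQ (R i)) = QQ (R i) := cj_eq_self_iff.2 (le_normalizer_O2 _ ha)
  have hvQ : v ∈ QQ (R i) := by
    rw [← haQ]; exact cj_mono (DK_le_Q b.toBT i) hv
  have hKD : KN R i z ≤ normalizer (cj a (DK V R i z) : Set G) :=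
    le_normalizer_cj (N_le_NK i ha) (K_le_ND V R i z)
  -- elements of `E i`
  have key : ∀ y ∈ EE V R i, ∃ t ∈ cj a (DK V R i z), ∃ c ∈ CC R, y = t * c := by
    intro y hy
    obtain ⟨e, he, hc⟩ := EE_surj b (Ne.symm hij) hvQ hvV hy
    refine ⟨v * e * v⁻¹ * e⁻¹, ?_, _, hc, by group⟩
    exact comm_mem_of' hv (hKD (hE he))
  by_cases hqV : q ∈ centralizer (V : Set G)
  · exact key q ⟨hq, hqV⟩
  · have h1 : v⁻¹ * q ∈ EE V R i := mem_inf.2 ⟨(QQ (R i)).mul_mem ((QQ (R i)).inv_mem hvQ) hq,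
      ThmD.inv_mul_mem_cen b.toBT hr hvQ hvV hq hqV⟩
    obtain ⟨t, ht, c, hc, e⟩ := key _ h1
    refine ⟨v * t, mul_mem hv ht, c, hc, ?_⟩
    rw [mul_assoc, ← e, mul_inv_cancel_left]

/-- `U ∩ Q i ≤ J` -/
theorem U_Q_le {i j : ι} (hij : i ≠ j) (hE : EE V R j ≤ KN R i z) : UM V M ⊓ QQ (R i) ≤ CC R := by
  have _ := h
  have h1 : UM V M ⊓ QQ (R j) ≤ UM V M ⊓ QQ (R i) := by
    rw [← d.U_cen_N b.toBT i]
    rintro u ⟨hu, hu'⟩
    exact ⟨hu, (hE ⟨hu', d.U_le_cen hu⟩).2⟩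
  obtain ⟨x, hx, e⟩ := b.trans_X_one j i
  have h2 : cj x (UM V M ⊓ QQ (R j)) = UM V M ⊓ QQ (R i) := by
    rw [cj_inf, cj_eq_self_iff.2 (d.X_le_NU hx), b.cj_QQ e]
  have h3 : Nat.card (UM V M ⊓ QQ (R i) : Subgroup G) ≤ Nat.card (UM V M ⊓ QQ (R j) : Subgroup G) := by
    rw [← h2]
    exact (Nat.card_congr ((UM V M ⊓ QQ (R j)).equivMapOfInjective (MulAut.conj x).toMonoidHom
      (MulAut.conj x).injective).toEquiv).symm.le
  have h4 := Subgroup.eq_of_le_of_card_ge h1 h3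
  intro u hu
  rw [b.C_eq hij]
  refine ⟨hu.2, ?_⟩
  rw [← h4] at hu
  exact hu.2

/-- `⟨V^K⟩ ≤ J` -/
theorem DK_le_J {i j : ι} (hij : i ≠ j) (hE : EE V R j ≤ KN R i z) : DK V R i z ≤ CC R :=
  (le_inf (DK_le_UM d i) (DK_le_Q b.toBT i)).trans (U_Q_le b h d hij hE)

/-- **(2)** `⟨V^K⟩ Z(Q i) = J Z(Q i)` -/
theorem FJ_eq {i j : ι} (hij : i ≠ j) {r : G} (hr : ∀ x ∈ R i, x = 1 ∨ x = r)
    (hE : EE V R j ≤ KN R i z) : FJ R i = DK V R i z ⊔ ZQ R i := by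
  apply le_antisymm _ (sup_le_sup (DK_le_J b h d hij hE) le_rfl)
  refine sup_le ?_ le_sup_right
  obtain ⟨a, ha, H⟩ := b.mt i
  -- `v ∈ V^a` outside `C(V)`
  obtain ⟨l, hli, hlj⟩ := b.third i j
  obtain ⟨⟨v, hv, e⟩, -⟩ := H j l (Ne.symm hij) hli
  set v' := a * v * a⁻¹ with hv'
  have hvD : v' ∈ cj a (DK V R i z) := conj_mem_cj (V_le_DK V R i z hv)
  have hvV : v' ∉ centralizer (V : Set G) := by
    intro hc
    have h1 : cj v' (R j) = R j :=
      cj_eq_self_iff.2 (centralizer_le_normalizer _ (centralizer_le (b.R_le j) hc))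
    exact hlj (b.R_index (e.symm.trans h1))
  -- `C_{Q i}(F^a) ≤ F^a`
  have key : ∀ x ∈ QQ (R i), x ∈ centralizer (cj a (DK V R i z ⊔ ZQ R i) : Set G) →
      x ∈ cj a (DK V R i z ⊔ ZQ R i) := by
    intro x hx hxc
    obtain ⟨t, ht, c, hc, rfl⟩ := Q_fac b h d hij hr hE ha hvD hvV hx
    have htF : t ∈ cj a (DK V R i z ⊔ ZQ R i) := cj_mono le_sup_left ht
    have htc : ∀ u ∈ cj a (DK V R i z), t * u = u * t := by
      intro u hu
      rw [mem_cj] at ht hu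
      have := DK_comm d ht hu
      calc t * u = a * ((a⁻¹ * t * a) * (a⁻¹ * u * a)) * a⁻¹ := by group
        _ = a * ((a⁻¹ * u * a) * (a⁻¹ * t * a)) * a⁻¹ := by rw [this]
        _ = u * t := by group
    have hcZ : c ∈ ZQ R i := by
      refine mem_inf.2 ⟨mem_iInf.1 hc i, ?_⟩
      rw [mem_centralizer_iff]
      intro q hq
      obtain ⟨t', ht', c', hc', rfl⟩ := Q_fac b h d hij hr hE ha hvD hvV hq
      have e1 : t' * (t * c) = t * c * t' :=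
        mem_centralizer_iff.1 hxc t' (cj_mono le_sup_left ht')
      have e2 := htc t' ht'
      have e3 : t' * c = c * t' := by
        have : t * (t' * c) = t * (c * t') := by
          rw [← mul_assoc, e2, mul_assoc, e1, mul_assoc]
        exact mul_left_cancel this
      have e4 : c' * c = c * c' := C_comm_one b h hc' hc
      calc t' * c' * c = t' * (c' * c) := by group
        _ = (t' * c) * c' := by rw [e4]; group
        _ = c * (t' * c') := by rw [e3]; group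
    have haZ : cj a (ZQ R i) = ZQ R i := cj_eq_self_iff.2 (N_le_NZQ i ha)
    refine mul_mem htF ?_
    rw [cj_sup, haZ]
    exact mem_sup_right hcZ
  intro c hc
  -- `c` centralises `F`
  have h1 : c ∈ centralizer ((DK V R i z ⊔ ZQ R i : Subgroup G) : Set G) := by
    refine mem_cen_sup ?_ ?_
    · rw [mem_centralizer_iff]
      exact fun u hu => C_comm_one b h (DK_le_J b h d hij hE hu) hc
    · rw [mem_centralizer_iff]
      exact fun n hn => (ZQ_comm hn (mem_iInf.1 hc i)).symm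
  have haQ : cj a (QQ (R i)) = QQ (R i) := cj_eq_self_iff.2 (le_normalizer_O2 _ ha)
  have h2 : a * c * a⁻¹ ∈ QQ (R i) := by
    rw [← haQ]; exact conj_mem_cj (mem_iInf.1 hc i)
  have h3 := key _ h2 (by
    rw [mem_centralizer_iff]
    intro u hu
    have hu' := mem_cj.1 hu
    have := mem_centralizer_iff.1 h1 _ hu'
    calc u * (a * c * a⁻¹) = a * ((a⁻¹ * u * a) * c) * a⁻¹ := by group
      _ = a * (c * (a⁻¹ * u * a)) * a⁻¹ := by rw [this]
      _ = a * c * a⁻¹ * u := by group)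
  rw [mem_cj] at h3
  have e1 : a⁻¹ * (a * c * a⁻¹) * a = c := by group
  rwa [e1] at h3

end

/-! ### (3) irreducibility of the members -/

section

variable [Finite G] (b : BTS V R) (h : ∀ i, LE V R i) (d : Dt V R z M)
include b h d

/-- `V ≰ Z(Q i)` -/
theorem exists_V_not (i : ι) : ∃ v ∈ V, v ∉ ZQ R i := by
  have _ := h
  have _ := d
  obtain ⟨j, hj, -⟩ := b.third i i
  obtain ⟨v, hv, hv1⟩ := b.exists_ne j
  refine ⟨v, b.R_le j hv, fun hz => hv1 ?_⟩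
  obtain ⟨a, ha, hc⟩ := ZQ_Q b (Ne.symm hj) hz ((b.R_le j).trans (b.V_Q j) hv)
  have h1 := b.cen_VX (mul_mem (b.R_le i ha) (b.R_le j hv)) hc
  have h2 : a⁻¹ = v := inv_eq_of_mul_eq_one_right h1
  rw [← h2] at hv
  have h3 := b.eq_one (Ne.symm hj) (inv_mem ha) hv
  rw [← h2, h3]

theorem V_cap {i : ι} {v : G} (hv : v ∈ V) (hz : v ∈ ZQ R i) : v ∈ R i := by
  have _ := h
  have _ := d
  obtain ⟨j, hj, -⟩ := b.third i i
  obtain ⟨a, ha, hc⟩ := ZQ_Q b (Ne.symm hj) hz (b.V_Q j hv)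
  have h1 := b.cen_VX (mul_mem (b.R_le i ha) hv) hc
  have h2 : a⁻¹ = v := inv_eq_of_mul_eq_one_right h1
  rw [← h2]; exact inv_mem ha

theorem irr_aux {i j : ι} (hij : i ≠ j) {r : G} (hr : ∀ x ∈ R i, x = 1 ∨ x = r)
    (hE : EE V R j ≤ KN R i z) {Y : Subgroup G} (hY : Y ≤ FJ R i) (hZ : ZQ R i ≤ Y)
    (hK : KN R i z ≤ normalizer (Y : Set G)) {x : G} (hx : x ∈ Y) (hxZ : x ∉ ZQ R i) : FJ R i ≤ Y := by
  obtain ⟨c, hc, n, hn, rfl⟩ := mem_FJ.1 (hY hx)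
  have hcY : c ∈ Y := by
    have : c * n * n⁻¹ ∈ Y := mul_mem hx (inv_mem (hZ hn))
    rwa [mul_inv_cancel_right] at this
  have hcZ : c ∉ ZQ R i := fun hc' => hxZ (mul_mem hc' hn)
  -- an element of `V ∩ Y` outside `R i`
  have key : ∃ v ∈ V, v ∈ Y ∧ v ∉ R i := by
    by_cases hcE : ∀ u ∈ EE V R j, c * u = u * c
    · obtain ⟨v, hv, hvc⟩ := C_cen b h hc hcE
      have h1 := cenX_le_ZQ b h i hvc
      have hvY : v ∈ Y := by
        have : v * c * c⁻¹ ∈ Y := mul_mem (hZ h1) (inv_mem hcY)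
        rwa [mul_inv_cancel_right] at this
      refine ⟨v, hv, hvY, fun hvR => hcZ ?_⟩
      have : v⁻¹ * (v * c) ∈ ZQ R i := mul_mem (inv_mem (R_le_ZQ b.toBT i hvR)) h1
      rwa [inv_mul_cancel_left] at this
    · push Not at hcE
      obtain ⟨u, hu, hcu⟩ := hcE
      have h1 : u * c * u⁻¹ * c⁻¹ ∈ R j := C_Q b h hu.1 hc
      have h2 : u * c * u⁻¹ * c⁻¹ ∈ Y := comm_mem_of hcY (hK (hE hu))
      refine ⟨_, b.R_le j h1, h2, fun h3 => hcu ?_⟩
      have h4 := b.eq_one hij h3 h1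
      rw [mul_inv_eq_one, mul_inv_eq_iff_eq_mul] at h4
      exact h4.symm
  obtain ⟨v, hv, hvY, hvR⟩ := key
  have hVY : V ≤ Y := by
    obtain ⟨m, hm⟩ := b.R_cov v hv
    have hmi : i ≠ m := by rintro rfl; exact hvR hm
    rw [← b.R_sup i m hmi]
    refine sup_le ((R_le_ZQ b.toBT i).trans hZ) ?_
    intro w hw
    by_cases hw1 : w = 1
    · rw [hw1]; exact one_mem _
    · have hv1 : v ≠ 1 := by rintro rfl; exact hvR (one_mem _)
      rw [R_two b.toBT hr hw hm hw1 hv1]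
      exact hvY
  rw [FJ_eq b h d hij hr hE]
  exact sup_le (cl_le hVY hK) hZ

theorem K_le_NF {i j : ι} (hij : i ≠ j) {r : G} (hr : ∀ x ∈ R i, x = 1 ∨ x = r)
    (hE : EE V R j ≤ KN R i z) : KN R i z ≤ normalizer (FJ R i : Set G) := by
  rw [FJ_eq b h d hij hr hE]
  exact le_normalizer_sup (K_le_ND V R i z) ((KN_le i).trans (N_le_NZQ i))

omit h d in
theorem cj_ZQ_eq {i : ι} {a : G} (ha : a ∈ normalizer (R i : Set G)) : cj a (ZQ R i) = ZQ R i := by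
  have _ := b
  exact cj_eq_self_iff.2 (N_le_NZQ i ha)

/-- `K` acts irreducibly on `F^a / Z(Q i)` -/
theorem irr {i j : ι} (hij : i ≠ j) {r : G} (hr : ∀ x ∈ R i, x = 1 ∨ x = r)
    (hE : EE V R j ≤ KN R i z) {a : G} (ha : a ∈ normalizer (R i : Set G)) {Y : Subgroup G}
    (hY : Y ≤ cj a (FJ R i)) (hZ : ZQ R i ≤ Y)
    (hK : KN R i z ≤ normalizer (Y : Set G)) {x : G} (hx : x ∈ Y) (hxZ : x ∉ ZQ R i) : cj a (FJ R i) ≤ Y := by
  have ha' := inv_mem ha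
  have h1 : cj a⁻¹ Y ≤ FJ R i := by
    have := cj_mono (g := a⁻¹) hY
    rwa [cj_inv_cj] at this
  have h2 : ZQ R i ≤ cj a⁻¹ Y := by
    rw [← cj_ZQ_eq b ha']; exact cj_mono hZ
  have h3 := irr_aux b h d hij hr hE h1 h2 (le_normalizer_cj (N_le_NK i ha') hK) (x := a⁻¹ * x * a⁻¹⁻¹)
    (conj_mem_cj hx) (by
      intro hc
      rw [← cj_ZQ_eq b ha'] at hc
      apply hxZ
      rw [mem_cj] at hc
      have e : a⁻¹⁻¹ * (a⁻¹ * x * a⁻¹⁻¹) * a⁻¹ = x := by group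
      rwa [e] at hc)
  have h4 := cj_mono (g := a) h3
  rwa [cj_cj_inv] at h4

/-- two members are equal or meet in `Z(Q i)` -/
theorem dich {i j : ι} (hij : i ≠ j) {r : G} (hr : ∀ x ∈ R i, x = 1 ∨ x = r)
    (hE : EE V R j ≤ KN R i z) {a c : G} (ha : a ∈ normalizer (R i : Set G)) (hc : c ∈ normalizer (R i : Set G))
    (hne : cj a (FJ R i) ≠ cj c (FJ R i)) : cj a (FJ R i) ⊓ cj c (FJ R i) ≤ ZQ R i := by
  intro x hx
  by_contra hxZ
  apply hne
  have hZ : ZQ R i ≤ cj a (FJ R i) ⊓ cj c (FJ R i) := by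
    refine le_inf ?_ ?_
    · rw [← cj_ZQ_eq b ha]; exact cj_mono (ZQ_le_FJ i)
    · rw [← cj_ZQ_eq b hc]; exact cj_mono (ZQ_le_FJ i)
  have hKF := K_le_NF b h d hij hr hE
  have hK : KN R i z ≤ normalizer ((cj a (FJ R i) ⊓ cj c (FJ R i) : Subgroup G) : Set G) :=
    le_normalizer_inf (le_normalizer_cj (N_le_NK i ha) hKF) (le_normalizer_cj (N_le_NK i hc) hKF)
  have h1 := irr b h d hij hr hE ha inf_le_left hZ hK hx hxZ
  have h2 := irr b h d hij hr hE hc inf_le_right hZ hK hx hxZ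
  exact le_antisymm (h1.trans inf_le_right) (h2.trans inf_le_left)

/-- a third member -/
theorem exists_third {i : ι} (S : Sylow 2 G)
    (hSV : (S : Subgroup G) ≤ normalizer (V : Set G)) (hSR : (S : Subgroup G) ≤ normalizer (R i : Set G))
    {a : G} (ha : a ∈ normalizer (R i : Set G)) (hne : cj a (FJ R i) ≠ FJ R i) :
    ∃ c ∈ normalizer (R i : Set G), cj c (FJ R i) ≠ FJ R i ∧ cj c (FJ R i) ≠ cj a (FJ R i) := by
  have _ := h
  have _ := d
  by_contra hc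
  push Not at hc
  have hS : (S : Subgroup G) ≤ normalizer (FJ R i : Set G) :=
    le_normalizer_sup (hSV.trans (NV_le_NC b.toBT)) (hSR.trans (N_le_NZQ i))
  set H := normalizer (R i : Set G) with hH
  set N := normalizer (FJ R i : Set G) ⊓ H with hN
  have h2 : N.relIndex H = 2 := by
    rw [relIndex, index_eq_two_iff']
    refine ⟨⟨a⁻¹, inv_mem ha⟩, fun c => ?_⟩
    have m1 : ∀ x : H, x ∈ N.subgroupOf H ↔ cj (x : G) (FJ R i) = FJ R i := by
      intro x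
      rw [mem_subgroupOf, hN, mem_inf, ← cj_eq_self_iff]
      exact ⟨fun h => h.1, fun h => ⟨h, x.2⟩⟩
    rw [m1, m1]
    change Xor (cj (a⁻¹ * (c : G)) (FJ R i) = FJ R i) (cj (c : G) (FJ R i) = FJ R i)
    by_cases h3 : cj (c : G) (FJ R i) = FJ R i
    · refine Or.inr ⟨h3, fun h4 => hne ?_⟩
      rw [cj_mul, h3] at h4
      have := congrArg (cj a) h4
      rw [cj_cj_inv] at this
      exact this.symm
    · refine Or.inl ⟨?_, h3⟩
      rw [cj_mul, hc c c.2 h3, cj_inv_cj]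
  have hodd := ThmD.odd_relIndex S hSR
  have h3 := relIndex_mul_relIndex (S : Subgroup G) N H (le_inf hS hSR) inf_le_right
  rw [h2] at h3
  rw [← h3] at hodd
  exact (Nat.not_even_iff_odd.2 hodd) (even_two.mul_left _)

end

/-! ### LEMMA N -/

section

variable [Finite G] (b : BTS V R) (h : ∀ i, LE V R i) (d : Dt V R z M)
include b h d

/-- `[J Z(Q i), E j] ≤ Z(Q i) R j` -/
theorem FJ_E {i j : ι} {x y : G} (hx : x ∈ FJ R i) (hy : y ∈ EE V R j) :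
    ∃ n ∈ ZQ R i, ∃ a ∈ R j, x * y * x⁻¹ * y⁻¹ = n * a := by
  have _ := d
  obtain ⟨c, hc, m, hm, rfl⟩ := mem_FJ.1 hx
  have hyN : y ∈ normalizer (ZQ R i : Set G) := N_le_NZQ i (b.cen_le_N i hy.2)
  have h1 : m * y * m⁻¹ * y⁻¹ ∈ ZQ R i := comm_mem_of' hm hyN
  have h2 : c * y * c⁻¹ * y⁻¹ ∈ R j := by
    have h3 := inv_mem (C_Q b h hy.1 hc)
    have e : (y * c * y⁻¹ * c⁻¹)⁻¹ = c * y * c⁻¹ * y⁻¹ := by group
    rwa [e] at h3
  refine ⟨m * y * m⁻¹ * y⁻¹, h1, _, h2, ?_⟩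
  have h3 : c * (m * y * m⁻¹ * y⁻¹) = (m * y * m⁻¹ * y⁻¹) * c := ZQ_comm h1 (mem_iInf.1 hc i)
  calc c * m * y * (c * m)⁻¹ * y⁻¹ = (c * (m * y * m⁻¹ * y⁻¹)) * (y * c⁻¹ * y⁻¹) := by group
    _ = (m * y * m⁻¹ * y⁻¹) * (c * y * c⁻¹ * y⁻¹) := by rw [h3]; group

/-- **LEMMA N**: if `[N i, E j] = 1` then `|Q i : Z(Q i)| ≤ 16` -/
theorem lemN' {i j : ι} (hij : i ≠ j) {r : G} (hr : ∀ x ∈ R i, x = 1 ∨ x = r) (S : Sylow 2 G)
    (hSV : (S : Subgroup G) ≤ normalizer (V : Set G)) (hSR : (S : Subgroup G) ≤ normalizer (R i : Set G))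
    (hA : EE V R j ≤ centralizer (NN (R i) z : Set G)) : (ZQ R i).relIndex (QQ (R i)) ≤ 16 := by
  have hE : EE V R j ≤ KN R i z := le_inf ((EE_le_cen j).trans (b.cen_le_N i)) hA
  have hF := FJ_eq b h d hij hr hE
  have hKF := K_le_NF b h d hij hr hE
  -- the second member
  obtain ⟨a, ha, H⟩ := b.mt i
  obtain ⟨l, hli, hlj⟩ := b.third i j
  obtain ⟨⟨v₀, hv₀, e₀⟩, -⟩ := H j l (Ne.symm hij) hli
  set v := a * v₀ * a⁻¹ with hv
  have hvD : v ∈ cj a (DK V R i z) := conj_mem_cj (V_le_DK V R i z hv₀)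
  have hvV : v ∉ centralizer (V : Set G) := by
    intro hc
    have h1 : cj v (R j) = R j :=
      cj_eq_self_iff.2 (centralizer_le_normalizer _ (centralizer_le (b.R_le j) hc))
    exact hlj (b.R_index (e₀.symm.trans h1))
  have hDF : ∀ c, cj c (DK V R i z) ≤ cj c (FJ R i) := by
    intro c; rw [hF]; exact cj_mono le_sup_left
  have hZF : ∀ c ∈ normalizer (R i : Set G), ZQ R i ≤ cj c (FJ R i) := by
    intro c hc
    have := cj_mono (g := c) (ZQ_le_FJ (R := R) i)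
    rwa [cj_ZQ_eq b hc] at this
  have hQF : ∀ c ∈ normalizer (R i : Set G), cj c (FJ R i) ≤ QQ (R i) := by
    intro c hc
    have := cj_mono (g := c) (FJ_le_Q (R := R) i)
    rwa [cj_eq_self_iff.2 (le_normalizer_O2 _ hc)] at this
  have hvF : v ∈ cj a (FJ R i) := hDF a hvD
  have hvQ : v ∈ QQ (R i) := hQF a ha hvF
  have hne : cj a (FJ R i) ≠ FJ R i := by
    intro he
    rw [he] at hvF
    exact hvV (EE_le_cen i (FJ_le_E b.toBT i hvF))
  obtain ⟨c, hc, hc1, hc2⟩ := exists_third b h d S hSV hSR ha hne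
  have hFc : cj (1 : G) (FJ R i) = FJ R i := cj_one _
  -- `[Q i, Q i] ≤ R i`
  have hQN : ∀ Y : Subgroup G, R i ≤ Y → Y ≤ QQ (R i) → QQ (R i) ≤ normalizer (Y : Set G) := by
    intro Y hY hYQ q hq
    have key : ∀ q ∈ QQ (R i), ∀ y ∈ Y, q * y * q⁻¹ ∈ Y := by
      intro q hq y hy
      have h1 := Q_comm b (h i) hq (hYQ hy)
      have e : q * y * q⁻¹ = q * y * q⁻¹ * y⁻¹ * y := by group
      rw [e]
      exact mul_mem (hY h1) hy
    rw [← cj_eq_self_iff]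
    apply le_antisymm
    · rw [cj_le_iff]; exact key q hq
    · intro y hy
      rw [mem_cj]
      have := key q⁻¹ (inv_mem hq) y hy
      rwa [inv_inv] at this
  have hRc : R i ≤ cj c (FJ R i) := (R_le_ZQ b.toBT i).trans (hZF c hc)
  -- `v ∈ F'' F`
  have hvT : v ∈ cj c (FJ R i) ⊔ FJ R i := by
    set T := cj c (FJ R i) ⊔ FJ R i with hT
    have hKT : KN R i z ≤ normalizer (T : Set G) :=
      le_normalizer_sup (le_normalizer_cj (N_le_NK i hc) hKF) hKF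
    by_contra hvT
    have hYZ : T ⊓ cj a (FJ R i) ≤ ZQ R i := by
      intro x hx
      by_contra hxZ
      have h1 := irr b h d hij hr hE ha (Y := T ⊓ cj a (FJ R i)) inf_le_right
        (le_inf ((ZQ_le_FJ i).trans le_sup_right) (hZF a ha))
        (le_normalizer_inf hKT (le_normalizer_cj (N_le_NK i ha) hKF)) hx hxZ
      exact hvT (h1 hvF).1
    -- so `F'' ≤ F`
    have h1 : cj c (FJ R i) ≤ FJ R i := by
      intro t ht
      obtain ⟨t', ht', e, he, rfl⟩ := Q_fac b h d hij hr hE ha hvD hvV (hQF c hc ht)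
      have h2 : t' ∈ T := by
        have h3 : t' * e * e⁻¹ ∈ T := mul_mem (mem_sup_left ht) (inv_mem (mem_sup_right (CC_le_FJ i he)))
        rwa [mul_inv_cancel_right] at h3
      exact mul_mem (ZQ_le_FJ i (hYZ ⟨h2, hDF a ht'⟩)) (CC_le_FJ i he)
    obtain ⟨w, hw, hwZ⟩ := exists_V_not b h d i
    apply hwZ
    have h2 : c * w * c⁻¹ ∈ cj c (FJ R i) ⊓ cj (1 : G) (FJ R i) := by
      rw [hFc]
      have h3 : c * w * c⁻¹ ∈ cj c (FJ R i) := conj_mem_cj (CC_le_FJ i (b.V_le_C hw))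
      exact ⟨h3, h1 h3⟩
    have h3 := dich b h d hij hr hE hc (one_mem _) (by rw [hFc]; exact hc1) h2
    rw [← cj_ZQ_eq b hc, mem_cj] at h3
    have e : c⁻¹ * (c * w * c⁻¹) * c = w := by group
    rwa [e] at h3
  have hle : FJ R i ≤ normalizer (cj c (FJ R i) : Set G) := (FJ_le_Q i).trans (hQN _ hRc (hQF c hc))
  rw [← SetLike.mem_coe, coe_mul_of_right_le_normalizer_left _ _ hle] at hvT
  obtain ⟨x', hx', x, hx, hxx⟩ := hvT
  have hxx : x' * x = v := hxx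
  -- if `[x, y] ∈ Z(Q i)` then `[v, y] ∈ Z(Q i)`
  have step6 : ∀ y ∈ EE V R j, x * y * x⁻¹ * y⁻¹ ∈ ZQ R i → v * y * v⁻¹ * y⁻¹ ∈ ZQ R i := by
    intro y hy hxy
    have h1 : v * y * v⁻¹ * y⁻¹ ∈ cj a (FJ R i) :=
      comm_mem_of' hvF (le_normalizer_cj (N_le_NK i ha) hKF (hE hy))
    have h2 : v * y * v⁻¹ * y⁻¹ ∈ cj c (FJ R i) := by
      have e : v * y * v⁻¹ * y⁻¹ = x' * (x * y * x⁻¹ * y⁻¹) * x'⁻¹ * (x' * y * x'⁻¹ * y⁻¹) := by
        rw [← hxx]; group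
      rw [e]
      refine mul_mem (mul_mem (mul_mem hx' (hZF c hc hxy)) (inv_mem hx')) ?_
      exact comm_mem_of' hx' (le_normalizer_cj (N_le_NK i hc) hKF (hE hy))
    exact dich b h d hij hr hE ha hc (Ne.symm hc2) ⟨h1, h2⟩
  -- `|E i : F| ≤ 2`
  have hEF : (FJ R i).relIndex (EE V R i) ≤ 2 := by
    refine relIndex_le_two fun e₁ he₁ e₂ he₂ h₁ h₂ => ?_
    obtain ⟨y₁, hy₁, k₁⟩ := EE_surj b (Ne.symm hij) hvQ hvV he₁
    obtain ⟨y₂, hy₂, k₂⟩ := EE_surj b (Ne.symm hij) hvQ hvV he₂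
    have aux : ∀ e y, e ∉ FJ R i → y ∈ EE V R j → (v * y * v⁻¹ * y⁻¹)⁻¹ * e ∈ CC R →
        x * y * x⁻¹ * y⁻¹ ∉ ZQ R i := by
      intro e y he hy hk hxy
      apply he
      have h1 := step6 y hy hxy
      have e1 : e = (v * y * v⁻¹ * y⁻¹) * ((v * y * v⁻¹ * y⁻¹)⁻¹ * e) := by group
      rw [e1]
      exact mul_mem (ZQ_le_FJ i h1) (CC_le_FJ i hk)
    have n₁ := aux e₁ y₁ h₁ hy₁ k₁
    have n₂ := aux e₂ y₂ h₂ hy₂ k₂
    -- `[x, y₁⁻¹ y₂] ∈ Z(Q i)`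
    obtain ⟨m₁, hm₁, a₁, ha₁, f₁⟩ := FJ_E b h d hx hy₁
    obtain ⟨m₂, hm₂, a₂, ha₂, f₂⟩ := FJ_E b h d hx hy₂
    have haa : a₁ = a₂ := by
      refine R_two b.toBT hr ha₁ ha₂ ?_ ?_
      · rintro rfl
        apply n₁
        rw [f₁, mul_one]; exact hm₁
      · rintro rfl
        apply n₂
        rw [f₂, mul_one]; exact hm₂
    subst haa
    have hxy : x * (y₁⁻¹ * y₂) * x⁻¹ * (y₁⁻¹ * y₂)⁻¹ ∈ ZQ R i := by
      have h1 : m₂ * m₁⁻¹ ∈ ZQ R i := mul_mem hm₂ (inv_mem hm₁)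
      have h2 : a₁ * (m₁⁻¹ * m₂) = (m₁⁻¹ * m₂) * a₁ :=
        ZQ_comm (mul_mem (inv_mem hm₁) hm₂) (b.V_Q i (b.R_le j ha₁))
      have h3 : x * (y₁⁻¹ * y₂) * x⁻¹ * (y₁⁻¹ * y₂)⁻¹ = y₁⁻¹ * (m₁⁻¹ * m₂) * y₁ := by
        have e1 : x * (y₁⁻¹ * y₂) * x⁻¹ * (y₁⁻¹ * y₂)⁻¹ =
            y₁⁻¹ * ((x * y₁ * x⁻¹ * y₁⁻¹)⁻¹ * (x * y₂ * x⁻¹ * y₂⁻¹)) * y₁ := by group
        rw [e1, f₁, f₂]
        have e2 : (m₁ * a₁)⁻¹ * (m₂ * a₁) = m₁⁻¹ * m₂ := by
          calc (m₁ * a₁)⁻¹ * (m₂ * a₁) = a₁⁻¹ * ((m₁⁻¹ * m₂) * a₁) := by group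
            _ = m₁⁻¹ * m₂ := by rw [← h2]; group
        rw [e2]
      rw [h3]
      have hyN : y₁ ∈ normalizer (ZQ R i : Set G) := N_le_NZQ i (b.cen_le_N i hy₁.2)
      exact conj_inv_mem_of_normalizer hyN (mul_mem (inv_mem hm₁) hm₂)
    have hy : y₁⁻¹ * y₂ ∈ EE V R j := mul_mem (inv_mem hy₁) hy₂
    have h4 := step6 _ hy hxy
    -- `[v, y₂] ≡ [v, y₁] [v, y₁⁻¹ y₂]` modulo `J`
    have h5 := EE_mul b.toBT (Ne.symm hij) hvQ hy₁ hy
    have e3 : y₁ * (y₁⁻¹ * y₂) = y₂ := by group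
    rw [e3] at h5
    set g₁ := v * y₁ * v⁻¹ * y₁⁻¹ with hg₁
    set g₂ := v * y₂ * v⁻¹ * y₂⁻¹ with hg₂
    set g := v * (y₁⁻¹ * y₂) * v⁻¹ * (y₁⁻¹ * y₂)⁻¹ with hg
    -- all in `F`-cosets of `E i`
    have hFE : EE V R i ≤ normalizer (FJ R i : Set G) := (EE_le_Q i).trans
      (hQN _ ((R_le_ZQ b.toBT i).trans (ZQ_le_FJ i)) (FJ_le_Q i))
    have hg₁E : g₁ ∈ EE V R i := EE_map b.toBT hvQ hy₁
    have q1 : g₁⁻¹ * g₂ ∈ FJ R i := by
      have e4 : g₁⁻¹ * g₂ = g₁⁻¹ * (g₂ * (g₁ * g)⁻¹) * g₁ * g := by group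
      rw [e4]
      exact mul_mem (conj_inv_mem_of_normalizer (hFE hg₁E) (CC_le_FJ i h5)) (ZQ_le_FJ i h4)
    have e5 : e₁⁻¹ * e₂ = (g₁⁻¹ * e₁)⁻¹ * (g₁⁻¹ * g₂) * (g₂⁻¹ * e₂) := by group
    rw [e5]
    exact mul_mem (mul_mem (inv_mem (CC_le_FJ i k₁)) q1) (CC_le_FJ i k₂)
  -- `|Q i : E i| ≤ 2`
  have hQE : (EE V R i).relIndex (QQ (R i)) ≤ 2 := by
    refine relIndex_le_two fun x hx y hy hx' hy' => ?_
    refine mem_inf.2 ⟨(QQ (R i)).mul_mem ((QQ (R i)).inv_mem hx) hy,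
      ThmD.inv_mul_mem_cen b.toBT hr hx (fun hc => hx' ⟨hx, hc⟩) hy (fun hc => hy' ⟨hy, hc⟩)⟩
  have hQFi : (FJ R i).relIndex (QQ (R i)) ≤ 4 := by
    rw [← relIndex_mul_relIndex (FJ R i) (EE V R i) (QQ (R i)) (FJ_le_E b.toBT i) (EE_le_Q i)]
    exact Nat.mul_le_mul hEF hQE
  -- `|F : Z(Q i)| ≤ |Q i : F'|`
  have hFZ : (ZQ R i).relIndex (FJ R i) ≤ 4 := by
    have h1 : ZQ R i = cj a (FJ R i) ⊓ FJ R i := by
      apply le_antisymm (le_inf (hZF a ha) (ZQ_le_FJ i))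
      have := dich b h d hij hr hE ha (one_mem _) (by rw [hFc]; exact hne)
      rwa [hFc] at this
    have h2 : (cj a (FJ R i)).relIndex (QQ (R i)) = (FJ R i).relIndex (QQ (R i)) := by
      have haQ : cj a (QQ (R i)) = QQ (R i) := cj_eq_self_iff.2 (le_normalizer_O2 _ ha)
      nth_rewrite 1 [← haQ]
      exact ThmD.relIndex_cj a _ _
    rw [h1, inf_relIndex_right]
    exact (relIndex_le_of_le_right (FJ_le_Q i) (rel_ne _ _)).trans (h2.le.trans hQFi)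
  rw [← relIndex_mul_relIndex (ZQ R i) (FJ R i) (QQ (R i)) (ZQ_le_FJ i) (FJ_le_Q i)]
  exact Nat.mul_le_mul hFZ hQFi

/-- **LEMMA N**: if `[N i, E j] ≤ R i` then `|Q i : Z(Q i)| ≤ 16` -/
theorem lemN {i j : ι} (hij : i ≠ j) {r : G} (hr : ∀ x ∈ R i, x = 1 ∨ x = r) (S : Sylow 2 G)
    (hSV : (S : Subgroup G) ≤ normalizer (V : Set G)) (hSR : (S : Subgroup G) ≤ normalizer (R i : Set G))
    (hz : z ∈ centralizer ((S : Subgroup G) : Set G))
    (hA : ∀ n ∈ NN (R i) z, ∀ y ∈ EE V R j, n * y * n⁻¹ * y⁻¹ ∈ R i) :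
    (ZQ R i).relIndex (QQ (R i)) ≤ 16 :=
  lemN' b h d hij hr S hSV hSR
    (cenN b d hr S hSR hz ((EE_le_cen j).trans (b.cen_le_N i)) hA)

/-- **LEMMA N**, contrapositive -/
theorem lemN_contra {i j : ι} (hij : i ≠ j) {r : G} (hr : ∀ x ∈ R i, x = 1 ∨ x = r) (S : Sylow 2 G)
    (hSV : (S : Subgroup G) ≤ normalizer (V : Set G)) (hSR : (S : Subgroup G) ≤ normalizer (R i : Set G))
    (hz : z ∈ centralizer ((S : Subgroup G) : Set G)) (h16 : 16 < (ZQ R i).relIndex (QQ (R i))) :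
    ∃ n ∈ NN (R i) z, ∃ y ∈ EE V R j, n * y * n⁻¹ * y⁻¹ ∉ R i := by
  by_contra hc
  push Not at hc
  exact absurd (lemN b h d hij hr S hSV hSR hz hc) (by omega)

end

/-! ### the situation `HT` -/

section

variable [Finite G] {S : Sylow 2 G} {P : Subgroup G} {o : ι}

/-- **LEMMA N** for `HT`: if `[N o, E j] ≤ R o` then `|Q o : Z(Q o)| ≤ 16` -/
theorem HT.lemN (b : HT S P V R o) (h : ∀ i, LE V R i)
    (hz : z ∈ zc (S : Subgroup G) ⊓ centralizer (P : Set G)) (hz1 : z ≠ 1) {j : ι} (hj : j ≠ o)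
    (hA : ∀ n ∈ NN (R o) z, ∀ y ∈ EE V R j, n * y * n⁻¹ * y⁻¹ ∈ R o) :
    (ZQ R o).relIndex (QQ (R o)) ≤ 16 := by
  obtain ⟨r, -, -, hr⟩ := b.exists_gen o
  exact LemN.lemN b.toBTS h (b.dt hz hz1) (Ne.symm hj) (fun x hx => (hr x).1 hx) S b.S_V b.S_R
    (mem_centralizer_iff.2 fun s hs => (mem_zc.1 hz.1).2.1 s hs) hA

end

end Cfsg.Agent.Omega.HTwo.LemN
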