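import Mathlib

/-!
# Central extensions of odd order

`central_odd` : a finite group `Γ` which is generated by 2-elements, with a central subgroup `C` of odd order such that
`|Γ : C|` divides 168, has `C = 1`.

`le_of_central` : the same modulo a normal subgroup `T`.
-/

set_option autoImplicit false

namespace Cfsg.Agent.Omega.HTwo.OddCen

open Subgroup

/-- the 2-elements -/
def two (Γ : Type*) [Group Γ] : Set Γ := {x | ∃ n : ℕ, x ^ 2 ^ n = 1}

theorem hom_trivial {Γ A : Type*} [Group Γ] [Group A] [Finite A] (hodd : Odd (Nat.card A)) (φ : Γ →* A)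
    (hgen : closure (two Γ) = ⊤) (x : Γ) : φ x = 1 := by
  have h1 : closure (two Γ) ≤ φ.ker := by
    rw [closure_le]
    rintro y ⟨n, hn⟩
    show φ y = 1
    have h2 : (φ y) ^ 2 ^ n = 1 := by rw [← map_pow, hn, map_one]
    have h3 : orderOf (φ y) ∣ 2 ^ n := orderOf_dvd_of_pow_eq_one h2
    have h4 : orderOf (φ y) ∣ Nat.card A := orderOf_dvd_natCard _
    have h5 : Nat.Coprime (2 ^ n) (Nat.card A) := Nat.Coprime.pow_left n (Nat.coprime_two_left.2 hodd)
    exact orderOf_eq_one_iff.1 (Nat.eq_one_of_dvd_coprimes h5 h3 h4)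
  rw [hgen] at h1
  exact h1 (mem_top x)

theorem not_sq_dvd {p : ℕ} (hp : p.Prime) (hp2 : p ≠ 2) : ¬ p ^ 2 ∣ 168 := by
  intro h3
  have h4 : p ≤ 12 := by
    by_contra h5
    push Not at h5
    have h6 := Nat.le_of_dvd (by norm_num) h3
    nlinarith
  interval_cases p
  all_goals first | exact hp2 rfl | exact absurd hp (by decide) | exact absurd h3 (by decide)

/-- **odd central extensions** -/
theorem central_odd {Γ : Type*} [Group Γ] [Finite Γ] (C : Subgroup Γ) (hC : C ≤ center Γ)
    (hodd : Odd (Nat.card C)) (hgen : closure (two Γ) = ⊤) (hidx : C.index ∣ 168) : C = ⊥ := by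
  by_contra hne
  have hcard : Nat.card C ≠ 1 := fun h => hne (Subgroup.card_eq_one.1 h)
  obtain ⟨p, hp, hpd⟩ := Nat.exists_prime_and_dvd hcard
  have : Fact p.Prime := ⟨hp⟩
  have hp2 : p ≠ 2 := by
    rintro rfl
    exact (Nat.not_even_iff_odd.2 hodd) (even_iff_two_dvd.2 hpd)
  have hCn : C.Normal := ⟨fun c hc g => by
    have h1 := mem_center_iff.1 (hC hc) g
    rw [h1, mul_inv_cancel_right]; exact hc⟩
  obtain ⟨⟨z, hzC⟩, hz⟩ := exists_prime_orderOf_dvd_card' p hpd
  have hzp : orderOf z = p := by rw [← Subgroup.orderOf_mk z hzC]; exact hz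
  have hzc := mem_center_iff.1 (hC hzC)
  let P : Sylow p Γ := default
  -- `z ∈ P`
  have hzP : z ∈ (P : Subgroup Γ) := by
    have h1 : IsPGroup p ↥((P : Subgroup Γ) ⊔ zpowers z) := by
      refine P.isPGroup'.to_sup_of_normal_right' (IsPGroup.of_card (n := 1) (by rw [Nat.card_zpowers, hzp, pow_one])) ?_
      intro x _
      rw [Subgroup.mem_normalizer_iff]
      intro y
      have key : ∀ g y : Γ, y ∈ zpowers z → g * y * g⁻¹ = y := by
        rintro g _ ⟨k, rfl⟩
        have : Commute g z := hzc g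
        have h2 : Commute g (z ^ k) := this.zpow_right k
        rw [h2.eq, mul_inv_cancel_right]
      constructor
      · intro hy; rw [key x y hy]; exact hy
      · intro hy
        have h3 := key x⁻¹ _ hy
        have e : x⁻¹ * (x * y * x⁻¹) * x⁻¹⁻¹ = y := by group
        rw [e] at h3
        rw [h3]; exact hy
    have h2 := P.is_maximal' h1 le_sup_left
    rw [← h2]
    exact mem_sup_right (mem_zpowers z)
  -- `P` is abelian
  have hcomm : ∀ a b : ↥(P : Subgroup Γ), a * b = b * a := by
    let f : ↥(P : Subgroup Γ) →* Γ ⧸ C := (QuotientGroup.mk' C).comp (P : Subgroup Γ).subtype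
    have hcard : Nat.card f.range = 1 ∨ Nat.card f.range = p := by
      have h1 : IsPGroup p ↥f.range := P.isPGroup'.of_surjective f.rangeRestrict f.rangeRestrict_surjective
      obtain ⟨n, hn⟩ := IsPGroup.iff_card.1 h1
      have h2 : Nat.card f.range ∣ 168 := (Subgroup.card_subgroup_dvd_card f.range).trans hidx
      rw [hn] at h2 ⊢
      rcases Nat.lt_or_ge n 2 with h | h
      · interval_cases n
        · left; simp
        · right; simp
      · exact absurd ((pow_dvd_pow p h).trans h2) (not_sq_dvd hp hp2)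
    have hcyc : IsCyclic ↥f.range := by
      rcases hcard with h | h
      · have : Subsingleton ↥f.range := (Nat.card_eq_one_iff_unique.1 h).1
        exact isCyclic_of_subsingleton
      · exact isCyclic_of_prime_card h
    intro a b
    refine commutative_of_cyclic_center_quotient f.rangeRestrict ?_ a b
    intro x hx
    rw [MonoidHom.ker_rangeRestrict, MonoidHom.mem_ker] at hx
    have h1 : (x : Γ) ∈ C := (QuotientGroup.eq_one_iff (x : Γ)).1 hx
    rw [mem_center_iff]
    intro y
    exact Subtype.ext (mem_center_iff.1 (hC h1) y)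
  let _ : CommGroup ↥(P : Subgroup Γ) := { (inferInstance : Group ↥(P : Subgroup Γ)) with mul_comm := hcomm }
  let φ : ↥(P : Subgroup Γ) →* ↥(P : Subgroup Γ) := MonoidHom.id _
  have hPodd : Odd (Nat.card ↥(P : Subgroup Γ)) := by
    obtain ⟨n, hn⟩ := IsPGroup.iff_card.1 P.isPGroup'
    rw [hn]
    exact (hp.odd_of_ne_two hp2).pow
  have h1 := MonoidHom.transfer_eq_pow φ z (fun k g₀ _ => by
    have : Commute g₀ z := hzc g₀
    have h2 : Commute g₀ (z ^ k) := this.pow_right k
    rw [mul_assoc, ← h2.eq, inv_mul_cancel_left])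
  rw [hom_trivial hPodd (MonoidHom.transfer φ) hgen z] at h1
  have h2 : z ^ (P : Subgroup Γ).index = 1 := (congrArg (fun x : ↥(P : Subgroup Γ) => (x : Γ)) h1).symm
  have h3 := orderOf_dvd_of_pow_eq_one h2
  rw [hzp] at h3
  exact P.not_dvd_index h3

/-- the same modulo a normal subgroup -/
theorem le_of_central {Γ : Type*} [Group Γ] [Finite Γ] (T C : Subgroup Γ) [hT : T.Normal] (hTC : T ≤ C)
    (hcen : ∀ c ∈ C, ∀ g, c * g * c⁻¹ * g⁻¹ ∈ T) (hodd : Odd (T.relIndex C))
    (hgen : closure (two Γ) = ⊤) (hidx : C.index ∣ 168) : C ≤ T := by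
  have hCn : ∀ c ∈ C, ∀ g, (g * c)⁻¹ * (c * g) ∈ T := by
    intro c hc g
    have h1 := hT.conj_mem _ (hcen c hc g) (g * c)⁻¹
    have e : (g * c)⁻¹ * (c * g * c⁻¹ * g⁻¹) * (g * c)⁻¹⁻¹ = (g * c)⁻¹ * (c * g) := by group
    rwa [e] at h1
  have key : C.map (QuotientGroup.mk' T) = ⊥ := by
    apply central_odd
    · rintro _ ⟨c, hc, rfl⟩
      rw [mem_center_iff]
      intro g
      obtain ⟨g, rfl⟩ := QuotientGroup.mk'_surjective T g
      rw [← map_mul, ← map_mul]
      exact QuotientGroup.eq.2 (hCn c hc g)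
    · have h1 := Subgroup.relIndex_ker (K := C) (QuotientGroup.mk' T)
      rw [QuotientGroup.ker_mk'] at h1
      rw [← h1]; exact hodd
    · rw [eq_top_iff]
      intro x _
      obtain ⟨x, rfl⟩ := QuotientGroup.mk'_surjective T x
      have h1 : x ∈ closure (two Γ) := by rw [hgen]; exact mem_top x
      have h2 : (QuotientGroup.mk' T) x ∈ (closure (two Γ)).map (QuotientGroup.mk' T) := ⟨x, h1, rfl⟩
      rw [MonoidHom.map_closure] at h2
      refine closure_mono ?_ h2
      rintro _ ⟨y, ⟨n, hn⟩, rfl⟩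
      exact ⟨n, by rw [← map_pow, hn, map_one]⟩
    · rw [Subgroup.index_map_eq _ (QuotientGroup.mk'_surjective T) (by rw [QuotientGroup.ker_mk']; exact hTC)]
      exact hidx
  rw [Subgroup.map_eq_bot_iff, QuotientGroup.ker_mk'] at key
  exact key

end Cfsg.Agent.Omega.HTwo.OddCen
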