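import Cfsg.Agent.Omega.HTwo.EightMain

/-!
# II.0h1, `q = 2`, (7) of #15507: the subgroup `R* = ⟨r, s, e⟩ = 2³` of the residue `(0, 1)`, the elements

`r, s ∈ Δ` a line, `l ∈ L_r` with `z^l = t_r`, `e = s^l`.

* `cen_z` : `C(r) ∩ C(s) ≤ C(z)`;
* `cm_e` : `[v, e] = r^{f(s, v)}` for `v ∈ U ∩ Q_r`;
* `conj_w` : `e^w ∈ e s ⟨r⟩` for `w ∈ U ∖ Q_r`;
* `e_Qs` : `e ∈ Q_s`.
-/

set_option autoImplicit false
set_option linter.unusedSectionVars false

namespace Cfsg.Agent.Omega.HTwo.Seven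

open Subgroup Cfsg.Agent.Omega.BTwo Cfsg.Agent.Omega.HTwo.Eight

variable {G : Type*} [Group G] {z : G} {M U : Subgroup G} {Δ : Set G} {f : G → G → ZMod 2} {t : G → G}

theorem ne_one_iff {a : ZMod 2} : a ≠ 0 ↔ a = 1 := by
  revert a; decide

theorem cm_conj (g x y : G) : cm (g * x * g⁻¹) (g * y * g⁻¹) = cm x y := by
  have h : (g * x * g⁻¹) * (g * y * g⁻¹) = (g * y * g⁻¹) * (g * x * g⁻¹) ↔ x * y = y * x := by
    constructor
    · intro h
      calc x * y = g⁻¹ * ((g * x * g⁻¹) * (g * y * g⁻¹)) * g := by group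
        _ = g⁻¹ * ((g * y * g⁻¹) * (g * x * g⁻¹)) * g := by rw [h]
        _ = y * x := by group
    · intro h
      calc (g * x * g⁻¹) * (g * y * g⁻¹) = g * (x * y) * g⁻¹ := by group
        _ = g * (y * x) * g⁻¹ := by rw [h]
        _ = _ := by group
  by_cases h1 : x * y = y * x
  · rw [cm_of h1, cm_of (h.2 h1)]
  · rw [cm, cm, if_neg h1, if_neg (fun h2 => h1 (h.1 h2))]

/-- the data of the residue `(0, 1)` -/
structure ED (z : G) (M U : Subgroup G) (Δ : Set G) (f : G → G → ZMod 2) (t : G → G) (r s l : G) : Prop where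
  A : Res z M U Δ f t
  h3 : Three z Δ t
  O : Out z M U Δ f t r
  r_Δ : r ∈ Δ
  s_Δ : s ∈ Δ
  ne : s ≠ r
  rs : f r s = 0
  l_L : l ∈ Lp U r
  lz : l * z * l⁻¹ = t r

namespace ED

variable {r s l : G} (E : ED z M U Δ f t r s l)

include E

theorem rU : r ∈ U := E.A.Δ_U r E.r_Δ
theorem sU : s ∈ U := E.A.Δ_U s E.s_Δ
theorem sr : f s r = 0 := by rw [E.A.f_symm s E.sU r E.rU, E.rs]
theorem rQ : r ∈ Qp r := (E.A.Q_f r E.r_Δ r E.rU).2 (E.A.f_self r E.rU)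
theorem sQ : s ∈ Qp r := (E.A.Q_f r E.r_Δ s E.sU).2 E.rs
theorem rr : r * r = 1 := E.A.U_sq r E.rU
theorem ss : s * s = 1 := E.A.U_sq s E.sU
theorem r_ne : r ≠ 1 := E.A.p_ne_one E.r_Δ
theorem s_ne : s ≠ 1 := E.A.p_ne_one E.s_Δ
theorem lC : l ∈ Cp r := E.A.L_le E.r_Δ E.l_L

theorem s_N : s ∉ Np z r := fun h => by
  rcases E.O.N_U s h E.sU with h1 | h1 | h1 | h1
  · exact E.s_ne h1
  · exact E.ne h1
  · exact E.A.p_ne_z E.s_Δ h1
  · exact E.A.inj r E.r_Δ (h1 ▸ E.s_Δ)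

/-- `C(r) ∩ C(s) ≤ C(z)` -/
theorem cen_z {h : G} (hh : h ∈ Cp r) (hs : h * s = s * h) : h * z = z * h := by
  by_contra hz
  have hz' : h * z * h⁻¹ ≠ z := fun h1 => hz (mul_inv_eq_iff_eq_mul.1 h1)
  have h1 : s ∈ cj h U := by
    have h2 := conj_mem_cj (g := h) E.sU
    rwa [hs, mul_inv_cancel_right] at h2
  exact E.s_N (E.O.Q_inf h hh hz' s ⟨E.sU, E.sQ⟩ s ⟨h1, E.sQ⟩ (by rw [E.ss]; exact one_mem _)).1

/-! ### the form -/

theorem cm_one {x : G} : cm x 1 = 0 := cm_of (by rw [mul_one, one_mul])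

theorem cm_r {x : G} (hx : x ∈ Qp r) : cm x r = 0 := cm_of (E.A.r_comm E.r_Δ hx).symm

theorem cm_N {x n : G} (hx : x ∈ Qp r) (hn : n ∈ Np z r) : cm x n = 0 :=
  cm_of (Z_comm (E.A.N_Z r E.r_Δ hn) hx).symm

theorem pw_Q {g : G} (hg : g ∈ Qp r) (c : ZMod 2) : pw g c ∈ Qp r := pw_mem hg c

theorem cm_pw {x g : G} (c : ZMod 2) : cm x (pw g c) = c * cm x g := by
  rcases zz2 c with h | h
  · rw [h, pw_zero, E.cm_one, zero_mul]
  · rw [h, pw_one, one_mul]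
where zz2 (a : ZMod 2) : a = 0 ∨ a = 1 := by revert a; decide

theorem cm_right_r {x y : G} (hx : x ∈ Qp r) (hy : y ∈ Qp r) (c : ZMod 2) : cm x (y * pw r c) = cm x y := by
  rw [E.A.cm_mul_right E.r_Δ hx hy (pw_mem E.rQ c), E.cm_pw, E.cm_r hx, mul_zero, add_zero]

theorem cm_left_r {x y : G} (hx : x ∈ Qp r) (hy : y ∈ Qp r) (c : ZMod 2) : cm (x * pw r c) y = cm x y := by
  rw [E.A.cm_symm E.r_Δ, E.cm_right_r hy hx, E.A.cm_symm E.r_Δ]

theorem cm_conjQ {x y q : G} (hx : x ∈ Qp r) (hy : y ∈ Qp r) (hq : q ∈ Qp r) : cm x (q * y * q⁻¹) = cm x y := by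
  rw [E.A.cm_mul_right E.r_Δ hx (mul_mem hq hy) (inv_mem hq), E.A.cm_mul_right E.r_Δ hx hq hy]
  have h : cm x (q * q⁻¹) = 0 := by rw [mul_inv_cancel]; exact E.cm_one
  rw [E.A.cm_mul_right E.r_Δ hx hq (inv_mem hq)] at h
  have h2 : cm x q + cm x y + cm x q⁻¹ = (cm x q + cm x q⁻¹) + cm x y := by ring
  rw [h2, h, zero_add]

theorem conj_pw_r {g : G} (hg : g ∈ Cp r) (c : ZMod 2) : g * pw r c * g⁻¹ = pw r c := by
  rw [conj_pw, mem_Cp.1 hg, mul_inv_cancel_right]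

/-- conjugation by `Q_r` -/
theorem conjQ {q x : G} (hq : q ∈ Qp r) (hx : x ∈ Qp r) : q * x * q⁻¹ = x * pw r (cm q x) := by
  have h1 := E.A.cm_eq E.r_Δ hq hx
  rw [h1]
  have h2 := E.A.pw_r_comm E.r_Δ hx (cm q x)
  calc pw r (cm q x) * (x * q) * q⁻¹ = pw r (cm q x) * x := by group
    _ = x * pw r (cm q x) := h2

/-! ### `L ∩ C(z)` -/

/-- `C(r) ∩ C(z) = K_r U` -/
theorem mem_KU {g : G} (hg : g ∈ Cp r) (hgz : g * z = z * g) : ∃ k ∈ Kp z r, ∃ u ∈ U, g = k * u := by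
  have h1 : g ∈ Kp z r ⊔ U := by
    rw [← E.O.C_rz]
    exact ⟨hg, mem_Cp.2 hgz⟩
  have h2 : U ≤ normalizer (Kp z r : Set G) := by
    intro u hu
    rw [mem_normalizer_iff]
    refine fun k => ⟨fun hk => E.A.K_normal (E.A.U_cen E.r_Δ hu) hk, fun hk => ?_⟩
    have h3 := E.A.K_normal (inv_mem (E.A.U_cen E.r_Δ hu)) hk
    have e : u⁻¹ * (u * k * u⁻¹) * u⁻¹⁻¹ = k := by group
    rwa [e] at h3
  rw [← SetLike.mem_coe, coe_mul_of_right_le_normalizer_left _ _ h2] at h1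
  obtain ⟨k, hk, u, hu, rfl⟩ := h1
  exact ⟨k, hk, u, hu, rfl⟩

/-- `L ∩ C(z) = Q_r U` -/
theorem mem_QU {g : G} (hg : g ∈ Lp U r) (hgz : g * z = z * g) : ∃ q ∈ Qp r, ∃ u ∈ U, g = q * u := by
  obtain ⟨k, hk, u, hu, rfl⟩ := E.mem_KU (E.A.L_le E.r_Δ hg) hgz
  refine ⟨k, ?_, u, hu, rfl⟩
  rw [← E.O.L_K]
  refine mem_inf.2 ⟨?_, hk⟩
  have h1 := mul_mem hg (inv_mem (E.A.U_le_L (r := r) hu))
  rwa [mul_inv_cancel_right] at h1

/-- `g v g⁻¹` modulo `r` depends only on `g z g⁻¹`, `g ∈ L`, `v ∈ U ∩ Q_r` -/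
theorem rho_eq {g g' v : G} (hg : g ∈ Lp U r) (hg' : g' ∈ Lp U r) (e : g * z * g⁻¹ = g' * z * g'⁻¹) (hv : v ∈ U)
    (hvQ : v ∈ Qp r) : ∃ c : ZMod 2, g * v * g⁻¹ = g' * v * g'⁻¹ * pw r c := by
  have h1 : g'⁻¹ * g * z = z * (g'⁻¹ * g) := by
    calc g'⁻¹ * g * z = g'⁻¹ * (g * z * g⁻¹) * g := by group
      _ = g'⁻¹ * (g' * z * g'⁻¹) * g := by rw [e]
      _ = z * (g'⁻¹ * g) := by group
  obtain ⟨q, hq, u, hu, h2⟩ := E.mem_QU (mul_mem (inv_mem hg') hg) h1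
  have h3 : g'⁻¹ * g * v * (g'⁻¹ * g)⁻¹ = v * pw r (cm q v) := by
    rw [h2]
    calc q * u * v * (q * u)⁻¹ = q * (u * v * u⁻¹) * q⁻¹ := by group
      _ = q * v * q⁻¹ := by rw [E.A.U_comm u hu v hv, mul_inv_cancel_right]
      _ = v * pw r (cm q v) := E.conjQ hq hvQ
  refine ⟨cm q v, ?_⟩
  have h4 := E.conj_pw_r (E.A.L_le E.r_Δ hg') (cm q v)
  calc g * v * g⁻¹ = g' * (g'⁻¹ * g * v * (g'⁻¹ * g)⁻¹) * g'⁻¹ := by group
    _ = g' * (v * pw r (cm q v)) * g'⁻¹ := by rw [h3]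
    _ = g' * v * g'⁻¹ * (g' * pw r (cm q v) * g'⁻¹) := by group
    _ = _ := by rw [h4]

theorem conj_Q {g x : G} (hg : g ∈ Cp r) (hx : x ∈ Qp r) : g * x * g⁻¹ ∈ Qp r := by
  have _ := E
  exact Q_normal hg hx

theorem eQ : l * s * l⁻¹ ∈ Qp r := Q_normal E.lC E.sQ

theorem ee : l * s * l⁻¹ * (l * s * l⁻¹) = 1 := by
  calc l * s * l⁻¹ * (l * s * l⁻¹) = l * (s * s) * l⁻¹ := by group
    _ = 1 := by rw [E.ss]; group

theorem e_inv : (l * s * l⁻¹)⁻¹ = l * s * l⁻¹ := inv_eq_of_mul_eq_one_left E.ee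

theorem z_ne_t : z ≠ t r := E.A.z_ne_t E.r_Δ

/-- an element of `U^l ∩ Q_r` which is in `U N_r` is in `N_r` -/
theorem e_N : l * s * l⁻¹ ∉ Np z r := fun h => by
  have h1 := N_normal (inv_mem E.lC) h
  have e : l⁻¹ * (l * s * l⁻¹) * l⁻¹⁻¹ = s := by group
  rw [e] at h1
  exact E.s_N h1

theorem e_not {u : G} (hu : u ∈ U) (huQ : u ∈ Qp r) : u * (l * s * l⁻¹) ∉ Np z r := fun h => by
  have h1 : l * z * l⁻¹ ≠ z := by rw [E.lz]; exact fun h2 => E.z_ne_t h2.symm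
  exact E.e_N (E.O.Q_inf l E.lC h1 u ⟨hu, huQ⟩ _ ⟨conj_mem_cj E.sU, E.eQ⟩ h).2

/-- `r^⊥ ≰ s^⊥` -/
theorem exists_v : ∃ v ∈ U, v ∈ Qp r ∧ f s v = 1 := by
  by_contra hcon
  push Not at hcon
  have h0 : ∀ v ∈ U, f r v = 0 → f s v = 0 := fun v hv h => by
    by_contra h1
    exact hcon v hv ((E.A.Q_f r E.r_Δ v hv).2 h) (ne_one_iff.1 h1)
  obtain ⟨w, hw, hw1⟩ := E.A.exists_f1 E.r_Δ
  have hrs : r * s ∈ U := mul_mem E.rU E.sU
  have key : ∀ u ∈ U, f s u = f r u * f s w := by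
    intro u hu
    rcases z2 (f r u) with h | h
    · rw [h, h0 u hu h, zero_mul]
    · have h1 := h0 (u * w) (mul_mem hu hw) (by rw [E.A.f_add' E.rU hu hw, h, hw1]; decide)
      rw [E.A.f_add' E.sU hu hw] at h1
      rw [h, one_mul]
      have h2 : ∀ a b : ZMod 2, a + b = 0 → a = b := by decide
      exact h2 _ _ h1
  rcases z2 (f s w) with h | h
  · have h1 := E.A.f_rad s E.sU fun u hu => by rw [key u hu, h, mul_zero]
    exact absurd h1 (not_or.2 ⟨E.s_ne, E.A.p_ne_z E.s_Δ⟩)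
  · have h1 := E.A.f_rad _ hrs fun u hu => by
      rw [E.A.f_add r E.rU s E.sU u hu, key u hu, h, mul_one]
      exact ZZ _
    rcases h1 with h1 | h1
    · apply E.ne
      rw [← E.A.inv_eq E.sU]
      exact (mul_eq_one_iff_eq_inv.1 h1).symm
    · refine E.A.inj r E.r_Δ ?_
      have : r * z = s := by rw [← h1, ← mul_assoc, E.rr, one_mul]
      rw [this]
      exact E.s_Δ
where ZZ (a : ZMod 2) : a + a = 0 := by revert a; decide

/-- the pairing identity -/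
theorem pairing {v v₁ : G} (hv : v ∈ U) (hvQ : v ∈ Qp r) (hv₁ : v₁ ∈ U) (hv₁Q : v₁ ∈ Qp r) :
    f s v₁ * cm v (l * s * l⁻¹) + f s v * cm s (l * v₁ * l⁻¹) + f s v * f s v₁ * cm s (l * s * l⁻¹) = 0 := by
  have A := E.A
  have hk := A.t_K E.h3 E.r_Δ E.s_Δ E.rs
  obtain ⟨k, hkd⟩ : ∃ k, k = t s := ⟨_, rfl⟩
  have hkC := A.CN_le E.r_Δ hk
  obtain ⟨e, hed⟩ : ∃ e, e = l * s * l⁻¹ := ⟨_, rfl⟩
  obtain ⟨x, hxd⟩ : ∃ x, x = l * v₁ * l⁻¹ := ⟨_, rfl⟩
  have heQ : e ∈ Qp r := by rw [hed]; exact E.eQ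
  have hxQ : x ∈ Qp r := by rw [hxd]; exact Q_normal E.lC hv₁Q
  have hzQ : z ∈ Qp r := A.N_le_Q E.r_Δ (z_N z r)
  have htQ : t r ∈ Qp r := A.N_le_Q E.r_Δ (A.t_N E.r_Δ)
  rw [← hkd] at hk hkC
  have hq := A.KL E.r_Δ hk E.l_L
  obtain ⟨q, hqd⟩ : ∃ q, q = k * l * k⁻¹ * l⁻¹ := ⟨_, rfl⟩
  rw [← hqd] at hq
  -- the conjugates under `k`
  have hact : ∀ u ∈ U, k * u * k⁻¹ = u * pw (s * z) (f s u) := fun u hu => by
    rw [hkd]; exact A.t_act E.s_Δ hu
  have hkv := hact v hv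
  have hkx : k * x * k⁻¹ = q * (x * pw (e * t r) (f s v₁)) * q⁻¹ := by
    have h1 : l * (v₁ * pw (s * z) (f s v₁)) * l⁻¹ = x * pw (e * t r) (f s v₁) := by
      rw [hxd, hed]
      have e1 : l * (v₁ * pw (s * z) (f s v₁)) * l⁻¹ = l * v₁ * l⁻¹ * (l * pw (s * z) (f s v₁) * l⁻¹) := by group
      rw [e1, conj_pw]
      have e2 : l * (s * z) * l⁻¹ = l * s * l⁻¹ * (l * z * l⁻¹) := by group
      rw [e2, E.lz]
    rw [← h1, ← hact v₁ hv₁, hqd, hxd]
    group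
  have h1 := cm_conj k v x
  have hsz : s * z ∈ Qp r := mul_mem E.sQ hzQ
  have het : e * t r ∈ Qp r := mul_mem heQ htQ
  rw [hkv, hkx, E.cm_conjQ (mul_mem hvQ (pw_mem hsz _)) (mul_mem hxQ (pw_mem het _)) hq,
    A.cm_mul_right E.r_Δ (mul_mem hvQ (pw_mem hsz _)) hxQ (pw_mem het _),
    A.cm_mul_left E.r_Δ hvQ (pw_mem hsz _) hxQ, A.cm_mul_left E.r_Δ hvQ (pw_mem hsz _) (pw_mem het _)] at h1
  have p1 : cm v (pw (e * t r) (f s v₁)) = f s v₁ * cm v e := by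
    rw [E.cm_pw, A.cm_mul_right E.r_Δ hvQ heQ htQ, E.cm_N hvQ (A.t_N E.r_Δ), add_zero]
  have p2 : ∀ y ∈ Qp r, cm (pw (s * z) (f s v)) y = f s v * cm s y := by
    intro y hy
    rw [A.cm_symm E.r_Δ, E.cm_pw, A.cm_mul_right E.r_Δ hy E.sQ hzQ, E.cm_N hy (z_N z r), add_zero,
      A.cm_symm E.r_Δ]
  have p3 : cm s (pw (e * t r) (f s v₁)) = f s v₁ * cm s e := by
    rw [E.cm_pw, A.cm_mul_right E.r_Δ E.sQ heQ htQ, E.cm_N E.sQ (A.t_N E.r_Δ), add_zero]
  rw [p1, p2 _ hxQ, p2 _ (pw_mem het _), p3] at h1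
  rw [← hed, ← hxd]
  linear_combination h1

/-- **`[v, e] = r^{f(s, v)}`** for `v ∈ U ∩ Q_r` -/
theorem cm_e {v : G} (hv : v ∈ U) (hvQ : v ∈ Qp r) : cm v (l * s * l⁻¹) = f s v := by
  obtain ⟨v₁, hv₁, hv₁Q, h1⟩ := E.exists_v
  have h0 : ∀ v ∈ U, v ∈ Qp r → f s v = 0 → cm v (l * s * l⁻¹) = 0 := by
    intro v hv hvQ h
    have := E.pairing hv hvQ hv₁ hv₁Q
    rw [h, h1] at this
    simpa using this
  rcases z2 (f s v) with h | h
  · rw [h, h0 v hv hvQ h]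
  · rw [h]
    by_contra hcon
    have hcon' : cm v (l * s * l⁻¹) = 0 := (z2 _).resolve_right hcon
    have hall : ∀ u ∈ cj 1 U ⊓ Qp r, (l * s * l⁻¹) * u = u * (l * s * l⁻¹) := by
      intro u hu
      rw [cj_one] at hu
      symm
      apply cm_zero
      rcases z2 (f s u) with h2 | h2
      · exact h0 u hu.1 hu.2 h2
      · have h4 := h0 (u * v) (mul_mem hu.1 hv) (mul_mem hu.2 hvQ) (by
          rw [E.A.f_add' E.sU hu.1 hv, h2, h]; decide)
        rwa [E.A.cm_mul_left E.r_Δ hu.2 hvQ E.eQ, hcon', add_zero] at h4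
    obtain ⟨u, hu, n, hn, e⟩ := E.O.Q_self 1 (one_mem _) _ E.eQ hall
    rw [cj_one] at hu
    apply E.e_not hu.1 hu.2
    rw [e, ← mul_assoc, E.A.U_sq u hu.1, one_mul]
    exact hn

theorem cm_se : cm s (l * s * l⁻¹) = 0 := by rw [E.cm_e E.sU E.sQ, E.A.f_self s E.sU]

theorem s_e : s * (l * s * l⁻¹) = l * s * l⁻¹ * s := cm_zero E.cm_se

theorem r_e : r * (l * s * l⁻¹) = l * s * l⁻¹ * r := E.A.r_comm E.r_Δ E.eQ


/-! ### the conjugate of `e` under `U ∖ Q_r` -/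

theorem exists_zt : ∃ h ∈ Lp U r, h * z * h⁻¹ = t r ∧ h * t r * h⁻¹ = z := by
  obtain ⟨u, h0, a, c⟩ := E.A.exists_UA E.h3 E.r_Δ
  exact ⟨wrd u a 5, E.A.wrd_L E.r_Δ c 5, E.A.wrd_z c 5, E.A.wrd_t c 5⟩

theorem exists_zty : ∃ h ∈ Lp U r, h * z * h⁻¹ = t r ∧ h * t r * h⁻¹ = r * z * t r := by
  obtain ⟨u, h0, a, c⟩ := E.A.exists_UA E.h3 E.r_Δ
  exact ⟨wrd u a 3, E.A.wrd_L E.r_Δ c 3, E.A.wrd_z c 3, E.A.wrd_t c 3⟩

/-- the element `a ∈ L`, `z ↔ y`, `t` fixed -/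
theorem exists_zy : ∃ h ∈ Lp U r, h * z * h⁻¹ = r * z * t r ∧ h * t r * h⁻¹ = t r ∧
    h * (r * z * t r) * h⁻¹ = z := by
  obtain ⟨u, h0, a, c⟩ := E.A.exists_UA E.h3 E.r_Δ
  exact ⟨wrd u a 2, E.A.wrd_L E.r_Δ c 2, E.A.wrd_z c 2, E.A.wrd_t c 2, E.A.ay c⟩

theorem cm_ls {v : G} (hv : v ∈ U) (hvQ : v ∈ Qp r) : cm (l * v * l⁻¹) s = f s v := by
  obtain ⟨h, hL, h1, h2⟩ := E.exists_zt
  have hhC := E.A.L_le E.r_Δ hL
  -- `h v h⁻¹ ∼ l v l⁻¹`, `h e h⁻¹ ∼ s`
  obtain ⟨c, hc⟩ := E.rho_eq hL E.l_L (h1.trans E.lz.symm) hv hvQ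
  have e1 : h * l * z * (h * l)⁻¹ = 1 * z * 1⁻¹ := by
    calc h * l * z * (h * l)⁻¹ = h * (l * z * l⁻¹) * h⁻¹ := by group
      _ = z := by rw [E.lz, h2]
      _ = 1 * z * 1⁻¹ := by group
  obtain ⟨c', hc'⟩ := E.rho_eq (mul_mem hL E.l_L) (one_mem _) e1 E.sU E.sQ
  have e2 : h * l * s * (h * l)⁻¹ = h * (l * s * l⁻¹) * h⁻¹ := by group
  have e3 : (1 : G) * s * 1⁻¹ = s := by group
  rw [e2, e3] at hc'
  have h3 := cm_conj h v (l * s * l⁻¹)
  rw [hc, hc', E.cm_left_r (Q_normal E.lC hvQ) (mul_mem E.sQ (pw_mem E.rQ _)), E.cm_right_r (Q_normal E.lC hvQ) E.sQ,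
    E.cm_e hv hvQ] at h3
  exact h3

/-- `w ∈ U ∖ Q_r` interchanges `t_r` and `r z t_r` -/
theorem w_t {w : G} (hw : w ∈ U) (hw1 : f r w = 1) : w * t r * w⁻¹ = r * z * t r := by
  rw [E.A.u_act E.r_Δ hw, hw1, pw_one]
  exact E.A.N_comm E.r_Δ (E.A.t_N E.r_Δ) (mul_mem (E.A.p_N E.r_Δ) (z_N z r))

theorem w_y {w : G} (hw : w ∈ U) (hw1 : f r w = 1) : w * (r * z * t r) * w⁻¹ = t r := by
  rw [← E.w_t hw hw1]
  calc w * (w * t r * w⁻¹) * w⁻¹ = (w * w) * t r * (w * w)⁻¹ := by group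
    _ = t r := by rw [E.A.U_sq w hw]; group

theorem cm_ld {v w : G} (hv : v ∈ U) (hvQ : v ∈ Qp r) (hw : w ∈ U) (hw1 : f r w = 1) :
    cm (l * v * l⁻¹) (w * (l * s * l⁻¹) * w⁻¹) = f s v := by
  obtain ⟨h, hL, h1, h2⟩ := E.exists_zty
  have hwL := E.A.U_le_L (r := r) hw
  obtain ⟨c, hc⟩ := E.rho_eq hL E.l_L (h1.trans E.lz.symm) hv hvQ
  have e1 : h * l * z * (h * l)⁻¹ = w * l * z * (w * l)⁻¹ := by
    calc h * l * z * (h * l)⁻¹ = h * (l * z * l⁻¹) * h⁻¹ := by group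
      _ = w * t r * w⁻¹ := by rw [E.lz, h2, E.w_t hw hw1]
      _ = w * (l * z * l⁻¹) * w⁻¹ := by rw [E.lz]
      _ = w * l * z * (w * l)⁻¹ := by group
  obtain ⟨c', hc'⟩ := E.rho_eq (mul_mem hL E.l_L) (mul_mem hwL E.l_L) e1 E.sU E.sQ
  have e2 : h * l * s * (h * l)⁻¹ = h * (l * s * l⁻¹) * h⁻¹ := by group
  have e3 : w * l * s * (w * l)⁻¹ = w * (l * s * l⁻¹) * w⁻¹ := by group
  rw [e2, e3] at hc'
  have hdQ : w * (l * s * l⁻¹) * w⁻¹ ∈ Qp r := Q_normal (E.A.U_cen E.r_Δ hw) E.eQ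
  have h3 := cm_conj h v (l * s * l⁻¹)
  rw [hc, hc', E.cm_left_r (Q_normal E.lC hvQ) (mul_mem hdQ (pw_mem E.rQ _)), E.cm_right_r (Q_normal E.lC hvQ) hdQ,
    E.cm_e hv hvQ] at h3
  exact h3

/-- **`e^w ∈ e s ⟨r⟩`** for `w ∈ U ∖ Q_r` -/
theorem conj_w {w : G} (hw : w ∈ U) (hw1 : f r w = 1) :
    ∃ c : ZMod 2, w * (l * s * l⁻¹) * w⁻¹ = l * s * l⁻¹ * s * pw r c := by
  have A := E.A
  have hwC := A.U_cen E.r_Δ hw
  obtain ⟨e, hed⟩ : ∃ e, e = l * s * l⁻¹ := ⟨_, rfl⟩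
  obtain ⟨d, hdd⟩ : ∃ d, d = w * e * w⁻¹ := ⟨_, rfl⟩
  have heQ : e ∈ Qp r := by rw [hed]; exact E.eQ
  have hdQ : d ∈ Qp r := by rw [hdd]; exact Q_normal hwC heQ
  have hww : w * w = 1 := A.U_sq w hw
  have hwi : w⁻¹ = w := A.inv_eq hw
  have hee : e * e = 1 := by rw [hed]; exact E.ee
  have hdd' : d * d = 1 := by
    rw [hdd]
    calc w * e * w⁻¹ * (w * e * w⁻¹) = w * (e * e) * w⁻¹ := by group
      _ = 1 := by rw [hee]; group
  have hwd : w * d * w⁻¹ = e := by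
    rw [hdd]
    calc w * (w * e * w⁻¹) * w⁻¹ = (w * w) * e * (w * w)⁻¹ := by group
      _ = e := by rw [hww]; group
  have hws : w * s * w⁻¹ = s := by rw [A.U_comm w hw s E.sU, mul_inv_cancel_right]
  -- the form
  have ced : cm e d = 0 := by
    have := E.cm_ld E.sU E.sQ hw hw1
    rw [A.f_self s E.sU] at this
    rw [hdd, hed]; exact this
  have cse : cm s e = 0 := by rw [hed]; exact E.cm_se
  have csd : cm s d = 0 := by
    have h1 := cm_conj w s e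
    rw [hws, ← hdd, cse] at h1
    exact h1
  have hse : s * e = e * s := cm_zero cse
  have hsd : s * d = d * s := cm_zero csd
  have hed' : e * d = d * e := cm_zero ced
  -- `g = d e s` is central in `Q_r`
  obtain ⟨g, hgd⟩ : ∃ g, g = d * e * s := ⟨_, rfl⟩
  have hgQ : g ∈ Qp r := by rw [hgd]; exact mul_mem (mul_mem hdQ heQ) E.sQ
  have hl1 : l * z * l⁻¹ ≠ z := by rw [E.lz]; exact fun h2 => E.z_ne_t h2.symm
  have hcen : ∀ x ∈ Qp r, cm x g = 0 := by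
    intro x hx
    obtain ⟨u, hu, v', hv', n, hn, rfl⟩ := E.O.Q_gen l E.lC hl1 x hx
    have hnQ : n ∈ Qp r := A.N_le_Q E.r_Δ hn
    have key : ∀ y ∈ Qp r, cm y g = cm y d + cm y e + cm y s := by
      intro y hy
      rw [hgd, A.cm_mul_right E.r_Δ hy (mul_mem hdQ heQ) E.sQ, A.cm_mul_right E.r_Δ hy hdQ heQ]
    rw [A.cm_mul_left E.r_Δ (mul_mem hu.2 hv'.2) hnQ hgQ, A.cm_mul_left E.r_Δ hu.2 hv'.2 hgQ]
    have h1 : cm u g = 0 := by
      have c1 : cm u e = f s u := by rw [hed]; exact E.cm_e hu.1 hu.2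
      have c2 : cm u d = f s u := by
        have h2 := cm_conj w u e
        have h3 : w * u * w⁻¹ = u := by rw [A.U_comm w hw u hu.1, mul_inv_cancel_right]
        rw [h3, ← hdd, c1] at h2
        exact h2
      rw [key u hu.2, c1, c2, cm_of (A.U_comm u hu.1 s E.sU), add_zero]
      exact TT _
    have h2 : cm v' g = 0 := by
      have hv₀ := mem_cj.1 hv'.1
      have hv₀Q : l⁻¹ * v' * l ∈ Qp r := by
        have := Q_normal (inv_mem E.lC) hv'.2
        rwa [inv_inv] at this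
      have ev : v' = l * (l⁻¹ * v' * l) * l⁻¹ := by group
      have c1 : cm v' d = f s (l⁻¹ * v' * l) := by
        conv_lhs => rw [ev, hdd, hed]
        exact E.cm_ld hv₀ hv₀Q hw hw1
      have c2 : cm v' s = f s (l⁻¹ * v' * l) := by
        conv_lhs => rw [ev]
        exact E.cm_ls hv₀ hv₀Q
      have c3 : cm v' e = 0 := cm_of (A.cj_comm l hv'.1 (by rw [hed]; exact conj_mem_cj E.sU))
      rw [key v' hv'.2, c1, c2, c3, add_zero]
      exact TT _
    have h4 : cm n g = 0 := cm_of (Z_comm (A.N_Z r E.r_Δ hn) hgQ)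
    rw [h1, h2, h4, add_zero, add_zero]
  have hgN : g ∈ Np z r := by
    rw [← E.O.Z_N]
    refine mem_inf.2 ⟨hgQ, ?_⟩
    rw [mem_centralizer_iff]
    exact fun x hx => cm_zero (hcen x hx)
  -- `w` centralises `g`
  have hwg : w * g * w⁻¹ = g := by
    calc w * g * w⁻¹ = (w * d * w⁻¹) * (w * e * w⁻¹) * (w * s * w⁻¹) := by rw [hgd]; group
      _ = e * d * s := by rw [hwd, ← hdd, hws]
      _ = g := by rw [hed', hgd]
  -- `a`
  obtain ⟨a, haL, ha1, ha2, ha3⟩ := E.exists_zy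
  have haC := A.L_le E.r_Δ haL
  have hag : ∃ c : ZMod 2, a * g * a⁻¹ = g * pw r c := by
    -- `a e a⁻¹ ∼ e`, `a s a⁻¹ ∼ d`, `a d a⁻¹ ∼ s`
    have hwL := A.U_le_L (r := r) hw
    have q1 : a * l * z * (a * l)⁻¹ = l * z * l⁻¹ := by
      calc a * l * z * (a * l)⁻¹ = a * (l * z * l⁻¹) * a⁻¹ := by group
        _ = l * z * l⁻¹ := by rw [E.lz, ha2]
    have q2 : a * z * a⁻¹ = w * l * z * (w * l)⁻¹ := by
      rw [ha1, ← E.w_t hw hw1, ← E.lz]; group
    have q3 : a * (w * l) * z * (a * (w * l))⁻¹ = 1 * z * 1⁻¹ := by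
      calc a * (w * l) * z * (a * (w * l))⁻¹ = a * (w * (l * z * l⁻¹) * w⁻¹) * a⁻¹ := by group
        _ = z := by rw [E.lz, E.w_t hw hw1, ha3]
        _ = 1 * z * 1⁻¹ := by group
    obtain ⟨c1, hc1⟩ := E.rho_eq (mul_mem haL E.l_L) E.l_L q1 E.sU E.sQ
    obtain ⟨c2, hc2⟩ := E.rho_eq haL (mul_mem hwL E.l_L) q2 E.sU E.sQ
    obtain ⟨c3, hc3⟩ := E.rho_eq (mul_mem haL (mul_mem hwL E.l_L)) (one_mem _) q3 E.sU E.sQ
    have r1 : a * e * a⁻¹ = e * pw r c1 := by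
      rw [hed, ← hc1]; group
    have r2 : a * s * a⁻¹ = d * pw r c2 := by
      rw [hc2, hdd, hed]; group
    have r3 : a * d * a⁻¹ = s * pw r c3 := by
      have e3 : (1 : G) * s * 1⁻¹ = s := by group
      rw [e3] at hc3
      rw [← hc3, hdd, hed]; group
    have hrr := E.rr
    refine ⟨c3 + c1 + c2, ?_⟩
    have k1 := A.pw_r_comm E.r_Δ heQ c3
    have k2 := A.pw_r_comm E.r_Δ hdQ (c3 + c1)
    calc a * g * a⁻¹ = (a * d * a⁻¹) * (a * e * a⁻¹) * (a * s * a⁻¹) := by rw [hgd]; group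
      _ = s * pw r c3 * (e * pw r c1) * (d * pw r c2) := by rw [r1, r2, r3]
      _ = s * (pw r c3 * e) * pw r c1 * d * pw r c2 := by group
      _ = s * (e * pw r c3) * pw r c1 * d * pw r c2 := by rw [k1]
      _ = s * e * (pw r c3 * pw r c1) * d * pw r c2 := by group
      _ = s * e * (pw r (c3 + c1) * d) * pw r c2 := by rw [← pw_add hrr]; group
      _ = s * e * (d * pw r (c3 + c1)) * pw r c2 := by rw [k2]
      _ = s * e * d * (pw r (c3 + c1) * pw r c2) := by group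
      _ = s * e * d * pw r (c3 + c1 + c2) := by rw [← pw_add hrr]
      _ = g * pw r (c3 + c1 + c2) := by
          have : s * e * d = g := by
            rw [hgd, hse, mul_assoc, hsd, ← mul_assoc, hed']
          rw [this]
  -- `g ∈ ⟨r⟩`
  have hg : g = 1 ∨ g = r := by
    have hzt := A.N_comm E.r_Δ (z_N z r) (A.t_N E.r_Δ)
    have hrt := A.N_comm E.r_Δ (A.p_N E.r_Δ) (A.t_N E.r_Δ)
    have hrz := A.N_comm E.r_Δ (A.p_N E.r_Δ) (z_N z r)
    have hwr : w * r * w⁻¹ = r := by rw [A.U_comm w hw r E.rU, mul_inv_cancel_right]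
    have hwz : w * z * w⁻¹ = z := by rw [A.U_comm w hw z A.z_U, mul_inv_cancel_right]
    have hrz1 : r * z ≠ 1 := A.pz_ne_one E.r_Δ
    have hwt := E.w_t hw hw1
    -- no `t_r`
    have hnt : ∀ x : G, w * x * w⁻¹ = x → g ≠ x * t r := by
      intro x hx h
      have h1 := hwg
      rw [h] at h1
      have h2 : w * (x * t r) * w⁻¹ = (w * x * w⁻¹) * (w * t r * w⁻¹) := by group
      rw [h2, hx, hwt] at h1
      have h4 := mul_left_cancel h1
      have h5 : r * z * t r = 1 * t r := by rw [one_mul]; exact h4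
      exact hrz1 (mul_right_cancel h5)
    -- no `z`
    have hnz : ∀ x : G, a * x * a⁻¹ = x → (x = 1 ∨ x = r) → g ≠ x * z := by
      intro x hx hx1 h
      obtain ⟨c, hc⟩ := hag
      rw [h] at hc
      have h2 : a * (x * z) * a⁻¹ = (a * x * a⁻¹) * (a * z * a⁻¹) := by group
      rw [h2, hx, ha1] at hc
      have h4 : r * z * t r = z * pw r c := mul_left_cancel (by rw [hc, mul_assoc])
      rcases z2 c with h5 | h5
      · rw [h5, pw_zero, mul_one] at h4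
        exact A.z_ne_y E.r_Δ h4.symm
      · rw [h5, pw_one] at h4
        have h6 : t r = 1 := by
          have : r * z * t r = r * z * 1 := by rw [h4, mul_one, hrz]
          exact mul_left_cancel this
        apply A.t_mv E.r_Δ
        intro u _
        rw [h6, one_mul, mul_one]
    have har : a * r * a⁻¹ = r := by rw [mem_Cp.1 haC, mul_inv_cancel_right]
    rcases E.O.N_mem g hgN with (h | h | h | h) | (h | h | h | h)
    · exact Or.inl h
    · exact Or.inr h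
    · exact absurd (by rw [one_mul]; exact h) (hnz 1 (by group) (Or.inl rfl))
    · exact absurd h (hnz r har (Or.inr rfl))
    · exact absurd (by rw [one_mul]; exact h) (hnt 1 (by group))
    · exact absurd h (hnt r hwr)
    · exact absurd h (hnt z hwz)
    · refine absurd h (hnt (r * z) ?_)
      calc w * (r * z) * w⁻¹ = (w * r * w⁻¹) * (w * z * w⁻¹) := by group
        _ = r * z := by rw [hwr, hwz]
  -- the conclusion
  have fin : ∀ c : ZMod 2, g = pw r c → d = e * s * pw r c := by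
    intro c hc
    have h1 : d * (e * s) = pw r c := by rw [← hc, hgd]; group
    have h2 : e * s * (e * s) = 1 := by
      calc e * s * (e * s) = e * (s * e) * s := by group
        _ = e * (e * s) * s := by rw [hse]
        _ = (e * e) * (s * s) := by group
        _ = 1 := by rw [hee, E.ss, one_mul]
    have h3 : pw r c * (e * s) = e * s * pw r c := A.pw_r_comm E.r_Δ (mul_mem heQ E.sQ) c
    calc d = d * (e * s) * (e * s) := by rw [mul_assoc, h2, mul_one]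
      _ = e * s * pw r c := by rw [h1, h3]
  rw [← hed, ← hdd]
  rcases hg with h | h
  · exact ⟨0, fin 0 (by rw [h, pw_zero])⟩
  · exact ⟨1, fin 1 (by rw [h, pw_one])⟩
where TT (a : ZMod 2) : a + a = 0 := by revert a; decide

/-! ### `e ∈ Q_s` -/

theorem rs_Δ : r * s ∈ Δ := E.A.mul0 r E.r_Δ s E.s_Δ (Ne.symm E.ne) E.rs

theorem rs_comm : r * s = s * r := E.A.U_comm r E.rU s E.sU

theorem r_rs : f r (r * s) = 0 := by rw [E.A.f_add' E.rU E.rU E.sU, E.A.f_self r E.rU, E.rs, add_zero]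

theorem s_rs : f s (r * s) = 0 := by rw [E.A.f_add' E.sU E.rU E.sU, E.sr, E.A.f_self s E.sU, add_zero]

/-- the action of `D = t_r t_s t_{rs}` on `U` -/
theorem act_D {u : G} (hu : u ∈ U) : t r * t s * t (r * s) * u * (t r * t s * t (r * s))⁻¹ =
    u * (pw r (f s u) * pw s (f r u)) := by
  have A := E.A
  have hrs := E.rs_Δ
  have hzz := A.zz
  have hrr := E.rr
  have hss := E.ss
  have hrs' := E.rs_comm
  have hrz := A.U_comm r E.rU z A.z_U
  have hsz := A.U_comm s E.sU z A.z_U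
  have hrszU : r * s * z ∈ U := A.pz_U hrs
  have e1 : t (r * s) * u * (t (r * s))⁻¹ = u * pw (r * s * z) (f r u + f s u) := by
    rw [A.t_act hrs hu, A.f_add r E.rU s E.sU u hu]
  have hu1 : u * pw (r * s * z) (f r u + f s u) ∈ U := mul_mem hu (pw_mem hrszU _)
  have hx0 : ∀ x ∈ U, f x (r * s * z) = f x r + f x s := fun x hx => by
    rw [A.f_add' hx (mul_mem E.rU E.sU) A.z_U, A.f_z' hx, add_zero, A.f_add' hx E.rU E.sU]
  have hpw : ∀ x ∈ U, f x (r * s * z) = 0 → ∀ c : ZMod 2, f x (u * pw (r * s * z) c) = f x u := by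
    intro x hx h c
    rw [A.f_add' hx hu (pw_mem hrszU c)]
    rcases z2 c with h1 | h1
    · rw [h1, pw_zero, A.f_one hx, add_zero]
    · rw [h1, pw_one, h, add_zero]
  have e2 : t s * (u * pw (r * s * z) (f r u + f s u)) * (t s)⁻¹ =
      u * pw (r * s * z) (f r u + f s u) * pw (s * z) (f s u) := by
    rw [A.t_act E.s_Δ hu1, hpw s E.sU (by rw [hx0 s E.sU, E.sr, A.f_self s E.sU, add_zero])]
  have hu2 : u * pw (r * s * z) (f r u + f s u) * pw (s * z) (f s u) ∈ U := mul_mem hu1 (pw_mem (A.pz_U E.s_Δ) _)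
  have e3 : f r (u * pw (r * s * z) (f r u + f s u) * pw (s * z) (f s u)) = f r u := by
    rw [A.f_add' E.rU hu1 (pw_mem (A.pz_U E.s_Δ) _),
      hpw r E.rU (by rw [hx0 r E.rU, E.rs, A.f_self r E.rU, add_zero])]
    have : f r (pw (s * z) (f s u)) = 0 := by
      rcases z2 (f s u) with h1 | h1
      · rw [h1, pw_zero, A.f_one E.rU]
      · rw [h1, pw_one, A.f_add' E.rU E.sU A.z_U, E.rs, A.f_z' E.rU, add_zero]
    rw [this, add_zero]
  have e4 : t r * (u * pw (r * s * z) (f r u + f s u) * pw (s * z) (f s u)) * (t r)⁻¹ =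
      u * pw (r * s * z) (f r u + f s u) * pw (s * z) (f s u) * pw (r * z) (f r u) := by
    rw [A.t_act E.r_Δ hu2, e3]
  calc t r * t s * t (r * s) * u * (t r * t s * t (r * s))⁻¹
      = t r * (t s * (t (r * s) * u * (t (r * s))⁻¹) * (t s)⁻¹) * (t r)⁻¹ := by group
    _ = u * pw (r * s * z) (f r u + f s u) * pw (s * z) (f s u) * pw (r * z) (f r u) := by rw [e1, e2, e4]
    _ = u * (pw r (f s u) * pw s (f r u)) := by
      rcases z2 (f r u) with h | h <;> rcases z2 (f s u) with h' | h' <;> rw [h, h']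
      · rw [add_zero]; simp only [pw_zero, mul_one]
      · rw [zero_add]; simp only [pw_zero, pw_one, mul_one]
        have : r * s * z * (s * z) = r := by
          calc r * s * z * (s * z) = r * (s * z) * (s * z) := by group
            _ = r * s * (z * s) * z := by group
            _ = r * s * (s * z) * z := by rw [← hsz]
            _ = r * (s * s) * (z * z) := by group
            _ = r := by rw [hss, hzz, mul_one, mul_one]
        rw [mul_assoc u, this]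
      · rw [add_zero]; simp only [pw_zero, pw_one, mul_one, one_mul]
        have : r * s * z * (r * z) = s := by
          calc r * s * z * (r * z) = r * s * (z * r) * z := by group
            _ = r * s * (r * z) * z := by rw [← hrz]
            _ = s * r * (r * z) * z := by rw [hrs']
            _ = s * (r * r) * (z * z) := by group
            _ = s := by rw [hrr, hzz, mul_one, mul_one]
        rw [mul_assoc u, this]
      · have e0 : (1 : ZMod 2) + 1 = 0 := by decide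
        rw [e0]; simp only [pw_zero, pw_one, mul_one]
        have : s * z * (r * z) = r * s := by
          calc s * z * (r * z) = s * (z * r) * z := by group
            _ = s * (r * z) * z := by rw [← hrz]
            _ = s * r * (z * z) := by group
            _ = r * s := by rw [hzz, mul_one, hrs']
        rw [mul_assoc u, this]

theorem t_M' {p : G} (hp : p ∈ Δ) : t p ∈ M := E.A.t_M hp

theorem D_M : t r * t s * t (r * s) ∈ M :=
  mul_mem (mul_mem (E.A.t_M E.r_Δ) (E.A.t_M E.s_Δ)) (E.A.t_M E.rs_Δ)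

/-- the action of `e` on `U` -/
theorem act_e {u : G} (hu : u ∈ U) : l * s * l⁻¹ * u * (l * s * l⁻¹)⁻¹ = u * (pw r (f s u) * pw s (f r u)) := by
  have A := E.A
  obtain ⟨e, hed⟩ : ∃ e, e = l * s * l⁻¹ := ⟨_, rfl⟩
  have heQ : e ∈ Qp r := by rw [hed]; exact E.eQ
  have hee : e⁻¹ = e := by rw [hed]; exact E.e_inv
  have heM : e ∈ M := A.Q_M E.r_Δ heQ
  rw [← hed]
  -- `f r u = 0`
  have h0 : ∀ u ∈ U, f r u = 0 → e * u * e⁻¹ = u * (pw r (f s u) * pw s (f r u)) := by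
    intro u hu h
    have huQ : u ∈ Qp r := (A.Q_f r E.r_Δ u hu).2 h
    have h1 : cm e u = f s u := by rw [A.cm_symm E.r_Δ, hed]; exact E.cm_e hu huQ
    rw [h, pw_zero, mul_one, ← h1]
    exact E.conjQ heQ huQ
  -- `w ∈ Δ`, `f r w = 1`
  obtain ⟨w, hw, hw1⟩ := A.exists_q1 E.r_Δ
  have hwU := A.Δ_U w hw
  have hww : w⁻¹ = w := A.inv_eq hwU
  obtain ⟨c, hc⟩ := E.conj_w hwU hw1
  rw [← hed] at hc
  have hse : s * e = e * s := by rw [hed]; exact E.s_e
  -- `e w e⁻¹ = w s r^c`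
  have h1 : e * w * e⁻¹ = w * (pw r c * pw s 1) := by
    have h2 : w * e = e * s * pw r c * w := by rw [← hc]; group
    have h3 : pw r c * w = w * pw r c := A.U_comm _ (pw_mem E.rU c) w hwU
    have h4 : s * w = w * s := A.U_comm s E.sU w hwU
    have h5 : s * pw r c = pw r c * s := A.U_comm s E.sU _ (pw_mem E.rU c)
    have hee' : e * e = 1 := by rw [hed]; exact E.ee
    rw [pw_one]
    calc e * w * e⁻¹ = e * (w * e) := by rw [hee, mul_assoc]
      _ = e * (e * s * pw r c * w) := by rw [h2]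
      _ = (e * e) * s * (pw r c * w) := by group
      _ = s * (w * pw r c) := by rw [hee', one_mul, h3]
      _ = (s * w) * pw r c := by group
      _ = w * (s * pw r c) := by rw [h4, mul_assoc]
      _ = w * (pw r c * s) := by rw [h5]
  have hcs : c = f s w := by
    have h2 : e * w * e⁻¹ ∈ Δ := A.Δ_M e heM w hw
    have h3 := A.Δ_M _ E.D_M w hw
    rw [E.act_D hwU, hw1] at h3
    rw [h1] at h2
    by_contra hne
    -- `x = w r^b s`, `x r` both in `Δ`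
    have hcc : c = f s w + 1 := by
      have : ∀ a b : ZMod 2, a ≠ b → a = b + 1 := by decide
      exact this _ _ hne
    obtain ⟨x, hxd⟩ : ∃ x, x = w * (pw r (f s w) * pw s 1) := ⟨_, rfl⟩
    rw [← hxd] at h3
    have hxU := A.Δ_U x h3
    have h4 : w * (pw r c * pw s 1) = x * r := by
      rw [hxd, hcc, pw_add E.rr, pw_one r]
      have h5 : r * pw s 1 = pw s 1 * r := A.U_comm r E.rU _ (pw_mem E.sU 1)
      calc w * (pw r (f s w) * r * pw s 1) = w * (pw r (f s w) * (r * pw s 1)) := by group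
        _ = w * (pw r (f s w) * (pw s 1 * r)) := by rw [h5]
        _ = w * (pw r (f s w) * pw s 1) * r := by group
    rw [h4] at h2
    have h5 : f r x = 1 := by
      rw [hxd, A.f_add' E.rU hwU (mul_mem (pw_mem E.rU _) (pw_mem E.sU _)),
        A.f_add' E.rU (pw_mem E.rU _) (pw_mem E.sU _), hw1]
      have h6 : f r (pw r (f s w)) = 0 := by
        rcases z2 (f s w) with h7 | h7
        · rw [h7, pw_zero, A.f_one E.rU]
        · rw [h7, pw_one, A.f_self r E.rU]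
      rw [h6, pw_one, E.rs, add_zero, add_zero]
    have h6 := A.mul1 r E.r_Δ x h3 h5
    have h7 : r * x = x * r := A.U_comm r E.rU x hxU
    rw [h7] at h6
    exact A.inj _ h2 h6
  -- all `u`
  rcases z2 (f r u) with h | h
  · exact h0 u hu h
  · have huw : f r (u * w) = 0 := by rw [A.f_add' E.rU hu hwU, h, hw1]; decide
    have h2 := h0 _ (mul_mem hu hwU) huw
    have hwe : e * w * e⁻¹ = w * (pw r (f s w) * pw s 1) := by rw [← hcs]; exact h1
    have h3 : e * u * e⁻¹ = (e * (u * w) * e⁻¹) * (e * w * e⁻¹) := by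
      calc e * u * e⁻¹ = e * (u * w) * (w⁻¹ * e⁻¹) := by group
        _ = e * (u * w) * (w * e⁻¹) := by rw [hww]
        _ = _ := by group
    rw [h3, h2, hwe, huw, h, pw_zero, mul_one, A.f_add' E.sU hu hwU, pw_add E.rr]
    have k1 : pw r (f s u) * pw r (f s w) ∈ U := mul_mem (pw_mem E.rU _) (pw_mem E.rU _)
    have k2 := A.U_comm w hwU _ k1
    have k3 := pw_sq E.rr (f s w)
    have k4 := A.U_sq w hwU
    calc u * w * (pw r (f s u) * pw r (f s w)) * (w * (pw r (f s w) * pw s 1))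
        = u * (w * (pw r (f s u) * pw r (f s w))) * w * (pw r (f s w) * pw s 1) := by group
      _ = u * (pw r (f s u) * pw r (f s w) * w) * w * (pw r (f s w) * pw s 1) := by rw [k2]
      _ = u * pw r (f s u) * pw r (f s w) * (w * w) * pw r (f s w) * pw s 1 := by group
      _ = u * pw r (f s u) * (pw r (f s w) * pw r (f s w)) * pw s 1 := by rw [k4]; group
      _ = u * (pw r (f s u) * pw s 1) := by rw [k3]; group

/-- **`e ∈ Q_s`** -/
theorem e_Qs : l * s * l⁻¹ ∈ Qp s := by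
  have A := E.A
  obtain ⟨e, hed⟩ : ∃ e, e = l * s * l⁻¹ := ⟨_, rfl⟩
  obtain ⟨D, hD⟩ : ∃ D, D = t r * t s * t (r * s) := ⟨_, rfl⟩
  have heQ : e ∈ Qp r := by rw [hed]; exact E.eQ
  have heM : e ∈ M := A.Q_M E.r_Δ heQ
  have hee : e * e = 1 := by rw [hed]; exact E.ee
  have hDM : D ∈ M := by rw [hD]; exact E.D_M
  have hactD : ∀ u ∈ U, D * u * D⁻¹ = u * (pw r (f s u) * pw s (f r u)) := fun u hu => by rw [hD]; exact E.act_D hu
  have hacte : ∀ u ∈ U, e * u * e⁻¹ = u * (pw r (f s u) * pw s (f r u)) := fun u hu => by rw [hed]; exact E.act_e hu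
  -- `D⁻¹ e ∈ U`
  have h1 : D⁻¹ * e ∈ U := by
    refine E.O.C_U _ (mul_mem (inv_mem hDM) heM) fun u hu => ?_
    have h2 : e * u * e⁻¹ = D * u * D⁻¹ := by rw [hactD u hu, hacte u hu]
    calc D⁻¹ * e * u = D⁻¹ * (e * u * e⁻¹) * e := by group
      _ = D⁻¹ * (D * u * D⁻¹) * e := by rw [h2]
      _ = u * (D⁻¹ * e) := by group
  obtain ⟨u, hu⟩ : ∃ u, u = D⁻¹ * e := ⟨_, rfl⟩
  rw [← hu] at h1
  have heD : e = D * u := by rw [hu]; group
  -- `D² = 1`
  have hrs := E.rs_Δ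
  have c1 : t r * t s = t s * t r :=
    (mem_centralizer_iff.1 (A.t_K E.h3 E.r_Δ E.s_Δ E.rs)) _ (A.t_N E.r_Δ)
  have c2 : t r * t (r * s) = t (r * s) * t r :=
    (mem_centralizer_iff.1 (A.t_K E.h3 E.r_Δ hrs E.r_rs)) _ (A.t_N E.r_Δ)
  have c3 : t s * t (r * s) = t (r * s) * t s :=
    (mem_centralizer_iff.1 (A.t_K E.h3 E.s_Δ hrs E.s_rs)) _ (A.t_N E.s_Δ)
  have s1 := A.N_sq r E.r_Δ _ (A.t_N E.r_Δ)
  have s2 := A.N_sq s E.s_Δ _ (A.t_N E.s_Δ)
  have s3 := A.N_sq _ hrs _ (A.t_N hrs)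
  have hDD : D * D = 1 := by
    have C1 : Commute (t r) (t s) := c1
    have C2 : Commute (t r) (t (r * s)) := c2
    have C3 : Commute (t s) (t (r * s)) := c3
    have K1 : Commute (t (r * s)) (t r * t s) := (C2.symm).mul_right C3.symm
    calc D * D = t r * t s * (t (r * s) * (t r * t s)) * t (r * s) := by rw [hD]; group
      _ = t r * t s * (t r * t s * t (r * s)) * t (r * s) := by rw [K1.eq]
      _ = t r * (t s * t r) * t s * (t (r * s) * t (r * s)) := by group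
      _ = t r * (t r * t s) * t s * (t (r * s) * t (r * s)) := by rw [← c1]
      _ = (t r * t r) * (t s * t s) * (t (r * s) * t (r * s)) := by group
      _ = 1 := by rw [s1, s2, s3, one_mul, one_mul]
  -- `f s u = 0`
  have hfu : f s u = 0 := by
    have h2 : u * (pw r (f s u) * pw s (f r u)) * u = 1 := by
      have hDi : D⁻¹ = D := inv_eq_of_mul_eq_one_left hDD
      rw [← hactD u h1, hDi]
      have : D * u * (D * u) = 1 := by rw [← heD]; exact hee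
      calc D * u * D * u = D * u * (D * u) := by group
        _ = 1 := this
    have hx : pw r (f s u) * pw s (f r u) ∈ U := mul_mem (pw_mem E.rU _) (pw_mem E.sU _)
    have h4 : pw r (f s u) * pw s (f r u) = 1 := by
      have h5 := A.U_comm u h1 _ hx
      rw [h5, mul_assoc, A.U_sq u h1, mul_one] at h2
      exact h2
    rcases z2 (f s u) with h5 | h5
    · exact h5
    · exfalso
      rw [h5, pw_one] at h4
      rcases z2 (f r u) with h6 | h6
      · rw [h6, pw_zero, mul_one] at h4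
        exact E.r_ne h4
      · rw [h6, pw_one] at h4
        apply E.ne
        rw [← A.inv_eq E.sU]
        exact (mul_eq_one_iff_eq_inv.1 h4).symm
  have huQ : u ∈ Qp s := (A.Q_f s E.s_Δ u h1).2 hfu
  -- `t_r t_{rs} ∈ Q_s`
  have h2 : t r * t (r * s) ∈ Qp s := by
    obtain ⟨g, hg, hgr⟩ := A.Q_mv s E.s_Δ r E.r_Δ E.ne E.sr
    have hgz : g * z * g⁻¹ = z := A.conj_z (A.Q_M E.s_Δ hg)
    obtain ⟨h, hh, hth⟩ := A.t_ZZ r E.r_Δ
    have htrs : t r ∈ Cp s := mem_Cp.2 (A.t_0 r E.r_Δ s E.sU E.rs)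
    have hgh : g * h * g⁻¹ ∈ Cp (r * s) := by
      rw [← hgr, ← cj_Cp]
      exact conj_mem_cj hh
    have hgt : g * t r * g⁻¹ = (g * h * g⁻¹) * z * (g * h * g⁻¹)⁻¹ := by
      calc g * t r * g⁻¹ = g * (h * z * h⁻¹) * g⁻¹ := by rw [← hth]
        _ = (g * h * g⁻¹) * (g * z * g⁻¹) * (g * h * g⁻¹)⁻¹ := by group
        _ = _ := by rw [hgz]
    have hcomm : t r * (g * t r * g⁻¹)⁻¹ ∈ Qp s := by
      have h4 : t r * g * (t r)⁻¹ ∈ Qp s := Q_normal htrs hg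
      have e4 : t r * (g * t r * g⁻¹)⁻¹ = t r * g * (t r)⁻¹ * g⁻¹ := by group
      rw [e4]
      exact mul_mem h4 (inv_mem hg)
    have hinv : (t (r * s))⁻¹ = t (r * s) := A.t_inv hrs
    rcases E.h3 _ hrs _ hgh with h4 | h4 | h4
    · exfalso
      rw [h4] at hgt
      have h5 : t r = z := by
        have h6 : g * t r * g⁻¹ = g * z * g⁻¹ := by rw [hgt, hgz]
        exact mul_left_cancel (mul_right_cancel h6)
      exact E.z_ne_t h5.symm
    · rw [hgt, h4, hinv] at hcomm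
      exact hcomm
    · rw [hgt, h4, mul_inv_rev, hinv, ← mul_assoc] at hcomm
      have h5 : r * s * z ∈ Qp s := by
        rw [A.Q_f s E.s_Δ _ (A.pz_U hrs), A.f_add' E.sU (mul_mem E.rU E.sU) A.z_U, E.s_rs, A.f_z' E.sU, add_zero]
      have h6 := mul_mem hcomm h5
      rwa [inv_mul_cancel_right] at h6
  rw [← hed, heD, hD]
  refine mul_mem ?_ huQ
  have e5 : t r * t s * t (r * s) = t s * (t r * t (r * s)) := by
    rw [c1, mul_assoc]
  rw [e5]
  exact mul_mem (A.N_le_Q E.s_Δ (A.t_N E.s_Δ)) h2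

end ED

end Cfsg.Agent.Omega.HTwo.Seven
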