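import Cfsg.Agent.Omega.HTwo.SevenMod

/-!
# II.0h1, `q = 2`, (7) of #15507: the flag of the Sylow group

`S` a Sylow 2-subgroup of `G`, `S ≤ M`, `S ≤ C(r)`.  There is a maximal flag `fl` of `U / ⟨z⟩` with `fl 1 = ⟨r⟩` which
is invariant under `S`; `S` is the stabiliser of the flag in `M`.

* `structure Fg` : the situation; `exists_fg` : existence;
* `Fg.card_S : 2 ^ ((m + 1) ^ 2) ≤ |S|`;
* `Fg.exists_Y` : a subgroup `Y ≤ S` of order at least `2 ^ ((m + 1) ^ 2)` in `U ⟨t p : p ∈ Δ⟩`.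
-/

set_option autoImplicit false
set_option linter.unusedSectionVars false

namespace Cfsg.Agent.Omega.HTwo.Seven

open Subgroup Module Cfsg.Agent.Omega.BTwo Cfsg.Agent.Omega.HTwo.Eight
open Cfsg.Agent.ParSys.Polar.Sympl Cfsg.Agent.ParSys.Polar.Flags

variable {G : Type*} [Group G] {z : G} {M U : Subgroup G} {Δ : Set G} {f : G → G → ZMod 2} {t : G → G}

section

variable (A : Res z M U Δ f t)

/-- an element of `M` which fixes all vectors centralises `U` -/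
theorem cen_of_triv {C : Subgroup G} (hC : C ≤ M) {c : ↥C} (h : ∀ v, rho A hC c v = v) {u : G} (hu : u ∈ U) :
    (c : G) * u = u * (c : G) := by
  have hp : ∀ p ∈ Δ, (c : G) * p = p * (c : G) := by
    intro p hp
    have h1 := h (cl A p)
    rw [rho_cl A hC c (A.Δ_U p hp)] at h1
    exact mul_inv_eq_iff_eq_mul.1 (pt_inj A (A.Δ_M c (hC c.2) p hp) hp h1)
  rcases A.cover u hu with h1 | h1 | h1 | h1
  · rw [h1, mul_one, one_mul]
  · rw [h1]; exact A.mz (hC c.2)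
  · exact hp u h1
  · have h2 := hp _ h1
    have h3 := A.mz (hC c.2)
    have hz := A.zz
    calc (c : G) * u = (c : G) * (u * z) * z := by rw [← mul_assoc, mul_assoc _ z z, hz, mul_one]
      _ = u * z * (c : G) * z := by rw [h2]
      _ = u * z * (z * (c : G)) := by rw [mul_assoc, h3]
      _ = u * (c : G) := by rw [← mul_assoc, mul_assoc u z z, hz, mul_one]

theorem triv_of_cen {C : Subgroup G} (hC : C ≤ M) {c : ↥C} (h : ∀ u ∈ U, (c : G) * u = u * (c : G)) (v : ↥(Wm A)) :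
    rho A hC c v = v := by
  obtain ⟨u, hu, rfl⟩ := exists_cl A v
  rw [rho_cl A hC c hu, h u hu, mul_inv_cancel_right]

/-- the flag stabiliser is a 2-group -/
theorem fst_two {r : G} (O : Out z M U Δ f t r) {C : Subgroup G} (hC : C ≤ M)
    {sigma : ↥C →* Equiv.Perm (Submodule (ZMod 2) ↥(Wm A))} {m : ℕ} {fl : ℕ → Submodule (ZMod 2) ↥(Wm A)}
    [Finite G] (p : Pol C (gf A) (rho A hC) sigma m fl) : IsPGroup 2 (fst C sigma m fl ∅) := by
  rintro ⟨x, hx⟩
  have hxC : x ∈ C := fst_le hx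
  have h1 := p.pow_triv (by rw [Nat.card_zmod]) (c := ⟨x, hxC⟩) hx
  have h2 : ∀ u ∈ U, x ^ 2 ^ (m + 1) * u = u * x ^ 2 ^ (m + 1) := fun u hu =>
    cen_of_triv A hC (c := (⟨x, hxC⟩ : ↥C) ^ 2 ^ (m + 1)) h1 hu
  have h3 := O.C_U _ (pow_mem (hC hxC) _) h2
  refine ⟨m + 2, Subtype.ext ?_⟩
  show x ^ 2 ^ (m + 2) = 1
  have h4 : (2 : ℕ) ^ (m + 2) = 2 ^ (m + 1) * 2 := by rw [pow_succ]
  rw [h4, pow_mul, pow_two]
  exact A.U_sq _ h3

/-- the order of the flag stabiliser -/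
theorem fst_card [Finite G] {C : Subgroup G} (hC : C ≤ M) (hU : U ≤ C)
    {sigma : ↥C →* Equiv.Perm (Submodule (ZMod 2) ↥(Wm A))} {m : ℕ} {fl : ℕ → Submodule (ZMod 2) ↥(Wm A)}
    (p : Pol C (gf A) (rho A hC) sigma m fl) : 2 ^ ((m + 1) ^ 2) ≤ Nat.card (fst C sigma m fl ∅) := by
  have h1 := p.card_le hU (fun x hx v => triv_of_cen A hC (c := ⟨x, hU hx⟩) (fun u hu => A.U_comm x hx u hu) v)
  refine le_trans (le_of_eq ?_) h1
  rw [card_U A, Module.natCard_eq_pow_finrank (K := ZMod 2) (V := ↥(Wm A)), (symp A).finrank_eq p.hm, Nat.card_zmod]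
  ring

/-- the flag of the Sylow group `S` -/
structure Fg (S : Subgroup G) (r : G) (sigma : ↥M →* Equiv.Perm (Submodule (ZMod 2) ↥(Wm A))) (m : ℕ)
    (fl : ℕ → Submodule (ZMod 2) ↥(Wm A)) : Prop where
  pol : Pol M (gf A) (rho A le_rfl) sigma m fl
  one : fl 1 = Submodule.span (ZMod 2) {cl A r}
  bor : fst M sigma m fl ∅ = S
  two : 2 ≤ m

/-- **existence** -/
theorem exists_fg [Finite G] {r : G} (O : Out z M U Δ f t r) (hr : r ∈ Δ) {p : G} (hp : p ∈ Δ) (hpr : p ≠ r)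
    (hf : f r p = 0) (S : Sylow 2 G) (hSM : (S : Subgroup G) ≤ M) (hSr : ∀ s ∈ (S : Subgroup G), s * r = r * s) :
    ∃ sigma m fl, Fg A (S : Subgroup G) r sigma m fl := by
  have H := symp A
  have hrU := A.Δ_U r hr
  obtain ⟨m, hm⟩ := H.exists_witt
  obtain ⟨sigma, hs⟩ := exists_sact A (le_refl M) (fun p hp => A.t_M hp)
  have hact := SAct.act H hs
  let f₀ : ℕ → Submodule (ZMod 2) ↥(Wm A) := fun d => if d = 0 then ⊥ else Submodule.span (ZMod 2) {cl A r}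
  have hf₀ : Fl (TI (gf A) (F := ZMod 2)) 1 f₀ := by
    refine ⟨fun d hd => ?_, fun d hd => ?_, ?_⟩
    · obtain rfl : d = 0 := by omega
      simp only [f₀, if_pos]
      exact bot_le
    · rcases Nat.eq_zero_or_pos d with rfl | hd'
      · simp only [f₀, if_pos]
        exact finrank_bot _ _
      · obtain rfl : d = 1 := by omega
        show finrank (ZMod 2) ↥(Submodule.span (ZMod 2) {cl A r}) = 1
        exact finrank_span_singleton (cl_pt_ne A hr)
    · show TI (gf A) (Submodule.span (ZMod 2) {cl A r})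
      exact H.TI_span _
  let tau : ↥(S : Subgroup G) →* Equiv.Perm (Submodule (ZMod 2) ↥(Wm A)) := sigma.comp (inclusion hSM)
  have hr0 : ∀ s : ↥(S : Subgroup G), rho A le_rfl (inclusion hSM s) (cl A r) = cl A r := fun s => by
    rw [rho_cl A le_rfl _ hrU]
    congr 1
    exact mul_inv_eq_iff_eq_mul.2 (hSr s s.2)
  have hinv : ∀ s, ∀ d ≤ 1, tau s (f₀ d) = f₀ d := by
    intro s d hd
    refine hs.eq_of_fix (c := inclusion hSM s) fun v hv => ?_
    rcases Nat.eq_zero_or_pos d with rfl | hd'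
    · simp only [f₀] at hv
      rw [(Submodule.mem_bot _).1 hv, map_zero]
    · obtain rfl : d = 1 := by omega
      obtain ⟨a, rfl⟩ := Submodule.mem_span_singleton.1 (show v ∈ Submodule.span (ZMod 2) {cl A r} from hv)
      rw [hs.lin, hr0]
  obtain ⟨h1m, fl, hfl, h1, h2⟩ := exists_fl_inv H (tau := tau) (by rw [Nat.card_zmod]) hm S.isPGroup'
    (fun s _ _ h => hact.le (inclusion hSM s) h) (fun s X => hact.rk (inclusion hSM s) X)
    (fun s _ h => hact.sing (inclusion hSM s) h) hf₀ hinv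
  have hpol : Pol M (gf A) (rho A le_rfl) sigma m fl := ⟨H, hs, hm, hfl⟩
  have hle : (S : Subgroup G) ≤ fst M sigma m fl ∅ := fun s hs' =>
    ⟨hSM hs', fun d hd _ => h2 ⟨s, hs'⟩ d hd⟩
  refine ⟨sigma, m, fl, hpol, h1 1 le_rfl, ?_, ?_⟩
  · exact S.is_maximal' (fst_two A O le_rfl hpol) hle
  · -- `m ≥ 2`
    have hpU := A.Δ_U p hp
    have h3 : TI (gf A) (Submodule.span (ZMod 2) {cl A r} ⊔ Submodule.span (ZMod 2) {cl A p}) := by
      refine H.TI_sup_span (H.TI_span _) ?_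
      rw [H.mem_perp_span, gf_cl A hpU hrU, A.f_symm p hpU r hrU, hf]
    have h4 := hm.2 _ h3
    have h5 : cl A p ∉ Submodule.span (ZMod 2) {cl A r} := by
      intro h
      obtain ⟨a, ha⟩ := Submodule.mem_span_singleton.1 h
      rcases zm2 a with rfl | rfl
      · rw [zero_smul] at ha
        exact cl_pt_ne A hp ha.symm
      · rw [one_smul] at ha
        exact hpr (pt_inj A hp hr ha.symm)
    rw [Submodule.finrank_sup_span_singleton h5, finrank_span_singleton (cl_pt_ne A hr)] at h4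
    exact h4

namespace Fg

variable {A} {S : Subgroup G} {r : G} {sigma : ↥M →* Equiv.Perm (Submodule (ZMod 2) ↥(Wm A))} {m : ℕ}
  {fl : ℕ → Submodule (ZMod 2) ↥(Wm A)} (F : Fg A S r sigma m fl)

include F

theorem S_le [Finite G] : S ≤ M := by rw [← F.bor]; exact fst_le

/-- `|S| ≥ 2 ^ ((m + 1) ^ 2)` -/
theorem card_S [Finite G] : 2 ^ ((m + 1) ^ 2) ≤ Nat.card S := by
  have h := fst_card A le_rfl A.U_le_M F.pol
  rwa [F.bor] at h

/-- a large subgroup of `S` in `U ⟨t p : p ∈ Δ⟩` -/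
theorem exists_Y [Finite G] : ∃ Y ≤ S, Y ≤ U ⊔ closure (t '' Δ) ∧ 2 ^ ((m + 1) ^ 2) ≤ Nat.card Y := by
  have hC : U ⊔ closure (t '' Δ) ≤ M := by
    refine sup_le A.U_le_M ((closure_le _).2 ?_)
    rintro _ ⟨p, hp, rfl⟩
    exact A.t_M hp
  obtain ⟨sg, hs⟩ := exists_sact A hC (fun p hp => mem_sup_right (subset_closure ⟨p, hp, rfl⟩))
  have hpol : Pol (U ⊔ closure (t '' Δ)) (gf A) (rho A hC) sg m fl := ⟨F.pol.H, hs, F.pol.hm, F.pol.hf⟩
  refine ⟨fst (U ⊔ closure (t '' Δ)) sg m fl ∅, ?_, fst_le, fst_card A hC le_sup_left hpol⟩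
  rw [← F.bor]
  rintro x ⟨hx, hx'⟩
  refine ⟨hC hx, fun d hd h => ?_⟩
  have h1 := hx' d hd h
  ext w
  have h2 : w ∈ sigma ⟨x, hC hx⟩ (fl d) ↔ w ∈ sg ⟨x, hx⟩ (fl d) := by
    rw [F.pol.A.sig, hs.sig]
    constructor
    · rintro ⟨v, hv, rfl⟩
      obtain ⟨u, hu, rfl⟩ := exists_cl A v
      exact ⟨_, hv, by rw [rho_cl A hC _ hu, rho_cl A le_rfl _ hu]⟩
    · rintro ⟨v, hv, rfl⟩
      obtain ⟨u, hu, rfl⟩ := exists_cl A v
      exact ⟨_, hv, by rw [rho_cl A hC _ hu, rho_cl A le_rfl _ hu]⟩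
  rw [h2, h1]

end Fg

end

end Cfsg.Agent.Omega.HTwo.Seven
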