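import Cfsg.Agent.Omega.HTwo.EightMain
import Cfsg.Agent.ParSys.Polar.SympBorel

/-!
# II.0h1, `q = 2`, (7) of #15507: the symplectic module `U / ⟨z⟩`

From `Res z M U Δ f t`: `Wm A` is the space of the functions `f(u, ·)`, `u ∈ U` (`U / ⟨z⟩`), `cl A u` the class of
`u`, `gf A` the form, `rho A hC` the action of `C ≤ M` by conjugation.

* `symp A : Symp (gf A)`;
* `exists_sact` : `C ≤ M` with `t p ∈ C` for the `p ∈ Δ` acts as required in `Sympl.SAct`;
* `card_U : |U| = 2 |W|`, `exists_pt` : every vector `≠ 0` is the class of exactly one `p ∈ Δ`.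
-/

set_option autoImplicit false
set_option linter.unusedSectionVars false

namespace Cfsg.Agent.Omega.HTwo.Seven

open Subgroup Cfsg.Agent.Omega.BTwo Cfsg.Agent.Omega.HTwo.Eight
open Cfsg.Agent.ParSys.Polar.Sympl Cfsg.Agent.ParSys.Polar.Flags

variable {G : Type*} [Group G] {z : G} {M U : Subgroup G} {Δ : Set G} {f : G → G → ZMod 2} {t : G → G}

theorem zm2 (a : ZMod 2) : a = 0 ∨ a = 1 := by
  revert a; decide

theorem zm2_add (a : ZMod 2) : a + a = 0 := by
  revert a; decide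

/-- the functions `f(u, ·)`, `u ∈ U` -/
def Wm (A : Res z M U Δ f t) : Submodule (ZMod 2) (↥U → ZMod 2) where
  carrier := {φ | ∃ u ∈ U, ∀ v : ↥U, φ v = f u v}
  zero_mem' := ⟨1, one_mem _, fun v => (A.one_f v.2).symm⟩
  add_mem' := by
    rintro φ ψ ⟨u, hu, h1⟩ ⟨v, hv, h2⟩
    exact ⟨u * v, mul_mem hu hv, fun w => by rw [Pi.add_apply, h1, h2, A.f_add u hu v hv w w.2]⟩
  smul_mem' := by
    rintro c φ ⟨u, hu, h1⟩
    rcases zm2 c with rfl | rfl
    · exact ⟨1, one_mem _, fun v => by rw [Pi.smul_apply, zero_smul, A.one_f v.2]⟩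
    · exact ⟨u, hu, fun v => by rw [one_smul, h1]⟩

open Classical in
/-- the class of `u` -/
noncomputable def cl (A : Res z M U Δ f t) (u : G) : ↥(Wm A) :=
  if h : u ∈ U then ⟨fun v => f u v, u, h, fun _ => rfl⟩ else 0

section basic

variable (A : Res z M U Δ f t)

theorem cl_apply {u : G} (hu : u ∈ U) (v : ↥U) : (cl A u : ↥U → ZMod 2) v = f u v := by
  unfold cl
  rw [dif_pos hu]

theorem exists_cl (w : ↥(Wm A)) : ∃ u ∈ U, cl A u = w := by
  obtain ⟨φ, u, hu, h⟩ := w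
  refine ⟨u, hu, Subtype.ext (funext fun v => ?_)⟩
  rw [cl_apply A hu]
  exact (h v).symm

theorem cl_mul {u v : G} (hu : u ∈ U) (hv : v ∈ U) : cl A (u * v) = cl A u + cl A v := by
  apply Subtype.ext
  funext w
  rw [cl_apply A (mul_mem hu hv), A.f_add u hu v hv w w.2]
  show _ = (cl A u : ↥U → ZMod 2) w + (cl A v : ↥U → ZMod 2) w
  rw [cl_apply A hu, cl_apply A hv]

theorem cl_z : cl A z = 0 := by
  apply Subtype.ext
  funext w
  rw [cl_apply A A.z_U, A.f_z w w.2]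
  rfl

theorem cl_one : cl A 1 = 0 := by
  apply Subtype.ext
  funext w
  rw [cl_apply A (one_mem _), A.one_f w.2]
  rfl

theorem cl_eq_zero {u : G} (hu : u ∈ U) : cl A u = 0 ↔ u = 1 ∨ u = z := by
  constructor
  · intro h
    refine A.f_rad u hu fun v hv => ?_
    have := cl_apply A hu ⟨v, hv⟩
    rw [h] at this
    exact this.symm
  · rintro (rfl | rfl)
    · exact cl_one A
    · exact cl_z A

theorem two_w (w : ↥(Wm A)) : w + w = 0 := by
  apply Subtype.ext
  funext v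
  exact zm2_add _

theorem cl_eq {u v : G} (hu : u ∈ U) (hv : v ∈ U) : cl A u = cl A v ↔ v = u ∨ v = u * z := by
  have h1 : cl A u = cl A v ↔ cl A (u * v) = 0 := by
    rw [cl_mul A hu hv]
    constructor
    · intro h; rw [h, two_w]
    · intro h
      calc cl A u = cl A u + (cl A v + cl A v) := by rw [two_w, add_zero]
        _ = (cl A u + cl A v) + cl A v := by rw [add_assoc]
        _ = cl A v := by rw [h, zero_add]
  rw [h1, cl_eq_zero A (mul_mem hu hv)]
  have e : ∀ x, u * v = x ↔ v = u * x := fun x => by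
    constructor
    · rintro rfl; rw [← mul_assoc, A.U_sq u hu, one_mul]
    · rintro rfl; rw [← mul_assoc, A.U_sq u hu, one_mul]
  rw [e, e, mul_one]

/-- every vector `≠ 0` is the class of a `p ∈ Δ` -/
theorem exists_pt {w : ↥(Wm A)} (hw : w ≠ 0) : ∃ p ∈ Δ, cl A p = w := by
  obtain ⟨u, hu, rfl⟩ := exists_cl A w
  rcases A.cover u hu with h | h | h | h
  · exact absurd ((cl_eq_zero A hu).2 (Or.inl h)) hw
  · exact absurd ((cl_eq_zero A hu).2 (Or.inr h)) hw
  · exact ⟨u, h, rfl⟩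
  · exact ⟨u * z, h, by rw [cl_mul A hu A.z_U, cl_z, add_zero]⟩

theorem pt_inj {p q : G} (hp : p ∈ Δ) (hq : q ∈ Δ) (h : cl A p = cl A q) : p = q := by
  rcases (cl_eq A (A.Δ_U p hp) (A.Δ_U q hq)).1 h with h1 | h1
  · exact h1.symm
  · exact absurd (h1 ▸ hq) (A.inj p hp)

theorem cl_pt_ne {p : G} (hp : p ∈ Δ) : cl A p ≠ 0 := fun h => by
  rcases (cl_eq_zero A (A.Δ_U p hp)).1 h with h1 | h1
  · exact A.Δ_1 (h1 ▸ hp)
  · exact A.Δ_z (h1 ▸ hp)

/-- the form -/
noncomputable def gf (v w : ↥(Wm A)) : ZMod 2 :=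
  (v : ↥U → ZMod 2) ⟨(exists_cl A w).choose, (exists_cl A w).choose_spec.1⟩

theorem gf_cl {u v : G} (hu : u ∈ U) (hv : v ∈ U) : gf A (cl A u) (cl A v) = f u v := by
  unfold gf
  rw [cl_apply A hu]
  obtain ⟨hw, h2⟩ := (exists_cl A (cl A v)).choose_spec
  show f u ((exists_cl A (cl A v)).choose) = f u v
  rw [A.f_symm u hu _ hw, A.f_symm u hu v hv, ← cl_apply A hw ⟨u, hu⟩, ← cl_apply A hv ⟨u, hu⟩, h2]

/-- the form is symplectic -/
theorem symp : Symp (F := ZMod 2) (gf A) where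
  two := rfl
  self x := by
    obtain ⟨u, hu, rfl⟩ := exists_cl A x
    rw [gf_cl A hu hu, A.f_self u hu]
  add x y w := by
    obtain ⟨u, hu, rfl⟩ := exists_cl A x
    obtain ⟨v, hv, rfl⟩ := exists_cl A y
    obtain ⟨s, hs, rfl⟩ := exists_cl A w
    rw [← cl_mul A hu hv, gf_cl A (mul_mem hu hv) hs, gf_cl A hu hs, gf_cl A hv hs, A.f_add u hu v hv s hs]
  smul c x y := by
    rcases zm2 c with rfl | rfl
    · obtain ⟨s, hs, rfl⟩ := exists_cl A y
      rw [zero_smul, zero_mul, ← cl_one A, gf_cl A (one_mem _) hs, A.one_f hs]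
    · rw [one_smul, one_mul]
  sym x y := by
    obtain ⟨u, hu, rfl⟩ := exists_cl A x
    obtain ⟨v, hv, rfl⟩ := exists_cl A y
    rw [gf_cl A hu hv, gf_cl A hv hu, A.f_symm v hv u hu]
  nd x h := by
    obtain ⟨u, hu, rfl⟩ := exists_cl A x
    refine (cl_eq_zero A hu).2 (A.f_rad u hu fun v hv => ?_)
    rw [← gf_cl A hu hv]
    exact h _

/-- `|U| = 2 |W|` -/
theorem card_U [Finite G] : Nat.card U = 2 * Nat.card ↥(Wm A) := by
  classical
  let φ : ↥U → ↥(Wm A) × ZMod 2 → Prop := fun _ _ => True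
  -- `U ≃ W × ⟨z⟩`
  have hsec : ∀ w : ↥(Wm A), ∃ u : ↥U, cl A (u : G) = w := fun w => by
    obtain ⟨u, hu, h⟩ := exists_cl A w
    exact ⟨⟨u, hu⟩, h⟩
  choose s hs using hsec
  let F : ↥(Wm A) × ZMod 2 → ↥U := fun x => s x.1 * ⟨pw z x.2, pw_mem A.z_U x.2⟩
  have hclF : ∀ x, cl A (F x : G) = x.1 := by
    intro x
    show cl A ((s x.1 : G) * pw z x.2) = x.1
    rw [cl_mul A (s x.1).2 (pw_mem A.z_U x.2), hs]
    have : cl A (pw z x.2) = 0 := by
      rcases zm2 x.2 with h | h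
      · rw [h, pw_zero, cl_one]
      · rw [h, pw_one, cl_z]
    rw [this, add_zero]
  have hF : Function.Bijective F := by
    constructor
    · intro x y h
      have h1 : x.1 = y.1 := by rw [← hclF x, h, hclF]
      have h2 : (F x : G) = F y := congrArg Subtype.val h
      change (s x.1 : G) * pw z x.2 = (s y.1 : G) * pw z y.2 at h2
      rw [h1] at h2
      exact Prod.ext h1 (pw_inj A.z1 (mul_left_cancel h2))
    · intro u
      have h1 : cl A (s (cl A (u : G)) : G) = cl A (u : G) := hs _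
      rcases (cl_eq A (s (cl A (u : G))).2 u.2).1 h1 with h2 | h2
      · refine ⟨(cl A (u : G), 0), Subtype.ext ?_⟩
        show (s (cl A (u : G)) : G) * pw z 0 = u
        rw [pw_zero, mul_one, ← h2]
      · refine ⟨(cl A (u : G), 1), Subtype.ext ?_⟩
        show (s (cl A (u : G)) : G) * pw z 1 = u
        rw [pw_one, ← h2]
  rw [← Nat.card_congr (Equiv.ofBijective F hF), Nat.card_prod, Nat.card_zmod, mul_comm]

end basic

section action

variable (A : Res z M U Δ f t) {C : Subgroup G} (hC : C ≤ M)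

/-- the representative -/
noncomputable def rp (w : ↥(Wm A)) : G := (exists_cl A w).choose

theorem rp_U (w : ↥(Wm A)) : rp A w ∈ U := (exists_cl A w).choose_spec.1

theorem cl_rp (w : ↥(Wm A)) : cl A (rp A w) = w := (exists_cl A w).choose_spec.2

theorem cl_conj_rp {c u : G} (hc : c ∈ M) (hu : u ∈ U) : cl A (c * rp A (cl A u) * c⁻¹) = cl A (c * u * c⁻¹) := by
  have h1 := cl_rp A (cl A u)
  have h2 := rp_U A (cl A u)
  obtain ⟨w, hw⟩ : ∃ w, w = rp A (cl A u) := ⟨_, rfl⟩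
  rw [← hw] at h1 h2 ⊢
  rcases (cl_eq A h2 hu).1 h1 with h3 | h3
  · rw [← h3]
  · have e : c * u * c⁻¹ = c * w * c⁻¹ * z := by
      have := A.conj_z hc
      calc c * u * c⁻¹ = c * (w * z) * c⁻¹ := by rw [h3]
        _ = c * w * c⁻¹ * (c * z * c⁻¹) := by group
        _ = _ := by rw [this]
    rw [e, cl_mul A (A.U_M c hc _ h2) A.z_U, cl_z, add_zero]

/-- the action of `C` -/
noncomputable def rho (c : ↥C) : ↥(Wm A) ≃+ ↥(Wm A) where
  toFun w := cl A ((c : G) * rp A w * (c : G)⁻¹)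
  invFun w := cl A ((c : G)⁻¹ * rp A w * (c : G))
  left_inv w := by
    have h1 : (c : G) * rp A w * (c : G)⁻¹ ∈ U := A.U_M c (hC c.2) _ (rp_U A w)
    have h2 := cl_conj_rp A (c := (c : G)⁻¹) (inv_mem (hC c.2)) h1
    rw [inv_inv] at h2
    show cl A ((c : G)⁻¹ * rp A (cl A ((c : G) * rp A w * (c : G)⁻¹)) * (c : G)) = w
    rw [h2]
    have e : (c : G)⁻¹ * ((c : G) * rp A w * (c : G)⁻¹) * (c : G) = rp A w := by group
    rw [e, cl_rp]
  right_inv w := by
    have h1 : (c : G)⁻¹ * rp A w * (c : G) ∈ U := by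
      have := A.U_M (c : G)⁻¹ (inv_mem (hC c.2)) _ (rp_U A w)
      rwa [inv_inv] at this
    have h2 := cl_conj_rp A (c := (c : G)) (hC c.2) h1
    show cl A ((c : G) * rp A (cl A ((c : G)⁻¹ * rp A w * (c : G))) * (c : G)⁻¹) = w
    rw [h2]
    have e : (c : G) * ((c : G)⁻¹ * rp A w * (c : G)) * (c : G)⁻¹ = rp A w := by group
    rw [e, cl_rp]
  map_add' v w := by
    have h1 := cl_conj_rp A (c := (c : G)) (hC c.2) (mul_mem (rp_U A v) (rp_U A w))
    rw [cl_mul A (rp_U A v) (rp_U A w), cl_rp, cl_rp] at h1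
    show cl A ((c : G) * rp A (v + w) * (c : G)⁻¹) = _
    rw [h1]
    have e : (c : G) * (rp A v * rp A w) * (c : G)⁻¹ =
        ((c : G) * rp A v * (c : G)⁻¹) * ((c : G) * rp A w * (c : G)⁻¹) := by group
    rw [e, cl_mul A (A.U_M c (hC c.2) _ (rp_U A v)) (A.U_M c (hC c.2) _ (rp_U A w))]

theorem rho_cl (c : ↥C) {u : G} (hu : u ∈ U) : rho A hC c (cl A u) = cl A ((c : G) * u * (c : G)⁻¹) :=
  cl_conj_rp A (hC c.2) hu

/-- **the action** -/
theorem exists_sact (hT : ∀ p ∈ Δ, t p ∈ C) :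
    ∃ sigma : ↥C →* Equiv.Perm (Submodule (ZMod 2) ↥(Wm A)), SAct (gf A) (rho A hC) sigma := by
  have mul : ∀ a b v, rho A hC (a * b) v = rho A hC a (rho A hC b v) := by
    intro a b v
    obtain ⟨u, hu, rfl⟩ := exists_cl A v
    rw [rho_cl A hC _ hu, rho_cl A hC b hu, rho_cl A hC a (A.U_M b (hC b.2) u hu)]
    congr 1
    rw [Subgroup.coe_mul]
    group
  have lin : ∀ c (s : ZMod 2) v, rho A hC c (s • v) = s • rho A hC c v := by
    intro c s v
    rcases zm2 s with rfl | rfl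
    · rw [zero_smul, zero_smul, map_zero]
    · rw [one_smul, one_smul]
  obtain ⟨sigma, hs⟩ := Cfsg.Agent.ParSys.Polar.Hermit.exists_sigma (F := ZMod 2) (rho := rho A hC) mul
    (fun c => ⟨RingHom.id _, fun s v => lin c s v⟩)
  refine ⟨sigma, mul, hs, lin, ?_, ?_⟩
  · intro c u v
    obtain ⟨a, ha, rfl⟩ := exists_cl A u
    obtain ⟨b, hb, rfl⟩ := exists_cl A v
    rw [rho_cl A hC _ ha, rho_cl A hC _ hb, gf_cl A (A.U_M c (hC c.2) a ha) (A.U_M c (hC c.2) b hb), gf_cl A ha hb,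
      A.f_M c (hC c.2) a ha b hb]
  · intro y a
    have h0 : ∀ v, rho A hC (1 : ↥C) v = v := fun v => by
      have h := mul 1 1 v
      rw [mul_one] at h
      exact ((rho A hC (1 : ↥C)).injective h).symm
    by_cases hy : y = 0
    · exact ⟨1, fun v => by rw [h0, hy, smul_zero, add_zero]⟩
    obtain ⟨p, hp, rfl⟩ := exists_pt A hy
    rcases zm2 a with rfl | rfl
    · exact ⟨1, fun v => by rw [h0, zero_mul, zero_smul, add_zero]⟩
    · refine ⟨⟨t p, hT p hp⟩, fun v => ?_⟩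
      obtain ⟨u, hu, rfl⟩ := exists_cl A v
      rw [rho_cl A hC _ hu, gf_cl A hu (A.Δ_U p hp), one_mul]
      show cl A (t p * u * (t p)⁻¹) = _
      rw [A.t_act hp hu, A.f_symm u hu p (A.Δ_U p hp)]
      rcases zm2 (f p u) with h | h
      · rw [h, pw_zero, mul_one, zero_smul, add_zero]
      · rw [h, pw_one, one_smul, cl_mul A hu (A.pz_U hp), cl_mul A (A.Δ_U p hp) A.z_U, cl_z, add_zero]

end action

end Cfsg.Agent.Omega.HTwo.Seven
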