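import Cfsg.Agent.Omega.HTwo.OddCen
import Cfsg.Agent.ParSys.Polar.Incid
import Cfsg.Agent.ParSys.RankTwo
import Cfsg.Agent.Transfer.ElemAbAut

/-!
# A rank two residue of type `L₃(2)`

`Pl S L X R V r` : `S` is a Sylow 2-subgroup, `L` and `X` are generated by 2-elements and normalised by `S`, `R` is an
elementary abelian group of order 8 normalised by `L`, `X`, `S`; `⟨r⟩ < V < R`, `L` and `S` centralise `r`, `X` and `S`
normalise `V`; `L S` is transitive on the subgroups of order 4 between `⟨r⟩` and `R`, `X S` is transitive on `V ∖ 1`;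
`|L S : S| = |X S : S| = 3`; the elements of `⟨L, X, S⟩` centralising `R` commute with `L` and `X` modulo `S`.

`Pl.stab` : the stabiliser of `r` and `V` in `⟨L, X, S⟩` is `S`; `Pl.gpp` : the residue is a projective plane.
-/

set_option autoImplicit false

namespace Cfsg.Agent.Omega.HTwo.SysPlane

open Subgroup Cfsg.Agent.ParSys Cfsg.Agent.ParSys.RankTwo Cfsg.Agent.ParSys.Polar.Incid

variable {G : Type*} [Group G]

theorem card_mul_relIndex {H K : Subgroup G} (h : H ≤ K) :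
    Nat.card H * H.relIndex K = Nat.card K := by
  rw [Subgroup.relIndex, ← Nat.card_congr (Subgroup.subgroupOfEquivOfLe h).toEquiv]
  exact Subgroup.card_mul_index _

/-- `|K H| |K ∩ H| = |K| |H|` -/
theorem card_sup_mul {K H : Subgroup G} (h' : H ≤ normalizer (K : Set G)) :
    Nat.card (K ⊔ H : Subgroup G) * Nat.card (K ⊓ H : Subgroup G) = Nat.card K * Nat.card H := by
  have hKn : (K.subgroupOf (K ⊔ H)).Normal :=
    normal_subgroupOf_of_le_normalizer (sup_le le_normalizer h')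
  have h1 := relIndex_sup_left (H.subgroupOf (K ⊔ H)) (K.subgroupOf (K ⊔ H))
  rw [← Subgroup.subgroupOf_sup le_sup_left le_sup_right, Subgroup.subgroupOf_self,
    Subgroup.relIndex_subgroupOf le_sup_right, relIndex_top_right] at h1
  have h2 : Nat.card K * K.relIndex H = Nat.card (K ⊔ H : Subgroup G) := by
    rw [← h1]
    exact card_mul_relIndex le_sup_left
  have h3 : Nat.card (K ⊓ H : Subgroup G) * K.relIndex H = Nat.card H := by
    rw [← inf_relIndex_right]
    exact card_mul_relIndex inf_le_right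
  rw [← h2, ← h3]
  ring

/-- a Sylow subgroup meets a normalised subgroup in a Sylow subgroup -/
theorem odd_inf [Finite G] (S : Sylow 2 G) {K : Subgroup G} (h : (S : Subgroup G) ≤ normalizer (K : Set G)) :
    Odd ((S : Subgroup G).relIndex K) := by
  have h1 := card_sup_mul h
  have h2 : Nat.card (S : Subgroup G) * (S : Subgroup G).relIndex (K ⊔ (S : Subgroup G)) =
      Nat.card (K ⊔ (S : Subgroup G) : Subgroup G) := card_mul_relIndex le_sup_right
  have h3 : Nat.card (K ⊓ (S : Subgroup G) : Subgroup G) * (S : Subgroup G).relIndex K = Nat.card K := by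
    have := card_mul_relIndex (H := (S : Subgroup G) ⊓ K) (K := K) inf_le_right
    rwa [inf_relIndex_right, inf_comm] at this
  have h4 : (S : Subgroup G).relIndex (K ⊔ (S : Subgroup G)) = (S : Subgroup G).relIndex K := by
    have p1 : 0 < Nat.card (S : Subgroup G) := Nat.card_pos
    have p2 : 0 < Nat.card (K ⊓ (S : Subgroup G) : Subgroup G) := Nat.card_pos
    rw [← h2, ← h3] at h1
    have h5 : (Nat.card (S : Subgroup G) * Nat.card (K ⊓ (S : Subgroup G) : Subgroup G)) *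
        (S : Subgroup G).relIndex (K ⊔ (S : Subgroup G)) =
        (Nat.card (S : Subgroup G) * Nat.card (K ⊓ (S : Subgroup G) : Subgroup G)) * (S : Subgroup G).relIndex K := by
      linarith
    exact Nat.eq_of_mul_eq_mul_left (Nat.mul_pos p1 p2) h5
  rw [← h4]
  have h5 : (S : Subgroup G).relIndex (K ⊔ (S : Subgroup G)) ∣ (S : Subgroup G).index :=
    relIndex_dvd_index_of_le le_sup_right
  exact Odd.of_dvd_nat (Nat.not_even_iff_odd.1 fun h => S.not_dvd_index (even_iff_two_dvd.1 h)) h5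

/-! ### Subgroups of order 4 of exponent 2 -/

/-- `{1, p, q, p q}` -/
def K4 (p q : G) (hp : p * p = 1) (hq : q * q = 1) (h : q * p = p * q) : Subgroup G where
  carrier := {x | x = 1 ∨ x = p ∨ x = q ∨ x = p * q}
  one_mem' := Or.inl rfl
  mul_mem' := by
    have h1 : p * (p * q) = q := by rw [← mul_assoc, hp, one_mul]
    have h2 : q * (p * q) = p := by rw [← mul_assoc, h, mul_assoc, hq, mul_one]
    have h3 : p * q * p = q := by rw [mul_assoc, h, h1]
    have h4 : p * q * q = p := by rw [mul_assoc, hq, mul_one]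
    have h5 : p * q * (p * q) = 1 := by rw [← mul_assoc, h3, hq]
    rintro x y (rfl | rfl | rfl | rfl) (rfl | rfl | rfl | rfl)
    all_goals simp only [Set.mem_setOf_eq, one_mul, mul_one, true_or, or_true]
    · exact Or.inl hp
    · exact Or.inr (Or.inr (Or.inl h1))
    · exact Or.inr (Or.inr (Or.inr h))
    · exact Or.inl hq
    · exact Or.inr (Or.inl h2)
    · exact Or.inr (Or.inr (Or.inl h3))
    · exact Or.inr (Or.inl h4)
    · exact Or.inl h5
  inv_mem' := by
    rintro x hx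
    have hx2 : x * x = 1 := by
      rcases hx with rfl | rfl | rfl | rfl
      · exact one_mul 1
      · exact hp
      · exact hq
      · rw [mul_assoc, ← mul_assoc q p q, h, mul_assoc, hq, mul_one, hp]
    rwa [inv_eq_of_mul_eq_one_right hx2]

theorem mem_K4 {p q : G} {hp : p * p = 1} {hq : q * q = 1} {h : q * p = p * q} {x : G} :
    x ∈ K4 p q hp hq h ↔ x = 1 ∨ x = p ∨ x = q ∨ x = p * q := Iff.rfl

theorem ncard_four {p q : G} (hp : p * p = 1) (hp1 : p ≠ 1) (hq1 : q ≠ 1) (hpq : p ≠ q) :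
    ({1, p, q, p * q} : Set G).ncard = 4 := by
  have h1 : p * q ≠ 1 := fun h => hpq (by
    have : p * (p * q) = p := by rw [h, mul_one]
    rw [← mul_assoc, hp, one_mul] at this
    exact this.symm)
  rw [Set.ncard_insert_of_notMem, Set.ncard_insert_of_notMem, Set.ncard_pair]
  · intro h
    exact hp1 (right_eq_mul.1 h)
  · simp only [Set.mem_insert_iff, Set.mem_singleton_iff, not_or]
    exact ⟨hpq, fun h => hq1 (left_eq_mul.1 h)⟩
  · simp only [Set.mem_insert_iff, Set.mem_singleton_iff, not_or]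
    exact ⟨fun h => hp1 h.symm, fun h => hq1 h.symm, fun h => h1 h.symm⟩

theorem card_K4 {p q : G} (hp : p * p = 1) (hq : q * q = 1) (h : q * p = p * q) (hp1 : p ≠ 1) (hq1 : q ≠ 1)
    (hpq : p ≠ q) : Nat.card (K4 p q hp hq h) = 4 := by
  have e : ((K4 p q hp hq h : Subgroup G) : Set G) = {1, p, q, p * q} := by
    ext x
    simp only [SetLike.mem_coe, mem_K4, Set.mem_insert_iff, Set.mem_singleton_iff]
  have : Nat.card (K4 p q hp hq h) = ((K4 p q hp hq h : Subgroup G) : Set G).ncard := rfl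
  rw [this, e, ncard_four hp hp1 hq1 hpq]

theorem mem4 [Finite G] {K : Subgroup G} (hc : Nat.card K = 4) (hsq : ∀ x ∈ K, x * x = 1) {p q : G} (hp : p ∈ K)
    (hq : q ∈ K) (hp1 : p ≠ 1) (hq1 : q ≠ 1) (hpq : p ≠ q) {x : G} (hx : x ∈ K) :
    x = 1 ∨ x = p ∨ x = q ∨ x = p * q := by
  have h1 : ({1, p, q, p * q} : Set G) ⊆ (K : Set G) := by
    intro y hy
    simp only [Set.mem_insert_iff, Set.mem_singleton_iff] at hy
    rcases hy with rfl | rfl | rfl | rfl
    · exact K.one_mem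
    · exact hp
    · exact hq
    · exact mul_mem hp hq
  have h2 : (K : Set G).ncard = 4 := hc
  have h3 := Set.eq_of_subset_of_ncard_le h1 (by rw [h2, ncard_four (hsq p hp) hp1 hq1 hpq]) (Set.toFinite _)
  have h4 : x ∈ ({1, p, q, p * q} : Set G) := by rw [h3]; exact hx
  simpa only [Set.mem_insert_iff, Set.mem_singleton_iff] using h4

theorem comm_of_sq {K : Subgroup G} (hsq : ∀ x ∈ K, x * x = 1) {p q : G} (hp : p ∈ K) (hq : q ∈ K) :
    q * p = p * q := by
  have h1 := hsq _ (mul_mem hp hq)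
  have h2 := hsq p hp
  have h3 := hsq q hq
  calc q * p = (p * p) * (q * p) * (q * q) := by rw [h2, h3, one_mul, mul_one]
    _ = p * (p * q * (p * q)) * q := by group
    _ = p * q := by rw [h1, mul_one]

/-! ### The plane -/

/-- see the header -/
structure Pl (S L X R V : Subgroup G) (r : G) : Prop where
  S_L : S ≤ normalizer (L : Set G)
  S_X : S ≤ normalizer (X : Set G)
  L_gen : ∀ H : Subgroup G, (∀ x ∈ L, ∀ n : ℕ, x ^ 2 ^ n = 1 → x ∈ H) → L ≤ H
  X_gen : ∀ H : Subgroup G, (∀ x ∈ X, ∀ n : ℕ, x ^ 2 ^ n = 1 → x ∈ H) → X ≤ H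
  R_card : Nat.card R = 8
  R_sq : ∀ x ∈ R, x * x = 1
  L_R : L ≤ normalizer (R : Set G)
  X_R : X ≤ normalizer (R : Set G)
  S_R : S ≤ normalizer (R : Set G)
  V_R : V ≤ R
  V_card : Nat.card V = 4
  r_V : r ∈ V
  r_ne : r ≠ 1
  L_r : ∀ l ∈ L, l * r = r * l
  S_r : ∀ s ∈ S, s * r = r * s
  X_V : X ≤ normalizer (V : Set G)
  S_V : S ≤ normalizer (V : Set G)
  L_tr : ∀ V' ≤ R, r ∈ V' → Nat.card V' = 4 → ∃ l ∈ L ⊔ S, ∀ x ∈ V, l * x * l⁻¹ ∈ V'
  X_tr : ∀ v ∈ V, v ≠ 1 → ∃ x ∈ X ⊔ S, x * r * x⁻¹ = v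
  L_idx : S.relIndex (L ⊔ S) = 3
  X_idx : S.relIndex (X ⊔ S) = 3
  cL : ∀ c ∈ L ⊔ X ⊔ S, (∀ x ∈ R, c * x = x * c) → ∀ l ∈ L, c * l * c⁻¹ * l⁻¹ ∈ S
  cX : ∀ c ∈ L ⊔ X ⊔ S, (∀ x ∈ R, c * x = x * c) → ∀ l ∈ X, c * l * c⁻¹ * l⁻¹ ∈ S

namespace Pl

variable {S L X R V : Subgroup G} {r : G} (D : Pl S L X R V r)
include D

theorem V_sq {x : G} (hx : x ∈ V) : x * x = 1 := D.R_sq x (D.V_R hx)

theorem LS_r {g : G} (hg : g ∈ L ⊔ S) : g * r = r * g := by
  have h1 : L ⊔ S ≤ centralizer {r} := sup_le (fun l hl => mem_centralizer_singleton_iff.2 (D.L_r l hl))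
    (fun l hl => mem_centralizer_singleton_iff.2 (D.S_r l hl))
  exact mem_centralizer_singleton_iff.1 (h1 hg)

theorem XS_V : X ⊔ S ≤ normalizer (V : Set G) := sup_le D.X_V D.S_V

theorem G_R : L ⊔ X ⊔ S ≤ normalizer (R : Set G) := sup_le (sup_le D.L_R D.X_R) D.S_R

theorem conjR {g x : G} (hg : g ∈ L ⊔ X ⊔ S) (hx : x ∈ R) : g * x * g⁻¹ ∈ R :=
  (mem_normalizer_iff.1 (D.G_R hg) x).1 hx

/-- a subgroup normalising `R` normalises `C(R)` -/
theorem conjC {g c : G} (hg : g ∈ L ⊔ X ⊔ S) (hc : c ∈ centralizer (R : Set G)) :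
    g * c * g⁻¹ ∈ centralizer (R : Set G) := by
  rw [mem_centralizer_iff] at hc ⊢
  intro x hx
  have h1 := hc _ (D.conjR (inv_mem hg) hx)
  rw [inv_inv] at h1
  calc x * (g * c * g⁻¹) = g * (g⁻¹ * x * g * c) * g⁻¹ := by group
    _ = g * (c * (g⁻¹ * x * g)) * g⁻¹ := by rw [h1]
    _ = g * c * g⁻¹ * x := by group

theorem le_L : L ⊔ S ≤ L ⊔ X ⊔ S := sup_le (le_sup_left.trans le_sup_left) le_sup_right

theorem le_X : X ⊔ S ≤ L ⊔ X ⊔ S := sup_le (le_sup_right.trans le_sup_left) le_sup_right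

theorem exists_notMem [Finite G] : ∃ e ∈ R, e ∉ V := by
  by_contra h
  push Not at h
  have h1 : R ≤ V := h
  have h2 := Subgroup.card_le_of_le h1
  rw [D.R_card, D.V_card] at h2
  omega

/-- if `S < K ≤ P`, `|P : S| = 3`, then `K = P` -/
theorem eq_of_three [Finite G] {P K : Subgroup G} (h3 : S.relIndex P = 3) (hK : S ≤ K) (hKP : K ≤ P) : K ≤ S ∨ P ≤ K := by
  have h1 := relIndex_mul_relIndex S K P hK hKP
  rw [h3] at h1
  have h2 : S.relIndex K ∣ 3 := ⟨_, h1.symm⟩
  rcases (Nat.dvd_prime Nat.prime_three).1 h2 with h | h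
  · exact Or.inl (relIndex_eq_one.1 h)
  · rw [h] at h1
    have h4 : K.relIndex P = 1 := by omega
    exact Or.inr (relIndex_eq_one.1 h4)

/-- `C(R) ∩ L S ≤ S` -/
theorem cen_L [Finite G] {c : G} (hc : c ∈ L ⊔ S) (hcR : c ∈ centralizer (R : Set G)) : c ∈ S := by
  let K0 : Subgroup G := centralizer (R : Set G) ⊓ (L ⊔ S)
  have hK : K0 ⊔ S ≤ L ⊔ S := sup_le inf_le_right le_sup_right
  rcases D.eq_of_three D.L_idx (le_sup_right : S ≤ K0 ⊔ S) hK with h | h
  · exact h (mem_sup_left ⟨hcR, hc⟩)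
  · exfalso
    have h1 : K0 ⊔ S ≤ normalizer (V : Set G) := by
      refine sup_le (fun x hx => ?_) D.S_V
      rw [mem_normalizer_iff]
      have key : ∀ x ∈ centralizer (R : Set G), ∀ v ∈ V, x * v * x⁻¹ = v := fun x hx v hv => by
        rw [← mem_centralizer_iff.1 hx v (D.V_R hv), mul_inv_cancel_right]
      intro v
      constructor
      · intro hv; rw [key x hx.1 v hv]; exact hv
      · intro hv
        have h2 := key x⁻¹ (inv_mem hx.1) _ hv
        have e : x⁻¹ * (x * v * x⁻¹) * x⁻¹⁻¹ = v := by group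
        rw [e] at h2
        rw [h2]; exact hv
    obtain ⟨e, he, heV⟩ := D.exists_notMem
    have he1 : e ≠ 1 := fun h => heV (h ▸ V.one_mem)
    have hre : r ≠ e := fun h => heV (h ▸ D.r_V)
    have hcm := comm_of_sq D.R_sq (D.V_R D.r_V) he
    have h4 := card_K4 (D.V_sq D.r_V) (D.R_sq e he) hcm D.r_ne he1 hre
    obtain ⟨l, hl, hlV⟩ := D.L_tr (K4 r e (D.V_sq D.r_V) (D.R_sq e he) hcm) (by
      rintro x (rfl | rfl | rfl | rfl)
      · exact one_mem _
      · exact D.V_R D.r_V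
      · exact he
      · exact mul_mem (D.V_R D.r_V) he) (Or.inr (Or.inl rfl)) h4
    have hlN := h1 (h hl)
    have h5 : V ≤ K4 r e (D.V_sq D.r_V) (D.R_sq e he) hcm := by
      intro v hv
      have h6 := hlV _ ((mem_normalizer_iff.1 (inv_mem hlN) v).1 hv)
      have e1 : l * (l⁻¹ * v * l⁻¹⁻¹) * l⁻¹ = v := by group
      rwa [e1] at h6
    have h6 := Subgroup.eq_of_le_of_card_ge h5 (by rw [h4, D.V_card])
    exact heV (by rw [h6]; exact Or.inr (Or.inr (Or.inl rfl)))

/-- `C(R) ∩ X S ≤ S` -/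
theorem cen_X [Finite G] {c : G} (hc : c ∈ X ⊔ S) (hcR : c ∈ centralizer (R : Set G)) : c ∈ S := by
  let K0 : Subgroup G := centralizer (R : Set G) ⊓ (X ⊔ S)
  have hK : K0 ⊔ S ≤ X ⊔ S := sup_le inf_le_right le_sup_right
  rcases D.eq_of_three D.X_idx (le_sup_right : S ≤ K0 ⊔ S) hK with h | h
  · exact h (mem_sup_left ⟨hcR, hc⟩)
  · exfalso
    have h1 : K0 ⊔ S ≤ centralizer {r} := by
      refine sup_le (fun x hx => ?_) (fun s hs => mem_centralizer_singleton_iff.2 (D.S_r s hs))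
      rw [mem_centralizer_singleton_iff]
      exact (mem_centralizer_iff.1 hx.1 r (D.V_R D.r_V)).symm
    -- another element of `V`
    obtain ⟨v, hv, hv1, hvr⟩ : ∃ v ∈ V, v ≠ 1 ∧ v ≠ r := by
      by_contra hcon
      push Not at hcon
      have h2 : (V : Set G) ⊆ {1, r} := by
        intro x hx
        by_cases h : x = 1
        · left; exact h
        · right; exact hcon x hx h
      have h3 := Set.ncard_le_ncard h2 (Set.toFinite _)
      have h4 : (V : Set G).ncard = 4 := D.V_card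
      have h5 : ({1, r} : Set G).ncard ≤ 2 :=
        (Set.ncard_insert_le _ _).trans (by rw [Set.ncard_singleton])
      omega
    obtain ⟨x, hx, hxv⟩ := D.X_tr v hv hv1
    have h2 := mem_centralizer_singleton_iff.1 (h1 (h hx))
    rw [h2, mul_inv_cancel_right] at hxv
    exact hvr hxv.symm

/-- `T = S ∩ C(R)` is normalised by `⟨L, X, S⟩` -/
theorem norm_T [Finite G] : L ⊔ X ⊔ S ≤ normalizer ((S ⊓ centralizer (R : Set G) : Subgroup G) : Set G) := by
  have key : ∀ P : Subgroup G, P ≤ L ⊔ X ⊔ S → S ≤ P → (∀ c ∈ P, c ∈ centralizer (R : Set G) → c ∈ S) →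
      P ≤ normalizer ((S ⊓ centralizer (R : Set G) : Subgroup G) : Set G) := by
    intro P hP hSP h g hg
    have h1 : ∀ g ∈ P, ∀ c ∈ (S ⊓ centralizer (R : Set G) : Subgroup G), g * c * g⁻¹ ∈
        (S ⊓ centralizer (R : Set G) : Subgroup G) := by
      intro g hg c hc
      have h2 := D.conjC (hP hg) hc.2
      exact ⟨h _ (mul_mem (mul_mem hg (hSP hc.1)) (inv_mem hg)) h2, h2⟩
    rw [mem_normalizer_iff]
    intro c
    refine ⟨h1 g hg c, fun hc => ?_⟩
    have h2 := h1 g⁻¹ (inv_mem hg) _ hc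
    have e : g⁻¹ * (g * c * g⁻¹) * g⁻¹⁻¹ = c := by group
    rwa [e] at h2
  have h1 := key (L ⊔ S) D.le_L le_sup_right fun c hc h => D.cen_L hc h
  have h2 := key (X ⊔ S) D.le_X le_sup_right fun c hc h => D.cen_X hc h
  exact sup_le (sup_le (le_sup_left.trans h1) (le_sup_left.trans h2)) (le_sup_right.trans h1)

/-- the elements of `⟨L, X⟩ T` which centralise `R` are in `S` -/
theorem cen_all [Finite G] (Sy : Sylow 2 G) (hS : (Sy : Subgroup G) = S) {c : G}
    (hc : c ∈ L ⊔ X ⊔ (S ⊓ centralizer (R : Set G))) (hcR : c ∈ centralizer (R : Set G)) : c ∈ S := by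
  set T : Subgroup G := S ⊓ centralizer (R : Set G) with hT
  set Γ : Subgroup G := L ⊔ X ⊔ T with hΓ
  have hΓ' : Γ ≤ L ⊔ X ⊔ S := sup_le_sup_left inf_le_left _
  have hTN : Γ ≤ normalizer (T : Set G) := hΓ'.trans D.norm_T
  have hTΓ : T ≤ Γ := le_sup_right
  have hTn : (T.subgroupOf Γ).Normal := normal_subgroupOf_of_le_normalizer hTN
  -- `[C, Γ] ≤ T`
  have hcen : ∀ c ∈ Γ, c ∈ centralizer (R : Set G) → ∀ g ∈ Γ, c * g * c⁻¹ * g⁻¹ ∈ T := by
    intro c hc hcR
    let E : Subgroup G :=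
      { carrier := {g | g ∈ normalizer (T : Set G) ∧ c * g * c⁻¹ * g⁻¹ ∈ T}
        one_mem' := ⟨one_mem _, by
          have : c * 1 * c⁻¹ * 1⁻¹ = 1 := by group
          rw [this]; exact one_mem _⟩
        mul_mem' := by
          rintro a b ⟨ha, ha'⟩ ⟨hb, hb'⟩
          refine ⟨mul_mem ha hb, ?_⟩
          have e : c * (a * b) * c⁻¹ * (a * b)⁻¹ = (c * a * c⁻¹ * a⁻¹) * (a * (c * b * c⁻¹ * b⁻¹) * a⁻¹) := by group
          rw [e]
          exact mul_mem ha' ((mem_normalizer_iff.1 ha _).1 hb')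
        inv_mem' := by
          rintro a ⟨ha, ha'⟩
          refine ⟨inv_mem ha, ?_⟩
          have e : c * a⁻¹ * c⁻¹ * a⁻¹⁻¹ = a⁻¹ * (c * a * c⁻¹ * a⁻¹)⁻¹ * a⁻¹⁻¹ := by group
          rw [e]
          exact (mem_normalizer_iff.1 (inv_mem ha) _).1 (inv_mem ha') }
    have hC : ∀ g ∈ L ⊔ X ⊔ S, c * g * c⁻¹ * g⁻¹ ∈ centralizer (R : Set G) := by
      intro g hg
      have e : c * g * c⁻¹ * g⁻¹ = c * (g * c⁻¹ * g⁻¹) := by group
      rw [e]
      exact mul_mem hcR (D.conjC hg (inv_mem hcR))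
    have hcR' : ∀ x ∈ R, c * x = x * c := fun x hx => (mem_centralizer_iff.1 hcR x hx).symm
    have h1 : Γ ≤ E := by
      refine sup_le (sup_le (fun l hl => ?_) (fun l hl => ?_)) (fun t ht => ?_)
      · have hl' : l ∈ L ⊔ X ⊔ S := mem_sup_left (mem_sup_left hl)
        exact ⟨D.norm_T hl', D.cL c (hΓ' hc) hcR' l hl, hC l hl'⟩
      · have hl' : l ∈ L ⊔ X ⊔ S := mem_sup_left (mem_sup_right hl)
        exact ⟨D.norm_T hl', D.cX c (hΓ' hc) hcR' l hl, hC l hl'⟩
      · refine ⟨le_normalizer ht, ?_⟩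
        exact mul_mem ((mem_normalizer_iff.1 (hTN hc) _).1 ht) (inv_mem ht)
    exact fun g hg => (h1 hg).2
  -- apply `le_of_central`
  have key : (centralizer (R : Set G)).subgroupOf Γ ≤ T.subgroupOf Γ := by
    apply OddCen.le_of_central
    · intro x hx
      exact mem_subgroupOf.2 (mem_subgroupOf.1 hx).2
    · intro c hc g
      exact mem_subgroupOf.2 (hcen c c.2 (mem_subgroupOf.1 hc) g g.2)
    · have h1 : (T.subgroupOf Γ).relIndex ((centralizer (R : Set G)).subgroupOf Γ) =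
          S.relIndex (centralizer (R : Set G) ⊓ Γ) := by
        have e1 : ((centralizer (R : Set G)).subgroupOf Γ) = ((centralizer (R : Set G) ⊓ Γ).subgroupOf Γ) := by
          rw [inf_subgroupOf_right]
        rw [e1, relIndex_subgroupOf inf_le_right]
        have e2 : T ⊓ (centralizer (R : Set G) ⊓ Γ) = S ⊓ (centralizer (R : Set G) ⊓ Γ) := by
          rw [hT, inf_assoc, ← inf_assoc (centralizer (R : Set G)), inf_idem]
        rw [← inf_relIndex_right T, e2, inf_relIndex_right]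
      rw [h1, ← hS]
      apply odd_inf
      rw [hS]
      intro s hs
      have hsN : s ∈ L ⊔ X ⊔ S := mem_sup_right hs
      have k1 : ∀ s ∈ S, ∀ x ∈ centralizer (R : Set G) ⊓ Γ, s * x * s⁻¹ ∈ centralizer (R : Set G) ⊓ Γ := by
        intro s hs x hx
        refine ⟨D.conjC (mem_sup_right hs) hx.1, ?_⟩
        have k2 : Γ ≤ normalizer (Γ : Set G) := le_normalizer
        have k3 : s ∈ normalizer (Γ : Set G) := by
          have k4 : ∀ s ∈ S, Γ.map (MulAut.conj s).toMonoidHom ≤ Γ := by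
            intro s hs
            rw [hΓ, Subgroup.map_sup, Subgroup.map_sup]
            refine sup_le_sup (sup_le_sup ?_ ?_) ?_
            · rintro _ ⟨l, hl, rfl⟩
              exact (mem_normalizer_iff.1 (D.S_L hs) l).1 hl
            · rintro _ ⟨l, hl, rfl⟩
              exact (mem_normalizer_iff.1 (D.S_X hs) l).1 hl
            · rintro _ ⟨l, hl, rfl⟩
              exact (mem_normalizer_iff.1 (D.norm_T (mem_sup_right hs)) l).1 hl
          rw [mem_normalizer_iff]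
          intro y
          constructor
          · intro hy
            exact k4 s hs ⟨y, hy, rfl⟩
          · intro hy
            have k5 := k4 s⁻¹ (inv_mem hs) ⟨_, hy, rfl⟩
            have e : (MulAut.conj s⁻¹).toMonoidHom (s * y * s⁻¹) = y := by
              show s⁻¹ * (s * y * s⁻¹) * s⁻¹⁻¹ = y
              group
            rwa [e] at k5
        exact (mem_normalizer_iff.1 k3 x).1 hx.2
      rw [mem_normalizer_iff]
      intro x
      refine ⟨k1 s hs x, fun hx => ?_⟩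
      have k6 := k1 s⁻¹ (inv_mem hs) _ hx
      have e : s⁻¹ * (s * x * s⁻¹) * s⁻¹⁻¹ = x := by group
      rwa [e] at k6
    · -- generated by 2-elements
      have h1 : Γ ≤ (closure (OddCen.two ↥Γ)).map Γ.subtype := by
        have k1 : ∀ x ∈ Γ, ∀ n : ℕ, x ^ 2 ^ n = 1 → x ∈ (closure (OddCen.two ↥Γ)).map Γ.subtype :=
          fun x hx n hn => ⟨⟨x, hx⟩, subset_closure ⟨n, Subtype.ext hn⟩, rfl⟩
        refine sup_le (sup_le (D.L_gen _ fun x hx n hn => k1 x (mem_sup_left (mem_sup_left hx)) n hn)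
          (D.X_gen _ fun x hx n hn => k1 x (mem_sup_left (mem_sup_right hx)) n hn)) (fun t ht => ?_)
        have k2 : t ∈ (Sy : Subgroup G) := by rw [hS]; exact ht.1
        obtain ⟨n, hn⟩ := Sy.isPGroup' ⟨t, k2⟩
        exact k1 t (hTΓ ht) n (congrArg Subtype.val hn)
      rw [eq_top_iff]
      intro x _
      obtain ⟨y, hy, hyx⟩ := h1 x.2
      have : y = x := Subtype.ext hyx
      rwa [← this]
    · -- the index
      have h1 : Nat.card (MulAut ↥R) = 168 := by
        have : Fact (Nat.Prime 2) := ⟨Nat.prime_two⟩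
        rw [Cfsg.Agent.Transfer.ElemAbAut.card_mulAut 2 3 (fun x y => Subtype.ext
          (comm_of_sq D.R_sq y.2 x.2)) (fun x => Subtype.ext (by
            rw [pow_two]; exact D.R_sq x x.2)) (by rw [D.R_card]; norm_num)]
        rfl
      have h2 : Γ ≤ normalizer (R : Set G) := hΓ'.trans D.G_R
      let φ : ↥Γ →* MulAut ↥R := R.normalizerMonoidHom.comp (Subgroup.inclusion h2)
      have hk : φ.ker = (centralizer (R : Set G)).subgroupOf Γ := by
        have e : φ.ker = (R.normalizerMonoidHom.ker).comap (Subgroup.inclusion h2) := rfl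
        rw [e, normalizerMonoidHom_ker]
        ext x
        rw [mem_comap, mem_subgroupOf, mem_subgroupOf]
        rfl
      rw [← hk, ← h1, Subgroup.index_ker]
      exact Subgroup.card_subgroup_dvd_card _
  have h1 : (⟨c, hc⟩ : ↥Γ) ∈ T.subgroupOf Γ := key (mem_subgroupOf.2 hcR)
  exact (mem_subgroupOf.1 h1).1

/-- an element which fixes `r` and `V` acts on `R` as an element of order dividing 4 -/
theorem pow_four [Finite G] {g : G} (hg : g ∈ L ⊔ X ⊔ S) (hr : g * r = r * g) (hV : g ∈ normalizer (V : Set G)) :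
    g ^ 2 ^ 2 ∈ centralizer (R : Set G) := by
  have hcm : ∀ {x y : G}, x ∈ R → y ∈ R → x * y = y * x := fun hx hy => comm_of_sq D.R_sq hy hx
  have hgV : ∀ v ∈ V, g * v * g⁻¹ ∈ V := fun v hv => (mem_normalizer_iff.1 hV v).1 hv
  have hgr : g * r * g⁻¹ = r := by rw [hr, mul_inv_cancel_right]
  have hr2 := D.V_sq D.r_V
  -- on `V`
  have h1 : ∀ v ∈ V, g * v * g⁻¹ = v ∨ g * v * g⁻¹ = v * r := by
    intro v hv
    by_cases hv1 : v = 1
    · left; rw [hv1, mul_one, mul_inv_cancel]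
    by_cases hvr : v = r
    · left; rw [hvr]; exact hgr
    rcases mem4 D.V_card (fun x hx => D.V_sq hx) hv D.r_V hv1 D.r_ne hvr (hgV v hv) with h | h | h | h
    · exfalso
      apply hv1
      have e : v = g⁻¹ * (g * v * g⁻¹) * g := by group
      rw [e, h, mul_one, inv_mul_cancel]
    · exact Or.inl h
    · exfalso
      apply hvr
      have e : v = g⁻¹ * (g * v * g⁻¹) * g := by group
      rw [e, h]
      rw [mul_assoc, ← hr, inv_mul_cancel_left]
    · exact Or.inr h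
  have h2 : ∀ v ∈ V, g * (g * v * g⁻¹) * g⁻¹ = v := by
    intro v hv
    rcases h1 v hv with h | h
    · rw [h, h]
    · have e : g * (v * r) * g⁻¹ = (g * v * g⁻¹) * (g * r * g⁻¹) := by group
      rw [h, e, h, hgr, mul_assoc, hr2, mul_one]
  -- on `R`
  have h3 : ∀ x ∈ R, x⁻¹ * (g * x * g⁻¹) ∈ V := by
    intro x hx
    have hxg : g * x * g⁻¹ ∈ R := D.conjR hg hx
    by_cases hxV : x ∈ V
    · exact mul_mem (inv_mem hxV) (hgV x hxV)
    · have hidx : V.relIndex R = 2 := by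
        have := card_mul_relIndex D.V_R
        rw [D.V_card, D.R_card] at this
        omega
      have hxgV : g * x * g⁻¹ ∉ V := fun h => hxV ((mem_normalizer_iff.1 hV x).2 h)
      have h4 : (V.subgroupOf R).index = 2 := hidx
      have h5 := (Subgroup.mul_mem_iff_of_index_two h4 (a := ⟨x⁻¹, inv_mem hx⟩) (b := ⟨_, hxg⟩)).2 (by
        rw [mem_subgroupOf, mem_subgroupOf]
        constructor
        · intro h; exact absurd (by simpa using inv_mem h) hxV
        · intro h; exact absurd h hxgV)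
      exact mem_subgroupOf.1 h5
  rw [mem_centralizer_iff]
  intro x hx
  obtain ⟨a, ha, hxa⟩ : ∃ a ∈ V, g * x * g⁻¹ = x * a := ⟨_, h3 x hx, by rw [mul_inv_cancel_left]⟩
  have haR := D.V_R ha
  have hgaV := hgV a ha
  -- `g² x g⁻² = x b`
  have h4 : g * (g * x * g⁻¹) * g⁻¹ = x * (a * (g * a * g⁻¹)) := by
    have e : g * (x * a) * g⁻¹ = (g * x * g⁻¹) * (g * a * g⁻¹) := by group
    rw [hxa, e, hxa, mul_assoc]
  set b := a * (g * a * g⁻¹) with hb
  have hbV : b ∈ V := mul_mem ha hgaV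
  have h5 : g * (g * (g * (g * x * g⁻¹) * g⁻¹) * g⁻¹) * g⁻¹ = x := by
    rw [h4]
    have e : g * (g * (x * b) * g⁻¹) * g⁻¹ = (g * (g * x * g⁻¹) * g⁻¹) * (g * (g * b * g⁻¹) * g⁻¹) := by group
    rw [e, h4, h2 b hbV, mul_assoc, D.V_sq hbV, mul_one]
  have e : g ^ 2 ^ 2 = g * g * (g * g) := by
    have : (2 : ℕ) ^ 2 = 2 + 2 := by norm_num
    rw [this, pow_add, pow_two]
  have h6 : g ^ 2 ^ 2 * x * (g ^ 2 ^ 2)⁻¹ = x := by
    rw [e]
    calc g * g * (g * g) * x * (g * g * (g * g))⁻¹ = g * (g * (g * (g * x * g⁻¹) * g⁻¹) * g⁻¹) * g⁻¹ := by group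
      _ = x := h5
  have h7 := mul_inv_eq_iff_eq_mul.1 h6
  exact h7.symm

/-- **the stabiliser of the flag `(r, V)` is `S`** -/
theorem stab [Finite G] (Sy : Sylow 2 G) (hS : (Sy : Subgroup G) = S) {g : G} (hg : g ∈ L ⊔ X ⊔ S)
    (hr : g * r = r * g) (hV : g ∈ normalizer (V : Set G)) : g ∈ S := by
  set T : Subgroup G := S ⊓ centralizer (R : Set G) with hT
  set Γ : Subgroup G := L ⊔ X ⊔ T with hΓ
  have hΓ' : Γ ≤ L ⊔ X ⊔ S := sup_le_sup_left inf_le_left _
  -- `S` normalises `Γ`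
  have hSΓ : S ≤ normalizer (Γ : Set G) := by
    have k4 : ∀ s ∈ S, Γ.map (MulAut.conj s).toMonoidHom ≤ Γ := by
      intro s hs
      rw [hΓ, Subgroup.map_sup, Subgroup.map_sup]
      refine sup_le_sup (sup_le_sup ?_ ?_) ?_
      · rintro _ ⟨l, hl, rfl⟩
        exact (mem_normalizer_iff.1 (D.S_L hs) l).1 hl
      · rintro _ ⟨l, hl, rfl⟩
        exact (mem_normalizer_iff.1 (D.S_X hs) l).1 hl
      · rintro _ ⟨l, hl, rfl⟩
        exact (mem_normalizer_iff.1 (D.norm_T (mem_sup_right hs)) l).1 hl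
    intro s hs
    rw [mem_normalizer_iff]
    intro y
    constructor
    · intro hy
      exact k4 s hs ⟨y, hy, rfl⟩
    · intro hy
      have k5 := k4 s⁻¹ (inv_mem hs) ⟨_, hy, rfl⟩
      have e : (MulAut.conj s⁻¹).toMonoidHom (s * y * s⁻¹) = y := by
        show s⁻¹ * (s * y * s⁻¹) * s⁻¹⁻¹ = y
        group
      rwa [e] at k5
  -- the stabiliser in `Γ`
  set D0 : Subgroup G := Γ ⊓ (centralizer {r} ⊓ normalizer (V : Set G)) with hD0
  have hD2 : IsPGroup 2 ↥D0 := by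
    rintro ⟨x, hx⟩
    obtain ⟨hx1, hx2, hx3⟩ := hx
    have h1 := D.pow_four (hΓ' hx1) (mem_centralizer_singleton_iff.1 hx2) hx3
    have h2 := D.cen_all Sy hS (pow_mem hx1 (2 ^ 2)) h1
    rw [← hS] at h2
    obtain ⟨n, hn⟩ := Sy.isPGroup' ⟨_, h2⟩
    refine ⟨2 + n, Subtype.ext ?_⟩
    show x ^ 2 ^ (2 + n) = 1
    rw [pow_add, pow_mul]
    exact congrArg Subtype.val hn
  have hSD : S ≤ normalizer (D0 : Set G) := by
    have k1 : ∀ s ∈ S, ∀ x ∈ D0, s * x * s⁻¹ ∈ D0 := by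
      rintro s hs x ⟨hx1, hx2, hx3⟩
      have h1 : s ∈ (centralizer {r} : Subgroup G) := mem_centralizer_singleton_iff.2 (D.S_r s hs)
      have h2 : s * x * s⁻¹ ∈ (centralizer {r} : Subgroup G) := mul_mem (mul_mem h1 hx2) (inv_mem h1)
      have h3 : s * x * s⁻¹ ∈ normalizer (V : Set G) := mul_mem (mul_mem (D.S_V hs) hx3) (inv_mem (D.S_V hs))
      exact ⟨(mem_normalizer_iff.1 (hSΓ hs) x).1 hx1, h2, h3⟩
    intro s hs
    rw [mem_normalizer_iff]
    intro x
    refine ⟨k1 s hs x, fun hx => ?_⟩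
    have k6 := k1 s⁻¹ (inv_mem hs) _ hx
    have e : s⁻¹ * (s * x * s⁻¹) * s⁻¹⁻¹ = x := by group
    rwa [e] at k6
  have hDS : D0 ≤ S := by
    have h1 : IsPGroup 2 ↥((Sy : Subgroup G) ⊔ D0) := by
      rw [sup_comm]
      exact hD2.to_sup_of_normal_left' Sy.isPGroup' (by rw [hS]; exact hSD)
    have h2 := Sy.is_maximal' h1 le_sup_left
    rw [← hS, ← h2]
    exact le_sup_right
  -- `g = γ s`
  have hg' : g ∈ Γ ⊔ S := by
    have : L ⊔ X ⊔ S ≤ Γ ⊔ S := sup_le_sup_right le_sup_left _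
    exact this hg
  rw [← SetLike.mem_coe, Subgroup.coe_mul_of_right_le_normalizer_left _ _ hSΓ] at hg'
  obtain ⟨γ, hγ, s, hs, rfl⟩ := hg'
  have h1 : s ∈ (centralizer {r} : Subgroup G) := mem_centralizer_singleton_iff.2 (D.S_r s hs)
  have h2 : γ * s ∈ (centralizer {r} : Subgroup G) := mem_centralizer_singleton_iff.2 hr
  have h3 : γ * s * s⁻¹ ∈ (centralizer {r} : Subgroup G) := mul_mem h2 (inv_mem h1)
  have h4 : γ * s * s⁻¹ ∈ normalizer (V : Set G) := mul_mem hV (inv_mem (D.S_V hs))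
  rw [mul_inv_cancel_right] at h3 h4
  exact mul_mem (hDS ⟨hγ, h3, h4⟩) hs

end Pl

/-! ### The geometry -/

/-- the conjugate `g K g⁻¹` -/
def cjg (g : G) (K : Subgroup G) : Subgroup G := K.map (MulAut.conj g).toMonoidHom

theorem mem_cjg {g x : G} {K : Subgroup G} : x ∈ cjg g K ↔ g⁻¹ * x * g ∈ K := by
  constructor
  · rintro ⟨u, hu, rfl⟩
    have : g⁻¹ * ((MulAut.conj g).toMonoidHom u) * g = u := by
      show g⁻¹ * (g * u * g⁻¹) * g = u
      group
    rw [this]; exact hu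
  · intro h
    refine ⟨_, h, ?_⟩
    show g * (g⁻¹ * x * g) * g⁻¹ = x
    group

theorem cjg_cjg (g h : G) (K : Subgroup G) : cjg g (cjg h K) = cjg (g * h) K := by
  ext x
  rw [mem_cjg, mem_cjg, mem_cjg]
  have : h⁻¹ * (g⁻¹ * x * g) * h = (g * h)⁻¹ * x * (g * h) := by group
  rw [this]

theorem cjg_one (K : Subgroup G) : cjg 1 K = K := by
  ext x; rw [mem_cjg]; simp

theorem card_cjg (g : G) (K : Subgroup G) : Nat.card (cjg g K) = Nat.card K :=
  Subgroup.card_map_of_injective (MulAut.conj g).injective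

theorem cjg_eq_iff {g : G} {K : Subgroup G} : cjg g K = K ↔ g ∈ normalizer (K : Set G) := by
  constructor
  · intro h
    rw [mem_normalizer_iff]
    intro x
    constructor
    · intro hx
      rw [← h, mem_cjg]
      have : g⁻¹ * (g * x * g⁻¹) * g = x := by group
      rwa [this]
    · intro hx
      rw [← h, mem_cjg] at hx
      have : g⁻¹ * (g * x * g⁻¹) * g = x := by group
      rwa [this] at hx
  · intro h
    ext x
    rw [mem_cjg, (mem_normalizer_iff.1 h (g⁻¹ * x * g))]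
    have : g * (g⁻¹ * x * g) * g⁻¹ = x := by group
    rw [this]

/-- the action on the points -/
def aG (Γ : Subgroup G) : ↥Γ →* Equiv.Perm G where
  toFun h := (MulAut.conj (h : G)).toEquiv
  map_one' := by
    ext x
    show ((1 : ↥Γ) : G) * x * ((1 : ↥Γ) : G)⁻¹ = x
    simp
  map_mul' h k := by
    ext x
    show ((h * k : ↥Γ) : G) * x * ((h * k : ↥Γ) : G)⁻¹ = (h : G) * ((k : G) * x * (k : G)⁻¹) * (h : G)⁻¹
    rw [Subgroup.coe_mul]; group

theorem aG_apply {Γ : Subgroup G} (h : ↥Γ) (x : G) : aG Γ h x = (h : G) * x * (h : G)⁻¹ := rfl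

/-- the action on the lines -/
def bG (Γ : Subgroup G) : ↥Γ →* Equiv.Perm (Subgroup G) where
  toFun h :=
    { toFun := cjg (h : G)
      invFun := cjg (h : G)⁻¹
      left_inv := fun K => by rw [cjg_cjg, inv_mul_cancel, cjg_one]
      right_inv := fun K => by rw [cjg_cjg, mul_inv_cancel, cjg_one] }
  map_one' := by
    ext1 K
    exact cjg_one K
  map_mul' h k := by
    ext1 K
    exact (cjg_cjg (h : G) (k : G) K).symm

theorem bG_apply {Γ : Subgroup G} (h : ↥Γ) (K : Subgroup G) : bG Γ h K = cjg (h : G) K := rfl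

namespace Pl

variable [Finite G] {L X R V : Subgroup G} {r : G} (S : Sylow 2 G) (D : Pl (S : Subgroup G) L X R V r)
include D

/-- the coset geometry of `L S`, `X S` over `S` is the plane of `R` -/
theorem inc {I : Type*} {P : I → Subgroup G} {a b : I} (hB : ∀ k, (S : Subgroup G) ≤ P k)
    (ha : P a = L ⊔ (S : Subgroup G)) (hb : P b = X ⊔ (S : Subgroup G)) :
    Inc (S : Subgroup G) P b a (L ⊔ X ⊔ (S : Subgroup G)) (aG _) (bG _) {x | x ∈ R ∧ x ≠ 1}
      {K | K ≤ R ∧ Nat.card K = 4} (fun x K => x ∈ K) r V := by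
  have hst : ∀ h ∈ L ⊔ X ⊔ (S : Subgroup G), h * r * h⁻¹ = r → cjg h V = V → h ∈ (S : Subgroup G) :=
    fun h hh h1 h2 => D.stab S rfl hh (mul_inv_eq_iff_eq_mul.1 h1) (cjg_eq_iff.1 h2)
  have hne : ∀ h x : G, x ≠ 1 → h * x * h⁻¹ ≠ 1 := fun h x hx h1 => hx (by
    have : x = h⁻¹ * (h * x * h⁻¹) * h := by group
    rw [this, h1, mul_one, inv_mul_cancel])
  refine ⟨hB, ?_, ?_, ⟨D.V_R D.r_V, D.r_ne⟩, ⟨D.V_R, D.V_card⟩, D.r_V, ?_, ?_, ?_, ?_, ?_, ?_, ?_, ?_⟩
  · rw [hb]; exact D.le_X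
  · rw [ha]; exact D.le_L
  · rintro h p ⟨hp, hp1⟩
    exact ⟨D.conjR h.2 hp, hne _ _ hp1⟩
  · rintro h K ⟨hK, hK4⟩
    refine ⟨?_, by rw [bG_apply, card_cjg, hK4]⟩
    rintro _ ⟨u, hu, rfl⟩
    exact D.conjR h.2 (hK hu)
  · intro h p _ K _ hp
    rw [aG_apply, bG_apply, mem_cjg]
    have : (h : G)⁻¹ * ((h : G) * p * (h : G)⁻¹) * (h : G) = p := by group
    rwa [this]
  · intro h
    constructor
    · intro hS
      exact ⟨by rw [aG_apply, D.S_r _ hS, mul_inv_cancel_right], by rw [bG_apply]; exact cjg_eq_iff.2 (D.S_V hS)⟩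
    · rintro ⟨h1, h2⟩
      exact hst _ h.2 h1 h2
  · intro h
    rw [hb]
    constructor
    · intro h1
      exact cjg_eq_iff.2 (D.XS_V h1)
    · intro h1
      have h2 := cjg_eq_iff.1 h1
      obtain ⟨x, hx, hxr⟩ := D.X_tr _ ((mem_normalizer_iff.1 h2 r).1 D.r_V) (hne _ _ D.r_ne)
      have h3 : x⁻¹ * (h : G) ∈ (S : Subgroup G) := by
        apply hst _ (mul_mem (inv_mem (D.le_X hx)) h.2)
        · calc x⁻¹ * (h : G) * r * (x⁻¹ * (h : G))⁻¹ = x⁻¹ * ((h : G) * r * (h : G)⁻¹) * x := by group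
            _ = x⁻¹ * (x * r * x⁻¹) * x := by rw [hxr]
            _ = r := by group
        · exact cjg_eq_iff.2 (mul_mem (inv_mem (D.XS_V hx)) h2)
      have e : (h : G) = x * (x⁻¹ * (h : G)) := by group
      rw [e]
      exact mul_mem hx (mem_sup_right h3)
  · intro h
    rw [ha]
    constructor
    · intro h1
      rw [aG_apply, D.LS_r h1, mul_inv_cancel_right]
    · intro h1
      have h1' : (h : G) * r * (h : G)⁻¹ = r := h1
      have hV' : cjg (h : G) V ≤ R := by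
        rintro _ ⟨u, hu, rfl⟩
        exact D.conjR h.2 (D.V_R hu)
      obtain ⟨l, hl, hlV⟩ := D.L_tr (cjg (h : G) V) hV' (by
        rw [mem_cjg]
        have : (h : G)⁻¹ * r * (h : G) = r := by
          have h5 : (h : G) * r = r * (h : G) := mul_inv_eq_iff_eq_mul.1 h1'
          rw [mul_assoc, ← h5, inv_mul_cancel_left]
        rw [this]; exact D.r_V) (by rw [card_cjg, D.V_card])
      have h3 : cjg l V = cjg (h : G) V := by
        apply Subgroup.eq_of_le_of_card_ge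
        · rintro _ ⟨u, hu, rfl⟩
          exact hlV u hu
        · rw [card_cjg, card_cjg]
      have hlr : l * r = r * l := D.LS_r hl
      have h4 : l⁻¹ * (h : G) ∈ (S : Subgroup G) := by
        apply hst _ (mul_mem (inv_mem (D.le_L hl)) h.2)
        · calc l⁻¹ * (h : G) * r * (l⁻¹ * (h : G))⁻¹ = l⁻¹ * ((h : G) * r * (h : G)⁻¹) * l := by group
            _ = l⁻¹ * r * l := by rw [h1']
            _ = r := by rw [mul_assoc, ← hlr, inv_mul_cancel_left]
        · rw [← cjg_cjg, ← h3, cjg_cjg, inv_mul_cancel, cjg_one]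
      have e : (h : G) = l * (l⁻¹ * (h : G)) := by group
      rw [e]
      exact mul_mem hl (mem_sup_right h4)
  · rintro p ⟨hp, hp1⟩ hpV
    obtain ⟨x, hx, hxr⟩ := D.X_tr p hpV hp1
    exact ⟨⟨x, D.le_X hx⟩, cjg_eq_iff.2 (D.XS_V hx), hxr⟩
  · rintro K ⟨hK, hK4⟩ hr
    obtain ⟨l, hl, hlV⟩ := D.L_tr K hK hr hK4
    refine ⟨⟨l, D.le_L hl⟩, ?_, ?_⟩
    · rw [aG_apply, D.LS_r hl, mul_inv_cancel_right]
    · apply Subgroup.eq_of_le_of_card_ge
      · rintro _ ⟨u, hu, rfl⟩
        exact hlV u hu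
      · rw [bG_apply, card_cjg, hK4, D.V_card]

/-- **the residue is a projective plane** -/
theorem gpp {I : Type*} {P : I → Subgroup G} {a b : I} (hB : ∀ k, (S : Subgroup G) ≤ P k)
    (ha : P a = L ⊔ (S : Subgroup G)) (hb : P b = X ⊔ (S : Subgroup G)) :
    GPp (S : Subgroup G) P a b 3 ∧ GPp (S : Subgroup G) P b a 3 := by
  have h := D.inc S hB ha hb
  have P2 : ∀ p ∈ {x | x ∈ R ∧ x ≠ 1}, ∀ p' ∈ {x | x ∈ R ∧ x ≠ 1}, p ≠ p' →
      ∀ K ∈ {K : Subgroup G | K ≤ R ∧ Nat.card K = 4}, ∀ K' ∈ {K : Subgroup G | K ≤ R ∧ Nat.card K = 4},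
      p ∈ K → p' ∈ K → p ∈ K' → p' ∈ K' → K = K' := by
    rintro p ⟨hp, hp1⟩ p' ⟨hp', hp1'⟩ hne K ⟨hK, hK4⟩ K' ⟨hK', hK4'⟩ h1 h2 h3 h4
    apply Subgroup.eq_of_le_of_card_ge _ (by rw [hK4, hK4'])
    intro x hx
    rcases mem4 hK4 (fun y hy => D.R_sq y (hK hy)) h1 h2 hp1 hp1' hne hx with rfl | rfl | rfl | rfl
    · exact K'.one_mem
    · exact h3
    · exact h4
    · exact mul_mem h3 h4
  constructor
  · refine h.symm.rk_three (fun K hK K' hK' hne => ?_) (fun K hK K' hK' hne p hp p' hp' h1 h2 h3 h4 => ?_)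
    · -- two lines meet
      by_contra hcon
      push Not at hcon
      have hdis : ∀ x, x ∈ K → x ∈ K' → x = 1 := by
        intro x hx hx'
        by_contra hx1
        exact hcon x ⟨hK.1 hx, hx1⟩ hx hx'
      let φ : ↥K × ↥K' → ↥R := fun x => ⟨(x.1 : G) * (x.2 : G), mul_mem (hK.1 x.1.2) (hK'.1 x.2.2)⟩
      have hφ : Function.Injective φ := by
        rintro ⟨⟨x, hx⟩, ⟨y, hy⟩⟩ ⟨⟨x', hx'⟩, ⟨y', hy'⟩⟩ he
        have he' : x * y = x' * y' := congrArg Subtype.val he
        have h5 : x'⁻¹ * x = y' * y⁻¹ := by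
          have : x'⁻¹ * x = x'⁻¹ * (x * y) * y⁻¹ := by group
          rw [this, he']; group
        have h6 := hdis (x'⁻¹ * x) (mul_mem (inv_mem hx') hx) (by rw [h5]; exact mul_mem hy' (inv_mem hy))
        have h7 : x = x' := by
          have := inv_mul_eq_one.1 h6
          exact this.symm
        subst h7
        have h8 : y = y' := mul_left_cancel he'
        subst h8
        rfl
      have h5 := Nat.card_le_card_of_injective φ hφ
      rw [Nat.card_prod, hK.2, hK'.2, D.R_card] at h5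
      omega
    · by_contra h5
      exact hne (P2 p hp p' hp' h5 K hK K' hK' h1 h3 h2 h4)
  · refine h.rk_three (fun p hp p' hp' hne => ?_) P2
    have hcm := comm_of_sq D.R_sq hp.1 hp'.1
    refine ⟨K4 p p' (D.R_sq p hp.1) (D.R_sq p' hp'.1) hcm, ⟨?_, card_K4 _ _ _ hp.2 hp'.2 hne⟩,
      Or.inr (Or.inl rfl), Or.inr (Or.inr (Or.inl rfl))⟩
    rintro x (rfl | rfl | rfl | rfl)
    · exact one_mem _
    · exact hp.1
    · exact hp'.1
    · exact mul_mem hp.1 hp'.1

end Pl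

end Cfsg.Agent.Omega.HTwo.SysPlane
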