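import Mathlib
import Cfsg.Agent.ParSys.Polar.SympBorel

/-!
# A group acting on an elementary abelian 2-group with a symplectic form: the flag stabilisers

`SData C U z f` : `C` acts on the elementary abelian 2-group `U` by conjugation, centralises `z ∈ U`; `f` is a `C`-invariant
alternating form on `U` with radical `⟨z⟩`, and `C` induces all the transvections of `U / ⟨z⟩`.

`Md U z w` : `w : G → W` is a model of `U / ⟨z⟩` over `ZMod 2`; `exists_md`.
`gf`, `rho`, `sigma` : the form, the action on `W` and on the subspaces; `symp : Symp gf`, `sact : SAct gf rho sigma`.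

`exists_pol` : a Sylow 2-subgroup `S ≤ C` which fixes the members of a flag `f₀` is the full stabiliser
`fst C sigma m fl ∅` of a maximal flag `fl` through `f₀` (if `C_C(U)` is a 2-group).
-/

set_option autoImplicit false

namespace Cfsg.Agent.Omega.HTwo.SysSymp

open Subgroup Module Cfsg.Agent.ParSys.Polar.Flags Cfsg.Agent.ParSys.Polar.Sympl

universe u

variable {G : Type u} [Group G]

/-- `C` induces on `U / ⟨z⟩` a group of isometries of the symplectic form `f` which contains all the transvections -/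
structure SData (C U : Subgroup G) (z : G) (f : G → G → ZMod 2) : Prop where
  zz : z * z = 1
  C_z : ∀ c ∈ C, c * z = z * c
  z_U : z ∈ U
  U_comm : ∀ u ∈ U, ∀ v ∈ U, u * v = v * u
  U_sq : ∀ u ∈ U, u * u = 1
  U_C : ∀ c ∈ C, ∀ u ∈ U, c * u * c⁻¹ ∈ U
  f_add : ∀ u ∈ U, ∀ v ∈ U, ∀ w ∈ U, f (u * v) w = f u w + f v w
  f_symm : ∀ u ∈ U, ∀ v ∈ U, f u v = f v u
  f_self : ∀ u ∈ U, f u u = 0
  f_C : ∀ c ∈ C, ∀ u ∈ U, ∀ v ∈ U, f (c * u * c⁻¹) (c * v * c⁻¹) = f u v
  f_rad : ∀ u ∈ U, (∀ v ∈ U, f u v = 0) → u = 1 ∨ u = z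
  f_z : ∀ u ∈ U, f z u = 0
  tv : ∀ p ∈ U, ∃ c ∈ C, ∀ u ∈ U, (f u p = 0 → c * u * c⁻¹ = u ∨ c * u * c⁻¹ = u * z) ∧
    (f u p = 1 → c * u * c⁻¹ = u * p ∨ c * u * c⁻¹ = u * p * z)

/-- a model of `U / ⟨z⟩` -/
structure Md (U : Subgroup G) (z : G) {W : Type*} [AddCommGroup W] (w : G → W) : Prop where
  mul : ∀ u ∈ U, ∀ v ∈ U, w (u * v) = w u + w v
  ker : ∀ u ∈ U, w u = 0 → u = 1 ∨ u = z
  sur : ∀ x, ∃ u ∈ U, w u = x
  wz : w z = 0

/-! ### Existence of a model -/

section model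

variable {C U : Subgroup G} {z : G} {f : G → G → ZMod 2} (D : SData C U z f)
include D

theorem SData.f_add' {u v w : G} (hu : u ∈ U) (hv : v ∈ U) (hw : w ∈ U) : f u (v * w) = f u v + f u w := by
  rw [D.f_symm u hu _ (mul_mem hv hw), D.f_add v hv w hw u hu, D.f_symm v hv u hu, D.f_symm w hw u hu]

theorem SData.f_one {u : G} (hu : u ∈ U) : f 1 u = 0 := by
  have h := D.f_add 1 U.one_mem 1 U.one_mem u hu
  rw [one_mul] at h
  exact left_eq_add.1 h

theorem SData.f_one' {u : G} (hu : u ∈ U) : f u 1 = 0 := by rw [D.f_symm u hu 1 U.one_mem, D.f_one hu]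

theorem SData.f_z' {u : G} (hu : u ∈ U) : f u z = 0 := by rw [D.f_symm u hu z D.z_U, D.f_z u hu]

theorem exists_md : ∃ (W : Type u) (_ : AddCommGroup W) (_ : Module (ZMod 2) W) (w : G → W), Md U z w ∧
    (Finite G → Finite W) := by
  classical
  let φ : G → (G → ZMod 2) := fun u v => if v ∈ U then f u v else 0
  let W : Submodule (ZMod 2) (G → ZMod 2) :=
    { carrier := {x | ∃ u ∈ U, x = φ u}
      zero_mem' := ⟨1, U.one_mem, by
        funext v
        by_cases hv : v ∈ U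
        · simp only [φ, if_pos hv, Pi.zero_apply, D.f_one hv]
        · simp only [φ, if_neg hv, Pi.zero_apply]⟩
      add_mem' := by
        rintro _ _ ⟨u, hu, rfl⟩ ⟨u', hu', rfl⟩
        refine ⟨u * u', mul_mem hu hu', ?_⟩
        funext v
        by_cases hv : v ∈ U
        · simp only [φ, if_pos hv, Pi.add_apply, D.f_add u hu u' hu' v hv]
        · simp only [φ, if_neg hv, Pi.add_apply, add_zero]
      smul_mem' := by
        rintro a _ ⟨u, hu, rfl⟩
        have ha : a = 0 ∨ a = 1 := by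
          revert a; decide
        rcases ha with rfl | rfl
        · refine ⟨1, U.one_mem, ?_⟩
          funext v
          by_cases hv : v ∈ U
          · simp only [φ, if_pos hv, zero_smul, Pi.zero_apply, D.f_one hv]
          · simp only [φ, if_neg hv, zero_smul, Pi.zero_apply]
        · exact ⟨u, hu, one_smul _ _⟩ }
  let w : G → W := fun u => if h : u ∈ U then ⟨φ u, u, h, rfl⟩ else 0
  have hw : ∀ u ∈ U, ((w u : W) : G → ZMod 2) = φ u := fun u hu => by
    simp only [w, dif_pos hu]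
  refine ⟨W, inferInstance, inferInstance, w, ⟨?_, ?_, ?_, ?_⟩, fun _ => inferInstance⟩
  · intro u hu v hv
    apply Subtype.ext
    rw [Submodule.coe_add, hw _ (mul_mem hu hv), hw _ hu, hw _ hv]
    funext x
    by_cases hx : x ∈ U
    · simp only [φ, if_pos hx, Pi.add_apply, D.f_add u hu v hv x hx]
    · simp only [φ, if_neg hx, Pi.add_apply, add_zero]
  · intro u hu h
    apply D.f_rad u hu
    intro v hv
    have h1 : φ u = 0 := by rw [← hw u hu, h]; rfl
    have h2 := congrFun h1 v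
    simp only [φ, if_pos hv, Pi.zero_apply] at h2
    exact h2
  · rintro ⟨_, u, hu, rfl⟩
    exact ⟨u, hu, Subtype.ext (hw u hu)⟩
  · apply Subtype.ext
    rw [hw z D.z_U]
    funext v
    by_cases hv : v ∈ U
    · simp only [φ, if_pos hv, D.f_z v hv]; rfl
    · simp only [φ, if_neg hv]; rfl

end model

/-! ### The form and the action -/

section action

variable {C U : Subgroup G} {z : G} {f : G → G → ZMod 2} (D : SData C U z f)
  {W : Type*} [AddCommGroup W] {w : G → W} (K : Md U z w)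

include K in
theorem Md.w_one : w 1 = 0 := by
  have h := K.mul 1 U.one_mem 1 U.one_mem
  rw [one_mul] at h
  exact left_eq_add.1 h

include D K in
theorem w_eq_iff {u v : G} (hu : u ∈ U) (hv : v ∈ U) : w u = w v ↔ u = v ∨ u = v * z := by
  constructor
  · intro h
    have h1 : w (v * u) = 0 := by
      rw [K.mul v hv u hu, h, ← K.mul v hv v hv, D.U_sq v hv, K.w_one]
    rcases K.ker _ (mul_mem hv hu) h1 with h2 | h2
    · left
      have h3 : v * (v * u) = v := by rw [h2, mul_one]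
      rw [← mul_assoc, D.U_sq v hv, one_mul] at h3
      exact h3
    · right
      have h3 : v * (v * u) = v * z := by rw [h2]
      rw [← mul_assoc, D.U_sq v hv, one_mul] at h3
      exact h3
  · rintro (rfl | rfl)
    · rfl
    · rw [K.mul v hv z D.z_U, K.wz, add_zero]

/-- a representative -/
noncomputable def lf (x : W) : G := (K.sur x).choose

theorem lf_mem (x : W) : lf K x ∈ U := (K.sur x).choose_spec.1

include K in
theorem w_lf (x : W) : w (lf K x) = x := (K.sur x).choose_spec.2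

/-- the form on `W` -/
noncomputable def gf (f : G → G → ZMod 2) (x y : W) : ZMod 2 := f (lf K x) (lf K y)

include D in
theorem gf_w {u v : G} (hu : u ∈ U) (hv : v ∈ U) : gf K f (w u) (w v) = f u v := by
  have h1 := (w_eq_iff D K (lf_mem K (w u)) hu).1 (w_lf K (w u))
  have h2 := (w_eq_iff D K (lf_mem K (w v)) hv).1 (w_lf K (w v))
  have e1 : ∀ y ∈ U, f (lf K (w u)) y = f u y := by
    intro y hy
    rcases h1 with h1 | h1
    · rw [h1]
    · rw [h1, D.f_add u hu z D.z_U y hy, D.f_z y hy, add_zero]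
  have e2 : f u (lf K (w v)) = f u v := by
    rcases h2 with h2 | h2
    · rw [h2]
    · rw [h2, D.f_add' hu hv D.z_U, D.f_z' hu, add_zero]
  rw [gf, e1 _ (lf_mem K _), e2]

/-- the action on `W` -/
noncomputable def rho (c : ↥C) : W ≃+ W where
  toFun x := w ((c : G) * lf K x * (c : G)⁻¹)
  invFun x := w ((c : G)⁻¹ * lf K x * (c : G)⁻¹⁻¹)
  left_inv x := by
    have h1 := D.U_C c c.2 _ (lf_mem K x)
    have h2 := (w_eq_iff D K (lf_mem K _) h1).1 (w_lf K (w ((c : G) * lf K x * (c : G)⁻¹)))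
    have e1 : (c : G)⁻¹ * ((c : G) * lf K x * (c : G)⁻¹) * (c : G)⁻¹⁻¹ = lf K x := by group
    rcases h2 with h2 | h2
    · show w ((c : G)⁻¹ * lf K (w ((c : G) * lf K x * (c : G)⁻¹)) * (c : G)⁻¹⁻¹) = x
      rw [h2, e1, w_lf K]
    · show w ((c : G)⁻¹ * lf K (w ((c : G) * lf K x * (c : G)⁻¹)) * (c : G)⁻¹⁻¹) = x
      have e2 : (c : G)⁻¹ * ((c : G) * lf K x * (c : G)⁻¹ * z) * (c : G)⁻¹⁻¹ = lf K x * z := by
        have := D.C_z _ c.2
        calc (c : G)⁻¹ * ((c : G) * lf K x * (c : G)⁻¹ * z) * (c : G)⁻¹⁻¹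
            = lf K x * (c : G)⁻¹ * (z * (c : G)) := by group
          _ = lf K x * (c : G)⁻¹ * ((c : G) * z) := by rw [this]
          _ = lf K x * z := by group
      rw [h2, e2, K.mul _ (lf_mem K x) z D.z_U, K.wz, add_zero, w_lf K]
  right_inv x := by
    have h0 : (c : G)⁻¹ ∈ C := inv_mem c.2
    have h1 := D.U_C _ h0 _ (lf_mem K x)
    have h2 := (w_eq_iff D K (lf_mem K _) h1).1 (w_lf K (w ((c : G)⁻¹ * lf K x * (c : G)⁻¹⁻¹)))
    have e1 : (c : G) * ((c : G)⁻¹ * lf K x * (c : G)⁻¹⁻¹) * (c : G)⁻¹ = lf K x := by group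
    rcases h2 with h2 | h2
    · show w ((c : G) * lf K (w ((c : G)⁻¹ * lf K x * (c : G)⁻¹⁻¹)) * (c : G)⁻¹) = x
      rw [h2, e1, w_lf K]
    · show w ((c : G) * lf K (w ((c : G)⁻¹ * lf K x * (c : G)⁻¹⁻¹)) * (c : G)⁻¹) = x
      have e2 : (c : G) * ((c : G)⁻¹ * lf K x * (c : G)⁻¹⁻¹ * z) * (c : G)⁻¹ = lf K x * z := by
        have := D.C_z _ c.2
        calc (c : G) * ((c : G)⁻¹ * lf K x * (c : G)⁻¹⁻¹ * z) * (c : G)⁻¹
            = lf K x * ((c : G) * z) * (c : G)⁻¹ := by group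
          _ = lf K x * (z * (c : G)) * (c : G)⁻¹ := by rw [this]
          _ = lf K x * z := by group
      rw [h2, e2, K.mul _ (lf_mem K x) z D.z_U, K.wz, add_zero, w_lf K]
  map_add' x y := by
    have h1 := (w_eq_iff D K (lf_mem K (x + y)) (mul_mem (lf_mem K x) (lf_mem K y))).1 (by
      rw [w_lf K, K.mul _ (lf_mem K x) _ (lf_mem K y), w_lf K, w_lf K])
    have hx := D.U_C c c.2 _ (lf_mem K x)
    have hy := D.U_C c c.2 _ (lf_mem K y)
    rw [← K.mul _ hx _ hy]
    have e1 : (c : G) * (lf K x * lf K y) * (c : G)⁻¹ = (c : G) * lf K x * (c : G)⁻¹ * ((c : G) * lf K y * (c : G)⁻¹) := by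
      group
    rcases h1 with h1 | h1
    · rw [h1, e1]
    · have e2 : (c : G) * (lf K x * lf K y * z) * (c : G)⁻¹ =
          (c : G) * lf K x * (c : G)⁻¹ * ((c : G) * lf K y * (c : G)⁻¹) * z := by
        have := D.C_z _ c.2
        calc (c : G) * (lf K x * lf K y * z) * (c : G)⁻¹
            = (c : G) * (lf K x * lf K y) * (c : G)⁻¹ * ((c : G) * z) * (c : G)⁻¹ := by group
          _ = (c : G) * (lf K x * lf K y) * (c : G)⁻¹ * (z * (c : G)) * (c : G)⁻¹ := by rw [this]
          _ = _ := by group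
      rw [h1, e2, K.mul _ (mul_mem hx hy) z D.z_U, K.wz, add_zero]

theorem rho_w (c : ↥C) {u : G} (hu : u ∈ U) : rho D K c (w u) = w ((c : G) * u * (c : G)⁻¹) := by
  have h1 := (w_eq_iff D K (lf_mem K (w u)) hu).1 (w_lf K (w u))
  show w ((c : G) * lf K (w u) * (c : G)⁻¹) = _
  rcases h1 with h1 | h1
  · rw [h1]
  · have e2 : (c : G) * (u * z) * (c : G)⁻¹ = (c : G) * u * (c : G)⁻¹ * z := by
      have := D.C_z _ c.2
      calc (c : G) * (u * z) * (c : G)⁻¹ = (c : G) * u * (c : G)⁻¹ * ((c : G) * z) * (c : G)⁻¹ := by group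
        _ = (c : G) * u * (c : G)⁻¹ * (z * (c : G)) * (c : G)⁻¹ := by rw [this]
        _ = _ := by group
    rw [h1, e2, K.mul _ (D.U_C c c.2 u hu) z D.z_U, K.wz, add_zero]

theorem rho_mul (a b : ↥C) (x : W) : rho D K (a * b) x = rho D K a (rho D K b x) := by
  obtain ⟨u, hu, rfl⟩ := K.sur x
  rw [rho_w D K _ hu, rho_w D K _ hu, rho_w D K _ (D.U_C b b.2 u hu)]
  congr 1
  rw [Subgroup.coe_mul]; group

theorem rho_one (x : W) : rho D K 1 x = x := by
  obtain ⟨u, hu, rfl⟩ := K.sur x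
  rw [rho_w D K _ hu, Subgroup.coe_one, one_mul, inv_one, mul_one]

variable [Module (ZMod 2) W]

/-- `rho c` as a linear map -/
noncomputable def rl (c : ↥C) : W →ₗ[ZMod 2] W := (rho D K c).toAddMonoidHom.toZModLinearMap 2

@[simp] theorem rl_apply (c : ↥C) (x : W) : rl D K c x = rho D K c x := rfl

theorem rl_mul (a b : ↥C) : rl D K (a * b) = (rl D K a).comp (rl D K b) := by
  ext x
  exact rho_mul D K a b x

theorem rl_one : rl D K 1 = LinearMap.id := by
  ext x
  exact rho_one D K x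

/-- the action on the subspaces -/
noncomputable def sigma : ↥C →* Equiv.Perm (Submodule (ZMod 2) W) where
  toFun c :=
    { toFun := fun X => X.map (rl D K c)
      invFun := fun X => X.map (rl D K c⁻¹)
      left_inv := fun X => by
        show (X.map (rl D K c)).map (rl D K c⁻¹) = X
        rw [← Submodule.map_comp, ← rl_mul, inv_mul_cancel, rl_one, Submodule.map_id]
      right_inv := fun X => by
        show (X.map (rl D K c⁻¹)).map (rl D K c) = X
        rw [← Submodule.map_comp, ← rl_mul, mul_inv_cancel, rl_one, Submodule.map_id] }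
  map_one' := by
    ext1 X
    show X.map (rl D K 1) = X
    rw [rl_one, Submodule.map_id]
  map_mul' a b := by
    ext1 X
    show X.map (rl D K (a * b)) = (X.map (rl D K b)).map (rl D K a)
    rw [rl_mul, Submodule.map_comp]

theorem sigma_apply (c : ↥C) (X : Submodule (ZMod 2) W) : sigma D K c X = X.map (rl D K c) := rfl

theorem mem_sigma {c : ↥C} {X : Submodule (ZMod 2) W} {y : W} :
    y ∈ sigma D K c X ↔ ∃ x ∈ X, rho D K c x = y := by
  rw [sigma_apply, Submodule.mem_map]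
  rfl

include D in
/-- the form is symplectic -/
theorem symp : Symp (F := ZMod 2) (gf K f) where
  two := by decide
  self x := by rw [gf]; exact D.f_self _ (lf_mem K x)
  add x y t := by
    obtain ⟨u, hu, rfl⟩ := K.sur x
    obtain ⟨v, hv, rfl⟩ := K.sur y
    obtain ⟨s, hs, rfl⟩ := K.sur t
    rw [← K.mul u hu v hv, gf_w D K (mul_mem hu hv) hs, gf_w D K hu hs, gf_w D K hv hs, D.f_add u hu v hv s hs]
  smul a x y := by
    have ha : a = 0 ∨ a = 1 := by
      revert a; decide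
    obtain ⟨v, hv, rfl⟩ := K.sur y
    rcases ha with rfl | rfl
    · rw [zero_smul, zero_mul, ← K.w_one, gf_w D K U.one_mem hv, D.f_one hv]
    · rw [one_smul, one_mul]
  sym x y := by
    rw [gf, gf]; exact D.f_symm _ (lf_mem K y) _ (lf_mem K x)
  nd x h := by
    obtain ⟨u, hu, rfl⟩ := K.sur x
    have h1 : ∀ v ∈ U, f u v = 0 := fun v hv => by rw [← gf_w D K hu hv]; exact h _
    rcases D.f_rad u hu h1 with rfl | rfl
    · exact K.w_one
    · exact K.wz

/-- `C` acts by isometries and induces all the transvections -/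
theorem sact : SAct (gf K f) (rho D K) (sigma D K) where
  mul := rho_mul D K
  sig c X y := mem_sigma D K
  lin c s v := (rl D K c).map_smul s v
  iso c x y := by
    obtain ⟨u, hu, rfl⟩ := K.sur x
    obtain ⟨v, hv, rfl⟩ := K.sur y
    rw [rho_w D K c hu, rho_w D K c hv, gf_w D K (D.U_C c c.2 u hu) (D.U_C c c.2 v hv), gf_w D K hu hv,
      D.f_C c c.2 u hu v hv]
  tv y a := by
    have ha : a = 0 ∨ a = 1 := by
      revert a; decide
    rcases ha with rfl | rfl
    · exact ⟨1, fun v => by rw [rho_one, zero_mul, zero_smul, add_zero]⟩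
    · obtain ⟨p, hp, rfl⟩ := K.sur y
      obtain ⟨c, hc, h⟩ := D.tv p hp
      refine ⟨⟨c, hc⟩, fun v => ?_⟩
      obtain ⟨u, hu, rfl⟩ := K.sur v
      rw [rho_w D K _ hu, gf_w D K hu hp, one_mul]
      have hf : f u p = 0 ∨ f u p = 1 := by
        generalize f u p = a
        revert a; decide
      obtain ⟨h1, h2⟩ := h u hu
      have hU := D.U_C c hc u hu
      rcases hf with hf | hf
      · rw [hf, zero_smul, add_zero]
        exact (w_eq_iff D K hU hu).2 (h1 hf)
      · rw [hf, one_smul, ← K.mul u hu p hp]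
        exact (w_eq_iff D K hU (mul_mem hu hp)).2 (h2 hf)

/-! ### Subspaces and subgroups -/

/-- the subspace of a subgroup -/
def sm (_ : SData C U z f) (K : Md U z w) (A : Subgroup G) : Submodule (ZMod 2) W where
  carrier := {x | ∃ u ∈ A ⊓ U, w u = x}
  zero_mem' := ⟨1, one_mem _, K.w_one⟩
  add_mem' := by
    rintro _ _ ⟨u, hu, rfl⟩ ⟨v, hv, rfl⟩
    exact ⟨u * v, mul_mem hu hv, K.mul u hu.2 v hv.2⟩
  smul_mem' := by
    rintro a _ ⟨u, hu, rfl⟩
    have ha : a = 0 ∨ a = 1 := by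
      revert a; decide
    rcases ha with rfl | rfl
    · exact ⟨1, one_mem _, by rw [zero_smul, K.w_one]⟩
    · exact ⟨u, hu, by rw [one_smul]⟩

theorem mem_sm {A : Subgroup G} {x : W} : x ∈ sm D K A ↔ ∃ u ∈ A ⊓ U, w u = x := Iff.rfl

theorem w_mem_sm {A : Subgroup G} (hz : z ∈ A) {u : G} (hu : u ∈ U) : w u ∈ sm D K A ↔ u ∈ A := by
  constructor
  · rintro ⟨v, hv, h⟩
    rcases (w_eq_iff D K hu hv.2).1 h.symm with rfl | rfl
    · exact hv.1
    · exact mul_mem hv.1 hz
  · intro h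
    exact ⟨u, ⟨h, hu⟩, rfl⟩

/-- the subspace `X` is fixed by `c` -/
theorem sigma_eq_iff [Finite W] {c : ↥C} {X : Submodule (ZMod 2) W} :
    sigma D K c X = X ↔ ∀ u ∈ U, w u ∈ X → w ((c : G) * u * (c : G)⁻¹) ∈ X := by
  constructor
  · intro h u hu hX
    rw [← h, mem_sigma]
    exact ⟨w u, hX, rho_w D K c hu⟩
  · intro h
    have hle : sigma D K c X ≤ X := by
      intro y hy
      obtain ⟨x, hx, rfl⟩ := (mem_sigma D K).1 hy
      obtain ⟨u, hu, rfl⟩ := K.sur x
      rw [rho_w D K c hu]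
      exact h u hu hx
    have : FiniteDimensional (ZMod 2) W := Module.Finite.of_finite
    exact eq_of_rk hle ((sact D K).card_eq c X)

include D K in
/-- the span of `w p` -/
theorem mem_span_w {p : G} (hp : p ∈ U) {u : G} (hu : u ∈ U) :
    w u ∈ Submodule.span (ZMod 2) {w p} ↔ u = 1 ∨ u = z ∨ u = p ∨ u = p * z := by
  rw [Submodule.mem_span_singleton]
  constructor
  · rintro ⟨a, ha⟩
    have ha' : a = 0 ∨ a = 1 := by
      clear ha
      revert a; decide
    rcases ha' with rfl | rfl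
    · rw [zero_smul] at ha
      rcases K.ker u hu ha.symm with h | h
      · exact Or.inl h
      · exact Or.inr (Or.inl h)
    · rw [one_smul] at ha
      rcases (w_eq_iff D K hu hp).1 ha.symm with h | h
      · exact Or.inr (Or.inr (Or.inl h))
      · exact Or.inr (Or.inr (Or.inr h))
  · rintro (rfl | rfl | rfl | rfl)
    · exact ⟨0, by rw [zero_smul, K.w_one]⟩
    · exact ⟨0, by rw [zero_smul, K.wz]⟩
    · exact ⟨1, one_smul _ _⟩
    · exact ⟨1, by rw [one_smul, K.mul p hp z D.z_U, K.wz, add_zero]⟩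

/-! ### The Sylow group as a flag stabiliser -/

/-- **a Sylow 2-subgroup `S ≤ C` is the full stabiliser of a maximal flag** through a given `S`-invariant flag -/
theorem exists_pol [Finite G] [Finite W] (S : Sylow 2 G) (hS : (S : Subgroup G) ≤ C)
    (hker : ∀ c ∈ C, (∀ u ∈ U, c * u = u * c) → ∃ n, c ^ 2 ^ n = 1) {k : ℕ} {f₀ : ℕ → Submodule (ZMod 2) W}
    (h : Fl (TI (gf K f)) k f₀)
    (hinv : ∀ s ∈ (S : Subgroup G), ∀ d ≤ k, ∀ u ∈ U, w u ∈ f₀ d → w (s * u * s⁻¹) ∈ f₀ d) :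
    ∃ (m : ℕ) (fl : ℕ → Submodule (ZMod 2) W), k ≤ m ∧ Pol C (gf K f) (rho D K) (sigma D K) m fl ∧
      (∀ d ≤ k, fl d = f₀ d) ∧ fst C (sigma D K) m fl ∅ = (S : Subgroup G) := by
  have hfd : FiniteDimensional (ZMod 2) W := Module.Finite.of_finite
  obtain ⟨m, hm⟩ := (symp D K).exists_witt
  have hF : Nat.card (ZMod 2) = 2 := by rw [Nat.card_eq_fintype_card, ZMod.card]
  have A := sact D K
  have hA : Act (sigma D K) (TI (gf K f) (F := ZMod 2)) := SAct.act (symp D K) A
  let tau : ↥(S : Subgroup G) →* Equiv.Perm (Submodule (ZMod 2) W) := (sigma D K).comp (Subgroup.inclusion hS)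
  have htau : ∀ (s : ↥(S : Subgroup G)) (X : Submodule (ZMod 2) W), tau s X = sigma D K ⟨(s : G), hS s.2⟩ X :=
    fun _ _ => rfl
  obtain ⟨hkm, fl, h1, h2, h3⟩ := exists_fl_inv (symp D K) (tau := tau) hF hm S.isPGroup'
    (fun s X Y hXY => by rw [htau, htau]; exact hA.le _ hXY)
    (fun s X => by rw [htau]; exact hA.rk _ X)
    (fun s X hX => by rw [htau]; exact hA.sing _ hX) h
    (fun s d hd => by
      rw [htau, sigma_eq_iff]
      exact hinv s s.2 d hd)
  have P : Pol C (gf K f) (rho D K) (sigma D K) m fl := ⟨symp D K, A, hm, h1⟩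
  refine ⟨m, fl, hkm, P, h2, ?_⟩
  have hle : (S : Subgroup G) ≤ fst C (sigma D K) m fl ∅ := by
    intro s hs
    refine ⟨hS hs, fun d hd _ => ?_⟩
    have := h3 ⟨s, hs⟩ d hd
    rwa [htau] at this
  have hp : IsPGroup 2 ↥(fst C (sigma D K) m fl ∅) := by
    rintro ⟨c, hc⟩
    obtain ⟨hcC, hc'⟩ := hc
    have h4 : ∀ v, rho D K (⟨c, hcC⟩ ^ 2 ^ (m + 1)) v = v := fun v => P.pow_triv hF (c := ⟨c, hcC⟩) ⟨hcC, hc'⟩ v
    have h5 : ∀ u ∈ U, c ^ 2 ^ (m + 1) * u * (c ^ 2 ^ (m + 1))⁻¹ = u ∨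
        c ^ 2 ^ (m + 1) * u * (c ^ 2 ^ (m + 1))⁻¹ = u * z := by
      intro u hu
      have h6 := h4 (w u)
      rw [rho_w D K _ hu] at h6
      have h7 := D.U_C (c ^ 2 ^ (m + 1)) (pow_mem hcC _) u hu
      exact (w_eq_iff D K h7 hu).1 h6
    have hzc : c ^ 2 ^ (m + 1) * z = z * c ^ 2 ^ (m + 1) := D.C_z _ (pow_mem hcC _)
    have h6 : ∀ u ∈ U, c ^ 2 ^ (m + 2) * u = u * c ^ 2 ^ (m + 2) := by
      intro u hu
      have e : c ^ 2 ^ (m + 2) = c ^ 2 ^ (m + 1) * c ^ 2 ^ (m + 1) := by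
        rw [← pow_add]; congr 1; ring
      rw [e]
      set d := c ^ 2 ^ (m + 1) with hd
      rcases h5 u hu with h7 | h7
      · have h8 : d * u = u * d := mul_inv_eq_iff_eq_mul.1 h7
        rw [mul_assoc, h8, ← mul_assoc, h8, mul_assoc]
      · have h8 : d * u = u * z * d := mul_inv_eq_iff_eq_mul.1 h7
        calc d * d * u = d * (d * u) := mul_assoc _ _ _
          _ = d * (u * z * d) := by rw [h8]
          _ = (d * u) * z * d := by group
          _ = u * z * d * z * d := by rw [h8]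
          _ = u * z * (d * z) * d := by group
          _ = u * z * (z * d) * d := by rw [hzc]
          _ = u * (z * z) * (d * d) := by group
          _ = u * (d * d) := by rw [D.zz, mul_one]
    obtain ⟨n, hn⟩ := hker _ (pow_mem hcC _) h6
    refine ⟨m + 2 + n, Subtype.ext ?_⟩
    show c ^ 2 ^ (m + 2 + n) = 1
    rw [pow_add, pow_mul]
    exact hn
  exact S.is_maximal' hp hle

end action

end Cfsg.Agent.Omega.HTwo.SysSymp
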