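import Cfsg.Agent.Omega.HTwo.SysFlag

/-!
# The upper bound for the order of a chamber stabiliser of a symplectic space over the field of two elements

* `card_ge` (level of `Sympl.Pol`, `|F| = 2`) : `|B| ≤ |Q| 2 ^ (m ^ 2)`, `Q` contains the kernel;
* `Flg.card_ge` : `|PPs C m X ∅| ≤ |Q| 2 ^ (m ^ 2)`, `Q` contains the elements of `C` which act trivially on `U / ⟨z⟩`;
* `Flg.card_eq` : equality if `Q` is the kernel;
* `Flg.le_sub` : `SData M`, `SData M₀`, `M₀ ≤ M`, `M₀` contains the kernel of `M`: then `PPs M m X ∅ ≤ M₀`, and `M = M₀`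
  (`Flg.eq_sub`).
-/

set_option autoImplicit false
set_option linter.unusedSectionVars false

namespace Cfsg.Agent.Omega.HTwo.SysUpper

open Subgroup Module Cfsg.Agent.ParSys.Polar.Flags Cfsg.Agent.ParSys.Polar.Sympl
open Cfsg.Agent.Omega.HTwo.SysSymp

/-- a map on a group whose fibres lie in cosets -/
theorem card_le_mul {G T : Type*} [Group G] [Finite G] [Finite T] (B B' : Subgroup G) (φ : B → T)
    (h : ∀ a b : B, φ a = φ b → (a : G)⁻¹ * b ∈ B') : Nat.card B ≤ Nat.card B' * Nat.card T := by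
  classical
  have : Nonempty B := ⟨1⟩
  rw [← Nat.card_prod]
  let ψ : B → B' × T := fun b => (⟨((Function.invFun φ (φ b) : B) : G)⁻¹ * b, h _ _ (Function.invFun_eq ⟨b, rfl⟩)⟩, φ b)
  apply Nat.card_le_card_of_injective ψ
  intro a b hab
  have h1 : φ a = φ b := congrArg Prod.snd hab
  have h2 : ((Function.invFun φ (φ a) : B) : G)⁻¹ * a = ((Function.invFun φ (φ b) : B) : G)⁻¹ * b :=
    congrArg (fun x : B' × T => (x.1 : G)) hab
  rw [h1] at h2
  exact Subtype.ext (mul_left_cancel h2)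

section pol

variable {F W : Type*} [Field F] [Finite F] [AddCommGroup W] [Module F W] [FiniteDimensional F W]
  {G : Type*} [Group G] {C : Subgroup G} {g : W → W → F} {rho : ↥C → W ≃+ W}
  {sigma : ↥C →* Equiv.Perm (Submodule F W)} {m : ℕ} {f : ℕ → Submodule F W}

/-- the elements of the flag stabiliser which fix `x 0, …, x (i - 1)` -/
def Bs (p : Pol C g rho sigma m f) (x : ℕ → W) (i : ℕ) : Subgroup G where
  carrier := {c | c ∈ fst C sigma m f ∅ ∧ ∀ h : c ∈ C, ∀ k < i, rho ⟨c, h⟩ (x k) = x k}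
  one_mem' := ⟨one_mem _, fun _ _ _ => p.A.one _⟩
  mul_mem' := fun {a b} ha hb => ⟨mul_mem ha.1 hb.1, fun _ k hk => by
    have e : (⟨a * b, mul_mem ha.1.1 hb.1.1⟩ : ↥C) = ⟨a, ha.1.1⟩ * ⟨b, hb.1.1⟩ := rfl
    rw [e, p.A.mul, hb.2 hb.1.1 k hk, ha.2 ha.1.1 k hk]⟩
  inv_mem' := fun {a} ha => ⟨inv_mem ha.1, fun _ k hk => by
    have e : (⟨a⁻¹, inv_mem ha.1.1⟩ : ↥C) = ⟨a, ha.1.1⟩⁻¹ := rfl
    rw [e]
    have h1 := p.A.inv_mul_apply ⟨a, ha.1.1⟩ (x k)
    rwa [ha.2 ha.1.1 k hk] at h1⟩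

/-- the vectors orthogonal to `f (i + 1)` and to `x 0, …, x (i - 1)` -/
def Ts (p : Pol C g rho sigma m f) (x : ℕ → W) (i : ℕ) : Submodule F W where
  carrier := {v | v ∈ p.H.perp (f (i + 1)) ∧ ∀ k < i, g v (x k) = 0}
  zero_mem' := ⟨Submodule.zero_mem _, fun _ _ => p.H.zero_l _⟩
  add_mem' := fun ha hb => ⟨Submodule.add_mem _ ha.1 hb.1, fun k hk => by rw [p.H.add, ha.2 k hk, hb.2 k hk, add_zero]⟩
  smul_mem' := fun s _ ha => ⟨Submodule.smul_mem _ s ha.1, fun k hk => by rw [p.H.smul, ha.2 k hk, mul_zero]⟩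

variable (p : Pol C g rho sigma m f) {x : ℕ → W}
  (hx : ∀ k < m, x k ∈ p.H.perp (f k) ∧ x k ∉ p.H.perp (f (k + 1)))

theorem exists_x : ∃ x : ℕ → W, ∀ k < m, x k ∈ p.H.perp (f k) ∧ x k ∉ p.H.perp (f (k + 1)) := by
  classical
  have key : ∀ k, ∃ v, k < m → v ∈ p.H.perp (f k) ∧ v ∉ p.H.perp (f (k + 1)) := by
    intro k
    by_cases hk : k < m
    · by_contra hcon
      push Not at hcon
      have h1 : p.H.perp (f k) ≤ p.H.perp (f (k + 1)) := fun v hv => by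
        obtain ⟨-, h⟩ := hcon v
        exact h hv
      have h2 := p.H.perp_anti h1
      rw [p.H.perp_perp, p.H.perp_perp] at h2
      have h3 := Submodule.finrank_mono h2
      rw [p.hf.rk _ hk, p.hf.rk k hk.le] at h3
      omega
    · exact ⟨0, fun h => absurd h hk⟩
  choose x hx using key
  exact ⟨x, hx⟩

include hx

/-- the `x k` separate the points of `f i` -/
theorem sep {i : ℕ} (hi : i ≤ m) {e : W} (he : e ∈ f i) (h : ∀ k < i, g e (x k) = 0) : e = 0 := by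
  induction i with
  | zero => rwa [p.hf.zero, Submodule.mem_bot] at he
  | succ i ih =>
    by_cases hei : e ∈ f i
    · exact ih (by omega) hei fun k hk => h k (by omega)
    · exfalso
      have h1 : f (i + 1) = f i ⊔ (F ∙ e) := by
        symm
        exact eq_of_rk (sup_le (p.hf.mono i hi) (by rwa [Submodule.span_singleton_le_iff_mem]))
          (by rw [Submodule.finrank_sup_span_singleton hei, p.hf.rk _ hi, p.hf.rk i (by omega)])
      apply (hx i hi).2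
      rw [h1, p.H.mem_perp_sup, p.H.mem_perp_span]
      exact ⟨(hx i hi).1, p.H.zero_comm (h i (by omega))⟩

variable (hF : Nat.card F = 2)
include hF

/-- the elements which fix `x 0, …, x (i - 1)` fix `f (i + 1)` pointwise -/
theorem fix {i : ℕ} {c : G} (hc : c ∈ Bs p x i) {d : ℕ} (hd : d ≤ m) (hdi : d ≤ i + 1) {y : W} (hy : y ∈ f d) :
    rho ⟨c, hc.1.1⟩ y = y := by
  rcases Nat.eq_zero_or_pos d with rfl | hd0
  · rw [p.hf.zero, Submodule.mem_bot] at hy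
    rw [hy, map_zero]
  · obtain ⟨d, rfl⟩ : ∃ d', d = d' + 1 := ⟨d - 1, by omega⟩
    have h1 := p.sub_mem_of_two hF (c := ⟨c, hc.1.1⟩) hc.1 (by omega : d < m) hy
    have h2 : rho ⟨c, hc.1.1⟩ y - y = 0 := by
      refine sep p hx (by omega) h1 fun k hk => ?_
      have h3 := hc.2 hc.1.1 k (by omega)
      have h4 := p.A.iso ⟨c, hc.1.1⟩ y (x k)
      rw [h3] at h4
      rw [p.H.sub_w, p.H.add, h4, p.H.two_self]
    exact sub_eq_zero.1 h2

theorem sub_mem_Ts {i : ℕ} (hi : i < m) {c : G} (hc : c ∈ Bs p x i) : rho ⟨c, hc.1.1⟩ (x i) - x i ∈ Ts p x i := by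
  constructor
  · intro y hy
    have h3 := fix p hx hF hc (d := i + 1) hi le_rfl hy
    have h4 := p.A.iso ⟨c, hc.1.1⟩ (x i) y
    rw [h3] at h4
    rw [p.H.sub_w, p.H.add, h4, p.H.two_self]
  · intro k hk
    have h3 := hc.2 hc.1.1 k hk
    have h4 := p.A.iso ⟨c, hc.1.1⟩ (x i) (x k)
    rw [h3] at h4
    rw [p.H.sub_w, p.H.add, h4, p.H.two_self]

omit hF in
theorem card_Ts (hF : Nat.card F = 2) {i : ℕ} (hi : i < m) : Nat.card (Ts p x i) ≤ 2 ^ (2 * m - 2 * i - 1) := by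
  have h1 : Ts p x i ⊓ f i = ⊥ := by
    rw [eq_bot_iff]
    rintro v ⟨hv1, hv2⟩
    rw [Submodule.mem_bot]
    exact sep p hx hi.le hv2 hv1.2
  have h2 : Ts p x i ⊔ f i ≤ p.H.perp (f (i + 1)) :=
    sup_le (fun v hv => hv.1) fun v hv y hy =>
      p.hf.sing v (p.hf.le hi.le le_rfl hv) y (p.hf.le hi le_rfl hy)
  have h3 := Submodule.finrank_mono h2
  have h4 := Submodule.finrank_sup_add_finrank_inf_eq (Ts p x i) (f i)
  have h5 := p.H.finrank_perp (f (i + 1))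
  rw [p.H.finrank_eq p.hm, p.hf.rk _ hi] at h5
  rw [h1, finrank_bot, p.hf.rk i hi.le] at h4
  rw [Module.natCard_eq_pow_finrank (K := F), hF]
  exact Nat.pow_le_pow_right (by norm_num) (by omega)

/-- one step -/
theorem step [Finite G] {i : ℕ} (hi : i < m) :
    Nat.card (Bs p x i) ≤ Nat.card (Bs p x (i + 1)) * 2 ^ (2 * m - 2 * i - 1) := by
  have hW : Finite W := Module.finite_of_finite F
  refine le_trans (card_le_mul (Bs p x i) (Bs p x (i + 1))
    (fun b => (⟨rho ⟨b, b.2.1.1⟩ (x i) - x i, sub_mem_Ts p hx hF hi b.2⟩ : Ts p x i)) ?_)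
    (Nat.mul_le_mul_left _ (card_Ts p hx hF hi))
  intro a b hab
  have h1 : rho ⟨a, a.2.1.1⟩ (x i) - x i = rho ⟨b, b.2.1.1⟩ (x i) - x i := congrArg Subtype.val hab
  have h2 : rho ⟨a, a.2.1.1⟩ (x i) = rho ⟨b, b.2.1.1⟩ (x i) := sub_left_inj.1 h1
  have h3 : (a : G)⁻¹ * b ∈ Bs p x i := mul_mem (inv_mem a.2) b.2
  refine ⟨h3.1, fun h k hk => ?_⟩
  rcases Nat.lt_succ_iff_lt_or_eq.1 hk with hk | rfl
  · exact h3.2 h k hk
  · have e : (⟨(a : G)⁻¹ * b, h⟩ : ↥C) = ⟨(a : G), a.2.1.1⟩⁻¹ * ⟨(b : G), b.2.1.1⟩ := rfl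
    rw [e, p.A.mul, ← h2, p.A.inv_mul_apply]

theorem Bs_triv {c : G} (hc : c ∈ Bs p x m) (v : W) : rho ⟨c, hc.1.1⟩ v = v := by
  have h1 : rho ⟨c, hc.1.1⟩ v - v = 0 := by
    refine sep p hx le_rfl (i := m) ?_ ?_
    · rw [← p.H.perp_max p.hm p.hf.sing (p.hf.rk m le_rfl)]
      intro y hy
      have h3 := fix p hx hF hc (d := m) le_rfl (by omega) hy
      have h4 := p.A.iso ⟨c, hc.1.1⟩ v y
      rw [h3] at h4
      rw [p.H.sub_w, p.H.add, h4, p.H.two_self]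
    · intro k hk
      have h3 := hc.2 hc.1.1 k hk
      have h4 := p.A.iso ⟨c, hc.1.1⟩ v (x k)
      rw [h3] at h4
      rw [p.H.sub_w, p.H.add, h4, p.H.two_self]
  exact sub_eq_zero.1 h1

omit hx hF in
/-- **the upper bound** -/
theorem card_ge (p : Pol C g rho sigma m f) (hF : Nat.card F = 2) [Finite G] {Q : Subgroup G} (hQ : ∀ c : ↥C, (∀ v, rho c v = v) → (c : G) ∈ Q) :
    Nat.card (fst C sigma m f ∅) ≤ Nat.card Q * 2 ^ (m ^ 2) := by
  obtain ⟨x, hx⟩ := exists_x p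
  have key : ∀ i ≤ m, Nat.card (fst C sigma m f ∅) ≤ Nat.card (Bs p x i) * 2 ^ (i * (2 * m - i)) := by
    intro i
    induction i with
    | zero =>
      intro _
      have h1 : fst C sigma m f ∅ ≤ Bs p x 0 := fun c hc => ⟨hc, fun _ k hk => absurd hk (by omega)⟩
      rw [zero_mul, pow_zero, mul_one]
      exact Subgroup.card_le_of_le h1
    | succ i ih =>
      intro hi
      refine (ih (by omega)).trans ?_
      refine (Nat.mul_le_mul_right _ (step p hx hF (by omega : i < m))).trans ?_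
      rw [mul_assoc, ← pow_add]
      refine Nat.mul_le_mul_left _ (Nat.pow_le_pow_right (by norm_num) ?_)
      obtain ⟨r, rfl⟩ : ∃ r, m = i + 1 + r := ⟨m - (i + 1), by omega⟩
      have e1 : 2 * (i + 1 + r) - 2 * i - 1 = 2 * r + 1 := by omega
      have e2 : 2 * (i + 1 + r) - i = i + 2 + 2 * r := by omega
      have e3 : 2 * (i + 1 + r) - (i + 1) = i + 1 + 2 * r := by omega
      rw [e1, e2, e3]
      apply le_of_eq
      ring
  refine (key m le_rfl).trans ?_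
  have e : m * (2 * m - m) = m ^ 2 := by
    have : 2 * m - m = m := by omega
    rw [this]; ring
  rw [e]
  exact Nat.mul_le_mul_right _ (Subgroup.card_le_of_le fun c hc => hQ ⟨c, hc.1.1⟩ (Bs_triv p hx hF hc))

end pol

section flag

universe u

variable {G : Type u} [Group G] [Finite G] {C U : Subgroup G} {z : G} {f : G → G → ZMod 2}
  {m : ℕ} {X : ℕ → Subgroup G}

/-- **the upper bound**: `Q` contains the elements of `C` which act trivially on `U / ⟨z⟩` -/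
theorem card_ge_flg (D : SData C U z f) (hz1 : z ≠ 1) (F : Flg U z f m X) {Q : Subgroup G}
    (hQ : ∀ c ∈ C, (∀ u ∈ U, c * u * c⁻¹ = u ∨ c * u * c⁻¹ = u * z) → c ∈ Q) :
    Nat.card (PPs C m X ∅) ≤ Nat.card Q * 2 ^ (m ^ 2) := by
  obtain ⟨W, _, _, w, K, hW⟩ := exists_md D
  have := hW inferInstance
  have hfd : FiniteDimensional (ZMod 2) W := Module.Finite.of_finite
  have h1 := card_ge (pol D K hz1 F) card_zmod_two (Q := Q) (fun c hc => hQ c c.2 fun u hu => by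
    have h2 := hc (w u)
    rw [rho_w D K _ hu] at h2
    exact (w_eq_iff D K (D.U_C c c.2 u hu) hu).1 h2)
  rwa [fst_eq D K F] at h1

/-- the order of the chamber stabiliser -/
theorem card_eq_flg (D : SData C U z f) (hz1 : z ≠ 1) (F : Flg U z f m X) {Q : Subgroup G}
    (hQ : ∀ c, c ∈ Q ↔ c ∈ C ∧ ∀ u ∈ U, c * u * c⁻¹ = u ∨ c * u * c⁻¹ = u * z) :
    Nat.card (PPs C m X ∅) = Nat.card Q * 2 ^ (m ^ 2) :=
  le_antisymm (card_ge_flg D hz1 F fun c hc h => (hQ c).2 ⟨hc, h⟩)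
    (F.card_le D hz1 (fun c hc => ((hQ c).1 hc).1) fun c hc => ((hQ c).1 hc).2)

variable {M M₀ Q : Subgroup G}

/-- `M₀ ≤ M` induces all the transvections and contains the kernel of `M`: it contains the chamber stabiliser -/
theorem le_sub (D : SData M U z f) (D₀ : SData M₀ U z f) (hz1 : z ≠ 1) (F : Flg U z f m X) (hM : M₀ ≤ M)
    (hQ : ∀ c ∈ M, (∀ u ∈ U, c * u * c⁻¹ = u ∨ c * u * c⁻¹ = u * z) → c ∈ M₀) :
    PPs M m X ∅ ≤ M₀ := by
  let Q : Subgroup G :=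
    { carrier := {c | c ∈ M ∧ ∀ u ∈ U, c * u * c⁻¹ = u ∨ c * u * c⁻¹ = u * z}
      one_mem' := ⟨one_mem _, fun u _ => Or.inl (by group)⟩
      mul_mem' := by
        rintro a b ⟨ha, ha'⟩ ⟨hb, hb'⟩
        refine ⟨mul_mem ha hb, fun u hu => ?_⟩
        have hz := D.C_z a ha
        have e0 : ∀ v, a * b * v * (a * b)⁻¹ = a * (b * v * b⁻¹) * a⁻¹ := fun v => by group
        have ez : ∀ v, a * (v * z) * a⁻¹ = a * v * a⁻¹ * z := fun v => by
          calc a * (v * z) * a⁻¹ = a * v * a⁻¹ * (a * z) * a⁻¹ := by group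
            _ = a * v * a⁻¹ * (z * a) * a⁻¹ := by rw [hz]
            _ = a * v * a⁻¹ * z := by group
        rw [e0]
        rcases hb' u hu with h1 | h1 <;> rcases ha' u hu with h2 | h2 <;> rw [h1]
        · exact Or.inl h2
        · exact Or.inr h2
        · rw [ez, h2]; exact Or.inr rfl
        · rw [ez, h2, mul_assoc, D.zz, mul_one]; exact Or.inl rfl
      inv_mem' := by
        rintro a ⟨ha, ha'⟩
        refine ⟨inv_mem ha, fun u hu => ?_⟩
        have hz := D.C_z a ha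
        have ez : a⁻¹ * z = z * a⁻¹ := by
          calc a⁻¹ * z = a⁻¹ * (z * a) * a⁻¹ := by group
            _ = a⁻¹ * (a * z) * a⁻¹ := by rw [hz]
            _ = z * a⁻¹ := by group
        rcases ha' u hu with h2 | h2
        · left
          calc a⁻¹ * u * a⁻¹⁻¹ = a⁻¹ * (a * u * a⁻¹) * a⁻¹⁻¹ := by rw [h2]
            _ = u := by group
        · right
          have h3 : u = a⁻¹ * u * a * z := by
            calc u = a⁻¹ * (a * u * a⁻¹) * a := by group
              _ = a⁻¹ * u * (z * a) := by rw [h2]; group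
              _ = a⁻¹ * u * (a * z) := by rw [hz]
              _ = a⁻¹ * u * a * z := by group
          calc a⁻¹ * u * a⁻¹⁻¹ = a⁻¹ * u * a * (z * z) := by rw [D.zz]; group
            _ = (a⁻¹ * u * a * z) * z := by group
            _ = u * z := by rw [← h3] }
  have hQM : ∀ c, c ∈ Q ↔ c ∈ M ∧ ∀ u ∈ U, c * u * c⁻¹ = u ∨ c * u * c⁻¹ = u * z := fun c => Iff.rfl
  have h1 := card_eq_flg D hz1 F hQM
  have h2 := card_eq_flg D₀ hz1 F (Q := Q) (fun c => ⟨fun hc => ⟨hQ c hc.1 hc.2, hc.2⟩, fun hc => ⟨hM hc.1, hc.2⟩⟩)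
  have h3 : PPs M₀ m X ∅ ≤ PPs M m X ∅ := fun c hc => ⟨hM hc.1, hc.2⟩
  have h4 : PPs M₀ m X ∅ = PPs M m X ∅ := Subgroup.eq_of_le_of_card_ge h3 (by rw [h1, h2])
  rw [← h4]
  exact PPs_le

/-- `M₀ = M` -/
theorem eq_sub (D : SData M U z f) (D₀ : SData M₀ U z f) (hz1 : z ≠ 1) (F : Flg U z f m X) (hM : M₀ ≤ M)
    (hm : 1 ≤ m) (hQ : ∀ c ∈ M, (∀ u ∈ U, c * u * c⁻¹ = u ∨ c * u * c⁻¹ = u * z) → c ∈ M₀) : M₀ = M := by
  apply le_antisymm hM
  have hS := le_sub D D₀ hz1 F hM hQ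
  refine F.gen D hz1 hm fun j hj1 hj => ?_
  -- `|PPs M {j} : PPs M ∅| = 3 = |PPs M₀ {j} : PPs M₀ ∅|`
  have e0 : PPs M₀ m X ∅ = PPs M m X ∅ :=
    le_antisymm (fun c hc => ⟨hM hc.1, hc.2⟩) fun c hc => ⟨hS hc, hc.2⟩
  have h1 := F.relIndex D hz1 hj1 hj
  have h2 := F.relIndex D₀ hz1 hj1 hj
  have h3 : PPs M₀ m X {j} ≤ PPs M m X {j} := fun c hc => ⟨hM hc.1, hc.2⟩
  have h6 : (PPs M m X ∅).relIndex (PPs M m X {j}) * Nat.card (PPs M m X ∅) = Nat.card (PPs M m X {j}) := by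
    rw [← Subgroup.card_mul_index ((PPs M m X ∅).subgroupOf (PPs M m X {j})), mul_comm,
      Nat.card_congr (Subgroup.subgroupOfEquivOfLe (PPs_mono (Set.empty_subset _))).toEquiv]
    rfl
  have h7 : (PPs M₀ m X ∅).relIndex (PPs M₀ m X {j}) * Nat.card (PPs M₀ m X ∅) = Nat.card (PPs M₀ m X {j}) := by
    rw [← Subgroup.card_mul_index ((PPs M₀ m X ∅).subgroupOf (PPs M₀ m X {j})), mul_comm,
      Nat.card_congr (Subgroup.subgroupOfEquivOfLe (PPs_mono (Set.empty_subset _))).toEquiv]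
    rfl
  rw [h1] at h6
  rw [h2, e0] at h7
  have h8 : PPs M₀ m X {j} = PPs M m X {j} := Subgroup.eq_of_le_of_card_ge h3 (by rw [← h6, ← h7])
  rw [← h8]
  exact PPs_le

end flag

end Cfsg.Agent.Omega.HTwo.SysUpper
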