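import Cfsg.Agent.Omega.HTwo.TLin
import Cfsg.Agent.Omega.TV.Group
import Cfsg.Agent.Omega.HOneTwo.Basic

/-!
# II.0h1, `q = 2`, case (α): LEMMA T, component form, inside a group (#14489 (0))

`C` acts on the elementary abelian group `N = ⟨r^C⟩`; `a, b ∈ C` are transvections on `N` with centre `r`; `a`, `b`,
`a b` are not trivial on `N`.  Then the component `W` of `r` is `NatC C N W r`:

* `pt` : all elements `≠ 1` of `W` are conjugates of `r`; `blk` : `W` is a block; `irr` : the stabiliser of `w ∈ W` is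
  irreducible on `W / ⟨w⟩`; `adj` : neighbours of elements of `W` are in `W`; `big` : `|W| > 4`.

`natC_of` : `GSys` version; `chain_of_sylow` : the field `chain`; `natC_of_sylow`.
-/

set_option autoImplicit false

namespace Cfsg.Agent.Omega.HTwo.TComp

open Subgroup Cfsg.Agent.Omega.TV Cfsg.Agent.Omega.HOneTwo Cfsg.Agent.MinSimple.VModule

variable {G : Type*} [Group G]

/-- `W` is the (natural) component of `r` in `N = ⟨r^C⟩` -/
structure NatC (C N W : Subgroup G) (r : G) : Prop where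
  W_le : W ≤ N
  sq : ∀ x ∈ W, x * x = 1
  mem : r ∈ W
  ne : r ≠ 1
  pt : ∀ w ∈ W, w ≠ 1 → ∃ c ∈ C, c * r * c⁻¹ = w
  blk : ∀ c ∈ C, ∀ w ∈ W, w ≠ 1 → c * w * c⁻¹ ∈ W → ∀ x ∈ W, c * x * c⁻¹ ∈ W
  irr : ∀ w ∈ W, w ≠ 1 → ∀ A : Subgroup G, A ≤ W → w ∈ A →
    (∀ c ∈ C, c * w = w * c → ∀ a ∈ A, c * a * c⁻¹ ∈ A) → (∀ a ∈ A, a = 1 ∨ a = w) ∨ W ≤ A
  adj : ∀ w ∈ W, w ≠ 1 → ∀ t ∈ C, (∀ n ∈ N, t * n * t⁻¹ = n ∨ t * n * t⁻¹ = n * w) →
    ∀ c ∈ C, t * (c * r * c⁻¹) * t⁻¹ ≠ c * r * c⁻¹ → c * r * c⁻¹ ∈ W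
  big : ∀ a ∈ W, ∀ b ∈ W, ∃ c ∈ W, c ≠ 1 ∧ c ≠ a ∧ c ≠ b ∧ c ≠ a * b

/-- the submodule of a subgroup -/
def ofSub {N : Subgroup G} (h : ∀ x ∈ N, x * x = 1) (A : Subgroup G) : Submodule (ZMod 2) (EA N h) where
  carrier := {x | x.val ∈ A}
  zero_mem' := A.one_mem
  add_mem' := by
    intro a b ha hb
    exact A.mul_mem ha hb
  smul_mem' := by
    intro c x hx
    rcases EA.val_smul c x with e | e
    · show (c • x).val ∈ A
      rw [e]; exact A.one_mem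
    · show (c • x).val ∈ A
      rw [e]; exact hx

theorem mem_ofSub {N : Subgroup G} {h : ∀ x ∈ N, x * x = 1} {A : Subgroup G} {x : EA N h} :
    x ∈ ofSub h A ↔ x.val ∈ A := Iff.rfl

theorem natC_of [Finite G] {C N : Subgroup G} {r : G} (h : GSys C N r) {a b : G} (ha : a ∈ C) (hb : b ∈ C)
    (hta : ∀ n ∈ N, a * n * a⁻¹ = n ∨ a * n * a⁻¹ = n * r)
    (htb : ∀ n ∈ N, b * n * b⁻¹ = n ∨ b * n * b⁻¹ = n * r)
    (hna : ∃ n ∈ N, a * n * a⁻¹ ≠ n) (hnb : ∃ n ∈ N, b * n * b⁻¹ ≠ n)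
    (hnab : ∃ n ∈ N, a * b * n * (a * b)⁻¹ ≠ n) : ∃ W, NatC C N W r := by
  classical
  have hs := h.toSys ha hta hna
  have hrO := h.mem_pts_r
  set r₀ : EA N h.sq := EA.mk h.sq r h.mem with hr₀
  obtain ⟨φ, hφ, fφ⟩ := h.exists_fn h.mem h.ne ha hta
  obtain ⟨ψ, hψ, fψ⟩ := h.exists_fn h.mem h.ne hb htb
  have hφ0 : φ ≠ 0 := by
    rintro rfl
    obtain ⟨n, hn, e⟩ := hna
    apply e
    have h1 := hφ (EA.mk h.sq n hn)
    rw [LinearMap.zero_apply, zero_smul, add_zero] at h1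
    exact congrArg EA.val h1
  have hψ0 : ψ ≠ 0 := by
    rintro rfl
    obtain ⟨n, hn, e⟩ := hnb
    apply e
    have h1 := hψ (EA.mk h.sq n hn)
    rw [LinearMap.zero_apply, zero_smul, add_zero] at h1
    exact congrArg EA.val h1
  have hne : φ ≠ ψ := by
    rintro rfl
    obtain ⟨n, hn, e⟩ := hnab
    apply e
    set v : EA N h.sq := EA.mk h.sq n hn
    have h1 : h.rep (⟨a, ha⟩ * ⟨b, hb⟩) v = v := by
      rw [rmul, hψ v, hφ (v + φ v • r₀), map_add, map_smul, fφ.1, smul_zero, add_zero, add_assoc,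
        v_add_self, add_zero]
    have h2 := congrArg EA.val h1
    rw [h.val_rep] at h2
    exact h2
  have hB := hs.big_of hrO fφ fψ hφ0 hψ0 hne
  have hc := hs.clo_big hB
  set K := hs.cls hc hrO with hK
  have hv : ∀ x : EA N h.sq, x.val ∈ EA.toSub K ↔ x ∈ K := fun x => EA.val_mem_toSub
  -- elements of the component as vectors
  have lift : ∀ w ∈ EA.toSub K, ∃ x ∈ K, EA.val x = w := fun w hw => hw
  have hpt : ∀ x ∈ K, x ≠ 0 → ∃ c ∈ C, c * r * c⁻¹ = x.val := by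
    intro x hx hx0
    obtain ⟨⟨c, hc', e⟩, -⟩ := hs.pt_of_mem hc hrO hx hx0
    exact ⟨c, hc', e.symm⟩
  refine ⟨EA.toSub K, ?_, ?_, ⟨r₀, hs.self_mem_cls hc hrO, rfl⟩, h.ne, ?_, ?_, ?_, ?_, ?_⟩
  · rintro _ ⟨x, -, rfl⟩
    exact x.val_mem
  · rintro _ ⟨x, -, rfl⟩
    exact h.sq _ x.val_mem
  · rintro _ ⟨x, hx, rfl⟩ hx1
    exact hpt x hx fun e => hx1 (EA.val_eq_one.2 e)
  · rintro c hcC _ ⟨w, hw, rfl⟩ hw1 hcw _ ⟨x, hx, rfl⟩
    have h1 : h.rep ⟨c, hcC⟩ w ∈ K := (hv _).1 hcw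
    have h2 := hs.blk_cls hc hrO hw (fun e => hw1 (EA.val_eq_one.2 e)) h1 hx
    exact ⟨_, h2, rfl⟩
  · rintro _ ⟨w, hw, rfl⟩ hw1 A hA hwA hinv
    have hw0 : w ≠ 0 := fun e => hw1 (EA.val_eq_one.2 e)
    obtain ⟨hwO, -⟩ := hs.pt_of_mem hc hrO hw hw0
    have hirr := hs.irr_cls hB hc hwO (U := ofSub h.sq A) ?_ hwA ?_
    · rcases hirr with h1 | h1
      · left
        intro x hx
        obtain ⟨y, hy, rfl⟩ := hA hx
        rcases h1 y hx with rfl | rfl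
        · exact Or.inl rfl
        · exact Or.inr rfl
      · right
        rintro _ ⟨x, hx, rfl⟩
        exact h1 ((hs.cls_eq hc hrO hwO hw).2 hx)
    · intro x hx
      exact (hs.cls_eq hc hrO hwO hw).2 ((hv x).1 (hA hx))
    · rintro ⟨g, hg⟩ hgw u hu
      have h1 : g * w.val * g⁻¹ = w.val := congrArg EA.val hgw
      exact hinv g hg (mul_inv_eq_iff_eq_mul.1 h1) u.val hu
  · rintro _ ⟨w, hw, rfl⟩ hw1 t ht htn c hcC hne'
    have hw0 : w ≠ 0 := fun e => hw1 (EA.val_eq_one.2 e)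
    obtain ⟨χ, hχ, fχ⟩ := h.exists_fn (s := w.val) w.val_mem hw1 ht htn
    set x : EA N h.sq := EA.mk h.sq (c * r * c⁻¹) (h.nor c hcC r h.mem) with hx
    have hxO : x ∈ h.pts := ⟨c, hcC, rfl⟩
    have h1 : χ x = 1 := by
      refine z2_ne_zero fun e => hne' ?_
      have h2 := hχ x
      rw [e, zero_smul, add_zero] at h2
      exact congrArg EA.val h2
    have h2 := hs.mem_cls_of_adj hc hrO hw hw0 hxO ⟨χ, fχ, h1⟩
    exact ⟨x, h2, rfl⟩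
  · rintro _ ⟨a', -, rfl⟩ _ ⟨b', -, rfl⟩
    obtain ⟨c, hcK, h1, h2, h3, h4⟩ := hs.big_cls hc hrO fφ fψ hφ0 hψ0 hne a' b'
    refine ⟨c.val, ⟨c, hcK, rfl⟩, fun e => h1 (EA.val_eq_one.1 e), fun e => h2 (EA.ext e),
      fun e => h3 (EA.ext e), fun e => h4 (EA.ext e)⟩

end Cfsg.Agent.Omega.HTwo.TComp
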