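import Cfsg.Agent.Omega.TV.One
import Cfsg.Agent.Omega.TV.Big

/-!
# II.0h1, `q = 2`, case (α): LEMMA T, component form, linear version (#14489 (0))

On top of helper895's `TV`: `Sys ρ Om`, `Big`.  The component of `r` together with `0` is the submodule
`h.cls hc hr`; any two of its points are adjacent.

* `Sys.clo_big`, `Sys.adj_cls`;
* `Sys.irr_cls` : the stabiliser of `r` is irreducible on `cls r / ⟨r⟩`;
* `Sys.blk_cls`, `Sys.mem_cls_of_adj`, `Sys.big_cls`.
-/

set_option autoImplicit false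

namespace Cfsg.Agent.Omega.TV

open Module

variable {H : Type*} [Group H] {V : Type*} [AddCommGroup V] [Module (ZMod 2) V]
  {ρ : H →* (V ≃ₗ[ZMod 2] V)} {Om : Set V}

namespace Sys

variable [Finite V]

theorem clo_big (h : Sys ρ Om) (hb : Big ρ Om) : Clo ρ Om :=
  h.clo_of fun b hb' c hc hn hne => by
    have := h.add_mem hb' (h.adj_of_near hb hc hb' hne.symm (h.near_symm hb' hc hn))
    exact this

theorem pt_of_mem (h : Sys ρ Om) (hc : Clo ρ Om) {r x : V} (hr : r ∈ Om) (hx : x ∈ h.cls hc hr)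
    (hx0 : x ≠ 0) : x ∈ Om ∧ Near ρ Om r x := ((h.mem_cls hc hr).1 hx).resolve_left hx0

theorem self_mem_cls (h : Sys ρ Om) (hc : Clo ρ Om) {r : V} (hr : r ∈ Om) : r ∈ h.cls hc hr :=
  (h.mem_cls hc hr).2 (Or.inr ⟨hr, h.near_refl hr⟩)

/-- any two points of a component are adjacent -/
theorem adj_cls (h : Sys ρ Om) (hb : Big ρ Om) (hc : Clo ρ Om) {r x y : V} (hr : r ∈ Om)
    (hx : x ∈ h.cls hc hr) (hx0 : x ≠ 0) (hy : y ∈ h.cls hc hr) (hy0 : y ≠ 0) (hxy : x ≠ y) :
    Adj ρ x y := by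
  obtain ⟨h1, h2⟩ := h.pt_of_mem hc hr hx hx0
  obtain ⟨h3, h4⟩ := h.pt_of_mem hc hr hy hy0
  exact h.adj_of_near hb h1 h3 hxy (h.near_trans h1 hr h3 (h.near_symm hr h1 h2) h4)

/-- the component of `w` is the component of `r` -/
theorem cls_eq (h : Sys ρ Om) (hc : Clo ρ Om) {r w : V} (hr : r ∈ Om) (hw : w ∈ Om)
    (hwr : w ∈ h.cls hc hr) {x : V} : x ∈ h.cls hc hw ↔ x ∈ h.cls hc hr := by
  obtain ⟨-, h2⟩ := h.pt_of_mem hc hr hwr (h.ne_zero hw)
  rw [h.mem_cls, h.mem_cls]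
  constructor
  · rintro (h3 | ⟨h3, h4⟩)
    · exact Or.inl h3
    · exact Or.inr ⟨h3, h.near_trans hr hw h3 h2 h4⟩
  · rintro (h3 | ⟨h3, h4⟩)
    · exact Or.inl h3
    · exact Or.inr ⟨h3, h.near_trans hw hr h3 (h.near_symm hr hw h2) h4⟩

/-- the stabiliser of `r` is irreducible on `cls r / ⟨r⟩` -/
theorem irr_cls (h : Sys ρ Om) (hb : Big ρ Om) (hc : Clo ρ Om) {r : V} (hr : r ∈ Om)
    {U : Submodule (ZMod 2) V} (hU : U ≤ h.cls hc hr) (hrU : r ∈ U)
    (hinv : ∀ g : H, ρ g r = r → ∀ u ∈ U, ρ g u ∈ U) :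
    (∀ u ∈ U, u = 0 ∨ u = r) ∨ h.cls hc hr ≤ U := by
  by_contra hcon
  push Not at hcon
  obtain ⟨⟨a, ha, ha0, har⟩, hx⟩ := hcon
  obtain ⟨x, hx, hxU⟩ := Set.not_subset.1 hx
  have hac := hU ha
  have hxc : x ∈ h.cls hc hr := hx
  set c := a + x with hcdef
  have hcc : c ∈ h.cls hc hr := (h.cls hc hr).add_mem hac hxc
  have hc0 : c ≠ 0 := by
    intro h0
    have : a = x := v_eq_of_add h0
    exact hxU (this ▸ ha)
  have hca : c ≠ a := by
    intro h0
    have h1 : x = 0 := by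
      have := congrArg (a + ·) h0
      simp only [hcdef, self_add_add, v_add_self] at this
      exact this
    exact hxU (h1 ▸ U.zero_mem)
  have har' : a + r ≠ 0 := add_ne_zero_of_ne har
  have harc : a + r ∈ h.cls hc hr := (h.cls hc hr).add_mem hac (h.self_mem_cls hc hr)
  have hcar : c ≠ a + r := by
    intro h0
    have h1 : x = r := by
      have := congrArg (a + ·) h0
      simp only [hcdef, self_add_add] at this
      exact this
    exact hxU (h1 ▸ hrU)
  obtain ⟨φ₁, f1, e1⟩ := h.adj_cls hb hc hr hcc hc0 hac ha0 hca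
  obtain ⟨φ₃, f3, e3⟩ := h.adj_cls hb hc hr hcc hc0 harc har' hcar
  rw [map_add] at e3
  -- a functional of `c` with values `1` at `a` and `0` at `r`
  have key : ∃ φ, Fn ρ c φ ∧ φ a = 1 ∧ φ r = 0 := by
    rcases z2 (φ₁ r) with k | k
    · exact ⟨φ₁, f1, e1, k⟩
    rcases z2 (φ₃ r) with l | l
    · rw [l, add_zero] at e3
      exact ⟨φ₃, f3, e3, l⟩
    · rcases z2 (φ₃ a) with m | m
      · refine ⟨φ₁ + φ₃, f1.add f3, ?_, ?_⟩
        · rw [LinearMap.add_apply, e1, m, add_zero]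
        · rw [LinearMap.add_apply, k, l]; exact z2_add_self 1
      · rw [m, l, z2_add_self] at e3
        exact absurd e3 zero_ne_one
  obtain ⟨φ, ⟨-, g, hg⟩, p1, p2⟩ := key
  have h1 : ρ g r = r := by rw [hg, p2, zero_smul, add_zero]
  have h2 : ρ g a = x := by rw [hg, p1, one_smul, hcdef, self_add_add]
  exact hxU (h2 ▸ hinv g h1 a ha)

/-- components are blocks -/
theorem blk_cls (h : Sys ρ Om) (hc : Clo ρ Om) {r w : V} (hr : r ∈ Om) (hw : w ∈ h.cls hc hr)
    (hw0 : w ≠ 0) {g : H} (hg : ρ g w ∈ h.cls hc hr) {x : V} (hx : x ∈ h.cls hc hr) :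
    ρ g x ∈ h.cls hc hr := by
  rcases (h.mem_cls hc hr).1 hx with rfl | ⟨hxO, hrx⟩
  · rw [map_zero]; exact Submodule.zero_mem _
  obtain ⟨h1, h2⟩ := h.pt_of_mem hc hr hw hw0
  have hgw0 : ρ g w ≠ 0 := fun e => hw0 ((ρ g).map_eq_zero_iff.1 e)
  obtain ⟨h3, h4⟩ := h.pt_of_mem hc hr hg hgw0
  refine (h.mem_cls hc hr).2 (Or.inr ⟨h.inv g x hxO, ?_⟩)
  have h5 : Near ρ Om w x := h.near_trans h1 hr hxO (h.near_symm hr h1 h2) hrx
  exact h.near_trans hr h3 (h.inv g x hxO) h4 (Near.conj h h5 g)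

/-- a neighbour of a point of the component lies in the component -/
theorem mem_cls_of_adj (h : Sys ρ Om) (hc : Clo ρ Om) {r w x : V} (hr : r ∈ Om)
    (hw : w ∈ h.cls hc hr) (hw0 : w ≠ 0) (hx : x ∈ Om) (ha : Adj ρ w x) : x ∈ h.cls hc hr := by
  obtain ⟨h1, h2⟩ := h.pt_of_mem hc hr hw hw0
  exact (h.mem_cls hc hr).2 (Or.inr ⟨hx, h.near_trans hr h1 hx h2 (h.near_of_adj h1 hx ha)⟩)

/-- the component of `r` is not covered by two elements, if there are two functionals at `r` -/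
theorem big_cls (h : Sys ρ Om) (hc : Clo ρ Om) {r : V} (hr : r ∈ Om) {φ ψ : Dual (ZMod 2) V}
    (hφ : Fn ρ r φ) (hψ : Fn ρ r ψ) (h1 : φ ≠ 0) (h2 : ψ ≠ 0) (h3 : φ ≠ ψ) (a b : V) :
    ∃ c ∈ h.cls hc hr, c ≠ 0 ∧ c ≠ a ∧ c ≠ b ∧ c ≠ a + b := by
  classical
  have h4 : φ + ψ ≠ 0 := by
    intro h0
    refine h3 (LinearMap.ext fun x => ?_)
    have := LinearMap.congr_fun h0 x
    rw [LinearMap.add_apply, LinearMap.zero_apply] at this
    exact v_eq_of_add this
  obtain ⟨s₁, m1, e1⟩ := h.exists_one h1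
  obtain ⟨s₂, m2, e2⟩ := h.exists_one h2
  obtain ⟨s₃, m3, e3⟩ := h.exists_one h4
  have k1 : s₁ ∈ h.cls hc hr := h.mem_cls_of_adj hc hr (h.self_mem_cls hc hr) (h.ne_zero hr) m1 ⟨φ, hφ, e1⟩
  have k2 : s₂ ∈ h.cls hc hr := h.mem_cls_of_adj hc hr (h.self_mem_cls hc hr) (h.ne_zero hr) m2 ⟨ψ, hψ, e2⟩
  have k3 : s₃ ∈ h.cls hc hr := h.mem_cls_of_adj hc hr (h.self_mem_cls hc hr) (h.ne_zero hr) m3
    ⟨φ + ψ, hφ.add hψ, e3⟩
  rw [LinearMap.add_apply] at e3
  have key : ∃ u ∈ h.cls hc hr, ∃ v ∈ h.cls hc hr, φ u = 1 ∧ ψ u = 0 ∧ φ v = 0 ∧ ψ v = 1 := by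
    rcases z2 (φ s₃) with l | l
    · rw [l, zero_add] at e3
      rcases z2 (ψ s₁) with m | m
      · exact ⟨s₁, k1, s₃, k3, e1, m, l, e3⟩
      · refine ⟨s₁ + s₃, Submodule.add_mem _ k1 k3, s₃, k3, ?_, ?_, l, e3⟩
        · rw [map_add, e1, l, add_zero]
        · rw [map_add, m, e3, z2_add_self]
    · have l' : ψ s₃ = 0 := by
        rcases z2 (ψ s₃) with m | m
        · exact m
        · rw [l, m, z2_add_self] at e3
          exact absurd e3 zero_ne_one
      rcases z2 (φ s₂) with m | m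
      · exact ⟨s₃, k3, s₂, k2, l, l', m, e2⟩
      · refine ⟨s₃, k3, s₂ + s₃, Submodule.add_mem _ k2 k3, l, l', ?_, ?_⟩
        · rw [map_add, m, l, z2_add_self]
        · rw [map_add, e2, l', add_zero]
  obtain ⟨u, hu, v, hv, u1, u2, v1, v2⟩ := key
  have hr0 := h.ne_zero hr
  have one0 : (1 : ZMod 2) ≠ 0 := one_ne_zero
  have q1 : φ r = 0 := hφ.1
  have q2 : ψ r = 0 := hψ.1
  by_contra hcon
  push Not at hcon
  have hsub : ({r, u, v, u + v} : Finset V) ⊆ ({a, b, a + b} : Finset V) := by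
    intro c hcm
    have hcc : c ∈ h.cls hc hr ∧ c ≠ 0 := by
      simp only [Finset.mem_insert, Finset.mem_singleton] at hcm
      rcases hcm with rfl | rfl | rfl | rfl
      · exact ⟨h.self_mem_cls hc hr, hr0⟩
      · refine ⟨hu, ?_⟩
        rintro rfl
        rw [map_zero] at u1
        exact one0 u1.symm
      · refine ⟨hv, ?_⟩
        rintro rfl
        rw [map_zero] at v2
        exact one0 v2.symm
      · refine ⟨Submodule.add_mem _ hu hv, fun h0 => ?_⟩
        have := congrArg φ h0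
        rw [map_add, u1, v1, map_zero, add_zero] at this
        exact one0 this
    have := hcon c hcc.1 hcc.2
    simp only [Finset.mem_insert, Finset.mem_singleton]
    by_cases ha : c = a
    · exact Or.inl ha
    by_cases hb : c = b
    · exact Or.inr (Or.inl hb)
    · exact Or.inr (Or.inr (this ha hb))
  have hcard4 : ({r, u, v, u + v} : Finset V).card = 4 := by
    rw [Finset.card_insert_of_notMem, Finset.card_insert_of_notMem, Finset.card_insert_of_notMem,
      Finset.card_singleton]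
    · rw [Finset.mem_singleton]
      intro h0
      have := congrArg φ h0
      rw [map_add, u1, v1, add_zero] at this
      exact one0 this.symm
    · simp only [Finset.mem_insert, Finset.mem_singleton, not_or]
      refine ⟨fun h0 => ?_, fun h0 => ?_⟩
      · rw [h0, v1] at u1
        exact one0 u1.symm
      · have := congrArg ψ h0
        rw [map_add, u2, v2, zero_add] at this
        exact one0 this.symm
    · simp only [Finset.mem_insert, Finset.mem_singleton, not_or]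
      refine ⟨fun h0 => ?_, fun h0 => ?_, fun h0 => ?_⟩
      · rw [h0, u1] at q1
        exact one0 q1
      · rw [h0, v2] at q2
        exact one0 q2
      · rw [h0, map_add, u1, v1, add_zero] at q1
        exact one0 q1
  have hcard3 : ({a, b, a + b} : Finset V).card ≤ 3 := Finset.card_le_three
  have := Finset.card_le_card hsub
  omega

end Sys

end Cfsg.Agent.Omega.TV
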